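import Mathlib

/-!
Surjectivity of the norm `y ↦ y * τ y` onto fixed units, for an involution `τ` of a finite commutative
ring having an element of trace one.
-/

set_option autoImplicit false

namespace Cfsg.Agent.NormLift

open Polynomial

/-- In a finite commutative ring in which `2` and `c` are units, every unit is congruent to some
`a ^ 2 - c * b ^ 2` modulo the nilradical. -/
theorem exists_sq_sub_mem_nilradical {R : Type*} [CommRing R] [Finite R] (h2 : IsUnit (2 : R))
    {c : R} (hc : IsUnit c) (t : R) :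
    ∃ a b : R, a ^ 2 - c * b ^ 2 - t ∈ nilradical R := by
  classical
  have hI : ∀ I : MaximalSpectrum R, ∃ a b : R, a ^ 2 - c * b ^ 2 - t ∈ I.asIdeal := by
    intro I
    have : I.asIdeal.IsMaximal := I.isMaximal
    letI : Field (R ⧸ I.asIdeal) := Ideal.Quotient.field I.asIdeal
    have : Finite (R ⧸ I.asIdeal) := Finite.of_surjective _ Ideal.Quotient.mk_surjective
    letI : Fintype (R ⧸ I.asIdeal) := Fintype.ofFinite _
    set π := Ideal.Quotient.mk I.asIdeal
    have hc0 : π c ≠ 0 := (hc.map π).ne_zero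
    have hodd : Fintype.card (R ⧸ I.asIdeal) % 2 = 1 := by
      refine FiniteField.odd_card_of_char_ne_two fun h => ?_
      have h20 : ((2 : ℕ) : R ⧸ I.asIdeal) = 0 := by
        rw [← h]; exact ringChar.Nat.cast_ringChar
      have h2u : π 2 ≠ 0 := (h2.map π).ne_zero
      exact h2u (by rw [map_ofNat]; exact_mod_cast h20)
    obtain ⟨a, b, hab⟩ := FiniteField.exists_root_sum_quadratic
      (f := X ^ 2 - C (π t)) (g := -(C (π c) * X ^ 2))
      (degree_X_pow_sub_C (by norm_num) _)
      (by rw [degree_neg, degree_C_mul_X_pow 2 hc0]; rfl) hodd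
    obtain ⟨a, rfl⟩ := Ideal.Quotient.mk_surjective a
    obtain ⟨b, rfl⟩ := Ideal.Quotient.mk_surjective b
    refine ⟨a, b, ?_⟩
    rw [← Ideal.Quotient.eq_zero_iff_mem]
    simp only [eval_sub, eval_pow, eval_X, eval_C, eval_neg, eval_mul] at hab
    simp only [map_sub, map_mul, map_pow]
    change π a ^ 2 - π c * π b ^ 2 - π t = 0
    linear_combination hab
  choose a b hab using hI
  let e := IsArtinianRing.quotNilradicalEquivPi R
  obtain ⟨A, hA⟩ := Ideal.Quotient.mk_surjective (e.symm fun I => Ideal.Quotient.mk I.asIdeal (a I))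
  obtain ⟨B, hB⟩ := Ideal.Quotient.mk_surjective (e.symm fun I => Ideal.Quotient.mk I.asIdeal (b I))
  have hAI : ∀ I : MaximalSpectrum R, A - a I ∈ I.asIdeal := by
    intro I
    rw [← Ideal.Quotient.eq]
    have h1 := congrArg e hA
    rw [AlgEquiv.apply_symm_apply] at h1
    have h2 := congrFun ((e.commutes A).symm.trans h1) I
    exact h2
  have hBI : ∀ I : MaximalSpectrum R, B - b I ∈ I.asIdeal := by
    intro I
    rw [← Ideal.Quotient.eq]
    have h1 := congrArg e hB
    rw [AlgEquiv.apply_symm_apply] at h1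
    have h2 := congrFun ((e.commutes B).symm.trans h1) I
    exact h2
  refine ⟨A, B, ?_⟩
  rw [IsArtinianRing.nilradical_eq_iInf R, Ideal.mem_iInf]
  intro I
  have := hab I
  rw [← Ideal.Quotient.eq_zero_iff_mem] at this ⊢
  rw [map_sub, map_sub, map_mul, map_pow, map_pow] at this ⊢
  rw [Ideal.Quotient.eq.2 (hAI I), Ideal.Quotient.eq.2 (hBI I)]
  exact this

/-- In a finite commutative ring in which `2 = 0` every element is congruent to a square modulo the
nilradical. -/
theorem exists_sq_mem_nilradical {R : Type*} [CommRing R] [Finite R] (h2 : (2 : R) = 0) (t : R) :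
    ∃ a : R, a ^ 2 - t ∈ nilradical R := by
  classical
  have hinj : Function.Injective fun x : R ⧸ nilradical R => x ^ 2 := by
    intro x y h
    have h20 : (2 : R ⧸ nilradical R) = 0 := by
      rw [← map_ofNat (Ideal.Quotient.mk (nilradical R)), h2, map_zero]
    have : IsNilpotent (x - y) := ⟨2, by linear_combination h + (y ^ 2 - x * y) * h20⟩
    obtain ⟨x, rfl⟩ := Ideal.Quotient.mk_surjective x
    obtain ⟨y, rfl⟩ := Ideal.Quotient.mk_surjective y
    obtain ⟨k, hk⟩ := this
    rw [Ideal.Quotient.eq]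
    rw [← map_sub, ← map_pow, Ideal.Quotient.eq_zero_iff_mem, mem_nilradical] at hk
    exact mem_nilradical.2 hk.of_pow
  have : Finite (R ⧸ nilradical R) := Finite.of_surjective _ Ideal.Quotient.mk_surjective
  obtain ⟨x, hx⟩ := Finite.surjective_of_injective hinj (Ideal.Quotient.mk _ t)
  obtain ⟨a, rfl⟩ := Ideal.Quotient.mk_surjective x
  refine ⟨a, ?_⟩
  rw [← Ideal.Quotient.eq]
  simpa using hx

variable {T : Type*} [CommRing T]

/-- Successive approximation: a norm up to a nilpotent error is a norm. -/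
theorem exists_norm_of_nilpotent (τ : T →+* T) (hτ : ∀ x, τ (τ x) = x) {z : T} (hz : z + τ z = 1)
    {t : Tˣ} (ht : τ t = t) :
    ∀ (m : ℕ) (y e : T), y * τ y = t * (1 - e) → e ^ (2 ^ m) = 0 → ∃ w, w * τ w = t := by
  intro m
  induction m with
  | zero =>
      intro y e hy he
      rw [pow_zero, pow_one] at he
      exact ⟨y, by rw [hy, he, sub_zero, mul_one]⟩
  | succ m ih =>
      intro y e hy he
      have hτe : τ e = e := by
        have h1 : τ (y * τ y) = y * τ y := by rw [map_mul, hτ, mul_comm]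
        rw [hy, map_mul, ht, map_sub, map_one] at h1
        have h2 := t.isUnit.mul_left_cancel h1
        exact sub_right_injective h2
      refine ih (y * (1 + z * e)) (e ^ 2 * (1 - z * τ z * (1 - e))) ?_ ?_
      · rw [map_mul, map_add, map_one, map_mul, hτe]
        linear_combination (1 + z * e) * (1 + τ z * e) * hy + (↑t : T) * (1 - e) * e * hz
      · rw [mul_pow, ← pow_mul, ← pow_succ', he, zero_mul]

/-- The norm of a finite commutative ring with involution hits every fixed unit, provided some element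
has trace one and the ring has characteristic two or a skew unit with `2` invertible. -/
theorem exists_norm_eq [Finite T] (τ : T →+* T) (hτ : ∀ x, τ (τ x) = x) {z : T} (hz : z + τ z = 1)
    (hk : (2 : T) = 0 ∨ IsUnit (2 : T) ∧ ∃ k : T, IsUnit k ∧ τ k = -k)
    {t : T} (ht : τ t = t) (htu : IsUnit t) : ∃ y, y * τ y = t := by
  let R : Subring T := τ.eqLocus (RingHom.id T)
  have hR : ∀ x : T, x ∈ R ↔ τ x = x := fun x => Iff.rfl
  have hRτ : ∀ x : R, τ x.1 = x.1 := fun x => x.2
  have hunit : ∀ x : T, x ∈ R → IsUnit x → ∀ hx : x ∈ R, IsUnit (⟨x, hx⟩ : R) := by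
    intro x _ hu hx
    obtain ⟨u, rfl⟩ := hu
    have hi : (↑u⁻¹ : T) ∈ R := by
      rw [hR]
      have h1 : τ ↑u⁻¹ * τ ↑u = 1 := by rw [← map_mul, Units.inv_mul, map_one]
      rw [(hR _).1 hx] at h1
      exact u.isUnit.mul_right_cancel (h1.trans u.inv_mul.symm)
    exact ⟨⟨⟨↑u, hx⟩, ⟨↑u⁻¹, hi⟩, Subtype.ext u.mul_inv, Subtype.ext u.inv_mul⟩, rfl⟩
  suffices h : ∃ y : T, IsNilpotent (t - y * τ y) by
    obtain ⟨y, k, hk'⟩ := h
    obtain ⟨u, rfl⟩ := htu
    refine exists_norm_of_nilpotent τ hτ hz ht k y (↑u⁻¹ * (↑u - y * τ y)) ?_ ?_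
    · rw [mul_sub, mul_one, ← mul_assoc, Units.mul_inv, one_mul, sub_sub_cancel]
    · refine pow_eq_zero_of_le (Nat.lt_two_pow_self (n := k)).le ?_
      rw [mul_pow, hk', mul_zero]
  rcases hk with h2 | ⟨h2, k, hku, hk⟩
  · obtain ⟨a, ha⟩ := exists_sq_mem_nilradical (R := R) (Subtype.ext h2) ⟨t, (hR t).2 ht⟩
    refine ⟨a.1, ?_⟩
    have := (IsNilpotent.map (mem_nilradical.1 ha) R.subtype)
    have he : t - a.1 * τ a.1 = -(R.subtype (a ^ 2 - ⟨t, (hR t).2 ht⟩)) := by
      rw [hRτ, map_sub, map_pow]; simp only [Subring.subtype_apply]; ring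
    rw [he]
    exact this.neg
  · have hk2 : k ^ 2 ∈ R := by rw [hR, map_pow, hk, neg_sq]
    have h2R : IsUnit (2 : R) := by
      have := hunit 2 ((hR 2).2 (map_ofNat τ 2)) h2 ((hR 2).2 (map_ofNat τ 2))
      exact this
    obtain ⟨a, b, hab⟩ := exists_sq_sub_mem_nilradical h2R
      (hunit _ hk2 (hku.pow 2) hk2) ⟨t, (hR t).2 ht⟩
    refine ⟨a.1 + b.1 * k, ?_⟩
    have := (IsNilpotent.map (mem_nilradical.1 hab) R.subtype)
    have he : t - (a.1 + b.1 * k) * τ (a.1 + b.1 * k) =
        -(R.subtype (a ^ 2 - ⟨k ^ 2, hk2⟩ * b ^ 2 - ⟨t, (hR t).2 ht⟩)) := by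
      rw [map_add, map_mul, hRτ, hRτ, hk, map_sub, map_sub, map_mul, map_pow, map_pow]
      simp only [Subring.subtype_apply]; ring
    rw [he]
    exact this.neg

end Cfsg.Agent.NormLift
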