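import Cfsg.Agent.Classical.AltBasis
import Cfsg.Agent.MatModule.NormLift

/-!
Two invariant non-degenerate alternating forms of a semisimple endomorphism are equivalent under its
centraliser.
-/

set_option autoImplicit false

namespace Cfsg.Agent.SympConj

open Module Polynomial

universe u v

variable {F : Type u} [Field F] {V : Type v} [AddCommGroup V] [Module F V] [FiniteDimensional F V]

/-- An alternating non-degenerate form preserved by an endomorphism. -/
structure Good (B : LinearMap.BilinForm F V) (a : Module.End F V) : Prop where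
  alt : B.IsAlt
  sep : ∀ x, (∀ y, B x y = 0) → x = 0
  pres : ∀ x y, B (a x) (a y) = B x y

variable {B B' : LinearMap.BilinForm F V} {a : Module.End F V}

omit [FiniteDimensional F V] in
theorem Good.skew (h : Good B a) (x y : V) : B y x = -B x y := (LinearMap.IsAlt.neg h.alt x y).symm

omit [FiniteDimensional F V] in
theorem Good.nondeg (h : Good B a) : B.Nondegenerate :=
  ⟨fun x hx => h.sep x hx, fun x hx => h.sep x fun y => by rw [h.skew y x, hx y, neg_zero]⟩

theorem Good.injective (h : Good B a) : Function.Injective a := by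
  rw [← LinearMap.ker_eq_bot, Submodule.eq_bot_iff]
  intro x hx
  exact h.sep x fun y => by rw [← h.pres x y, LinearMap.mem_ker.1 hx, map_zero, LinearMap.zero_apply]

/-- Two non-degenerate alternating forms on one space are equivalent. -/
theorem exists_isometry (hB : B.IsAlt) (hB0 : ∀ x, (∀ y, B x y = 0) → x = 0) (hB' : B'.IsAlt)
    (hB0' : ∀ x, (∀ y, B' x y = 0) → x = 0) :
    ∃ y : Module.End F V, ∀ x z, B (y x) (y z) = B' x z := by
  obtain ⟨m, k, b, e1, e2, e3, e4⟩ := Classical.Alt.exists_basis_symp hB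
  obtain ⟨m', k', b', d1, d2, d3, d4⟩ := Classical.Alt.exists_basis_symp hB'
  have hk : k = 0 := by
    by_contra hk
    exact b.ne_zero (Sum.inr ⟨0, Nat.pos_of_ne_zero hk⟩) (hB0 _ fun y => e4 _ y)
  have hk' : k' = 0 := by
    by_contra hk
    exact b'.ne_zero (Sum.inr ⟨0, Nat.pos_of_ne_zero hk⟩) (hB0' _ fun y => d4 _ y)
  subst hk hk'
  obtain rfl : m = m' := by
    have h1 := (finrank_eq_card_basis b).symm.trans (finrank_eq_card_basis b')
    simp at h1
    omega
  refine ⟨(b'.equiv b (Equiv.refl _)).toLinearMap, fun x z => ?_⟩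
  set y := (b'.equiv b (Equiv.refl _)).toLinearMap
  suffices B.comp y y = B' from LinearMap.congr_fun (LinearMap.congr_fun this x) z
  refine b'.ext fun i => b'.ext fun j => ?_
  have hy : ∀ i, y (b' i) = b i := fun i => by simp [y]
  rw [LinearMap.BilinForm.comp_apply, hy, hy]
  rcases i with (i | i) | i <;> rcases j with (j | j) | j
  all_goals try exact Fin.elim0 ‹Fin 0›
  · rw [e2, d2]
  · rw [e1, d1]
  · rw [← LinearMap.IsAlt.neg hB, ← LinearMap.IsAlt.neg hB', e1, d1]
  · rw [e3, d3]

variable [Finite F]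

/-- A non-degenerate form which is symmetric up to a sign and preserved by an endomorphism. -/
structure Signed (c : F) (B : LinearMap.BilinForm F V) (a : Module.End F V) : Prop where
  flip : ∀ x y, B y x = c * B x y
  sep : ∀ x, (∀ y, B x y = 0) → x = 0
  pres : ∀ x y, B (a x) (a y) = B x y

omit [FiniteDimensional F V] [Finite F] in
theorem Good.signed (h : Good B a) : Signed (-1) B a :=
  ⟨fun x y => by rw [h.skew x y, neg_one_mul], h.sep, h.pres⟩

omit [Finite F] in
theorem Signed.injective {c : F} (h : Signed c B a) : Function.Injective a := by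
  rw [← LinearMap.ker_eq_bot, Submodule.eq_bot_iff]
  intro x hx
  exact h.sep x fun y => by rw [← h.pres x y, LinearMap.mem_ker.1 hx, map_zero, LinearMap.zero_apply]

omit [FiniteDimensional F V] [Finite F] in
theorem Signed.nondeg {c : F} (h : Signed c B a) : B.Nondegenerate :=
  ⟨fun x hx => h.sep x hx, fun x hx => h.sep x fun y => by rw [h.flip y x, hx y, mul_zero]⟩

/-- The case of an endomorphism without eigenvalue `1` or `-1`. -/
theorem exists_of_injective {c : F} (hc : c * c = 1) (hB : Signed c B a) (hB' : Signed c B' a)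
    (h1 : Function.Injective (a - 1 : Module.End F V)) (h2 : Function.Injective (a + 1 : Module.End F V)) :
    ∃ y : Module.End F V, Commute y a ∧ ∀ x z, B (y x) (y z) = B' x z := by
  classical
  have : Finite V := Module.finite_of_finite F
  have : Finite (Module.End F V) := Finite.of_injective _ DFunLike.coe_injective
  let h : Module.End F V := LinearMap.BilinForm.symmCompOfNondegenerate B' B hB.nondeg
  have hh : ∀ x z, B (h x) z = B' x z := fun x z =>
    B'.symmCompOfNondegenerate_left_apply hB.nondeg z x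
  let s : Module.End F V → Module.End F V := fun φ => B.leftAdjointOfNondegenerate hB.nondeg φ
  have hs : ∀ φ x z, B (s φ x) z = B x (φ z) :=
    fun φ => B.isAdjointPairLeftAdjointOfNondegenerate hB.nondeg φ
  have huniq : ∀ f g : Module.End F V, (∀ x z, B (f x) z = B (g x) z) → f = g := fun f g e =>
    LinearMap.ext fun x => sub_eq_zero.1 (hB.sep _ fun z => by
      rw [map_sub, LinearMap.sub_apply, e, sub_self])
  have hsmul : ∀ φ ψ, s (φ * ψ) = s ψ * s φ := fun φ ψ => huniq _ _ fun x z => by
    rw [hs, Module.End.mul_apply, Module.End.mul_apply, hs, hs]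
  have hsadd : ∀ φ ψ, s (φ + ψ) = s φ + s ψ := fun φ ψ => huniq _ _ fun x z => by
    simp only [hs, LinearMap.add_apply, map_add]
  have hs1 : ∀ c : F, s (algebraMap F _ c) = algebraMap F _ c := fun c => huniq _ _ fun x z => by
    simp only [hs, Module.algebraMap_end_apply, map_smul, LinearMap.smul_apply]
  have hss : ∀ φ, s (s φ) = φ := fun φ => huniq _ _ fun x z => by
    rw [hs, hB.flip (s φ z) x, hs, hB.flip (φ x) z, ← mul_assoc, hc, one_mul]
  have hsh : s h = h := huniq _ _ fun x z => by
    rw [hs, hh, hB.flip (h z) x, hh, ← hB'.flip]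
  have hasurj : Function.Surjective a := LinearMap.injective_iff_surjective.1 hB.injective
  have hah : h * a = a * h := huniq _ _ fun x z => by
    obtain ⟨z, rfl⟩ := hasurj z
    rw [Module.End.mul_apply, Module.End.mul_apply, hh, hB'.pres, hB.pres, hh]
  let T : Subalgebra F (Module.End F V) := Algebra.adjoin F {a, h}
  have hcomm : ∀ x y : T, x * y = y * x := by
    have hT : IsMulCommutative T := Algebra.isMulCommutative_adjoin F (by
      rintro x (rfl | rfl) y (rfl | rfl)
      · rfl
      · exact hah.symm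
      · exact hah
      · rfl)
    exact fun x y => hT.is_comm.comm x y
  letI : CommRing T := { (inferInstance : Ring T) with mul_comm := hcomm }
  have hunit : ∀ x : T, Function.Injective x.1 → IsUnit x := by
    intro x hx
    have hinj : Function.Injective fun w : T => x * w := fun w w' e =>
      Subtype.ext (LinearMap.ext fun v => hx (LinearMap.congr_fun (congrArg Subtype.val e) v))
    obtain ⟨w, hw⟩ := Finite.surjective_of_injective hinj 1
    exact IsUnit.of_mul_eq_one w hw
  let aT : T := ⟨a, Algebra.subset_adjoin (by simp)⟩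
  let hT : T := ⟨h, Algebra.subset_adjoin (by simp)⟩
  obtain ⟨ua, hua⟩ := hunit aT hB.injective
  have ea : s a = (↑ua⁻¹ : T).1 := by
    have e : a * (↑ua⁻¹ : T).1 = 1 := by
      have := congrArg Subtype.val ua.mul_inv
      rw [MulMemClass.coe_mul, hua] at this
      exact this
    refine huniq _ _ fun x z => ?_
    rw [hs, ← hB.pres ((↑ua⁻¹ : T).1 x) z, ← Module.End.mul_apply, e, Module.End.one_apply]
  have hstab : ∀ x ∈ T, s x ∈ T := by
    intro x hx
    induction hx using Algebra.adjoin_induction with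
    | mem y hy =>
        rcases hy with rfl | rfl
        · rw [ea]; exact Subtype.mem _
        · rw [hsh]; exact hT.2
    | algebraMap c => rw [hs1]; exact T.algebraMap_mem c
    | add x y _ _ hx hy => rw [hsadd]; exact add_mem hx hy
    | mul x y _ _ hx hy => rw [hsmul]; exact mul_mem hy hx
  let τ : T →+* T :=
    { toFun := fun x => ⟨s x.1, hstab x.1 x.2⟩
      map_one' := Subtype.ext (by simpa using hs1 1)
      map_mul' := fun x y => by rw [hcomm x y]; exact Subtype.ext (hsmul _ _)
      map_zero' := Subtype.ext (by simpa using hs1 0)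
      map_add' := fun x y => Subtype.ext (hsadd _ _) }
  have hτ : ∀ x, τ (τ x) = x := fun x => Subtype.ext (hss x.1)
  have hτa : τ aT = ↑ua⁻¹ := Subtype.ext ea
  have hτa' : τ ↑ua⁻¹ = aT := by rw [← hτa, hτ]
  set k : T := aT - ↑ua⁻¹ with hk
  have hτk : τ k = -k := by rw [hk, map_sub, hτa, hτa', neg_sub]
  have hku : IsUnit k := by
    have : k = (aT - 1) * (aT + 1) * ↑ua⁻¹ := by
      have e : aT * (↑ua⁻¹ : T) = 1 := by rw [← hua, Units.mul_inv]
      rw [hk]
      linear_combination (-aT) * e
    rw [this]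
    exact ((hunit _ h1).mul (hunit _ h2)).mul ua⁻¹.isUnit
  obtain ⟨uk, huk⟩ := hku
  have hτki : τ ↑uk⁻¹ = -↑uk⁻¹ := by
    have e1 : τ ↑uk⁻¹ * τ k = 1 := by rw [← huk, ← map_mul, Units.inv_mul, map_one]
    rw [hτk, ← huk] at e1
    calc τ ↑uk⁻¹ = τ ↑uk⁻¹ * -(↑uk : T) * -↑uk⁻¹ := by
          rw [mul_assoc, neg_mul_neg, Units.mul_inv, mul_one]
      _ = -↑uk⁻¹ := by rw [e1, one_mul]
  obtain ⟨y, hy⟩ := NormLift.exists_norm_eq τ hτ (z := aT * ↑uk⁻¹)
    (by
      rw [map_mul, hτa, hτki]
      have e : k * (↑uk⁻¹ : T) = 1 := by rw [← huk, Units.mul_inv]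
      rw [hk] at e
      linear_combination e)
    (by
      by_cases h20 : (2 : F) = 0
      · exact Or.inl (by rw [← map_ofNat (algebraMap F T), h20, map_zero])
      · refine Or.inr ⟨?_, k, huk ▸ uk.isUnit, hτk⟩
        rw [← map_ofNat (algebraMap F T)]; exact (Ne.isUnit h20).map _)
    (t := hT) (Subtype.ext hsh)
    (hunit hT (by
      rw [← LinearMap.ker_eq_bot, Submodule.eq_bot_iff]
      intro x hx
      refine hB'.sep x fun z => ?_
      rw [← hh, show h x = 0 from hx, map_zero, LinearMap.zero_apply]))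
  refine ⟨y.1, congrArg Subtype.val (hcomm y aT), fun x z => ?_⟩
  rw [← hs y.1, ← hh, ← Module.End.mul_apply]
  have : s y.1 * y.1 = h := by
    rw [mul_comm] at hy
    exact congrArg Subtype.val hy
  rw [this]

/-- Splitting off the eigenspace of an eigenvalue of square one. -/
theorem exists_split (hB : Good B a) (hB' : Good B' a) {q : F[X]} (hq : Squarefree q)
    (haq : aeval a q = 0) {ε : F} (hε : ε * ε = 1)
    (H : ∀ (P : Submodule F V) (hP : ∀ x ∈ P, a x ∈ P),
      Good (B.restrict P) (a.restrict hP) → Good (B'.restrict P) (a.restrict hP) →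
      Function.Injective ((a.restrict hP) - ε • (1 : Module.End F P)) →
      ∃ y : Module.End F P, Commute y (a.restrict hP) ∧
        ∀ x z, (B.restrict P) (y x) (y z) = (B'.restrict P) x z) :
    ∃ y : Module.End F V, Commute y a ∧ ∀ x z, B (y x) (y z) = B' x z := by
  classical
  set f : Module.End F V := a - ε • 1 with hf
  have hfapp : ∀ x, f x = a x - ε • x := fun x => by simp [hf]
  have hfa : ∀ x, f (a x) = a (f x) := fun x => by simp [hfapp, map_sub, map_smul]
  set U := LinearMap.ker f
  have hUa' : ∀ x ∈ U, a x = ε • x := fun x hx => by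
    rw [← sub_eq_zero, ← hfapp]; exact hx
  have hUa : ∀ x ∈ U, a x ∈ U := fun x hx => by
    rw [LinearMap.mem_ker, hfa, LinearMap.mem_ker.1 hx, map_zero]
  have hss := Module.End.isSemisimple_of_squarefree_aeval_eq_zero hq haq
  obtain ⟨P, hP, hc⟩ := Module.End.isSemisimple_iff.1 hss U (fun x hx => hUa x hx)
  have hPa : ∀ x ∈ P, a x ∈ P := fun x hx => hP hx
  set b := a.restrict hPa with hb
  have hinj : Function.Injective (b - ε • (1 : Module.End F P)) := by
    rw [← LinearMap.ker_eq_bot, Submodule.eq_bot_iff]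
    intro x hx
    have h1 : (x : V) ∈ U := by
      rw [LinearMap.mem_ker, hfapp]
      exact congrArg Subtype.val hx
    exact Subtype.ext ((Submodule.disjoint_def.1 hc.disjoint) _ h1 x.2)
  have horth : ∀ (C : LinearMap.BilinForm F V), Good C a → ∀ u ∈ U, ∀ x ∈ P, C x u = 0 := by
    intro C hC u hu x hx
    obtain ⟨w, hw⟩ := LinearMap.injective_iff_surjective.1 hinj ⟨x, hx⟩
    have hw' : a w - ε • (w : V) = x := congrArg Subtype.val hw
    have e1 : C (a w) u = ε * C w u := by
      have h := hC.pres w u
      rw [hUa' u hu, map_smul, smul_eq_mul] at h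
      linear_combination ε * h - C (a w) u * hε
    rw [← hw', map_sub, LinearMap.sub_apply, map_smul, LinearMap.smul_apply, e1, smul_eq_mul, sub_self]
  have hgood : ∀ (C : LinearMap.BilinForm F V), Good C a →
      Good (C.restrict P) b ∧ (∀ x : U, (∀ y, C.restrict U x y = 0) → x = 0) := by
    intro C hC
    refine ⟨⟨fun x => hC.alt _, fun x hx => ?_, fun x z => hC.pres _ _⟩, fun x hx => ?_⟩
    · refine Subtype.ext (hC.sep _ fun v => ?_)
      obtain ⟨u, hu, p, hp, rfl⟩ := Submodule.mem_sup.1 (hc.sup_eq_top.symm ▸ Submodule.mem_top (x := v))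
      rw [map_add, horth C hC u hu x x.2, zero_add]
      exact hx ⟨p, hp⟩
    · refine Subtype.ext (hC.sep _ fun v => ?_)
      obtain ⟨u, hu, p, hp, rfl⟩ := Submodule.mem_sup.1 (hc.sup_eq_top.symm ▸ Submodule.mem_top (x := v))
      rw [map_add, hC.skew p (x : V), horth C hC x x.2 p hp, neg_zero, add_zero]
      exact hx ⟨u, hu⟩
  obtain ⟨hBP, hBU⟩ := hgood B hB
  obtain ⟨hBP', hBU'⟩ := hgood B' hB'
  obtain ⟨yU, hyU⟩ := exists_isometry (B := B.restrict U) (B' := B'.restrict U)
    (fun x => hB.alt _) hBU (fun x => hB'.alt _) hBU'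
  obtain ⟨yP, hyPc, hyP⟩ := H P hPa hBP hBP' hinj
  set y : Module.End F V := (U.subtype ∘ₗ yU ∘ₗ U.projectionOnto P hc) +
    (P.subtype ∘ₗ yP ∘ₗ P.projectionOnto U hc.symm) with hy
  have key : ∀ (u : U) (p : P), y ((u : V) + (p : V)) = (yU u : V) + (yP p : V) := by
    intro u p
    simp [hy, Submodule.projectionOnto_apply_left, Submodule.projectionOnto_apply_right]
  have hall : ∀ v : V, ∃ (u : U) (p : P), (u : V) + (p : V) = v := by
    intro v
    obtain ⟨u, hu, p, hp, rfl⟩ := Submodule.mem_sup.1 (hc.sup_eq_top.symm ▸ Submodule.mem_top (x := v))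
    exact ⟨⟨u, hu⟩, ⟨p, hp⟩, rfl⟩
  refine ⟨y, LinearMap.ext fun v => ?_, fun v v' => ?_⟩
  · obtain ⟨u, p, rfl⟩ := hall v
    change y (a ((u : V) + p)) = a (y ((u : V) + p))
    rw [map_add a, hUa' u u.2, show (a p : V) = (b p : V) from rfl,
      show (ε • (u : V)) = ((ε • u : U) : V) from rfl, key, key, map_add a, hUa' _ (yU u).2, map_smul]
    exact congrArg _ (congrArg Subtype.val (LinearMap.congr_fun hyPc.eq p))
  · obtain ⟨u, p, rfl⟩ := hall v
    obtain ⟨u', p', rfl⟩ := hall v'
    have o1 : ∀ (C : LinearMap.BilinForm F V), Good C a → ∀ (x : U) (z : P), C (x : V) (z : V) = 0 :=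
      fun C hC x z => by rw [hC.skew, horth C hC x x.2 z z.2, neg_zero]
    simp only [key, map_add, LinearMap.add_apply, o1 B hB, o1 B' hB', horth B hB _ (Subtype.mem _) _
      (Subtype.mem _), horth B' hB' _ (Subtype.mem _) _ (Subtype.mem _), zero_add, add_zero]
    exact congr (congrArg _ (hyU u u')) (hyP p p')

omit [Finite F] in
theorem aeval_restrict {q : F[X]} (haq : aeval a q = 0) {P : Submodule F V}
    (hP : ∀ x ∈ P, a x ∈ P) : aeval (a.restrict hP) q = 0 := by
  have hbk : ∀ (k : ℕ) (x : P), ((a.restrict hP ^ k) x : V) = (a ^ k) x := by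
    intro k
    induction k with
    | zero => intro x; rfl
    | succ k ih =>
        intro x
        rw [pow_succ', pow_succ', Module.End.mul_apply, Module.End.mul_apply, ← ih]
        rfl
  refine LinearMap.ext fun x => Subtype.ext ?_
  rw [LinearMap.zero_apply, Submodule.coe_zero, ← LinearMap.zero_apply (σ₁₂ := RingHom.id F)
    (M₂ := V) (x : V), ← haq, aeval_eq_sum_range, aeval_eq_sum_range,
    LinearMap.sum_apply, LinearMap.sum_apply, Submodule.coe_sum]
  exact Finset.sum_congr rfl fun k _ => by
    rw [LinearMap.smul_apply, LinearMap.smul_apply, Submodule.coe_smul, hbk]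

/-- The centraliser of a semisimple endomorphism carries any invariant non-degenerate alternating form
to any other. -/
theorem exists_centralizer_isometry (hB : Good B a) (hB' : Good B' a) {q : F[X]} (hq : Squarefree q)
    (haq : aeval a q = 0) :
    ∃ y : Module.End F V, Commute y a ∧ ∀ x z, B (y x) (y z) = B' x z := by
  refine exists_split hB hB' hq haq (ε := 1) (one_mul 1) fun P hP hBP hBP' hinj => ?_
  rw [one_smul] at hinj
  refine exists_split hBP hBP' hq (aeval_restrict haq hP) (ε := -1) (by ring) ?_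
  intro Q hQ hBQ hBQ' hinj'
  refine exists_of_injective (c := -1) (by ring) hBQ.signed hBQ'.signed ?_ (fun x z e => hinj' (by simpa [LinearMap.add_apply, LinearMap.sub_apply, LinearMap.smul_apply] using e))
  intro x z e
  refine Subtype.ext (hinj ?_)
  exact congrArg Subtype.val e

end Cfsg.Agent.SympConj
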