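import Cfsg.Agent.Classical.Linear2
import Cfsg.Agent.Classical.SympGroup
import Cfsg.Agent.MatModule.SympConj
import Mathlib.FieldTheory.Finite.Extension

/-!
# Homocyclic Sylow subgroups of classical groups for large primes
-/

set_option autoImplicit false

namespace Cfsg.Agent.LargeSylow

open Polynomial

/-! ## Arithmetic -/

section Arith

variable {q r : ℕ}

/-- The exponent of `r` in `q ^ d - 1`, `d` the order of `q` modulo `r`. -/
noncomputable def ex (q r : ℕ) : ℕ := padicValNat r (q ^ orderOf (q : ZMod r) - 1)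

theorem order_pos [Fact r.Prime] (hrq : ¬ r ∣ q) : 0 < orderOf (q : ZMod r) := by
  refine orderOf_pos_iff.2 (isOfFinOrder_iff_pow_eq_one.2 ⟨r - 1, ?_, ZMod.pow_card_sub_one_eq_one ?_⟩)
  · have := (Fact.out : r.Prime).two_le
    omega
  · rwa [Ne, ZMod.natCast_eq_zero_iff]

theorem dvd_sub_iff (hq : 1 ≤ q) (i : ℕ) : r ∣ q ^ i - 1 ↔ orderOf (q : ZMod r) ∣ i := by
  rw [orderOf_dvd_iff_pow_eq_one, ← ZMod.natCast_eq_zero_iff, Nat.cast_sub (Nat.one_le_pow _ _ hq),
    Nat.cast_pow, Nat.cast_one, sub_eq_zero]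

theorem val_pow_sub_one [Fact r.Prime] (hq : 2 ≤ q) (hrq : ¬ r ∣ q) {i : ℕ} (hi : ¬ r ∣ i) :
    padicValNat r (q ^ i - 1) = if orderOf (q : ZMod r) ∣ i then ex q r else 0 := by
  split_ifs with h
  · obtain ⟨k, hk⟩ := h
    set Q := q ^ orderOf (q : ZMod r) with hQ
    have hQ2 : 2 ≤ Q := hq.trans (Nat.le_self_pow (order_pos hrq).ne' q)
    have hgeom : (∑ t ∈ Finset.range k, Q ^ t) * (Q - 1) = Q ^ k - 1 := geom_sum_mul_of_one_le (by omega) k
    have hS : ¬ r ∣ ∑ t ∈ Finset.range k, Q ^ t := by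
      rw [← ZMod.natCast_eq_zero_iff, Nat.cast_sum, Finset.sum_congr rfl (g := fun _ => (1 : ZMod r)) (fun t _ => by
        rw [hQ, Nat.cast_pow, Nat.cast_pow, pow_orderOf_eq_one, one_pow]), Finset.sum_const, Finset.card_range,
        nsmul_one, ZMod.natCast_eq_zero_iff]
      exact fun hd => hi (hk ▸ hd.mul_left _)
    rw [hk, pow_mul, ← hQ, ← hgeom, padicValNat.mul (fun h0 => hS (by rw [h0]; exact dvd_zero r)) (by omega),
      padicValNat.eq_zero_of_not_dvd hS, zero_add]
    rfl
  · exact padicValNat.eq_zero_of_not_dvd fun hd => h ((dvd_sub_iff (by omega) i).1 hd)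

theorem val_prod [Fact r.Prime] (hq : 2 ≤ q) (hrq : ¬ r ∣ q) (s : Finset ℕ) (f : ℕ → ℕ)
    (hf : ∀ i ∈ s, ¬ r ∣ f i) :
    padicValNat r (∏ i ∈ s, (q ^ f i - 1)) =
      (s.filter fun i => orderOf (q : ZMod r) ∣ f i).card * ex q r := by
  induction s using Finset.induction with
  | empty => simp
  | insert a s ha ih =>
    have hne : ∀ i ∈ insert a s, q ^ f i - 1 ≠ 0 := fun i hi h0 => by
      have h1 : f i ≠ 0 := fun h => hf i hi (by rw [h]; exact dvd_zero r)
      have := Nat.le_self_pow h1 q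
      omega
    rw [Finset.prod_insert ha, padicValNat.mul (hne a (Finset.mem_insert_self a s))
      (Finset.prod_ne_zero_iff.2 fun i hi => hne i (Finset.mem_insert_of_mem hi)),
      val_pow_sub_one hq hrq (hf a (Finset.mem_insert_self a s)),
      ih fun i hi => hf i (Finset.mem_insert_of_mem hi), Finset.filter_insert]
    by_cases h : orderOf (q : ZMod r) ∣ f a
    · rw [if_pos h, if_pos h, Finset.card_insert_of_notMem (fun hm => ha (Finset.mem_filter.1 hm).1)]
      ring
    · rw [if_neg h, if_neg h, zero_add]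

theorem val_cyclotomic [Fact r.Prime] (hq : 2 ≤ q) (hrq : ¬ r ∣ q) :
    padicValNat r ((cyclotomic (orderOf (q : ZMod r)) ℤ).eval (q : ℤ)).natAbs = ex q r := by
  set d := orderOf (q : ZMod r) with hd
  have hd0 := order_pos hrq
  have hprod : ∀ c, 0 < c → (∏ i ∈ c.divisors, ((cyclotomic i ℤ).eval (q : ℤ)).natAbs) = q ^ c - 1 := by
    intro c hc
    have h := congrArg (fun f : ℤ[X] => (f.eval (q : ℤ)).natAbs) (prod_cyclotomic_eq_X_pow_sub_one hc ℤ)
    simp only [eval_prod, eval_sub, eval_pow, eval_X, eval_one] at h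
    rw [show ((q : ℤ) ^ c - 1) = ((q ^ c - 1 : ℕ) : ℤ) by
      rw [Nat.cast_sub (Nat.one_le_pow _ _ (by omega))]; push_cast; ring, Int.natAbs_natCast] at h
    rw [← h]
    exact (map_prod (Int.natAbsHom : ℤ →*₀ ℕ) _ _).symm
  have hne : ∀ c ∈ d.divisors, ((cyclotomic c ℤ).eval (q : ℤ)).natAbs ≠ 0 := by
    refine Finset.prod_ne_zero_iff.1 ?_
    rw [hprod d hd0]
    exact Nat.sub_ne_zero_of_lt (Nat.one_lt_pow hd0.ne' (by omega))
  have hsmall : ¬ r ∣ ∏ i ∈ d.properDivisors, ((cyclotomic i ℤ).eval (q : ℤ)).natAbs := by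
    rw [Nat.Prime.prime (Fact.out : r.Prime) |>.dvd_finsetProd_iff _]
    rintro ⟨c, hc, hdvd⟩
    obtain ⟨hcd, hlt⟩ := Nat.mem_properDivisors.1 hc
    have hc0 : 0 < c := Nat.pos_of_dvd_of_pos hcd hd0
    have h1 : r ∣ q ^ c - 1 := hprod c hc0 ▸ hdvd.trans
      (Finset.dvd_prod_of_mem _ (Nat.mem_divisors_self c hc0.ne'))
    have := Nat.le_of_dvd hc0 ((dvd_sub_iff (by omega) c).1 h1)
    omega
  have h := hprod d hd0
  rw [← Nat.cons_self_properDivisors hd0.ne', Finset.prod_cons] at h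
  rw [ex, ← h, padicValNat.mul (hne d (Nat.mem_divisors_self d hd0.ne'))
    (fun h0 => hsmall (by rw [h0]; exact dvd_zero r)), padicValNat.eq_zero_of_not_dvd hsmall, add_zero]

theorem pow_ex_dvd [Fact r.Prime] : r ^ ex q r ∣ q ^ orderOf (q : ZMod r) - 1 := pow_padicValNat_dvd

theorem coprime_of_order_ne_one [Fact r.Prime] (hq : 2 ≤ q) {c : ℕ}
    (hc : ¬ orderOf (q : ZMod r) ∣ c) (k : ℕ) : (r ^ k).Coprime (q ^ c - 1) :=
  ((Fact.out : r.Prime).coprime_iff_not_dvd.2 fun h => hc ((dvd_sub_iff (by omega) c).1 h)).pow_left k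

theorem count_dvd {d : ℕ} (n : ℕ) : ((Finset.Icc 1 n).filter (fun i => d ∣ i)).card = n / d :=
  Nat.Ioc_filter_dvd_card_eq_div n d

end Arith

/-! ## Homocyclic subgroups -/

theorem exists_sylow_equiv {G A : Type*} [Group G] [Finite G] [Group A] {r : ℕ} [Fact r.Prime]
    (P : Sylow r G) (φ : A →* G) (hφ : Function.Injective φ)
    (hcard : Nat.card A = r ^ padicValNat r (Nat.card G)) : Nonempty (↥(P : Subgroup G) ≃* A) := by
  have h1 : Nat.card φ.range = r ^ (Nat.card G).factorization r := by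
    rw [Nat.factorization_def _ (Fact.out : r.Prime), ← hcard]
    exact Nat.card_congr (MonoidHom.ofInjective hφ).symm.toEquiv
  exact ⟨(P.equiv (Sylow.ofCard φ.range h1)).trans (MonoidHom.ofInjective hφ).symm⟩

theorem exists_cyclic_hom {H : Type*} [Group H] [Finite H] {h : H} {m : ℕ} [NeZero m] (hm : orderOf h = m) :
    ∃ φ : Multiplicative (ZMod m) →* H, Function.Injective φ := by
  have hc : Nat.card (Multiplicative (ZMod m)) = Nat.card (Subgroup.zpowers h) := by
    rw [Nat.card_zpowers, hm, Nat.card_congr Multiplicative.toAdd, Nat.card_zmod]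
  exact ⟨(Subgroup.zpowers h).subtype.comp (mulEquivOfCyclicCardEq hc).toMonoidHom,
    Subtype.val_injective.comp (mulEquivOfCyclicCardEq hc).injective⟩

theorem homocyclic {G H : Type*} [Group G] [Finite G] [Group H] [Finite H] {r e a : ℕ} [Fact r.Prime]
    (P : Sylow r G) (hv : padicValNat r (Nat.card G) = a * e) {h : H} (hh : orderOf h = r ^ e)
    (ψ : (Fin a → H) →* G) (hψ : Function.Injective ψ) :
    Nonempty (↥(P : Subgroup G) ≃* (Fin a → Multiplicative (ZMod (r ^ e)))) := by
  haveI : NeZero (r ^ e) := ⟨pow_ne_zero _ (Fact.out : r.Prime).ne_zero⟩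
  obtain ⟨φ, hφ⟩ := exists_cyclic_hom hh
  refine exists_sylow_equiv P (ψ.comp (φ.compLeft (Fin a))) (hψ.comp fun x y he => funext fun i =>
    hφ (congrFun he i)) ?_
  rw [Nat.card_fun, Nat.card_congr Multiplicative.toAdd, Nat.card_zmod, Nat.card_fin, ← pow_mul, hv,
    mul_comm]

theorem exists_orderOf {H : Type*} [CommGroup H] [Finite H] [IsCyclic H] {k : ℕ} (hk : k ∣ Nat.card H) :
    ∃ x : H, orderOf x = k := by
  obtain ⟨g, hg⟩ := IsCyclic.exists_generator (α := H)
  refine ⟨g ^ (Nat.card H / k), ?_⟩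
  have hord : orderOf g = Nat.card H := orderOf_eq_card_of_forall_mem_zpowers hg
  have h0 : 0 < Nat.card H := Nat.card_pos
  rw [orderOf_pow, hord, Nat.gcd_eq_right (Nat.div_dvd_of_dvd hk), Nat.div_div_self hk h0.ne']

/-! ## Elements and block embeddings -/

section Blocks

variable {F : Type*} [Field F] [Fintype F]

theorem exists_gl_orderOf {q d k : ℕ} (hF : Fintype.card F = q) (hd : 0 < d) (hk : k ∣ q ^ d - 1) :
    ∃ g : GL (Fin d) F, orderOf g = k := by
  classical
  obtain ⟨p, hp⟩ := CharP.exists F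
  obtain ⟨E, hpp, -⟩ := FiniteField.card F p
  haveI := Fact.mk hpp
  haveI : NeZero d := ⟨hd.ne'⟩
  let K := FiniteField.Extension F p d
  obtain ⟨x, hx⟩ := exists_orderOf (H := Kˣ) (k := k) (by
    rwa [Nat.card_units, FiniteField.natCard_extension, Nat.card_eq_fintype_card, hF])
  let b : Module.Basis (Fin d) F K := Module.finBasisOfFinrankEq F K (FiniteField.finrank_extension F p d)
  refine ⟨Units.map (Algebra.leftMulMatrix b).toRingHom.toMonoidHom x, ?_⟩
  rw [orderOf_injective (Units.map _) (Units.map_injective (Algebra.leftMulMatrix_injective b)), hx]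

variable {d a n : ℕ}

/-- Block diagonal matrices padded by an identity block. -/
noncomputable def padHom (e : (Fin d × Fin a) ⊕ Fin (n - a * d) ≃ Fin n) :
    (Fin a → Matrix (Fin d) (Fin d) F) →* Matrix (Fin n) (Fin n) F where
  toFun M := Matrix.reindex e e (Matrix.fromBlocks (Matrix.blockDiagonal M) 0 0 1)
  map_one' := by
    rw [Matrix.blockDiagonal_one, Matrix.fromBlocks_one, Matrix.reindex_apply,
      Matrix.submatrix_one_equiv]
  map_mul' M N := by
    rw [Matrix.reindex_apply, Matrix.reindex_apply, Matrix.reindex_apply, Matrix.submatrix_mul_equiv,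
      Matrix.fromBlocks_multiply]
    simp [← Matrix.blockDiagonal_mul]
    rfl

theorem padHom_injective (e : (Fin d × Fin a) ⊕ Fin (n - a * d) ≃ Fin n) :
    Function.Injective (padHom (F := F) e) := fun M N h => by
  have h' := (Matrix.reindex e e).injective h
  exact Matrix.blockDiagonal_injective (Matrix.fromBlocks_inj.1 h').1

theorem exists_gl_blocks (h : a * d ≤ n) :
    ∃ ψ : (Fin a → GL (Fin d) F) →* GL (Fin n) F, Function.Injective ψ := by
  let e : (Fin d × Fin a) ⊕ Fin (n - a * d) ≃ Fin n := Fintype.equivOfCardEq (by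
    rw [Fintype.card_sum, Fintype.card_prod, Fintype.card_fin, Fintype.card_fin, Fintype.card_fin,
      Fintype.card_fin, mul_comm]
    omega)
  refine ⟨((padHom e).comp ((Units.coeHom (Matrix (Fin d) (Fin d) F)).compLeft (Fin a))).toHomUnits,
    fun M N hMN => ?_⟩
  have h1 := padHom_injective e (congrArg Units.val hMN)
  exact funext fun i => Units.ext (congrFun h1 i)

theorem exists_sl_torus (k : ℕ) :
    ∃ ψ : (Fin k → Fˣ) →* Matrix.SpecialLinearGroup (Fin (k + 1)) F, Function.Injective ψ := by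
  classical
  refine ⟨MonoidHom.mk' (fun t => ⟨Matrix.diagonal fun i => ((Fin.snoc (α := fun _ => Fˣ) t (∏ j, t j)⁻¹ i : Fˣ) : F), ?_⟩) ?_, ?_⟩
  · rw [Matrix.det_diagonal, Fin.prod_univ_castSucc]
    simp [← Units.coe_prod, ← Units.val_mul]
  · intro s t
    refine Subtype.ext ?_
    show Matrix.diagonal _ = Matrix.diagonal _ * Matrix.diagonal _
    rw [Matrix.diagonal_mul_diagonal]
    congr 1
    funext i
    rw [← Units.val_mul]
    congr 1
    induction i using Fin.lastCases with
    | last => simp [Finset.prod_mul_distrib, mul_comm]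
    | cast i => simp
  · intro s t hst
    funext i
    have h := congrFun (Matrix.diagonal_injective (congrArg Subtype.val hst)) i.castSucc
    simpa [Units.ext_iff] using h

theorem exists_gl_to_sp (d : ℕ) :
    ∃ φ : GL (Fin d) F →* Matrix.symplecticGroup (Fin d) F, Function.Injective φ := by
  classical
  refine ⟨MonoidHom.mk' (fun g => ⟨Matrix.fromBlocks g.1 0 0 (g⁻¹).1.transpose, ?_⟩) ?_, ?_⟩
  · rw [SymplecticGroup.mem_iff, Matrix.J, Matrix.fromBlocks_transpose, Matrix.fromBlocks_multiply,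
      Matrix.fromBlocks_multiply]
    simp [-Matrix.coe_units_inv, ← Matrix.transpose_mul]
  · intro g h
    refine Subtype.ext ?_
    rw [Submonoid.coe_mul]
    show Matrix.fromBlocks _ _ _ _ = Matrix.fromBlocks _ _ _ _ * Matrix.fromBlocks _ _ _ _
    rw [Matrix.fromBlocks_multiply]
    simp [-Matrix.coe_units_inv, mul_inv_rev, Units.val_mul, Matrix.transpose_mul]
  · intro g h hgh
    exact Units.ext (Matrix.fromBlocks_inj.1 (congrArg Subtype.val hgh)).1

theorem exists_sp_blocks (h : a * d ≤ n) :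
    ∃ ψ : (Fin a → Matrix.symplecticGroup (Fin d) F) →* Matrix.symplecticGroup (Fin n) F,
      Function.Injective ψ := by
  classical
  let ε : (Fin d × Fin a) ⊕ Fin (n - a * d) ≃ Fin n := Fintype.equivOfCardEq (by
    rw [Fintype.card_sum, Fintype.card_prod, Fintype.card_fin, Fintype.card_fin, Fintype.card_fin,
      Fintype.card_fin, mul_comm]
    omega)
  let σ : ((Fin d ⊕ Fin d) × Fin a) ⊕ (Fin (n - a * d) ⊕ Fin (n - a * d)) ≃ Fin n ⊕ Fin n :=
    ((Equiv.sumProdDistrib _ _ _).sumCongr (Equiv.refl _)).trans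
      ((Equiv.sumSumSumComm _ _ _ _).trans (ε.sumCongr ε))
  set BJ : Matrix (((Fin d ⊕ Fin d) × Fin a) ⊕ (Fin (n - a * d) ⊕ Fin (n - a * d)))
      (((Fin d ⊕ Fin d) × Fin a) ⊕ (Fin (n - a * d) ⊕ Fin (n - a * d))) F :=
    Matrix.fromBlocks (Matrix.blockDiagonal fun _ => Matrix.J (Fin d) F) 0 0
      (Matrix.J (Fin (n - a * d)) F) with hBJ
  have hJ : Matrix.J (Fin n) F = Matrix.reindex σ σ BJ := by
    rw [← Equiv.symm_apply_eq]
    ext x y
    rcases x with ⟨x | x, k⟩ | (x | x) <;> rcases y with ⟨y | y, l⟩ | (y | y) <;>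
      simp [hBJ, σ, Matrix.J, Matrix.blockDiagonal_apply, Matrix.one_apply, Matrix.neg_apply] <;>
      (try split_ifs) <;> simp_all
  let f : (Fin a → Matrix.symplecticGroup (Fin d) F) → Matrix (Fin n ⊕ Fin n) (Fin n ⊕ Fin n) F :=
    fun g => Matrix.reindex σ σ (Matrix.fromBlocks (Matrix.blockDiagonal fun k => (g k).1) 0 0 1)
  have hf : ∀ g, f g ∈ Matrix.symplecticGroup (Fin n) F := by
    intro g
    rw [SymplecticGroup.mem_iff, hJ]
    simp only [f, Matrix.reindex_apply, Matrix.transpose_submatrix, Matrix.submatrix_mul_equiv, hBJ,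
      Matrix.fromBlocks_transpose, Matrix.fromBlocks_multiply, Matrix.blockDiagonal_transpose,
      Matrix.transpose_zero, Matrix.transpose_one, Matrix.mul_zero, Matrix.zero_mul, add_zero, zero_add,
      one_mul, mul_one, ← Matrix.blockDiagonal_mul]
    congr 2
    congr 1
    funext k
    exact SymplecticGroup.mem_iff.1 (g k).2
  refine ⟨MonoidHom.mk' (fun g => ⟨f g, hf g⟩) ?_, ?_⟩
  · intro g h
    refine Subtype.ext ?_
    show f (g * h) = f g * f h
    simp only [f, Matrix.reindex_apply, Matrix.submatrix_mul_equiv, Matrix.fromBlocks_multiply,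
      Matrix.mul_zero, Matrix.zero_mul, add_zero, zero_add, mul_one, ← Matrix.blockDiagonal_mul]
    rfl
  · intro g h hgh
    have h1 := (Matrix.reindex σ σ).injective (congrArg Subtype.val hgh)
    exact funext fun k => Subtype.ext (congrFun (Matrix.blockDiagonal_injective (Matrix.fromBlocks_inj.1 h1).1) k)

open Classical in
theorem exists_sp_orderOf {q h k : ℕ} (hF : Fintype.card F = q) (hh : 0 < h) (hk : k ∣ q ^ h + 1) :
    ∃ g : Matrix.symplecticGroup (Fin h) F, orderOf g = k := by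
  obtain ⟨p, hp⟩ := CharP.exists F
  obtain ⟨E, hpp, -⟩ := FiniteField.card F p
  haveI := Fact.mk hpp
  haveI : NeZero (2 * h) := ⟨by omega⟩
  let K := FiniteField.Extension F p (2 * h)
  have hfr : Module.finrank F K = 2 * h := FiniteField.finrank_extension F p (2 * h)
  set τ := FiniteField.frobeniusAlgEquivOfAlgebraic F K ^ h with hτ
  have hτa : ∀ x : K, τ x = x ^ q ^ h := fun x => by
    rw [hτ, AlgEquiv.coe_pow, FiniteField.coe_frobeniusAlgEquivOfAlgebraic_iterate, hF]
  have hKcard : Nat.card K = q ^ (2 * h) := by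
    rw [FiniteField.natCard_extension, Nat.card_eq_fintype_card, hF]
  have hττ : ∀ x : K, τ (τ x) = x := fun x => by
    haveI := Fintype.ofFinite K
    rw [hτa, hτa, ← pow_mul, ← pow_add, ← two_mul, ← hKcard, Nat.card_eq_fintype_card,
      FiniteField.pow_card]
  obtain ⟨w, hw⟩ : ∃ w : K, τ w ≠ w := by
    by_contra hne
    push Not at hne
    have h1 : τ = 1 := AlgEquiv.ext hne
    rw [hτ, ← orderOf_dvd_iff_pow_eq_one, FiniteField.orderOf_frobeniusAlgEquivOfAlgebraic, hfr] at h1
    have := Nat.le_of_dvd hh h1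
    omega
  set c := w - τ w with hc
  have hc0 : c ≠ 0 := sub_ne_zero.2 hw.symm
  -- the form
  let T : LinearMap.BilinForm F K :=
    LinearMap.mk₂ F (fun x y => Algebra.trace F K (c * (x * τ y)))
      (fun x x' y => by simp [mul_add, add_mul, map_add]) (fun s x y => by
        rw [smul_eq_mul, ← smul_eq_mul s, ← map_smul]; simp)
      (fun x y y' => by simp [mul_add, map_add]) (fun s x y => by
        rw [map_smul τ, smul_eq_mul s, ← smul_eq_mul s, ← map_smul]; simp)
  have hTalt : ∀ x, T x x = 0 := by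
    intro x
    have hNτ : τ (x * τ x) = x * τ x := by rw [map_mul, hττ, mul_comm]
    show Algebra.trace F K (c * (x * τ x)) = 0
    rw [hc, sub_mul, map_sub, ← Algebra.trace_eq_of_algEquiv τ (w * (x * τ x)), map_mul τ w, hNτ,
      sub_self]
  have hTsep : ∀ x, (∀ y, T x y = 0) → x = 0 := by
    intro x hx
    have h1 : c * x = 0 := (traceForm_nondegenerate F K).1 _ fun z => by
      have h2 := hx (τ z)
      change Algebra.trace F K (c * (x * τ (τ z))) = 0 at h2
      rw [hττ, ← mul_assoc] at h2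
      simpa [Algebra.traceForm_apply] using h2
    exact (mul_eq_zero.1 h1).resolve_left hc0
  -- transport
  let L : K ≃ₗ[F] (Fin h ⊕ Fin h → F) := LinearEquiv.ofFinrankEq _ _ (by
    rw [hfr, Module.finrank_fintype_fun_eq_card, Fintype.card_sum, Fintype.card_fin]; omega)
  obtain ⟨y, hy⟩ := SympConj.exists_isometry (B := sympB h F) (B' := T.comp L.symm.toLinearMap L.symm.toLinearMap)
    sympB_isAlt (fun x hx => sympB_nondeg.1 x hx) (fun x => hTalt (L.symm x))
    (fun x hx => L.symm.map_eq_zero_iff.1 (hTsep _ fun z => by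
      have h2 := hx (L z)
      simpa using h2))
  have hyT : ∀ u v : K, sympB h F (y (L u)) (y (L v)) = T u v := fun u v => by
    rw [hy]; simp
  have hyinj : Function.Injective (fun u : K => y (L u)) := by
    intro u v huv
    refine sub_eq_zero.1 (hTsep _ fun z => ?_)
    rw [← hyT, map_sub, map_sub, show y (L u) = y (L v) from huv, sub_self, map_zero,
      LinearMap.zero_apply]
  let Φ : K ≃ₗ[F] (Fin h ⊕ Fin h → F) := LinearEquiv.ofBijective (y ∘ₗ L.toLinearMap) ⟨hyinj,
    (LinearMap.injective_iff_surjective_of_finrank_eq_finrank L.finrank_eq).1 hyinj⟩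
  -- the torus
  obtain ⟨z, hz⟩ := exists_orderOf (H := Kˣ) (k := k) (by
    rw [Nat.card_units, hKcard, show q ^ (2 * h) - 1 = (q ^ h + 1) * (q ^ h - 1) by
      rw [mul_comm 2 h, pow_mul, ← Nat.sq_sub_sq, one_pow]]
    exact hk.mul_right _)
  have hzN : ∀ j : ℕ, ((z ^ j : Kˣ) : K) * τ ((z ^ j : Kˣ) : K) = 1 := by
    intro j
    rw [hτa, ← pow_succ', ← Units.val_pow_eq_pow_val, ← pow_mul]
    have : z ^ (j * (q ^ h + 1)) = 1 := orderOf_dvd_iff_pow_eq_one.1 (hz ▸ hk.mul_left j)
    rw [this, Units.val_one]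
  let lift : Kˣ → ((Fin h ⊕ Fin h → F) ≃ₗ[F] (Fin h ⊕ Fin h → F)) := fun u =>
    Φ.symm.trans ((LinearEquiv.smulOfUnit (R := K) (M := K) u).restrictScalars F |>.trans Φ)
  have hl : ∀ (u : Kˣ) (x : K), lift u (Φ x) = Φ ((u : K) * x) := fun u x => by
    simp only [lift, LinearEquiv.trans_apply, LinearEquiv.symm_apply_apply]
    rfl
  have hlift : ∀ u v x, lift (u * v) x = lift u (lift v x) := fun u v x => by
    obtain ⟨x, rfl⟩ := Φ.surjective x
    rw [hl, hl, hl, Units.val_mul, mul_assoc]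
  have hlift1 : lift 1 = 1 := LinearEquiv.ext fun x => by
    obtain ⟨x, rfl⟩ := Φ.surjective x
    rw [hl, Units.val_one, one_mul]
    rfl
  have hiso : ∀ j : ℕ, ∀ u v, sympB h F (lift (z ^ j) u) (lift (z ^ j) v) = sympB h F u v := by
    intro j u v
    obtain ⟨u, rfl⟩ := Φ.surjective u
    obtain ⟨v, rfl⟩ := Φ.surjective v
    have e : ∀ x, lift (z ^ j) (Φ x) = y (L (((z ^ j : Kˣ) : K) * x)) := fun x => by
      rw [hl]; rfl
    rw [e, e, show Φ u = y (L u) from rfl, show Φ v = y (L v) from rfl, hyT, hyT]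
    show Algebra.trace F K _ = Algebra.trace F K _
    congr 2
    rw [map_mul τ, mul_mul_mul_comm, hzN, one_mul]
  let g : Matrix.symplecticGroup (Fin h) F :=
    (spEquiv h F).symm ⟨lift z, fun u v => by simpa using hiso 1 u v⟩
  refine ⟨g, ?_⟩
  rw [MulEquiv.orderOf_eq, ← Subgroup.orderOf_coe]
  have hpow : ∀ j : ℕ, lift z ^ j = lift (z ^ j) := by
    intro j
    induction j with
    | zero => rw [pow_zero, pow_zero, hlift1]
    | succ j ih => exact LinearEquiv.ext fun x => by rw [pow_succ', LinearEquiv.mul_apply, ih, pow_succ', hlift]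
  rw [← hz]
  refine orderOf_eq_orderOf_iff.2 fun j => ?_
  show lift z ^ j = 1 ↔ _
  rw [hpow]
  constructor
  · intro h1
    have h2 : lift (z ^ j) (Φ 1) = Φ 1 := by rw [h1]; rfl
    rw [hl, mul_one] at h2
    exact Units.ext (Φ.injective h2)
  · intro h1
    rw [h1, hlift1]

end Blocks

section Orders

variable {F : Type*} [Field F] [Fintype F] {q r n : ℕ} [Fact r.Prime]

theorem two_le_q (hF : Fintype.card F = q) : 2 ≤ q := hF ▸ Fintype.one_lt_card

theorem val_pow_q (hrq : ¬ r ∣ q) (N : ℕ) : padicValNat r (q ^ N) = 0 :=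
  padicValNat.eq_zero_of_not_dvd fun h => hrq ((Fact.out : r.Prime).dvd_of_dvd_pow h)

theorem val_gl (hF : Fintype.card F = q) (hrn : n < r) (hrq : ¬ r ∣ q) :
    padicValNat r (∏ i : Fin n, (q ^ n - q ^ (i : ℕ))) = n / orderOf (q : ZMod r) * ex q r := by
  have hq := two_le_q hF
  rw [Classical.prod_gl_eq, padicValNat.mul (pow_ne_zero _ (by omega))
    (Finset.prod_ne_zero_iff.2 fun i _ => Nat.sub_ne_zero_of_lt (Nat.one_lt_pow (by omega) (by omega))),
    val_pow_q hrq, zero_add, val_prod hq hrq _ (fun i => i + 1) (fun i hi hd => by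
      rw [Finset.mem_range] at hi
      have := Nat.le_of_dvd (by omega) hd
      omega), Nat.card_multiples]

end Orders

end Cfsg.Agent.LargeSylow
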