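import Cfsg.Agent.MatModule.Unipotent
import Cfsg.Agent.Classical.AltBasis

/-!
# Multiplicities of Jordan blocks of unipotent isometries
-/

set_option autoImplicit false

namespace Cfsg.Agent.UniForm

open Module Cfsg.Agent.MatModule

universe u v

variable {F : Type u} [Field F] {V : Type v} [AddCommGroup V] [Module F V] [FiniteDimensional F V]

/-- A non-degenerate reflexive form preserved by a map. -/
structure Ctx (B : LinearMap.BilinForm F V) (φ : Module.End F V) : Prop where
  refl : B.IsRefl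
  sep : ∀ x, (∀ y, B x y = 0) → x = 0
  pres : ∀ x y, B (φ x) (φ y) = B x y

theorem even_rank (B : LinearMap.BilinForm F V) (hA : B.IsAlt) :
    Even (finrank F (LinearMap.range B)) := by
  obtain ⟨W, hW⟩ := Submodule.exists_isCompl (LinearMap.ker B)
  have hWd : finrank F (LinearMap.range B) = finrank F W := by
    have h1 := B.finrank_range_add_finrank_ker
    have h2 := Submodule.finrank_add_eq_of_isCompl hW
    omega
  obtain ⟨m, k, b, e1, e2, e3, e4⟩ :=
    Classical.Alt.exists_basis_symp (B := B.comp W.subtype W.subtype) (fun x => hA x.1)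
  have hk : k = 0 := by
    by_contra hk
    set z := b (Sum.inr ⟨0, Nat.pos_of_ne_zero hk⟩) with hz
    have hker : (z : V) ∈ LinearMap.ker B := by
      rw [LinearMap.mem_ker]
      refine LinearMap.ext fun v => ?_
      obtain ⟨a, c, ha, hc, rfl⟩ : ∃ a c : V, a ∈ LinearMap.ker B ∧ c ∈ W ∧ a + c = v :=
        let ⟨a, ha, c, hc, h⟩ := Submodule.mem_sup.1 (hW.sup_eq_top ▸ Submodule.mem_top (x := v))
        ⟨a, c, ha, hc, h⟩
      have h1 : B (z : V) a = 0 := by
        rw [← neg_eq_zero, LinearMap.IsAlt.neg hA, LinearMap.mem_ker.1 ha, LinearMap.zero_apply]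
      rw [map_add, h1, zero_add, LinearMap.zero_apply]
      exact e4 _ ⟨c, hc⟩
    exact b.ne_zero (Sum.inr ⟨0, Nat.pos_of_ne_zero hk⟩)
      (Subtype.ext ((Submodule.mem_bot F).1 (hW.inf_eq_bot ▸ Submodule.mem_inf.2 ⟨hker, z.2⟩)))
  rw [hWd, finrank_eq_card_basis b, hk]
  simp

omit [FiniteDimensional F V] in
theorem finrank_map_add [FiniteDimensional F V] (T : Module.End F V) (U : Submodule F V)
    (h : LinearMap.ker T ≤ U) :
    finrank F (U.map T) + finrank F (LinearMap.ker T) = finrank F U := by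
  have h1 := (T.domRestrict U).finrank_range_add_finrank_ker
  rw [LinearMap.range_domRestrict, LinearMap.ker_domRestrict] at h1
  rwa [(Submodule.comapSubtypeEquivOfLe h).finrank_eq] at h1

variable {B : LinearMap.BilinForm F V} {φ : Module.End F V} {d : ℕ}

local notation "N" => φ - 1

section
variable (hc : Ctx B φ) (hd : (φ - 1) ^ d = 0)

omit [FiniteDimensional F V] in
include hd in
theorem isUnit_phi : IsUnit φ := by
  have h : IsNilpotent (φ - 1) := ⟨d, hd⟩
  simpa using h.isUnit_one_add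

omit [FiniteDimensional F V] in
include hc hd in
theorem exists_adj : ∃ w : Module.End F V, Commute w (φ - 1) ∧ w * (φ - 1) = 1 - w ∧
    ∀ k x y, B (((φ - 1) ^ k) x) y = (-1 : F) ^ k * B x ((w ^ k * (φ - 1) ^ k) y) := by
  obtain ⟨U, hU⟩ := isUnit_phi hd
  refine ⟨(U⁻¹ : (Module.End F V)ˣ).1, ?_, ?_, ?_⟩
  · have h : Commute (U⁻¹ : (Module.End F V)ˣ).1 U.1 := U.inv_mul.trans U.mul_inv.symm
    rw [← hU]
    exact h.sub_right (Commute.one_right _)
  · rw [← hU, mul_sub, U.inv_mul, mul_one]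
  have hcomm : Commute (U⁻¹ : (Module.End F V)ˣ).1 (φ - 1) := by
    have h : Commute (U⁻¹ : (Module.End F V)ˣ).1 U.1 := U.inv_mul.trans U.mul_inv.symm
    rw [← hU]
    exact h.sub_right (Commute.one_right _)
  intro k
  induction k with
  | zero => intro x y; simp
  | succ k ih =>
    intro x y
    rw [pow_succ (φ - 1), Module.End.mul_apply, ih]
    have h1 : ∀ z, B ((φ - 1) x) z = -B x ((U⁻¹ : (Module.End F V)ˣ).1 ((φ - 1) z)) := by
      intro z
      have h2 : φ ((U⁻¹ : (Module.End F V)ˣ).1 z) = z := by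
        rw [← hU, ← Module.End.mul_apply, U.mul_inv, Module.End.one_apply]
      have h3 : B (φ x) z = B x ((U⁻¹ : (Module.End F V)ˣ).1 z) := by
        conv_lhs => rw [← h2]
        exact hc.pres _ _
      have h4 : (U⁻¹ : (Module.End F V)ˣ).1 (φ z) = z := by
        rw [← hU, ← Module.End.mul_apply, U.inv_mul, Module.End.one_apply]
      rw [LinearMap.sub_apply, Module.End.one_apply, map_sub, LinearMap.sub_apply, h3, LinearMap.sub_apply,
        Module.End.one_apply, map_sub (U⁻¹ : (Module.End F V)ˣ).1, h4, map_sub (B x)]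
      ring
    rw [h1, pow_succ (-1 : F)]
    have h5 : (U⁻¹ : (Module.End F V)ˣ).1 ((φ - 1) (((U⁻¹ : (Module.End F V)ˣ).1 ^ k * (φ - 1) ^ k) y)) =
        ((U⁻¹ : (Module.End F V)ˣ).1 ^ (k + 1) * (φ - 1) ^ (k + 1)) y := by
      rw [← Module.End.mul_apply, ← Module.End.mul_apply]
      congr 1
      rw [pow_succ' (U⁻¹ : (Module.End F V)ˣ).1, pow_succ' (φ - 1)]
      simp only [mul_assoc]
      rw [← mul_assoc (φ - 1), (hcomm.symm.pow_right k).eq, mul_assoc]
    rw [h5, ← pow_succ (φ - 1)]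
    ring

omit [FiniteDimensional F V] in
include hc hd in
theorem form_eq_zero {a b e : ℕ} {g : Module.End F V} (hg : Commute g (φ - 1)) {x : V}
    (hx : ((φ - 1) ^ e) x = 0) (he : e ≤ a + b) :
    B (((φ - 1) ^ a) x) (g (((φ - 1) ^ b) x)) = 0 := by
  obtain ⟨w, hw, -, hadj⟩ := exists_adj hc hd
  rw [hadj, ← Module.End.mul_apply, ← Module.End.mul_apply]
  have hop : w ^ a * (φ - 1) ^ a * (g * (φ - 1) ^ b) = w ^ a * g * (φ - 1) ^ (a + b - e) * (φ - 1) ^ e := by
    rw [mul_assoc (w ^ a), ← mul_assoc ((φ - 1) ^ a) g, ← (hg.pow_right a).eq, mul_assoc g, ← pow_add,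
      ← mul_assoc, mul_assoc (w ^ a * g), ← pow_add, Nat.sub_add_cancel he]
  rw [← mul_assoc] at hop
  rw [hop, Module.End.mul_apply, hx, map_zero, map_zero, mul_zero]

omit [FiniteDimensional F V] in
include hc hd in
theorem form_pow_eq {a i : ℕ} {x : V} (hx : ((φ - 1) ^ (a + i + 1)) x = 0) :
    B (((φ - 1) ^ (i + a)) x) x = (-1 : F) ^ i * B (((φ - 1) ^ a) x) (((φ - 1) ^ i) x) := by
  obtain ⟨w, hw, hwN, hadj⟩ := exists_adj hc hd
  rw [pow_add, Module.End.mul_apply, hadj]
  congr 1
  set g : Module.End F V := -((∑ t ∈ Finset.range i, w ^ t) * w) with hg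
  have hcomm : Commute g (φ - 1) :=
    ((Commute.sum_left _ _ _ fun t _ => hw.pow_left t).mul_left hw).neg_left
  have hsplit : w ^ i = 1 + g * (φ - 1) := by
    rw [hg, neg_mul, mul_assoc, hwN]
    have h := geom_sum_mul w i
    rw [mul_sub, mul_one] at h
    rw [mul_sub, mul_one, neg_sub, h]
    abel
  rw [Module.End.mul_apply, hsplit, LinearMap.add_apply, Module.End.one_apply, map_add, Module.End.mul_apply,
    ← Module.End.mul_apply ((φ - 1)) ((φ - 1) ^ i), ← pow_succ',
    form_eq_zero hc hd hcomm hx (by omega), add_zero]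

include hc hd in
theorem range_pow_eq (k : ℕ) :
    (B.orthogonal (LinearMap.ker ((φ - 1) ^ k))) = LinearMap.range ((φ - 1) ^ k) := by
  obtain ⟨w, hw, -, hadj⟩ := exists_adj hc hd
  symm
  refine Submodule.eq_of_le_of_finrank_eq ?_ ?_
  · rintro _ ⟨z, rfl⟩ x hx
    apply hc.refl
    rw [hadj]
    rw [Module.End.mul_apply, LinearMap.mem_ker.1 hx, map_zero, map_zero, mul_zero]
  · have h1 := LinearMap.BilinForm.finrank_add_finrank_orthogonal hc.refl (LinearMap.ker ((φ - 1) ^ k))
    have h2 : B.orthogonal ⊤ = ⊥ := by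
      refine (Submodule.eq_bot_iff _).2 fun x hx => hc.sep x fun y => hc.refl _ _ (hx y Submodule.mem_top)
    rw [h2, inf_bot_eq, finrank_bot, add_zero] at h1
    have h3 := ((φ - 1) ^ k).finrank_range_add_finrank_ker
    omega

include hc hd in
/-- An alternating pairing on the vectors of height `j + 1` gives an even multiplicity. -/
theorem even_mult {m : Multiset ℕ} (hm : HasType φ m) (j : ℕ)
    (halt : ∀ x, ((φ - 1) ^ (j + 1)) x = 0 → B (((φ - 1) ^ j) x) x = 0) : Even (m.count (j + 1)) := by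
  classical
  set K := LinearMap.ker ((φ - 1) ^ (j + 1)) with hK
  let β : LinearMap.BilinForm F K := B.comp (((φ - 1) ^ j) ∘ₗ K.subtype) K.subtype
  have hβ : β.IsAlt := fun x => halt x.1 (LinearMap.mem_ker.1 x.2)
  have hev := even_rank β hβ
  set S : Submodule F V := K ⊓ (LinearMap.range ((φ - 1) ^ (j + 1))).comap ((φ - 1) ^ j) with hS
  have hkerβ : LinearMap.ker β = S.comap K.subtype := by
    ext x
    rw [LinearMap.mem_ker, Submodule.mem_comap, hS, Submodule.mem_inf, Submodule.mem_comap,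
      ← range_pow_eq hc hd (j + 1), LinearMap.BilinForm.mem_orthogonal_iff]
    constructor
    · intro h
      exact ⟨x.2, fun y hy => hc.refl _ _ (LinearMap.congr_fun h ⟨y, hy⟩)⟩
    · rintro ⟨-, h⟩
      exact LinearMap.ext fun y => hc.refl _ _ (h y.1 y.2)
  have hkle : ∀ k, LinearMap.ker ((φ - 1) ^ k) ≤ LinearMap.ker ((φ - 1) ^ (k + 1)) := fun k x hx => by
    rw [LinearMap.mem_ker, pow_succ', Module.End.mul_apply, LinearMap.mem_ker.1 hx, map_zero]
  have hmap : S.map ((φ - 1) ^ j) = (LinearMap.ker ((φ - 1) ^ (j + 2))).map ((φ - 1) ^ (j + 1)) := by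
    ext z
    constructor
    · rintro ⟨x, ⟨hx, y, hy⟩, rfl⟩
      refine ⟨y, ?_, hy⟩
      rw [SetLike.mem_coe, LinearMap.mem_ker, show j + 2 = 1 + (j + 1) by omega, pow_add, Module.End.mul_apply, hy,
        ← Module.End.mul_apply, ← pow_add, show 1 + j = j + 1 by omega]
      exact LinearMap.mem_ker.1 hx
    · rintro ⟨y, hy, rfl⟩
      have hz : ((φ - 1) ^ (j + 1)) y = ((φ - 1) ^ j) ((φ - 1) y) := by
        rw [← Module.End.mul_apply, ← pow_succ]
      refine ⟨(φ - 1) y, ⟨?_, y, hz⟩, hz.symm⟩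
      rw [SetLike.mem_coe, LinearMap.mem_ker, ← Module.End.mul_apply, ← pow_succ]
      exact LinearMap.mem_ker.1 hy
  have hSk : LinearMap.ker ((φ - 1) ^ j) ≤ S := fun x hx => by
    refine ⟨hkle j hx, ?_⟩
    rw [SetLike.mem_coe, Submodule.mem_comap, LinearMap.mem_ker.1 hx]
    exact Submodule.zero_mem _
  have d1 := finrank_map_add ((φ - 1) ^ j) S hSk
  have d2 := finrank_map_add ((φ - 1) ^ (j + 1)) _ (hkle (j + 1))
  rw [hmap] at d1
  rw [show j + 1 + 1 = j + 2 from rfl] at d2
  have d3 := β.finrank_range_add_finrank_ker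
  rw [hkerβ, (Submodule.comapSubtypeEquivOfLe (inf_le_left : S ≤ K)).finrank_eq] at d3
  have hr : ∀ k, (m.map (fun e => e - k)).sum + finrank F (LinearMap.ker ((φ - 1) ^ k)) = finrank F V := by
    intro k
    rw [← finrank_range_sub_one_pow hm k]
    exact ((φ - 1) ^ k).finrank_range_add_finrank_ker
  have r0 := hr j
  have r1 := hr (j + 1)
  have r2 := hr (j + 2)
  have hc' := count_succ_add m j
  rw [show finrank F K = finrank F (LinearMap.ker ((φ - 1) ^ (j + 1))) from rfl] at d3
  rw [← hS] at d3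
  have : finrank F (LinearMap.range β) = m.count (j + 1) := by omega
  rwa [this] at hev

include hc hd in
theorem even_count_odd_of_alt (hA : B.IsAlt) {m : Multiset ℕ} (hm : HasType φ m) {j : ℕ} (hj : Odd j) :
    Even (m.count j) := by
  obtain ⟨i, rfl⟩ := hj
  refine even_mult hc hd hm (2 * i) fun x hx => ?_
  rw [two_mul, form_pow_eq hc hd (a := i) (i := i) (by rw [two_mul] at hx; exact hx), hA, mul_zero]

include hc hd in
theorem even_count_even_of_symm (hS : ∀ x y, B x y = B y x) (h2 : (2 : F) ≠ 0) {m : Multiset ℕ}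
    (hm : HasType φ m) {j : ℕ} (hj : Even j) (hj0 : 0 < j) : Even (m.count j) := by
  obtain ⟨i, rfl⟩ : ∃ i, j = 2 * i + 1 + 1 := ⟨j / 2 - 1, by obtain ⟨k, rfl⟩ := hj; omega⟩
  refine even_mult hc hd hm (2 * i + 1) fun x hx => ?_
  rw [show 2 * i + 1 = i + (i + 1) by omega, form_pow_eq hc hd (a := i + 1) (i := i)
    (by rw [show i + 1 + i + 1 = 2 * i + 1 + 1 by omega]; exact hx)]
  have h0 := form_eq_zero hc hd (a := i + 1) (b := i + 1) (Commute.one_left _) hx (by omega)
  rw [Module.End.one_apply] at h0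
  set z := ((φ - 1) ^ i) x with hz
  have hNz : ((φ - 1) ^ (i + 1)) x = (φ - 1) z := by rw [hz, ← Module.End.mul_apply, ← pow_succ']
  rw [hNz] at h0 ⊢
  have hu : φ z = z + (φ - 1) z := by simp
  have h1 := hc.pres z z
  rw [hu] at h1
  simp only [map_add, LinearMap.add_apply, h0, add_zero] at h1
  rw [hS z ((φ - 1) z)] at h1
  have h3 : (2 : F) * B ((φ - 1) z) z = 0 := by linear_combination h1
  rw [(mul_eq_zero.1 h3).resolve_left h2, mul_zero]

end

end Cfsg.Agent.UniForm
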