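import Mathlib

/-!
# A linear map as a module over the polynomial ring

A decomposition into cyclic modules gives a symmetric invariant form and the determinants of the commutant.
-/

set_option autoImplicit false

namespace Cfsg.Agent.MatModule

open Polynomial
open scoped DirectSum

variable {F : Type*} [Field F]

/-- A cyclic torsion quotient of `F[X]` carries a functional containing no nonzero ideal in its kernel. -/
theorem exists_functional (f : F[X]) (hf : f ≠ 0) :
    ∃ φ : (F[X] ⧸ Ideal.span {f}) →ₗ[F] F, ∀ a, a ≠ 0 → ∃ b, φ (a * b) ≠ 0 := by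
  obtain ⟨g, hg, hfg⟩ : ∃ g : F[X], g.Monic ∧ Ideal.span {f} = Ideal.span {g} :=
    ⟨f * C f.leadingCoeff⁻¹, monic_mul_leadingCoeff_inv hf,
      (Ideal.span_singleton_mul_right_unit
        (isUnit_C.2 (isUnit_iff_ne_zero.2 (inv_ne_zero (leadingCoeff_ne_zero.2 hf)))) f).symm⟩
  rw [hfg]
  refine ⟨(lcoeff F (g.natDegree - 1)).comp (AdjoinRoot.modByMonicHom hg), ?_⟩
  show ∀ a : AdjoinRoot g, a ≠ 0 → ∃ b : AdjoinRoot g,
    (lcoeff F (g.natDegree - 1)) (AdjoinRoot.modByMonicHom hg (a * b)) ≠ 0
  intro a ha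
  obtain ⟨r, hr⟩ : ∃ r : F[X], r = AdjoinRoot.modByMonicHom hg a := ⟨_, rfl⟩
  have ha' : AdjoinRoot.mk g r = a := hr ▸ AdjoinRoot.mk_leftInverse hg a
  have hr0 : r ≠ 0 := fun h => ha (by rw [← ha', h, map_zero])
  have hg1 : g ≠ 1 := by
    rintro rfl
    exact ha (by rw [← ha']; exact AdjoinRoot.mk_eq_zero.2 (one_dvd r))
  have hdeg : r.natDegree < g.natDegree := by
    obtain ⟨q, rfl⟩ := AdjoinRoot.mk_surjective a
    rw [hr, AdjoinRoot.modByMonicHom_mk hg]
    exact natDegree_modByMonic_lt q hg hg1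
  set j := g.natDegree - 1 - r.natDegree with hj
  refine ⟨AdjoinRoot.mk g (X ^ j), ?_⟩
  have e : a * AdjoinRoot.mk g (X ^ j) = AdjoinRoot.mk g (r * X ^ j) := by
    rw [map_mul, ha']
  show (lcoeff F (g.natDegree - 1)) (AdjoinRoot.modByMonicHom hg (a * AdjoinRoot.mk g (X ^ j))) ≠ 0
  have hmod : AdjoinRoot.modByMonicHom hg (a * AdjoinRoot.mk g (X ^ j)) = r * X ^ j := by
    rw [e, AdjoinRoot.modByMonicHom_mk hg, modByMonic_eq_self_iff hg]
    apply degree_lt_degree
    rw [natDegree_mul hr0 (pow_ne_zero _ X_ne_zero), natDegree_X_pow]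
    omega
  rw [hmod, lcoeff_apply, show g.natDegree - 1 = r.natDegree + j by omega, coeff_mul_X_pow]
  simpa using hr0

variable {V : Type*} [AddCommGroup V] [Module F V] [FiniteDimensional F V]

omit [FiniteDimensional F V] in
theorem of_apply (φ : Module.End F V) (v : V) :
    Module.AEval'.of φ (φ v) = (X : F[X]) • Module.AEval'.of φ v :=
  (Module.AEval'.X_smul_of φ v).symm

/-- Every endomorphism is self-adjoint for some nondegenerate bilinear form. -/
theorem exists_bilin (φ : Module.End F V) :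
    ∃ B : V →ₗ[F] V →ₗ[F] F, B.SeparatingLeft ∧ ∀ v w, B (φ v) w = B v (φ w) := by
  classical
  obtain ⟨ι, hι, p, hp, e, ⟨E⟩⟩ := Module.equiv_directSum_of_isTorsion
    (Module.AEval.isTorsion_of_finiteDimensional F V φ)
  choose ψ hψ using fun i => exists_functional (p i ^ e i) (pow_ne_zero _ (hp i).ne_zero)
  set T : V →ₗ[F] ⨁ i, F[X] ⧸ Ideal.span {p i ^ e i} :=
    (E.toLinearMap.restrictScalars F).comp (Module.AEval'.of φ).toLinearMap with hT
  have hX : ∀ v i, T (φ v) i = Ideal.Quotient.mk (Ideal.span {p i ^ e i}) X * T v i := by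
    intro v i
    show E (Module.AEval'.of φ (φ v)) i = _
    rw [of_apply, map_smul, DirectSum.smul_apply]
    obtain ⟨r, hr⟩ := Ideal.Quotient.mk_surjective (E (Module.AEval'.of φ v) i)
    show (X : F[X]) • E (Module.AEval'.of φ v) i = Ideal.Quotient.mk _ X * E (Module.AEval'.of φ v) i
    rw [← hr]
    rfl
  refine ⟨LinearMap.mk₂ F (fun v w => ∑ i, ψ i (T v i * T w i)) ?_ ?_ ?_ ?_, ?_, ?_⟩
  · intro a b c
    simp only [map_add, DirectSum.add_apply, add_mul, Finset.sum_add_distrib]
  · intro r a c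
    simp only [map_smul, DirectSum.smul_apply, Finset.smul_sum]
    exact Finset.sum_congr rfl fun i _ =>
      (congrArg (ψ i) (smul_mul_assoc r _ _)).trans ((ψ i).map_smul r _)
  · intro a b c
    simp only [map_add, DirectSum.add_apply, mul_add, Finset.sum_add_distrib]
  · intro r a c
    simp only [map_smul, DirectSum.smul_apply, Finset.smul_sum]
    exact Finset.sum_congr rfl fun i _ =>
      (congrArg (ψ i) (mul_smul_comm r _ _)).trans ((ψ i).map_smul r _)
  · intro v hv
    by_contra hne
    obtain ⟨i, hi⟩ : ∃ i, T v i ≠ 0 := by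
      by_contra h
      push_neg at h
      refine hne ((Module.AEval'.of φ).map_eq_zero_iff.1 (E.map_eq_zero_iff.1 ?_))
      exact DFinsupp.ext h
    obtain ⟨b, hb⟩ := hψ i _ hi
    have := hv ((Module.AEval'.of φ).symm (E.symm (DirectSum.of _ i b)))
    rw [LinearMap.mk₂_apply] at this
    have e1 : T ((Module.AEval'.of φ).symm (E.symm (DirectSum.of _ i b))) =
        DirectSum.of (fun j => F[X] ⧸ Ideal.span {p j ^ e j}) i b := by
      show E (Module.AEval'.of φ ((Module.AEval'.of φ).symm (E.symm (DirectSum.of _ i b)))) = _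
      rw [LinearEquiv.apply_symm_apply, LinearEquiv.apply_symm_apply]
    rw [e1, Finset.sum_eq_single i] at this
    · rw [DirectSum.of_eq_same] at this
      exact hb this
    · intro j _ hj
      rw [DirectSum.of_eq_of_ne _ _ _ hj, mul_zero, map_zero]
    · exact fun h => absurd (Finset.mem_univ i) h
  · intro v w
    rw [LinearMap.mk₂_apply, LinearMap.mk₂_apply]
    refine Finset.sum_congr rfl fun i _ => ?_
    rw [hX, hX, mul_left_comm, ← mul_assoc]

/-- Changing a map on a retract changes the determinant by the determinant on the retract. -/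
theorem det_of_retract {W : Type*} [AddCommGroup W] [Module F W] [FiniteDimensional F W]
    (π : V →ₗ[F] W) (s : W →ₗ[F] V) (hs : ∀ w, π (s w) = w) (g : Module.End F W) :
    LinearMap.det (LinearMap.id + s.comp ((g - LinearMap.id).comp π)) = LinearMap.det g := by
  set Φ : V ≃ₗ[F] W × LinearMap.ker π :=
    { toFun := fun v => (π v, ⟨v - s (π v), by simp [hs]⟩)
      map_add' := fun a b => by ext <;> simp [sub_add_sub_comm]
      map_smul' := fun r a => by ext <;> simp [smul_sub]
      invFun := fun x => s x.1 + x.2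
      left_inv := fun v => by simp
      right_inv := fun x => by
        have h : π (x.2 : V) = 0 := x.2.2
        ext <;> simp [hs, h] } with hΦ
  have key : LinearMap.id + s.comp ((g - LinearMap.id).comp π) = Φ.symm.toLinearMap ∘ₗ
      LinearMap.prodMap g (LinearMap.id : LinearMap.ker π →ₗ[F] _) ∘ₗ Φ.symm.symm.toLinearMap := by
    ext v
    show v + s (g (π v) - π v) = s (g (π v)) + (v - s (π v))
    rw [map_sub]
    abel
  rw [key, LinearMap.det_conj, LinearMap.det_prodMap, LinearMap.det_id, mul_one]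

/-- The commutant of a semisimple endomorphism of a finite space takes every nonzero determinant. -/
theorem exists_commute_det [Finite F] [Nontrivial V] (φ : Module.End F V) {q : F[X]}
    (hq : Squarefree q) (hφ : aeval φ q = 0) {ν : F} (hν : ν ≠ 0) :
    ∃ c : Module.End F V, c * φ = φ * c ∧ LinearMap.det c = ν := by
  classical
  obtain ⟨ι, hι, p, hp, e, ⟨E⟩⟩ := Module.equiv_directSum_of_isTorsion
    (Module.AEval.isTorsion_of_finiteDimensional F V φ)
  obtain ⟨v₀, hv₀⟩ := exists_ne (0 : V)
  obtain ⟨i, hi⟩ : ∃ i, E (Module.AEval'.of φ v₀) i ≠ 0 := by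
    by_contra h
    push_neg at h
    refine hv₀ ((Module.AEval'.of φ).map_eq_zero_iff.1 (E.map_eq_zero_iff.1 ?_))
    exact DFinsupp.ext h
  set π : Module.AEval F V φ →ₗ[F[X]] F[X] ⧸ Ideal.span {p i ^ e i} :=
    (DirectSum.component F[X] ι (fun j => F[X] ⧸ Ideal.span {p j ^ e j}) i).comp E.toLinearMap
    with hπdef
  set s : (F[X] ⧸ Ideal.span {p i ^ e i}) →ₗ[F[X]] Module.AEval F V φ :=
    E.symm.toLinearMap.comp (DirectSum.lof F[X] ι (fun j => F[X] ⧸ Ideal.span {p j ^ e j}) i)
    with hsdef
  have hs : ∀ w, π (s w) = w := by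
    intro w
    show DirectSum.component F[X] ι _ i (E (E.symm (DirectSum.lof F[X] ι _ i w))) = w
    rw [LinearEquiv.apply_symm_apply, DirectSum.component.lof_self]
  have hann : ∀ m : Module.AEval F V φ, q • m = 0 := by
    intro m
    obtain ⟨v, rfl⟩ := (Module.AEval'.of φ).surjective m
    rw [← Module.AEval.of_aeval_smul, hφ, zero_smul, map_zero]
  have hdvd : p i ^ e i ∣ q := by
    rw [← Ideal.mem_span_singleton, ← Ideal.Quotient.eq_zero_iff_mem]
    have h := congrArg π (hann (s 1))
    rw [map_smul, hs, map_zero] at h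
    calc Ideal.Quotient.mk (Ideal.span {p i ^ e i}) q = Ideal.Quotient.mk _ (q * 1) := by rw [mul_one]
      _ = 0 := h
  have he : e i = 1 := by
    rcases (hq.squarefree_of_dvd hdvd).eq_zero_or_one_of_pow_of_not_isUnit (hp i).not_isUnit with
      h | h
    · exfalso
      haveI : Subsingleton (F[X] ⧸ Ideal.span {p i ^ e i}) := by
        rw [h, pow_zero, Ideal.span_singleton_one]
        infer_instance
      exact hi (Subsingleton.elim _ _)
    · exact h
  haveI : (Ideal.span {p i ^ e i}).IsMaximal := by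
    rw [he, pow_one]
    exact PrincipalIdealRing.isMaximal_of_irreducible (hp i)
  letI := Ideal.Quotient.field (Ideal.span {p i ^ e i})
  set πF : V →ₗ[F] F[X] ⧸ Ideal.span {p i ^ e i} :=
    (π.restrictScalars F).comp (Module.AEval'.of φ).toLinearMap with hπF
  set sF : (F[X] ⧸ Ideal.span {p i ^ e i}) →ₗ[F] V :=
    (Module.AEval'.of φ).symm.toLinearMap.comp (s.restrictScalars F) with hsF
  have hsF' : ∀ w, πF (sF w) = w := by
    intro w
    show π (Module.AEval'.of φ ((Module.AEval'.of φ).symm (s w))) = w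
    rw [LinearEquiv.apply_symm_apply, hs]
  haveI : FiniteDimensional F (F[X] ⧸ Ideal.span {p i ^ e i}) :=
    Module.Finite.of_surjective πF fun w => ⟨sF w, hsF' w⟩
  haveI : Finite (F[X] ⧸ Ideal.span {p i ^ e i}) := Module.finite_of_finite F
  obtain ⟨u, hu⟩ := FiniteField.norm_surjective F (F[X] ⧸ Ideal.span {p i ^ e i}) ν
  refine ⟨LinearMap.id + sF.comp ((Algebra.lmul F _ u - LinearMap.id).comp πF), ?_, ?_⟩
  · ext v
    show φ v + sF (u * πF (φ v) - πF (φ v)) = φ (v + sF (u * πF v - πF v))
    have h1 : πF (φ v) = (X : F[X]) • πF v := by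
      show π (Module.AEval'.of φ (φ v)) = _
      rw [of_apply, map_smul]
      rfl
    have h2 : ∀ w, sF ((X : F[X]) • w) = φ (sF w) := by
      intro w
      apply (Module.AEval'.of φ).injective
      rw [of_apply]
      show Module.AEval'.of φ ((Module.AEval'.of φ).symm (s ((X : F[X]) • w))) =
        (X : F[X]) • Module.AEval'.of φ ((Module.AEval'.of φ).symm (s w))
      rw [LinearEquiv.apply_symm_apply, LinearEquiv.apply_symm_apply, map_smul]
    rw [h1, mul_smul_comm, ← smul_sub, h2, map_add]
  · rw [det_of_retract πF sF hsF', ← Algebra.norm_apply, hu]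

end Cfsg.Agent.MatModule
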