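import Cfsg.Agent.MatModule.Unipotent
import Cfsg.Agent.MatModule.PolyModule
import Cfsg.Prelude.Def_JordanBlocks

/-!
# Unipotent isometries of prescribed Jordan type
-/

set_option autoImplicit false

namespace Cfsg.Agent.UniForm

open Module Polynomial Cfsg.Agent.MatModule

universe u v w

variable {F : Type u} [Field F]

/-! ## Combining types -/

theorem hasType_equiv {V : Type v} [AddCommGroup V] [Module F V] {W : Type w} [AddCommGroup W] [Module F W]
    {φ : Module.End F V} {ψ : Module.End F W} (Θ : V ≃ₗ[F] W) (h : ∀ x, Θ (φ x) = ψ (Θ x))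
    {m : Multiset ℕ} (hφ : HasType φ m) : HasType ψ m := by
  obtain ⟨ι, hι, e, he, Φ, hΦ⟩ := hφ
  refine ⟨ι, hι, e, he, Θ.symm.trans Φ, fun x => ?_⟩
  obtain ⟨y, rfl⟩ := Θ.surjective x
  rw [← h, LinearEquiv.trans_apply, LinearEquiv.trans_apply, LinearEquiv.symm_apply_apply,
    LinearEquiv.symm_apply_apply, hΦ]

theorem hasType_prod {V : Type v} [AddCommGroup V] [Module F V] {W : Type w} [AddCommGroup W] [Module F W]
    {φ : Module.End F V} {ψ : Module.End F W} {m m' : Multiset ℕ} (hφ : HasType φ m) (hψ : HasType ψ m') :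
    HasType (φ.prodMap ψ) (m + m') := by
  obtain ⟨ι, hι, e, rfl, Φ, hΦ⟩ := hφ
  obtain ⟨κ, hκ, e', rfl, Ψ, hΨ⟩ := hψ
  refine ⟨ι ⊕ κ, inferInstance, Sum.elim e e', ?_,
    (Φ.prodCongr Ψ).trans
      (LinearEquiv.sumPiEquivProdPi F ι κ (fun s => AdjoinRoot ((lin : F[X]) ^ Sum.elim e e' s))).symm, ?_⟩
  · rw [← Finset.univ_disjSum_univ, Finset.val_disjSum, Multiset.disjSum, Multiset.map_add, Multiset.map_map,
      Multiset.map_map]
    rfl
  · rintro ⟨x, y⟩
    funext s
    rcases s with i | j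
    · exact congrFun (hΦ x) i
    · exact congrFun (hΨ y) j

/-! ## One block -/

/-- The algebra of a single block. -/
abbrev JR (F : Type u) [Field F] (e : ℕ) := AdjoinRoot ((lin : F[X]) ^ e)

variable (e : ℕ)

theorem jr_finite : Module.Finite F (JR F e) := ((monic_X_sub_C 1).pow _).finite_adjoinRoot

theorem jr_finrank : finrank F (JR F e) = e := by
  rw [(AdjoinRoot.powerBasis (pow_ne_zero _ (X_sub_C_ne_zero (1 : F)))).finrank, AdjoinRoot.powerBasis_dim,
    natDegree_pow, natDegree_X_sub_C, mul_one]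

theorem jr_pow : (AdjoinRoot.root ((lin : F[X]) ^ e) - 1) ^ e = 0 := by
  rw [← mk_lin, ← map_pow, AdjoinRoot.mk_self]

theorem jr_unit : IsUnit (AdjoinRoot.root ((lin : F[X]) ^ e)) := by
  have h := (show IsNilpotent (AdjoinRoot.root ((lin : F[X]) ^ e) - 1) from ⟨e, jr_pow e⟩).isUnit_one_add
  rwa [add_sub_cancel] at h

theorem exists_star : ∃ (σ : JR F e →ₐ[F] JR F e) (ri : JR F e), AdjoinRoot.root _ * ri = 1 ∧
    σ (AdjoinRoot.root _) = ri ∧ ∀ z, σ (σ z) = z := by
  obtain ⟨U, hU⟩ := jr_unit (F := F) e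
  set r := AdjoinRoot.root ((lin : F[X]) ^ e) with hr
  have h1 : r * (U⁻¹ : (JR F e)ˣ).1 = 1 := by rw [← hU, Units.mul_inv]
  have hroot : ((lin : F[X]) ^ e).eval₂ (algebraMap F (JR F e)) (U⁻¹ : (JR F e)ˣ).1 = 0 := by
    have h2 : (U⁻¹ : (JR F e)ˣ).1 - algebraMap F (JR F e) 1 = -((U⁻¹ : (JR F e)ˣ).1 * (r - 1)) := by
      rw [mul_sub, mul_one, mul_comm, h1, neg_sub, map_one]
    simp only [lin, eval₂_pow, eval₂_sub, eval₂_X, eval₂_C]
    rw [h2, neg_pow, mul_pow, jr_pow, mul_zero, mul_zero]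
  let σ : JR F e →ₐ[F] JR F e :=
    AdjoinRoot.liftAlgHom ((lin : F[X]) ^ e) (Algebra.ofId F (JR F e)) (U⁻¹ : (JR F e)ˣ).1 hroot
  have hσr : σ r = (U⁻¹ : (JR F e)ˣ).1 := AdjoinRoot.liftAlgHom_root _ _ _ _
  refine ⟨σ, (U⁻¹ : (JR F e)ˣ).1, h1, hσr, fun z => ?_⟩
  have hσσ : σ.comp σ = AlgHom.id F (JR F e) := AdjoinRoot.algHom_ext (by
    show σ (σ r) = r
    rw [hσr]
    have h3 := congrArg σ h1
    rw [map_mul, hσr, map_one] at h3
    calc σ ((U⁻¹ : (JR F e)ˣ).1) = r * (U⁻¹ : (JR F e)ˣ).1 * σ ((U⁻¹ : (JR F e)ˣ).1) := by rw [h1, one_mul]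
      _ = r := by rw [mul_assoc, h3, mul_one])
  exact DFunLike.congr_fun hσσ z

theorem exists_eq_socle_mul {z : JR F e} (hz : z ≠ 0) :
    ∃ b, z * b = (AdjoinRoot.root ((lin : F[X]) ^ e) - 1) ^ (e - 1) := by
  obtain ⟨f, rfl⟩ := AdjoinRoot.mk_surjective z
  rw [Ne, AdjoinRoot.mk_eq_zero] at hz
  have hf : f ≠ 0 := fun h => hz (h ▸ dvd_zero _)
  obtain ⟨g, hg, hg1⟩ := f.exists_eq_pow_rootMultiplicity_mul_and_not_dvd hf 1
  set k := f.rootMultiplicity 1
  have hk : k < e := by
    by_contra h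
    exact hz (hg ▸ dvd_mul_of_dvd_left (pow_dvd_pow _ (not_lt.1 h)) g)
  have hu : IsUnit (AdjoinRoot.mk ((lin : F[X]) ^ e) g) := by
    obtain ⟨a, b, hab⟩ := ((irreducible_X_sub_C (1 : F)).coprime_iff_not_dvd.2 hg1).pow_left (m := e)
    refine IsUnit.of_mul_eq_one (AdjoinRoot.mk _ b) ?_
    have h := congrArg (AdjoinRoot.mk ((lin : F[X]) ^ e)) hab
    rw [map_add, map_mul, map_mul, show AdjoinRoot.mk ((lin : F[X]) ^ e) ((X - C 1) ^ e) = 0 from
      AdjoinRoot.mk_self, mul_zero, zero_add, map_one] at h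
    rw [mul_comm]; exact h
  obtain ⟨U, hU⟩ := hu
  refine ⟨(U⁻¹ : (JR F e)ˣ).1 * (AdjoinRoot.root _ - 1) ^ (e - 1 - k), ?_⟩
  rw [hg, map_mul, map_pow, show AdjoinRoot.mk ((lin : F[X]) ^ e) (X - C 1) = _ from mk_lin _, ← hU, mul_assoc,
    Units.mul_inv_cancel_left, ← pow_add, show k + (e - 1 - k) = e - 1 by omega]

theorem socle_ne (he : 1 ≤ e) : (AdjoinRoot.root ((lin : F[X]) ^ e) - 1) ^ (e - 1) ≠ 0 := by
  rw [← mk_lin, ← map_pow, Ne, AdjoinRoot.mk_eq_zero,
    pow_dvd_pow_iff (X_sub_C_ne_zero 1) (irreducible_X_sub_C 1).not_isUnit]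
  omega

theorem hasType_root : HasType (LinearMap.mulLeft F (AdjoinRoot.root ((lin : F[X]) ^ e))) ({e} : Multiset ℕ) := by
  refine ⟨PUnit.{u + 1}, inferInstance, fun _ => e, by simp,
    (LinearEquiv.funUnique PUnit.{u + 1} F (JR F e)).symm, fun v => ?_⟩
  funext i
  rfl

/-! ## Realisations -/

/-- Alternating or symmetric. -/
def Kind (s : Bool) {V : Type v} [AddCommGroup V] [Module F V] (B : LinearMap.BilinForm F V) : Prop :=
  if s then B.IsAlt else ∀ x y, B x y = B y x

/-- A Jordan type occurring among the isometries of a non-degenerate form of the given kind. -/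
def Realizes (F : Type u) [Field F] (s : Bool) (m : Multiset ℕ) : Prop :=
  ∃ (B : LinearMap.BilinForm F (Fin m.sum → F)) (φ : Module.End F (Fin m.sum → F)),
    Kind s B ∧ (∀ x, (∀ y, B x y = 0) → x = 0) ∧ (∀ x y, B (φ x) (φ y) = B x y) ∧ HasType φ m

theorem realizes_of {V : Type v} [AddCommGroup V] [Module F V] [FiniteDimensional F V] {s : Bool}
    {m : Multiset ℕ} (B : LinearMap.BilinForm F V) (φ : Module.End F V) (hk : Kind s B)
    (hsep : ∀ x, (∀ y, B x y = 0) → x = 0) (hp : ∀ x y, B (φ x) (φ y) = B x y) (hT : HasType φ m) :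
    Realizes F s m := by
  let e : V ≃ₗ[F] (Fin m.sum → F) := LinearEquiv.ofFinrankEq _ _ (by
    rw [finrank_fin_fun, sum_eq_finrank hT])
  refine ⟨B.comp e.symm.toLinearMap e.symm.toLinearMap, e.toLinearMap ∘ₗ φ ∘ₗ e.symm.toLinearMap, ?_, ?_, ?_,
    hasType_equiv e (fun x => by simp) hT⟩
  · cases s
    · intro x y
      exact hk (e.symm x) (e.symm y)
    · intro x
      exact hk (e.symm x)
  · intro x hx
    refine e.symm.map_eq_zero_iff.1 (hsep _ fun y => ?_)
    have h := hx (e y)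
    simpa using h
  · intro x y
    simp [hp]

theorem realizes_add {s : Bool} {m m' : Multiset ℕ} (h : Realizes F s m) (h' : Realizes F s m') :
    Realizes F s (m + m') := by
  obtain ⟨B, φ, hk, hsep, hp, hT⟩ := h
  obtain ⟨B', φ', hk', hsep', hp', hT'⟩ := h'
  refine realizes_of (B.comp (LinearMap.fst F _ _) (LinearMap.fst F _ _) +
    B'.comp (LinearMap.snd F _ _) (LinearMap.snd F _ _)) (φ.prodMap φ') ?_ ?_ ?_ (hasType_prod hT hT')
  · cases s
    · intro x y
      show B x.1 y.1 + B' x.2 y.2 = B y.1 x.1 + B' y.2 x.2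
      rw [hk x.1 y.1, hk' x.2 y.2]
    · intro x
      show B x.1 x.1 + B' x.2 x.2 = 0
      rw [hk x.1, hk' x.2, add_zero]
  · intro x hx
    refine Prod.ext (hsep _ fun y => ?_) (hsep' _ fun y => ?_)
    · have h := hx (y, 0)
      simpa using h
    · have h := hx (0, y)
      simpa using h
  · intro x y
    show B (φ x.1) (φ y.1) + B' (φ' x.2) (φ' y.2) = B x.1 y.1 + B' x.2 y.2
    rw [hp, hp']

theorem realizes_zero (s : Bool) : Realizes F s 0 := by
  refine realizes_of (V := PEmpty.{u + 1} → F) 0 1 ?_ (fun x _ => Subsingleton.elim _ _) (fun x y => rfl) ?_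
  · cases s
    · exact fun x y => rfl
    · exact fun x => rfl
  · exact ⟨PEmpty.{u + 1}, inferInstance, fun i => i.elim, rfl,
      { toFun := fun _ i => i.elim
        map_add' := fun _ _ => funext fun i => i.elim
        map_smul' := fun _ _ => funext fun i => i.elim
        invFun := fun _ => 0
        left_inv := fun _ => Subsingleton.elim _ _
        right_inv := fun _ => funext fun i => i.elim }, fun v => funext fun i => i.elim⟩

/-- Two equal blocks are paired. -/
theorem realizes_pair (s : Bool) (e : ℕ) : Realizes F s {e, e} := by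
  haveI := jr_finite (F := F) e
  obtain ⟨σ, ri, h1, hσr, hσσ⟩ := exists_star (F := F) e
  obtain ⟨ψ, hψ⟩ := exists_functional ((lin : F[X]) ^ e) (pow_ne_zero _ (X_sub_C_ne_zero 1))
  let ψ' : JR F e →ₗ[F] F := ψ
  let c : F := if s then -1 else 1
  let L : LinearMap.BilinForm F (JR F e) := (LinearMap.mul F (JR F e)).compr₂ ψ'
  have hL : ∀ a b, L a b = ψ' (a * b) := fun a b => rfl
  have hψ' : ∀ a : JR F e, a ≠ 0 → ∃ b, ψ' (a * b) ≠ 0 := fun a ha => hψ a ha
  let r := AdjoinRoot.root ((lin : F[X]) ^ e)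
  refine realizes_of (L.comp (LinearMap.fst F _ _) (LinearMap.snd F _ _) +
    c • L.comp (LinearMap.snd F _ _) (LinearMap.fst F _ _))
    ((LinearMap.mulLeft F r).prodMap (LinearMap.mulLeft F ri)) ?_ ?_ ?_ ?_
  · cases s
    · intro x y
      simp [c, hL, mul_comm]
      ring
    · intro x
      simp [c, hL, mul_comm x.2]
  · intro x hx
    refine Prod.ext ?_ ?_ <;> by_contra h <;> obtain ⟨b, hb⟩ := hψ' _ h
    · have := hx (0, b)
      simp [hL] at this
      exact hb this
    · have := hx (b, 0)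
      have hc : c ≠ 0 := by cases s <;> simp [c]
      simp [hL, hc] at this
      exact hb this
  · intro x y
    simp only [LinearMap.add_apply, LinearMap.smul_apply, LinearMap.BilinForm.comp_apply, LinearMap.fst_apply,
      LinearMap.snd_apply, LinearMap.prodMap_apply, LinearMap.mulLeft_apply, hL]
    rw [show r * x.1 * (ri * y.2) = x.1 * y.2 by linear_combination (x.1 * y.2) * h1,
      show ri * x.2 * (r * y.1) = x.2 * y.1 by linear_combination (x.2 * y.1) * h1]
  · rw [show ({e, e} : Multiset ℕ) = {e} + {e} from rfl]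
    refine hasType_prod (hasType_root e) (hasType_equiv (LinearEquiv.ofLinearMap σ.toLinearMap σ.toLinearMap
      (LinearMap.ext hσσ) (LinearMap.ext hσσ)) (fun x => ?_) (hasType_root e))
    show σ (r * x) = ri * σ x
    rw [map_mul, hσr]

/-- A single block of even size carries an alternating form in every characteristic. -/
theorem realizes_single_alt {e : ℕ} (he : Even e) (he0 : 0 < e) : Realizes F true {e} := by
  haveI := jr_finite (F := F) e
  obtain ⟨h, rfl⟩ := he
  obtain ⟨σ, ri, h1, hσr, hσσ⟩ := exists_star (F := F) (h + h)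
  set r := AdjoinRoot.root ((lin : F[X]) ^ (h + h)) with hr
  set y := r + ri - 2 with hy
  set A := Algebra.adjoin F ({y} : Set (JR F (h + h))) with hA
  have hyA : y ∈ A := Algebra.subset_adjoin rfl
  have hσy : σ y = y := by
    have hri : σ ri = r := by rw [← hσr, hσσ]
    rw [hy, map_sub, map_add, hσr, hri, map_ofNat, add_comm ri r]
  have hσA : ∀ a ∈ A, σ a = a := by
    intro a ha
    induction ha using Algebra.adjoin_induction with
    | mem x hx => rw [Set.mem_singleton_iff.1 hx, hσy]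
    | algebraMap c => exact σ.commutes c
    | add a b _ _ ha hb => rw [map_add, ha, hb]
    | mul a b _ _ ha hb => rw [map_mul, ha, hb]
  have hri : ri = y + 2 - r := by rw [hy]; ring
  have hr2 : r * r = (y + 2) * r - 1 := by
    rw [hy]; linear_combination -h1
  have h2A : (2 : JR F (h + h)) ∈ A := by
    rw [show (2 : JR F (h + h)) = 1 + 1 by ring]
    exact A.add_mem A.one_mem A.one_mem
  have hdec : ∀ z, ∃ a ∈ A, ∃ b ∈ A, z = a + r * b := by
    intro z
    obtain ⟨f, rfl⟩ := AdjoinRoot.mk_surjective z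
    induction f using Polynomial.induction_on with
    | C c => exact ⟨_, A.algebraMap_mem c, 0, A.zero_mem, by simp [AdjoinRoot.algebraMap_eq]⟩
    | add f g hf hg =>
      obtain ⟨a, ha, b, hb, e1⟩ := hf
      obtain ⟨a', ha', b', hb', e2⟩ := hg
      exact ⟨a + a', A.add_mem ha ha', b + b', A.add_mem hb hb', by rw [map_add, e1, e2]; ring⟩
    | monomial k c ih =>
      obtain ⟨a, ha, b, hb, e1⟩ := ih
      refine ⟨-b, A.neg_mem hb, a + (y + 2) * b, A.add_mem ha (A.mul_mem (A.add_mem hyA h2A) hb), ?_⟩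
      rw [show C c * X ^ (k + 1) = X * (C c * X ^ k) by ring, map_mul, AdjoinRoot.mk_X, ← hr, e1]
      linear_combination b * hr2
  have hnorm : ∀ z, z * σ z ∈ A := by
    intro z
    obtain ⟨a, ha, b, hb, rfl⟩ := hdec z
    rw [map_add, map_mul, hσr, hσA a ha, hσA b hb,
      show (a + r * b) * (a + ri * b) = a * a + a * b * (y + 2) + b * b by
        rw [hy]; linear_combination (b * b) * h1]
    exact A.add_mem (A.add_mem (A.mul_mem ha ha) (A.mul_mem (A.mul_mem ha hb) (A.add_mem hyA h2A)))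
      (A.mul_mem hb hb)
  have hy2 : y = ri * (r - 1) ^ 2 := by rw [hy]; linear_combination (2 - r) * h1
  have hsoc : (r - 1) ^ (h + h - 1) ∉ A := by
    intro hmem
    rw [hA, Algebra.adjoin_singleton_eq_range_aeval] at hmem
    obtain ⟨P, hP⟩ := hmem
    have hP0 : P ≠ 0 := by
      rintro rfl
      exact socle_ne (F := F) (h + h) (by omega) (by rw [← hr, ← hP]; exact map_zero _)
    obtain ⟨Q, hQ, hQ0⟩ := P.exists_eq_pow_rootMultiplicity_mul_and_not_dvd hP0 0
    set k := P.rootMultiplicity 0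
    rw [map_zero, sub_zero] at hQ hQ0
    change aeval y P = _ at hP
    rw [hQ, map_mul, map_pow, aeval_X, hy2, mul_pow, ← pow_mul] at hP
    by_cases hk : h ≤ k
    · rw [show 2 * k = (h + h) + (2 * k - (h + h)) by omega, pow_add (r - 1), jr_pow, zero_mul, mul_zero,
        zero_mul] at hP
      exact socle_ne (F := F) (h + h) (by omega) hP.symm
    · have hu : IsUnit (aeval (ri * (r - 1) ^ 2) Q) := by
        obtain ⟨Q', hQ'⟩ := X_dvd_sub_C (p := Q)
        have e : Q = C (Q.coeff 0) + X * Q' := by rw [← hQ']; ring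
        have hq0 : Q.coeff 0 ≠ 0 := fun h0 => hQ0 (X_dvd_iff.2 h0)
        rw [e, map_add, map_mul, aeval_C, aeval_X]
        refine IsNilpotent.isUnit_add_left_of_commute ?_ ((isUnit_iff_ne_zero.2 hq0).map _) (Commute.all _ _)
        refine ⟨h + h, ?_⟩
        rw [mul_pow, mul_pow, ← pow_mul, show 2 * (h + h) = (h + h) + (h + h) by omega, pow_add (r - 1), jr_pow,
          zero_mul, mul_zero, zero_mul]
      have hriu : IsUnit ri := IsUnit.of_mul_eq_one r (by rw [mul_comm]; exact h1)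
      obtain ⟨U, hU⟩ := (hriu.pow k).mul hu
      have hP' : (r - 1) ^ (2 * k) * U.1 = (r - 1) ^ (h + h - 1) := by rw [hU, ← hP]; ring
      have h0 : (r - 1) ^ (2 * k + 1) * U.1 = 0 := by
        rw [pow_succ', mul_assoc, hP', ← pow_succ', show h + h - 1 + 1 = h + h by omega, jr_pow]
      have h0' : (r - 1) ^ (2 * k + 1) = 0 := (U.mul_left_eq_zero).1 h0
      refine socle_ne (F := F) (h + h) (by omega) ?_
      rw [← hr, show h + h - 1 = (2 * k + 1) + (h + h - 1 - (2 * k + 1)) by omega, pow_add (r - 1), h0', zero_mul]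
  obtain ⟨ψ, hψ, hψA⟩ := Submodule.exists_dual_map_eq_bot_of_notMem (p := Subalgebra.toSubmodule A)
    (x := (r - 1) ^ (h + h - 1)) hsoc inferInstance
  refine realizes_of (((LinearMap.mul F (JR F (h + h))).compl₂ σ.toLinearMap).compr₂ ψ)
    (LinearMap.mulLeft F r) ?_ ?_ ?_ (hasType_root _)
  · intro x
    show ψ (x * σ x) = 0
    exact (Submodule.eq_bot_iff _).1 hψA _ ⟨_, hnorm x, rfl⟩
  · intro x hx
    by_contra h0
    obtain ⟨b, hb⟩ := exists_eq_socle_mul (h + h) h0
    have h' := hx (σ b)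
    change ψ (x * σ (σ b)) = 0 at h'
    rw [hσσ, hb] at h'
    exact hψ h'
  · intro x z
    show ψ (r * x * σ (r * z)) = ψ (x * σ z)
    rw [map_mul σ, hσr]
    congr 1
    linear_combination (x * σ z) * h1

/-- A single block of odd size carries a symmetric form in odd characteristic. -/
theorem realizes_single_symm (h2 : (2 : F) ≠ 0) {e : ℕ} (he : Odd e) : Realizes F false {e} := by
  haveI := jr_finite (F := F) e
  obtain ⟨σ, ri, h1, hσr, hσσ⟩ := exists_star (F := F) e
  set r := AdjoinRoot.root ((lin : F[X]) ^ e) with hr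
  obtain ⟨h, rfl⟩ := he
  obtain ⟨ψ, hψ⟩ : ∃ ψ : Module.Dual F (JR F (2 * h + 1)), ψ ((r - 1) ^ (2 * h)) ≠ 0 := by
    by_contra hne
    push Not at hne
    exact socle_ne (F := F) (2 * h + 1) (by omega) ((Module.forall_dual_apply_eq_zero_iff F _).1 hne)
  have hsocle : σ ((r - 1) ^ (2 * h)) = (r - 1) ^ (2 * h) := by
    rw [map_pow, map_sub, hσr, map_one, show ri - 1 = -(ri * (r - 1)) by linear_combination h1, neg_pow,
      mul_pow, pow_mul (-1 : JR F (2 * h + 1)), neg_one_sq, one_pow, one_mul]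
    have hx : r * (r - 1) ^ (2 * h) = (r - 1) ^ (2 * h) := by
      have h0 := jr_pow (F := F) (2 * h + 1)
      rw [← hr, pow_succ' (r - 1)] at h0
      linear_combination h0
    have hx2 : ri * (r - 1) ^ (2 * h) = (r - 1) ^ (2 * h) := by
      conv_lhs => rw [← hx]
      rw [← mul_assoc, mul_comm ri, h1, one_mul]
    suffices hj : ∀ j, ri ^ j * (r - 1) ^ (2 * h) = (r - 1) ^ (2 * h) from hj _
    intro j
    induction j with
    | zero => rw [pow_zero, one_mul]
    | succ j ih => rw [pow_succ ri, mul_assoc, hx2, ih]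
  let χ : Module.Dual F (JR F (2 * h + 1)) := ψ + ψ ∘ₗ σ.toLinearMap
  have hχ : ∀ z, χ (σ z) = χ z := fun z => by simp [χ, hσσ, add_comm]
  refine realizes_of (((LinearMap.mul F (JR F (2 * h + 1))).compl₂ σ.toLinearMap).compr₂ χ)
    (LinearMap.mulLeft F r) ?_ ?_ ?_ (hasType_root _)
  · intro x z
    show χ (x * σ z) = χ (z * σ x)
    rw [← hχ (x * σ z), map_mul, hσσ, mul_comm (σ x) z]
  · intro x hx
    by_contra h0
    obtain ⟨b, hb⟩ := exists_eq_socle_mul (2 * h + 1) h0
    rw [Nat.add_sub_cancel, ← hr] at hb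
    have h' := hx (σ b)
    change χ (x * σ (σ b)) = 0 at h'
    rw [hσσ, hb] at h'
    simp [χ, hsocle, ← two_mul, h2, hψ] at h'
  · intro x z
    show χ (r * x * σ (r * z)) = χ (x * σ z)
    rw [map_mul σ, hσr]
    congr 1
    linear_combination (x * σ z) * h1

/-- The types of the isometries of alternating, or symmetric, non-degenerate forms. -/
theorem realizes_of_even (s : Bool) (h2 : s = false → (2 : F) ≠ 0) (m : Multiset ℕ) (h0 : (0 : ℕ) ∉ m)
    (hm : ∀ j, (Odd j ↔ s = true) → 0 < j → Even (m.count j)) : Realizes F s m := by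
  classical
  induction hn : Multiset.card m using Nat.strong_induction_on generalizing m with
  | _ n ih =>
    rcases Multiset.empty_or_exists_mem m with rfl | ⟨a, ha⟩
    · exact realizes_zero s
    obtain ⟨m', rfl⟩ := Multiset.exists_cons_of_mem ha
    have ha0 : 0 < a := Nat.pos_of_ne_zero fun h => h0 (h ▸ Multiset.mem_cons_self a m')
    by_cases hp : Odd a ↔ s = true
    · have hc := hm a hp ha0
      rw [Multiset.count_cons_self] at hc
      obtain ⟨m'', rfl⟩ := Multiset.exists_cons_of_mem (Multiset.count_pos.1 (by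
        obtain ⟨k, hk⟩ := hc; omega) : a ∈ m')
      rw [show a ::ₘ a ::ₘ m'' = {a, a} + m'' by simp]
      refine realizes_add (realizes_pair s a) (ih _ ?_ m'' (fun h => h0 (by simp [h])) (fun j hj hj0 => ?_) rfl)
      · rw [← hn]; simp
      · have h := hm j hj hj0
        rw [Multiset.count_cons, Multiset.count_cons] at h
        split_ifs at h with hja
        · obtain ⟨k, hk⟩ := h
          exact ⟨k - 1, by omega⟩
        · simpa using h
    · rw [show a ::ₘ m' = {a} + m' from (Multiset.singleton_add a m').symm]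
      refine realizes_add ?_ (ih _ ?_ m' (fun h => h0 (Multiset.mem_cons_of_mem h)) (fun j hj hj0 => ?_) rfl)
      · cases s
        · exact realizes_single_symm (h2 rfl) (by simpa using hp)
        · exact realizes_single_alt (by simpa using hp) ha0
      · rw [← hn]; simp
      · have hja : j ≠ a := fun h => hp (h ▸ hj)
        have h := hm j hj hj0
        rwa [Multiset.count_cons_of_ne hja] at h

/-! ## The matrix of a type -/

theorem hasType_jordan {t : ℕ} (d : Fin t → ℕ) :
    HasType (Matrix.toLin' (Cfsg.jordanTypeMatrix d F)) (Finset.univ.val.map d) := by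
  classical
  let T : ∀ k, (Fin (d k) → F) →ₗ[F] JR F (d k) := fun k =>
    ∑ j : Fin (d k), (LinearMap.proj j : (Fin (d k) → F) →ₗ[F] F).smulRight
      ((AdjoinRoot.root ((lin : F[X]) ^ d k) - 1) ^ (j : ℕ))
  have hT : ∀ k v, T k v = ∑ j : Fin (d k), v j • (AdjoinRoot.root ((lin : F[X]) ^ d k) - 1) ^ (j : ℕ) :=
    fun k v => by simp [T]
  have hbij : ∀ k, Function.Bijective (T k) := by
    intro k
    haveI := jr_finite (F := F) (d k)
    have hsurj : Function.Surjective (T k) := by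
      intro z
      obtain ⟨f, rfl⟩ := AdjoinRoot.mk_surjective z
      rw [← LinearMap.mem_range, ← sum_taylor_eq f 1, Polynomial.sum, map_sum (AdjoinRoot.mk ((lin : F[X]) ^ d k))]
      refine Submodule.sum_mem _ fun i _ => ?_
      rw [map_mul, map_pow, show AdjoinRoot.mk ((lin : F[X]) ^ d k) (X - C 1) = _ from mk_lin _,
        AdjoinRoot.mk_C, ← AdjoinRoot.algebraMap_eq, ← Algebra.smul_def]
      by_cases hi : i < d k
      · refine ⟨Pi.single ⟨i, hi⟩ ((taylor 1 f).coeff i), ?_⟩
        rw [hT, Finset.sum_eq_single ⟨i, hi⟩]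
        · rw [Pi.single_eq_same]
        · intro j _ hj; rw [Pi.single_eq_of_ne hj, zero_smul]
        · simp
      · rw [show i = d k + (i - d k) by omega, pow_add, jr_pow, zero_mul, smul_zero]
        exact Submodule.zero_mem _
    exact ⟨(LinearMap.injective_iff_surjective_of_finrank_eq_finrank
      (by rw [finrank_fin_fun, jr_finrank])).2 hsurj, hsurj⟩
  refine ⟨ULift.{u} (Fin t), inferInstance, fun k => d k.down, ?_, ?_⟩
  · rw [← Finset.map_univ_equiv Equiv.ulift.symm, Finset.map_val, Multiset.map_map]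
    rfl
  let cur : ((k : Fin t) × Fin (d k) → F) ≃ₗ[F] ∀ k : Fin t, Fin (d k) → F :=
    LinearEquiv.piCurry F (fun k (_ : Fin (d k)) => F)
  let E : (∀ k : Fin t, Fin (d k) → F) ≃ₗ[F] ∀ k : Fin t, JR F (d k) :=
    LinearEquiv.piCongrRight fun k => LinearEquiv.ofBijective (T k) (hbij k)
  refine ⟨(cur.trans E).trans (LinearEquiv.piCongrLeft F (fun k : Fin t => JR F (d k)) Equiv.ulift).symm,
    fun v => ?_⟩
  funext k'
  obtain ⟨k⟩ := k'
  show T k (fun j => (Matrix.toLin' (Cfsg.jordanTypeMatrix d F) v) ⟨k, j⟩) =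
    AdjoinRoot.root ((lin : F[X]) ^ d k) * T k (fun j => v ⟨k, j⟩)
  set x := AdjoinRoot.root ((lin : F[X]) ^ d k) - 1 with hx
  have hrow : ∀ j : Fin (d k), (Matrix.toLin' (Cfsg.jordanTypeMatrix d F) v) ⟨k, j⟩ =
      ∑ i : Fin (d k), Cfsg.jordanBlock (d k) F j i * v ⟨k, i⟩ := by
    intro j
    rw [Matrix.toLin'_apply, Matrix.mulVec, dotProduct, Cfsg.jordanTypeMatrix, Fintype.sum_sigma,
      Finset.sum_eq_single k]
    · simp
    · intro l _ hl
      exact Finset.sum_eq_zero fun i _ => by rw [Matrix.blockDiagonal'_apply_ne _ _ _ (Ne.symm hl), zero_mul]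
    · simp
  rw [hT, hT, Finset.mul_sum]
  simp only [hrow, Finset.sum_smul]
  rw [Finset.sum_comm]
  refine Finset.sum_congr rfl fun i _ => ?_
  have hblock : ∀ j : Fin (d k), Cfsg.jordanBlock (d k) F j i =
      (if (j : ℕ) = i then 1 else 0) + (if (j : ℕ) = i + 1 then 1 else 0) := by
    intro j
    simp only [Cfsg.jordanBlock, Matrix.of_apply]
    split_ifs <;> first | (exfalso; omega) | simp
  simp only [hblock, add_mul, add_smul, Finset.sum_add_distrib]
  rw [show AdjoinRoot.root ((lin : F[X]) ^ d k) * (v ⟨k, i⟩ • x ^ (i : ℕ)) =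
    v ⟨k, i⟩ • x ^ (i : ℕ) + v ⟨k, i⟩ • x ^ ((i : ℕ) + 1) by
    rw [mul_smul_comm, ← smul_add, hx]; congr 1; ring]
  congr 1
  · rw [Finset.sum_eq_single i]
    · simp [hx]
    · intro j _ hj
      rw [if_neg (fun h => hj (Fin.ext h)), zero_mul, zero_smul]
    · simp
  · by_cases hi : (i : ℕ) + 1 < d k
    · rw [Finset.sum_eq_single ⟨i + 1, hi⟩]
      · simp [hx]
      · intro j _ hj
        rw [if_neg (fun h => hj (Fin.ext h)), zero_mul, zero_smul]
      · simp
    · have hpe := jr_pow (F := F) (d k)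
      rw [← hx] at hpe
      rw [Finset.sum_eq_zero (fun (j : Fin (d k)) _ => by
          rw [if_neg (by have := j.2; omega), zero_mul, zero_smul]),
        show (i : ℕ) + 1 = d k by have := i.2; omega, hpe, smul_zero]

end Cfsg.Agent.UniForm
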