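import Cfsg.Agent.MatModule.Semisimple

/-!
# Jordan types of unipotent elements of the general linear group
-/

set_option autoImplicit false

namespace Cfsg.Agent.MatModule

open Polynomial

universe u v

variable {F : Type u} [Field F]

/-- The linear polynomial `X - 1`. -/
noncomputable abbrev lin : F[X] := X - C 1

/-- An endomorphism has type `m` if it is the multiplication by `X` on the sum of `F[X] / (X - 1) ^ e`, `e ∈ m`. -/
def HasType {V : Type v} [AddCommGroup V] [Module F V] (φ : Module.End F V) (m : Multiset ℕ) : Prop :=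
  ∃ (ι : Type u) (_ : Fintype ι) (e : ι → ℕ), Finset.univ.val.map e = m ∧
    ∃ Φ : V ≃ₗ[F] ∀ i, AdjoinRoot ((lin : F[X]) ^ e i),
      ∀ v, Φ (φ v) = rootMul (fun i => (lin : F[X]) ^ e i) (Φ v)

variable {V : Type v} [AddCommGroup V] [Module F V]

theorem mk_lin (f : F[X]) : AdjoinRoot.mk f (lin : F[X]) = AdjoinRoot.root f - 1 := by
  simp [lin]

theorem sub_one_pow_apply {ι : Type u} (e : ι → ℕ) {φ : Module.End F V}
    (Φ : V ≃ₗ[F] ∀ i, AdjoinRoot ((lin : F[X]) ^ e i))
    (hΦ : ∀ v, Φ (φ v) = rootMul (fun i => (lin : F[X]) ^ e i) (Φ v)) (j : ℕ) :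
    ∀ (v : V) (i : ι), Φ (((φ - 1) ^ j) v) i = AdjoinRoot.mk _ ((lin : F[X]) ^ j) * Φ v i := by
  induction j with
  | zero => intro v i; rw [pow_zero, pow_zero, map_one, one_mul]; rfl
  | succ j ih =>
    intro v i
    rw [pow_succ', Module.End.mul_apply, LinearMap.sub_apply, Module.End.one_apply, map_sub, hΦ,
      Pi.sub_apply, rootMul_apply, ih, pow_succ', map_mul _ (lin : F[X])]
    rw [mk_lin, sub_mul, sub_mul, one_mul, ← mul_assoc]

/-- The shifted embedding of `F[X] / l ^ (e - j)` into `F[X] / l ^ e`. -/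
noncomputable def shiftMap (e j : ℕ) :
    AdjoinRoot ((lin : F[X]) ^ (e - j)) →ₗ[F] AdjoinRoot ((lin : F[X]) ^ e) :=
  let f : (F[X] ⧸ Ideal.span {(lin : F[X]) ^ (e - j)}) →ₗ[F] F[X] ⧸ Ideal.span {(lin : F[X]) ^ e} :=
  LinearMap.restrictScalars F
    (Submodule.liftQ (Ideal.span {(lin : F[X]) ^ (e - j)})
      ((Submodule.mkQ (Ideal.span {(lin : F[X]) ^ e})).comp (LinearMap.mulLeft F[X] ((lin : F[X]) ^ j)))
      (fun h hh => by
        rw [LinearMap.mem_ker, LinearMap.comp_apply, Submodule.mkQ_apply,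
          Submodule.Quotient.mk_eq_zero, LinearMap.mulLeft_apply, Ideal.mem_span_singleton]
        obtain ⟨c, rfl⟩ := Ideal.mem_span_singleton.1 hh
        rw [← mul_assoc, ← pow_add]
        exact dvd_mul_of_dvd_left (pow_dvd_pow _ (by omega)) _))
  f

theorem shiftMap_mk (e j : ℕ) (h : F[X]) :
    shiftMap e j (AdjoinRoot.mk _ h) = AdjoinRoot.mk _ ((lin : F[X]) ^ j * h) := rfl

theorem shiftMap_injective (e j : ℕ) : Function.Injective (shiftMap (F := F) e j) := by
  rw [injective_iff_map_eq_zero]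
  intro x hx
  obtain ⟨h, rfl⟩ := AdjoinRoot.mk_surjective x
  rw [shiftMap_mk, AdjoinRoot.mk_eq_zero] at hx
  rw [AdjoinRoot.mk_eq_zero]
  rcases le_or_gt j e with hj | hj
  · rw [show (lin : F[X]) ^ e = lin ^ j * lin ^ (e - j) by rw [← pow_add, Nat.add_sub_cancel' hj]] at hx
    exact (mul_dvd_mul_iff_left (pow_ne_zero _ (X_sub_C_ne_zero 1))).1 hx
  · rw [Nat.sub_eq_zero_of_le hj.le, pow_zero]
    exact one_dvd _

theorem finrank_range_sub_one_pow {φ : Module.End F V} {m : Multiset ℕ} (h : HasType φ m) (j : ℕ) :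
    Module.finrank F (LinearMap.range ((φ - 1) ^ j)) = (m.map (fun e => e - j)).sum := by
  classical
  obtain ⟨ι, _, e, rfl, Φ, hΦ⟩ := h
  haveI : ∀ i, Module.Finite F (AdjoinRoot ((lin : F[X]) ^ (e i - j))) :=
    fun i => finite_adjoinRoot _ ((monic_X_sub_C 1).pow _)
  set σ : (∀ i, AdjoinRoot ((lin : F[X]) ^ (e i - j))) →ₗ[F] V :=
    Φ.symm.toLinearMap.comp (LinearMap.pi fun i => (shiftMap (e i) j).comp (LinearMap.proj i)) with hσ
  have hinj : Function.Injective σ := by
    intro a b hab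
    have := congrArg Φ hab
    rw [hσ, LinearMap.comp_apply, LinearMap.comp_apply, LinearEquiv.coe_coe,
      LinearEquiv.apply_symm_apply, LinearEquiv.apply_symm_apply] at this
    exact funext fun i => shiftMap_injective (e i) j (congrFun this i)
  have hrange : LinearMap.range σ = LinearMap.range ((φ - 1) ^ j) := by
    apply le_antisymm
    · rintro _ ⟨w, rfl⟩
      choose c hc using fun i => AdjoinRoot.mk_surjective (g := (lin : F[X]) ^ (e i - j)) (w i)
      refine ⟨Φ.symm fun i => AdjoinRoot.mk _ (c i), Φ.injective (funext fun i => ?_)⟩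
      rw [sub_one_pow_apply e Φ hΦ, LinearEquiv.apply_symm_apply, hσ, LinearMap.comp_apply,
        LinearEquiv.coe_coe, LinearEquiv.apply_symm_apply, LinearMap.pi_apply, LinearMap.comp_apply,
        LinearMap.proj_apply, ← hc i, shiftMap_mk, map_mul]
    · rintro _ ⟨v, rfl⟩
      choose c hc using fun i => AdjoinRoot.mk_surjective (g := (lin : F[X]) ^ e i) (Φ v i)
      refine ⟨fun i => AdjoinRoot.mk _ (c i), Φ.injective (funext fun i => ?_)⟩
      rw [sub_one_pow_apply e Φ hΦ, hσ, LinearMap.comp_apply, LinearEquiv.coe_coe,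
        LinearEquiv.apply_symm_apply, LinearMap.pi_apply, LinearMap.comp_apply, LinearMap.proj_apply,
        ← hc i, shiftMap_mk, map_mul]
  rw [← hrange, LinearMap.finrank_range_of_inj hinj, Module.finrank_pi_fintype, Multiset.map_map]
  refine Finset.sum_congr rfl fun i _ => ?_
  rw [(AdjoinRoot.powerBasis (pow_ne_zero _ (X_sub_C_ne_zero (1 : F)))).finrank,
    AdjoinRoot.powerBasis_dim, natDegree_pow, natDegree_X_sub_C, mul_one]
  rfl

theorem sum_eq_finrank {φ : Module.End F V} {m : Multiset ℕ} (h : HasType φ m) :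
    m.sum = Module.finrank F V := by
  have h0 := finrank_range_sub_one_pow h 0
  rw [pow_zero, Module.End.one_eq_id, LinearMap.range_id, finrank_top] at h0
  simpa using h0.symm

theorem count_succ_add (m : Multiset ℕ) (j : ℕ) :
    m.count (j + 1) + 2 * (m.map (fun e => e - (j + 1))).sum =
      (m.map (fun e => e - j)).sum + (m.map (fun e => e - (j + 2))).sum := by
  induction m using Multiset.induction with
  | empty => simp
  | cons a m ih =>
    simp only [Multiset.map_cons, Multiset.sum_cons, Multiset.count_cons]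
    split_ifs with h <;> omega

theorem hasType_unique {φ : Module.End F V} {m m' : Multiset ℕ} (h : HasType φ m) (h' : HasType φ m')
    (hm : (0 : ℕ) ∉ m) (hm' : (0 : ℕ) ∉ m') : m = m' := by
  refine Multiset.ext.2 fun a => ?_
  rcases a with _ | j
  · rw [Multiset.count_eq_zero.2 hm, Multiset.count_eq_zero.2 hm']
  · have e : ∀ i, (m.map (fun e => e - i)).sum = (m'.map (fun e => e - i)).sum := fun i => by
      rw [← finrank_range_sub_one_pow h i, finrank_range_sub_one_pow h' i]
    have h1 := count_succ_add m j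
    have h2 := count_succ_add m' j
    have := e j
    have := e (j + 1)
    have := e (j + 2)
    omega

theorem sub_one_pow_eq_zero_iff {φ : Module.End F V} {m : Multiset ℕ} (h : HasType φ m) (j : ℕ) :
    (φ - 1) ^ j = 0 ↔ ∀ e ∈ m, e ≤ j := by
  obtain ⟨ι, _, e, rfl, Φ, hΦ⟩ := h
  simp only [Multiset.mem_map, Finset.mem_val, Finset.mem_univ, true_and, forall_exists_index,
    forall_apply_eq_imp_iff]
  constructor
  · intro hz i
    have := sub_one_pow_apply e Φ hΦ j (Φ.symm 1) i
    rw [hz, LinearMap.zero_apply, map_zero, Pi.zero_apply, LinearEquiv.apply_symm_apply,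
      Pi.one_apply, mul_one, eq_comm, AdjoinRoot.mk_eq_zero] at this
    exact (pow_dvd_pow_iff (X_sub_C_ne_zero 1) (not_isUnit_X_sub_C 1)).1 this
  · intro hle
    refine LinearMap.ext fun v => Φ.injective (funext fun i => ?_)
    rw [sub_one_pow_apply e Φ hΦ, AdjoinRoot.mk_eq_zero.2 (pow_dvd_pow _ (hle i)), zero_mul,
      LinearMap.zero_apply, map_zero, Pi.zero_apply]

theorem exists_conj_of_hasType {φ ψ : Module.End F V} {m : Multiset ℕ} (h : HasType φ m)
    (h' : HasType ψ m) : ∃ Θ : V ≃ₗ[F] V, ∀ v, Θ (φ v) = ψ (Θ v) := by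
  obtain ⟨ι, _, e, he, Φ, hΦ⟩ := h
  obtain ⟨κ, _, e', he', Ψ, hΨ⟩ := h'
  obtain ⟨Δ, hΔ⟩ := exists_equiv_of_multiset_eq (fun i => (lin : F[X]) ^ e i)
    (fun i => (lin : F[X]) ^ e' i) (by
      have := congrArg (Multiset.map fun k => (lin : F[X]) ^ k) (he.trans he'.symm)
      rwa [Multiset.map_map, Multiset.map_map] at this)
  refine ⟨Φ.trans (Δ.symm.trans Ψ.symm), fun v => ?_⟩
  apply Ψ.injective
  simp only [LinearEquiv.trans_apply, LinearEquiv.apply_symm_apply, hΨ, hΦ]
  apply Δ.injective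
  rw [hΔ]
  simp only [LinearEquiv.apply_symm_apply]

theorem exists_hasType [FiniteDimensional F V] (φ : Module.End F V) {j : ℕ} (hφ : (φ - 1) ^ j = 0) :
    ∃ m : Multiset ℕ, (0 : ℕ) ∉ m ∧ HasType φ m := by
  classical
  obtain ⟨ι, hι, p, hp, e, ⟨E⟩⟩ := Module.equiv_directSum_of_isTorsion
    (Module.AEval.isTorsion_of_finiteDimensional F V φ)
  have hann : ∀ m : Module.AEval F V φ, (lin : F[X]) ^ j • m = 0 := by
    intro m
    obtain ⟨v, rfl⟩ := (Module.AEval'.of φ).surjective m
    rw [← Module.AEval.of_aeval_smul, map_pow, map_sub, aeval_X, aeval_C, map_one, hφ, zero_smul,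
      map_zero]
  have hdvd : ∀ i, p i ^ e i ∣ (lin : F[X]) ^ j := by
    intro i
    rw [← Ideal.mem_span_singleton, ← Ideal.Quotient.eq_zero_iff_mem]
    have h := congrArg (fun m => E m i)
      (hann (E.symm (DirectSum.of (fun k => F[X] ⧸ Ideal.span {p k ^ e k}) i 1)))
    simp only [map_smul, LinearEquiv.apply_symm_apply, DirectSum.smul_apply, map_zero,
      DirectSum.zero_apply] at h
    calc Ideal.Quotient.mk (Ideal.span {p i ^ e i}) ((lin : F[X]) ^ j)
        = Ideal.Quotient.mk _ ((lin : F[X]) ^ j * 1) := by rw [mul_one]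
      _ = (lin : F[X]) ^ j • (DirectSum.of (fun k => F[X] ⧸ Ideal.span {p k ^ e k}) i 1) i := by
        rw [DirectSum.of_eq_same]; rfl
      _ = 0 := h
  have hspan : ∀ i : {i // e i ≠ 0},
      Ideal.span {p i ^ e i} = Ideal.span {(lin : F[X]) ^ e i} := by
    intro i
    rw [Ideal.span_singleton_eq_span_singleton]
    refine Associated.pow_pow ?_
    exact (hp i).associated_of_dvd (irreducible_X_sub_C 1)
      ((hp i).prime.dvd_of_dvd_pow ((dvd_pow_self _ i.2).trans (hdvd i)))
  set T : V →ₗ[F] ∀ i : {i // e i ≠ 0}, AdjoinRoot ((lin : F[X]) ^ e i) :=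
    LinearMap.pi fun i => (((Submodule.quotEquivOfEq _ _ (hspan i)).toLinearMap.comp
      ((DirectSum.component F[X] ι (fun k => F[X] ⧸ Ideal.span {p k ^ e k}) i).comp
        E.toLinearMap)).restrictScalars F).comp (Module.AEval'.of φ).toLinearMap with hT
  have hTi : ∀ v (i : {i // e i ≠ 0}), T v i =
      Submodule.quotEquivOfEq _ _ (hspan i) (E (Module.AEval'.of φ v) i) := fun v i => rfl
  have hbij : Function.Bijective T := by
    constructor
    · rw [injective_iff_map_eq_zero]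
      intro v hv
      refine (Module.AEval'.of φ).map_eq_zero_iff.1 (E.map_eq_zero_iff.1 (DFinsupp.ext fun i => ?_))
      by_cases h : e i = 0
      · haveI : Subsingleton (F[X] ⧸ Ideal.span {p i ^ e i}) := by
          rw [h, pow_zero, Ideal.span_singleton_one]; infer_instance
        exact Subsingleton.elim _ _
      · have := congrFun hv ⟨i, h⟩
        rw [hTi] at this
        exact (Submodule.quotEquivOfEq _ _ (hspan ⟨i, h⟩)).map_eq_zero_iff.1 this
    · intro w
      refine ⟨(Module.AEval'.of φ).symm (E.symm (∑ i : {i // e i ≠ 0},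
        DirectSum.of (fun k => F[X] ⧸ Ideal.span {p k ^ e k}) i
          ((Submodule.quotEquivOfEq _ _ (hspan i)).symm (w i)))), funext fun i => ?_⟩
      rw [hTi, LinearEquiv.apply_symm_apply, LinearEquiv.apply_symm_apply, DFinsupp.finsetSum_apply,
        Finset.sum_eq_single i]
      · rw [DirectSum.of_eq_same]
        exact LinearEquiv.apply_symm_apply _ _
      · intro k _ hk
        exact DirectSum.of_eq_of_ne _ _ _ fun h => hk (Subtype.ext h).symm
      · exact fun h => absurd (Finset.mem_univ i) h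
  refine ⟨Finset.univ.val.map (fun i : {i // e i ≠ 0} => e i), ?_,
    {i // e i ≠ 0}, inferInstance, fun i => e i, rfl, LinearEquiv.ofBijective T hbij, fun v => ?_⟩
  · intro h
    obtain ⟨i, -, hi⟩ := Multiset.mem_map.1 h
    exact i.2 hi
  funext i
  show T (φ v) i = AdjoinRoot.root ((lin : F[X]) ^ e i) * T v i
  rw [hTi, hTi, of_apply, map_smul, DirectSum.smul_apply, map_smul]
  obtain ⟨r, hr⟩ := Ideal.Quotient.mk_surjective
    (Submodule.quotEquivOfEq _ _ (hspan i) (E (Module.AEval'.of φ v) i))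
  rw [← hr]
  rfl

/-- Every multiset of positive integers occurs. -/
theorem exists_end_hasType {n : ℕ} (m : Multiset ℕ) (hm : m.sum = n) :
    ∃ φ : Module.End F (Fin n → F), HasType φ m := by
  classical
  set ι := ULift.{u} m.ToType
  set e : ι → ℕ := fun i => (i.down : ℕ) with he
  have hmap : Finset.univ.val.map e = m := by
    rw [← Finset.map_univ_equiv Equiv.ulift.symm, Finset.map_val, Multiset.map_map]
    exact Multiset.map_univ_coe m
  haveI : ∀ i, Module.Finite F (AdjoinRoot ((lin : F[X]) ^ e i)) :=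
    fun i => finite_adjoinRoot _ ((monic_X_sub_C 1).pow _)
  have hd : Module.finrank F (Fin n → F) = Module.finrank F (∀ i, AdjoinRoot ((lin : F[X]) ^ e i)) := by
    rw [Module.finrank_fintype_fun_eq_card, Fintype.card_fin, Module.finrank_pi_fintype]
    have h1 : ∀ i, Module.finrank F (AdjoinRoot ((lin : F[X]) ^ e i)) = e i := fun i => by
      rw [(AdjoinRoot.powerBasis (pow_ne_zero _ (X_sub_C_ne_zero (1 : F)))).finrank,
        AdjoinRoot.powerBasis_dim, natDegree_pow, natDegree_X_sub_C, mul_one]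
    rw [Finset.sum_congr rfl fun i _ => h1 i, ← hm]
    exact (congrArg Multiset.sum hmap).symm
  set Φ : (Fin n → F) ≃ₗ[F] ∀ i, AdjoinRoot ((lin : F[X]) ^ e i) := LinearEquiv.ofFinrankEq _ _ hd
  exact ⟨Φ.symm.conj (rootMul fun i => (lin : F[X]) ^ e i), ι, inferInstance, e, hmap, Φ,
    fun v => Φ.apply_symm_apply _⟩

variable {p : ℕ} [Fact p.Prime] [CharP F p] {n : ℕ}

theorem toLin'_pow_eq_one_iff (g : GL (Fin n) F) (k : ℕ) :
    g ^ p ^ k = 1 ↔
      (Matrix.toLin' (g : Matrix (Fin n) (Fin n) F) - 1) ^ p ^ k = 0 := by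
  rcases Nat.eq_zero_or_pos n with rfl | hn
  · exact iff_of_true (Subsingleton.elim _ _) (Subsingleton.elim _ _)
  haveI : Nonempty (Fin n) := ⟨⟨0, hn⟩⟩
  haveI : CharP (Module.End F (Fin n → F)) p :=
    charP_of_injective_algebraMap (FaithfulSMul.algebraMap_injective F _) p
  rw [sub_pow_char_pow_of_commute _ _ (Commute.one_right _), one_pow, sub_eq_zero,
    ← Matrix.toLin'_pow, ← Units.val_pow_eq_pow_val, Units.ext_iff, Units.val_one,
    Module.End.one_eq_id, ← Matrix.toLin'_one]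
  exact Matrix.toLin'.injective.eq_iff.symm

theorem exists_gl_hasType (m : Multiset ℕ) (hm : m.sum = n) :
    ∃ g : GL (Fin n) F, HasType (Matrix.toLin' (g : Matrix (Fin n) (Fin n) F)) m := by
  obtain ⟨φ, hφ⟩ := exists_end_hasType (F := F) m hm
  have hz : (φ - 1) ^ m.sum = 0 :=
    (sub_one_pow_eq_zero_iff hφ _).2 fun e he => Multiset.le_sum_of_mem he
  have hu : IsUnit φ := by
    have : IsNilpotent (φ - 1) := ⟨_, hz⟩
    simpa using this.isUnit_one_add
  set u := Units.map (LinearMap.toMatrixAlgEquiv' (R := F) (n := Fin n)).toMulEquiv.toMonoidHom hu.unit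
  refine ⟨u, ?_⟩
  show HasType (Matrix.toLin' (LinearMap.toMatrix' φ)) m
  rwa [Matrix.toLin'_toMatrix']

theorem exists_conj_gl_of_hasType (x y : GL (Fin n) F) {m : Multiset ℕ}
    (hx : HasType (Matrix.toLin' (x : Matrix (Fin n) (Fin n) F)) m)
    (hy : HasType (Matrix.toLin' (y : Matrix (Fin n) (Fin n) F)) m) :
    ∃ g : GL (Fin n) F, g * x * g⁻¹ = y := by
  obtain ⟨Θ, hΘ⟩ := exists_conj_of_hasType hx hy
  set A := LinearMap.toMatrix' (Θ : (Fin n → F) →ₗ[F] Fin n → F) with hA
  set B := LinearMap.toMatrix' (Θ.symm : (Fin n → F) →ₗ[F] Fin n → F) with hB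
  have h1 : A * B = 1 := by
    rw [hA, hB, ← LinearMap.toMatrix'_comp]
    simp
  have h2 : B * A = 1 := by
    rw [hA, hB, ← LinearMap.toMatrix'_comp]
    simp
  refine ⟨⟨A, B, h1, h2⟩, ?_⟩
  rw [mul_inv_eq_iff_eq_mul]
  apply Units.ext
  show A * (x : Matrix (Fin n) (Fin n) F) = (y : Matrix (Fin n) (Fin n) F) * A
  have e : (Θ : (Fin n → F) →ₗ[F] Fin n → F) ∘ₗ Matrix.toLin' (x : Matrix (Fin n) (Fin n) F) =
      Matrix.toLin' (y : Matrix (Fin n) (Fin n) F) ∘ₗ (Θ : (Fin n → F) →ₗ[F] Fin n → F) :=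
    LinearMap.ext hΘ
  have := congrArg LinearMap.toMatrix' e
  rwa [LinearMap.toMatrix'_comp, LinearMap.toMatrix'_comp, LinearMap.toMatrix'_toLin',
    LinearMap.toMatrix'_toLin'] at this

theorem hasType_of_conj {x y g : GL (Fin n) F} (h : g * x * g⁻¹ = y) {m : Multiset ℕ}
    (hx : HasType (Matrix.toLin' (x : Matrix (Fin n) (Fin n) F)) m) :
    HasType (Matrix.toLin' (y : Matrix (Fin n) (Fin n) F)) m := by
  obtain ⟨ι, hι, e, he, Φ, hΦ⟩ := hx
  have h1 : ∀ (a b : GL (Fin n) F) v, Matrix.toLin' ((a * b : GL (Fin n) F) : Matrix (Fin n) (Fin n) F) v =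
      Matrix.toLin' (a : Matrix (Fin n) (Fin n) F) (Matrix.toLin' (b : Matrix (Fin n) (Fin n) F) v) := by
    intro a b v
    rw [Units.val_mul, Matrix.toLin'_mul]
    rfl
  set G : (Fin n → F) ≃ₗ[F] (Fin n → F) := LinearEquiv.ofLinearMap
    (Matrix.toLin' ((g⁻¹ : GL (Fin n) F) : Matrix (Fin n) (Fin n) F))
    (Matrix.toLin' (g : Matrix (Fin n) (Fin n) F))
    (LinearMap.ext fun v => by rw [LinearMap.comp_apply, ← h1, inv_mul_cancel]; simp)
    (LinearMap.ext fun v => by rw [LinearMap.comp_apply, ← h1, mul_inv_cancel]; simp) with hG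
  refine ⟨ι, hι, e, he, G.trans Φ, fun v => ?_⟩
  show Φ (G (Matrix.toLin' (y : Matrix (Fin n) (Fin n) F) v)) = _
  have hy : G (Matrix.toLin' (y : Matrix (Fin n) (Fin n) F) v) =
      Matrix.toLin' (x : Matrix (Fin n) (Fin n) F) (G v) := by
    show Matrix.toLin' ((g⁻¹ : GL (Fin n) F) : Matrix (Fin n) (Fin n) F) _ = _
    rw [← h1, ← h, ← mul_assoc, ← mul_assoc, inv_mul_cancel, one_mul, h1]
    rfl
  rw [hy, hΦ]
  rfl

end Cfsg.Agent.MatModule
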