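import Cfsg.Agent.MatModule.UnitaryDet

/-!
A matrix preserving some non-degenerate sesquilinear form is conjugate into the unitary group.
-/

set_option autoImplicit false

namespace Cfsg.Agent.UnitaryConj

open Matrix Cfsg.Agent.Classical Cfsg.Agent.Classical.Herm

variable {F : Type*} [Field F] {n : ℕ} {σ : F →+* F}

/-- In a finite monoid some positive power of each element is idempotent. -/
theorem exists_pow_idempotent {M : Type*} [Monoid M] [Finite M] (u : M) :
    ∃ N : ℕ, 0 < N ∧ u ^ N * u ^ N = u ^ N := by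
  obtain ⟨a, b, hne, heq⟩ := Finite.exists_ne_map_eq_of_infinite fun i : ℕ => u ^ i
  wlog hab : a < b generalizing a b
  · exact this b a hne.symm heq.symm (by omega)
  have key : ∀ k m, a ≤ m → u ^ (m + k * (b - a)) = u ^ m := by
    intro k
    induction k with
    | zero => intro m _; simp
    | succ k ih =>
        intro m hm
        rw [show m + (k + 1) * (b - a) = (m - a) + b + k * (b - a) by rw [add_mul, one_mul]; omega,
          ih _ (by omega), pow_add, ← show u ^ a = u ^ b from heq, ← pow_add, Nat.sub_add_cancel hm]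
  refine ⟨(a + 1) * (b - a), Nat.mul_pos (by omega) (by omega), ?_⟩
  rw [← pow_add, key (a + 1) _ (by
    calc a ≤ (a + 1) * 1 := by omega
      _ ≤ (a + 1) * (b - a) := Nat.mul_le_mul_left _ (by omega))]

/-- A self-adjoint invertible matrix is `adj P * P`. -/
theorem exists_adj_mul_self [Finite F] (hσ : IsInvol σ) {H : Matrix (Fin n) (Fin n) F}
    (hH : adj σ H = H) (hu : IsUnit H) : ∃ P : GL (Fin n) F, adj σ P.1 * P.1 = H := by
  classical
  let B : (Fin n → F) →ₛₗ[σ] (Fin n → F) →ₗ[F] F := (hermB n σ).compl₂ H.mulVecLin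
  have hBapp : ∀ u v, B u v = hermB n σ u (H *ᵥ v) := fun u v => rfl
  have hB : IsHerm B := by
    refine ⟨hσ, fun x y => ?_, fun x hx => ?_⟩
    · rw [hBapp, hBapp, hermB_symm hσ.2, hermB_mulVec_left hσ.2, hH]
    · refine hermB_separating (σ := σ) fun y => ?_
      obtain ⟨y, rfl⟩ := Matrix.mulVec_surjective_iff_isUnit.2 hu y
      rw [← hermB_symm hσ.2, ← hBapp, hx, map_zero]
  obtain ⟨b, hb⟩ := exists_orthonormal hB
  have hn : Module.finrank F (Fin n → F) = n := Module.finrank_fin_fun F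
  let Q : Matrix (Fin n) (Fin n) F := (Matrix.of fun j => b (Fin.cast hn.symm j))ᵀ
  have hQ : adj σ Q * H * Q = 1 := by
    ext i j
    have h := hb (Fin.cast hn.symm i) (Fin.cast hn.symm j)
    rw [hBapp, hermB_apply] at h
    rw [Matrix.mul_assoc, Matrix.mul_apply]
    simp only [adj, Matrix.transpose_apply, Matrix.map_apply]
    refine (Eq.trans ?_ h).trans ?_
    · exact Finset.sum_congr rfl fun k _ => by
        congr 1
    · rw [Matrix.one_apply]
      simp [Fin.ext_iff]
  have hQu : IsUnit Q := IsUnit.of_mul_eq_one_right _ hQ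
  obtain ⟨Q, hQQ⟩ := hQu
  refine ⟨Q⁻¹, ?_⟩
  have e1 : adj σ (Q⁻¹ : GL (Fin n) F).1 * adj σ Q.1 = 1 := by
    rw [← adj_mul, Units.mul_inv, adj_one]
  rw [← hQQ] at hQ
  calc adj σ (Q⁻¹ : GL (Fin n) F).1 * (Q⁻¹ : GL (Fin n) F).1
      = adj σ (Q⁻¹ : GL (Fin n) F).1 * (adj σ Q.1 * H * Q.1) * (Q⁻¹ : GL (Fin n) F).1 := by
        rw [hQ, mul_one]
    _ = adj σ (Q⁻¹ : GL (Fin n) F).1 * adj σ Q.1 * H * (Q.1 * (Q⁻¹ : GL (Fin n) F).1) := by
        simp [mul_assoc]
    _ = H := by rw [e1, Units.mul_inv, one_mul, mul_one]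

/-- A matrix with a non-degenerate invariant sesquilinear form is conjugate to a unitary matrix. -/
theorem exists_conj_mem_GU [Fintype F] {q : ℕ} (hσ : IsInvol σ) (hσq : ∀ x, σ x = x ^ q)
    (A X : GL (Fin n) F) (hX : adj σ A.1 * X.1 * A.1 = X.1) :
    ∃ P : GL (Fin n) F, P * A * P⁻¹ ∈ Cfsg.GU n F q := by
  classical
  let star' : GL (Fin n) F → GL (Fin n) F := fun g => ⟨adj σ g.1, adj σ (g⁻¹ : GL (Fin n) F).1,
    by rw [← adj_mul, Units.inv_mul, adj_one], by rw [← adj_mul, Units.mul_inv, adj_one]⟩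
  set h : GL (Fin n) F := X⁻¹ * star' X with hh
  have hX' : star' A * X * A = X := Units.ext hX
  have hXs : star' A * star' X * A = star' X := by
    refine Units.ext ?_
    have := congrArg (adj σ) hX
    rw [adj_mul, adj_mul, adj_adj hσ.2, ← mul_assoc] at this
    exact this
  have hhA : Commute h A := by
    have e1 : X * A = (star' A)⁻¹ * X := by rw [eq_inv_mul_iff_mul_eq, ← mul_assoc, hX']
    have e2 : star' X * A = (star' A)⁻¹ * star' X := by rw [eq_inv_mul_iff_mul_eq, ← mul_assoc, hXs]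
    change X⁻¹ * star' X * A = A * (X⁻¹ * star' X)
    rw [mul_assoc, e2, ← mul_assoc, ← mul_assoc]
    congr 1
    rw [eq_comm, mul_inv_eq_iff_eq_mul, mul_assoc, eq_inv_mul_iff_mul_eq, e1]
  set Hm := h.1 with hHm
  set H' := (h⁻¹ : GL (Fin n) F).1 with hH'
  have hhA' : Commute Hm A.1 := Commute.units_val hhA
  have eX : X.1 * Hm = adj σ X.1 := congrArg Units.val (show X * h = star' X by rw [hh]; group)
  have eH : adj σ Hm * X.1 = X.1 * H' := by
    have e : star' h * X * h = X := by
      have : star' h = X * (star' X)⁻¹ := by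
        refine Units.ext ?_
        change adj σ ((X⁻¹ : GL (Fin n) F).1 * adj σ X.1) = X.1 * adj σ (X⁻¹ : GL (Fin n) F).1
        rw [adj_mul, adj_adj hσ.2]
      rw [this, hh]; group
    exact congrArg Units.val (eq_mul_inv_of_mul_eq e)
  set u : Matrix (Fin n) (Fin n) F := Hm - 1 with hu
  obtain ⟨N, hN, hf⟩ := exists_pow_idempotent u
  set f := u ^ N with hfdef
  have hadj_pow : ∀ (M : Matrix (Fin n) (Fin n) F) (k : ℕ), adj σ (M ^ k) = adj σ M ^ k := by
    intro M k
    induction k with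
    | zero => simp [adj_one]
    | succ k ih => rw [pow_succ, adj_mul, ih, pow_succ']
  have hadj_sub : ∀ M M' : Matrix (Fin n) (Fin n) F, adj σ (M - M') = adj σ M - adj σ M' := by
    intro M M'; simp [adj, Matrix.map_sub]
  have h1 : Hm * H' = 1 := h.mul_inv
  have h2 : H' * Hm = 1 := h.inv_mul
  have hcH : Commute H' u := (show Commute H' Hm from h2.trans h1.symm).sub_right (Commute.one_right _)
  have hfX : adj σ f * X.1 = X.1 * f := by
    have e1 : adj σ u * X.1 = X.1 * (-H' * u) := by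
      rw [hu, hadj_sub, adj_one, sub_mul, eH, one_mul, mul_sub, neg_mul, neg_mul, h2, mul_one]
      rw [sub_neg_eq_add, mul_add, mul_neg, mul_one]
      abel
    have e2 : ∀ k : ℕ, adj σ u ^ k * X.1 = X.1 * (-H' * u) ^ k := by
      intro k
      induction k with
      | zero => simp
      | succ k ih => rw [pow_succ', mul_assoc, ih, ← mul_assoc, e1, mul_assoc, ← pow_succ']
    set g := (-H' * u) ^ N with hg
    have hgX : adj σ f * X.1 = X.1 * g := by rw [hfdef, hadj_pow, e2]
    have hgg : g * g = g := by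
      apply X.isUnit.mul_left_cancel
      rw [← mul_assoc, ← hgX, mul_assoc, ← hgX, ← mul_assoc, ← adj_mul, hf]
    have hgw : g = (-H') ^ N * f := hcH.neg_left.mul_pow N
    have hwf : Commute ((-H') ^ N) f := (hcH.neg_left.pow_pow N N)
    have hwu : IsUnit ((-H') ^ N) := ((h⁻¹ : GL (Fin n) F).isUnit.neg).pow N
    have hgf : g = f := by
      have e3 : g * f = g := by rw [hgw, mul_assoc, hf]
      have e4 : (-H') ^ N * (g * f) = (-H') ^ N * f := by
        rw [← hgw]
        calc (-H') ^ N * (g * f) = g * ((-H') ^ N * f) := by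
              rw [← mul_assoc, ← mul_assoc g]; congr 1
              rw [hgw, ← mul_assoc, mul_assoc _ f, ← hwf.eq, ← mul_assoc]
          _ = g * g := by rw [← hgw]
          _ = g := hgg
      exact e3.symm.trans (hwu.mul_left_cancel e4)
    rw [hgX, hgf]
  obtain ⟨z, hz⟩ := exists_trace hσ (a := 1) (map_one σ)
  obtain ⟨k, hk0, hk⟩ := exists_skew hσ
  set C : Matrix (Fin n) (Fin n) F := k • f + z • (1 - f) with hC
  have hadj_smul : ∀ (c : F) (M : Matrix (Fin n) (Fin n) F), adj σ (c • M) = σ c • adj σ M := by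
    intro c M; ext i j; simp [adj]
  have hCA : Commute C A.1 := by
    have : Commute f A.1 := (hhA'.sub_left (Commute.one_left _)).pow_left N
    exact ((this.smul_left k).add_left (((Commute.one_left _).sub_left this).smul_left z))
  set H := X.1 * C + adj σ (X.1 * C) with hH
  have hHadj : adj σ H = H := by rw [hH, adj_add, adj_adj hσ.2, add_comm]
  set M : Matrix (Fin n) (Fin n) F := k • f + z • (1 - f) + ((-k) • f + σ z • (1 - f)) * Hm with hM
  have hHM : H = X.1 * M := by
    rw [hH, hM, adj_mul, ← eX, ← mul_assoc, hC, adj_add, hadj_smul, hadj_smul, hk, hadj_sub, adj_one,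
      add_mul, smul_mul_assoc, smul_mul_assoc, hfX, sub_mul, one_mul, hfX]
    simp only [mul_add, add_mul, mul_sub, sub_mul, mul_one, one_mul, mul_smul_comm, smul_mul_assoc,
      smul_sub, neg_mul, mul_neg, mul_assoc]
  have hMu : IsUnit M := by
    rw [← Matrix.mulVec_injective_iff_isUnit]
    intro v w hvw
    rw [← sub_eq_zero] at hvw ⊢
    rw [← Matrix.mulVec_sub] at hvw
    set x := v - w
    have e : M = (-k) • (f * u) + (1 - f) + σ z • ((1 - f) * u) := by
      have e' : (1 : Matrix (Fin n) (Fin n) F) - f = z • (1 - f) + σ z • (1 - f) := by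
        rw [← add_smul, hz, one_smul]
      have e'' : ∀ (g : Matrix (Fin n) (Fin n) F) (a b : F),
          a • f + z • g + ((-a) • f + b • g) * Hm =
            (-a) • (f * u) + (z • g + b • g) + b • (g * u) := by
        intro g a b
        rw [hu]
        simp only [add_mul, mul_sub, sub_mul, mul_one, one_mul, smul_mul_assoc, smul_sub, neg_smul, neg_mul]
        abel
      rw [hM, e'', ← e']
    have hfu : f * u = u * f := ((Commute.refl u).pow_left N).eq
    have hfM : f * M = (-k) • (f * u) := by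
      have hf1 : f * (1 - f) = 0 := by rw [mul_sub, mul_one, hf, sub_self]
      rw [e, mul_add, mul_add, hf1, mul_smul_comm, mul_smul_comm, ← mul_assoc f f, hf,
        ← mul_assoc f (1 - f), hf1, zero_mul, smul_zero, add_zero, add_zero]
    have h3 : (f * u) *ᵥ x = 0 := by
      have := congrArg (f *ᵥ ·) hvw
      rw [Matrix.mulVec_mulVec, hfM, Matrix.mulVec_zero, Matrix.smul_mulVec] at this
      exact (smul_eq_zero.1 this).resolve_left (neg_ne_zero.2 hk0)
    have h4 : f *ᵥ x = 0 := by
      have : f = u ^ (N - 1) * (f * u) := by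
        rw [hfu, ← mul_assoc, ← pow_succ, Nat.sub_add_cancel hN, ← hfdef, hf]
      rw [this, ← Matrix.mulVec_mulVec, h3, Matrix.mulVec_zero]
    have h5 : u *ᵥ (σ z • x) = -x := by
      have h6 : ((1 - f) * u) *ᵥ x = u *ᵥ x := by
        rw [sub_mul, one_mul, Matrix.sub_mulVec, h3, sub_zero]
      rw [e, Matrix.add_mulVec, Matrix.add_mulVec, Matrix.smul_mulVec, Matrix.smul_mulVec, h3, h6,
        smul_zero, zero_add, Matrix.sub_mulVec, Matrix.one_mulVec, h4, sub_zero] at hvw
      rw [Matrix.mulVec_smul]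
      exact eq_neg_of_add_eq_zero_right hvw
    have h7 : ∀ j : ℕ, x = (-σ z) ^ j • (u ^ j *ᵥ x) := by
      intro j
      induction j with
      | zero => simp
      | succ j ih =>
          have h8 : x = (-σ z) • (u *ᵥ x) := by
            rw [neg_smul, ← Matrix.mulVec_smul, h5, neg_neg]
          calc x = (-σ z) ^ j • (u ^ j *ᵥ x) := ih
            _ = (-σ z) ^ (j + 1) • (u ^ (j + 1) *ᵥ x) := by
                conv_lhs => rw [h8]
                rw [Matrix.mulVec_smul, Matrix.mulVec_mulVec, ← pow_succ, smul_smul, ← pow_succ]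
    rw [h7 N, ← hfdef, h4, smul_zero]
  have hHu : IsUnit H := hHM ▸ X.isUnit.mul hMu
  obtain ⟨P, hP⟩ := exists_adj_mul_self hσ hHadj hHu
  have hinv : adj σ A.1 * H * A.1 = H := by
    have e1 : adj σ A.1 * (X.1 * C) * A.1 = X.1 * C := by
      rw [mul_assoc, mul_assoc, hCA.eq, ← mul_assoc X.1, ← mul_assoc, ← mul_assoc, hX]
    have e2 := congrArg (adj σ) e1
    rw [adj_mul, adj_mul (adj σ A.1), adj_adj hσ.2, ← mul_assoc] at e2
    rw [hH, mul_add, add_mul, e1, e2]
  refine ⟨P, (mem_GU_iff_adj hσq _).2 ?_⟩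
  rw [Units.val_mul, Units.val_mul, adj_mul, adj_mul]
  calc adj σ (P⁻¹ : GL (Fin n) F).1 * (adj σ A.1 * adj σ P.1) * (P.1 * A.1 * (P⁻¹ : GL (Fin n) F).1)
      = adj σ (P⁻¹ : GL (Fin n) F).1 * (adj σ A.1 * (adj σ P.1 * P.1) * A.1) *
          (P⁻¹ : GL (Fin n) F).1 := by simp [mul_assoc]
    _ = adj σ (P⁻¹ : GL (Fin n) F).1 * adj σ P.1 * (P.1 * (P⁻¹ : GL (Fin n) F).1) := by
        rw [hP, hinv, ← hP]; simp [mul_assoc]
    _ = 1 := by rw [← adj_mul, Units.mul_inv, adj_one, one_mul]

end Cfsg.Agent.UnitaryConj
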