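import Mathlib

/-!
Characteristic polynomials of inverses, and counting twisted palindromes.
-/

set_option autoImplicit false

namespace Cfsg.Agent.MatModule

open Polynomial

theorem coeff_charpoly_inv {F : Type*} [Field F] {ι : Type*} [Fintype ι] [DecidableEq ι]
    (M : Matrix ι ι F) (hd : M.det = 1) {i : ℕ} (hi : i ≤ Fintype.card ι) :
    M⁻¹.charpoly.coeff i = (-1) ^ Fintype.card ι * M.charpoly.coeff (Fintype.card ι - i) := by
  rw [Matrix.charpoly_inv M ((Matrix.isUnit_iff_isUnit_det _).2 (hd ▸ isUnit_one)), hd,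
    ← Matrix.reverse_charpoly, Ring.inverse_one, map_one, mul_one,
    show ((-1 : F[X]) ^ Fintype.card ι) = C ((-1 : F) ^ Fintype.card ι) by simp,
    coeff_C_mul, coeff_reverse, Matrix.charpoly_natDegree_eq_dim, revAt_le hi]

/-- The number of twisted palindromes. -/
theorem card_twisted {F : Type*} [Field F] [Finite F] (σ : F →+* F) (hσ : ∀ x, σ (σ x) = x)
    (z : F) (hz : σ z ≠ z) (ε : F) (hε : ε * σ ε = 1) {q : ℕ} (hq : Nat.card F = q ^ 2) (m : ℕ) :
    Nat.card {c : Fin m → F // ∀ i, c i.rev = ε * σ (c i)} = q ^ m := by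
  let T : (Fin m → F) → (Fin m → F) := fun c i => ε * σ (c i.rev)
  have hT : ∀ c, T (T c) = c := fun c => by
    funext i
    simp only [T, Fin.rev_rev, map_mul, hσ]
    rw [← mul_assoc, hε, one_mul]
  have hfix : ∀ c, (∀ i, c i.rev = ε * σ (c i)) ↔ T c = c := fun c => by
    refine ⟨fun h => funext fun i => ?_, fun h i => ?_⟩
    · change ε * σ (c i.rev) = c i
      rw [← h i.rev, Fin.rev_rev]
    · have := congrFun h i.rev
      simp only [T, Fin.rev_rev] at this
      exact this.symm
  have hTadd : ∀ a b, T (a + b) = T a + T b := fun a b => by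
    funext i; simp [T, mul_add]
  have hTsmul : ∀ (k : F) (a), T (k • a) = σ k • T a := fun k a => by
    funext i; simp [T]; ring
  set X := {c : Fin m → F // ∀ i, c i.rev = ε * σ (c i)}
  let g : (Fin m → F) → X × X := fun c =>
    (⟨c + T c, (hfix _).2 (by rw [hTadd, hT, add_comm])⟩,
      ⟨z • c + σ z • T c, (hfix _).2 (by rw [hTadd, hTsmul, hTsmul, hσ, hT, add_comm])⟩)
  have hg : Function.Bijective g := by
    constructor
    · intro c c' h
      have h1 : c + T c = c' + T c' := congrArg (fun p => p.1.1) h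
      have h2 : z • c + σ z • T c = z • c' + σ z • T c' := congrArg (fun p => p.2.1) h
      funext i
      have e1 := congrFun h1 i
      have e2 := congrFun h2 i
      simp only [Pi.add_apply, Pi.smul_apply, smul_eq_mul] at e1 e2
      refine mul_left_cancel₀ (sub_ne_zero.2 hz.symm) ?_
      linear_combination e2 - σ z * e1
    · rintro ⟨⟨a, ha⟩, ⟨b, hb⟩⟩
      set w := (z - σ z)⁻¹ with hw
      have hw1 : w * (z - σ z) = 1 := inv_mul_cancel₀ (sub_ne_zero.2 hz.symm)
      have hσw : σ w = -w := by
        rw [hw, map_inv₀, map_sub, hσ, ← neg_sub, inv_neg]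
      refine ⟨w • (b + (-σ z) • a), ?_⟩
      have hTc : T (w • (b + (-σ z) • a)) = (-w) • (b + (-z) • a) := by
        rw [hTsmul, hTadd, hTsmul, hσw, (hfix _).1 ha, (hfix _).1 hb, map_neg, hσ]
      refine Prod.ext (Subtype.ext (funext fun i => ?_)) (Subtype.ext (funext fun i => ?_))
      all_goals simp only [g, hTc, Pi.add_apply, Pi.smul_apply, smul_eq_mul]
      · linear_combination a i * hw1
      · linear_combination b i * hw1
  have h := Nat.card_congr (Equiv.ofBijective g hg)
  rw [Nat.card_prod, Nat.card_fun, hq, Nat.card_fin, ← pow_mul, mul_comm 2 m, pow_mul, ← sq] at h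
  exact (Nat.pow_left_injective two_ne_zero h).symm

end Cfsg.Agent.MatModule
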