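import Cfsg.Agent.MatModule.SeqCount
import Cfsg.Agent.MatModule.SelfDualPoly
import Cfsg.Agent.Classical.HermGroup

/-!
# Counting sequences of self-dual polynomials over a field with `q²` elements
-/

set_option autoImplicit false

namespace Cfsg.Agent.USeq

open Polynomial Cfsg.Agent.SeqCount Cfsg.Agent.Classical.Herm

/-- Number of self-dual monic polynomials of degree `j`. -/
def uc (q : ℕ) : ℕ → ℕ
  | 0 => 1
  | j + 1 => (q + 1) * q ^ j

/-- Weighted sequences of self-dual polynomials starting at weight `m`. -/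
def BB (q m n : ℕ) : ℕ :=
  if n = 0 then 1 else if h : m = 0 ∨ n < m then 0
  else ∑ j ∈ Finset.range (n / m + 1), uc q j * BB q (m + 1) (n - m * j)
termination_by n + 1 - m
decreasing_by
  have := Nat.sub_le n (m * j)
  omega

theorem BB_zero (q m : ℕ) : BB q m 0 = 1 := by rw [BB, if_pos rfl]

theorem BB_lt (q : ℕ) {m n : ℕ} (hn : n ≠ 0) (h : n < m) : BB q m n = 0 := by
  rw [BB, if_neg hn, dif_pos (Or.inr h)]

theorem BB_sum (q : ℕ) {m : ℕ} (hm : 1 ≤ m) (n : ℕ) :
    BB q m n = ∑ j ∈ Finset.range (n / m + 1), uc q j * BB q (m + 1) (n - m * j) := by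
  rcases Nat.eq_zero_or_pos n with rfl | hn
  · simp [BB_zero, uc]
  by_cases h : n < m
  · rw [BB_lt q hn.ne' h, Nat.div_eq_of_lt h]
    simp [uc, BB_lt q hn.ne' (show n < m + 1 by omega)]
  · rw [BB, if_neg hn.ne', dif_neg (by omega)]

variable {F : Type*} [Field F]

/-- The polynomial with roots `1 / σ α`. -/
noncomputable def dualP (σ : F →+* F) (f : F[X]) : F[X] := C ((σ (f.coeff 0))⁻¹) * (f.map σ).reverse

variable {σ : F →+* F}

theorem coeff_dualP (f : F[X]) {i : ℕ} (hi : i ≤ f.natDegree) :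
    (dualP σ f).coeff i = (σ (f.coeff 0))⁻¹ * σ (f.coeff (f.natDegree - i)) := by
  rw [dualP, coeff_C_mul, coeff_reverse, natDegree_map, revAt_le hi, coeff_map]

theorem natDegree_dualP {f : F[X]} (h0 : f.coeff 0 ≠ 0) : (dualP σ f).natDegree = f.natDegree := by
  have h1 : σ (f.coeff 0) ≠ 0 := (map_ne_zero σ).2 h0
  rw [dualP, natDegree_C_mul (inv_ne_zero h1), reverse_natDegree, natDegree_map,
    natTrailingDegree_eq_zero.2 (Or.inr (by rwa [coeff_map])), Nat.sub_zero]

theorem dualP_one : dualP σ (1 : F[X]) = 1 := by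
  rw [dualP, Polynomial.map_one, coeff_one_zero, map_one, inv_one, map_one, one_mul]
  simpa using reverse_C (1 : F)

/-- Self-dual monic polynomials with nonzero constant term, of degree `j`. -/
abbrev PolyU (σ : F →+* F) (j : ℕ) :=
  {f : F[X] // f.Monic ∧ f.natDegree = j ∧ f.coeff 0 ≠ 0 ∧ dualP σ f = f}

theorem coeff_rel {j : ℕ} (f : PolyU σ j) {i : ℕ} (hi : i ≤ j) :
    f.1.coeff i = (σ (f.1.coeff 0))⁻¹ * σ (f.1.coeff (j - i)) := by
  have h := coeff_dualP (σ := σ) f.1 (i := i) (by rw [f.2.2.1]; exact hi)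
  rw [f.2.2.2.2, f.2.2.1] at h
  exact h

theorem norm_coeff_zero {j : ℕ} (f : PolyU σ j) : f.1.coeff 0 * σ (f.1.coeff 0) = 1 := by
  have h := coeff_rel f (Nat.zero_le j)
  rw [Nat.sub_zero] at h
  have hlead : f.1.coeff j = 1 := by
    have := f.2.1.coeff_natDegree
    rwa [f.2.2.1] at this
  rw [hlead, map_one, mul_one] at h
  conv_lhs => arg 1; rw [h]
  exact inv_mul_cancel₀ ((map_ne_zero σ).2 f.2.2.2.1)

section Count

variable [Fintype F] {q : ℕ}

theorem card_fibre (hσ : IsInvol σ) (hF : Fintype.card F = q ^ 2) (m : ℕ) {a : F} (ha : a * σ a = 1) :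
    Finite {f : PolyU σ (m + 1) // f.1.coeff 0 = a} ∧
      Nat.card {f : PolyU σ (m + 1) // f.1.coeff 0 = a} = q ^ m := by
  classical
  obtain ⟨z, hz⟩ := exists_moved hσ
  have ha0 : a ≠ 0 := left_ne_zero_of_mul (ha.trans_ne one_ne_zero)
  have hainv : (σ a)⁻¹ = a := inv_eq_of_mul_eq_one_left ha
  rw [← MatModule.card_twisted σ hσ.2 z hz a ha ((Nat.card_eq_fintype_card).trans hF) m]
  have hrel : ∀ f : {f : PolyU σ (m + 1) // f.1.coeff 0 = a}, ∀ i : Fin m,
      f.1.1.coeff (i.rev.val + 1) = a * σ (f.1.1.coeff (i.val + 1)) := by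
    intro f i
    have hi := i.2
    rw [coeff_rel f.1 (i := i.rev.val + 1) (by rw [Fin.val_rev]; omega), f.2, hainv]
    congr 3
    rw [Fin.val_rev]; omega
  let Φ : {f : PolyU σ (m + 1) // f.1.coeff 0 = a} → {c : Fin m → F // ∀ i, c i.rev = a * σ (c i)} :=
    fun f => ⟨fun i => f.1.1.coeff (i.val + 1), hrel f⟩
  have hbij : Function.Bijective Φ := by
    constructor
    · intro f g h
      refine Subtype.ext (Subtype.ext (Polynomial.ext fun i => ?_))
      rcases Nat.eq_zero_or_pos i with rfl | hi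
      · rw [f.2, g.2]
      rcases lt_trichotomy i (m + 1) with hi' | rfl | hi'
      · have := congrFun (congrArg Subtype.val h) ⟨i - 1, by omega⟩
        simp only [Φ, Nat.sub_add_cancel hi] at this
        exact this
      · have e1 := f.1.2.1.coeff_natDegree
        have e2 := g.1.2.1.coeff_natDegree
        rw [f.1.2.2.1] at e1
        rw [g.1.2.2.1] at e2
        rw [e1, e2]
      · rw [coeff_eq_zero_of_natDegree_lt (by rw [f.1.2.2.1]; exact hi'),
          coeff_eq_zero_of_natDegree_lt (by rw [g.1.2.2.1]; exact hi')]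
    · rintro ⟨c, hc⟩
      let f : F[X] := X ^ (m + 1) + ∑ i : Fin (m + 1), C ((Fin.cons a c : Fin (m + 1) → F) i) * X ^ i.val
      have hlow : (∑ i : Fin (m + 1), C ((Fin.cons a c : Fin (m + 1) → F) i) * X ^ i.val).degree <
          ((m + 1 : ℕ) : WithBot ℕ) := degree_sum_fin_lt _
      have hmon : f.Monic := monic_X_pow_add (by simpa using hlow)
      have hdeg : f.natDegree = m + 1 := by
        rw [natDegree_eq_of_degree_eq_some]
        rw [degree_add_eq_left_of_degree_lt (by rwa [degree_X_pow]), degree_X_pow]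
      have hcoef : ∀ i : Fin (m + 1), f.coeff i.val = (Fin.cons a c : Fin (m + 1) → F) i := by
        intro i
        simp only [f, coeff_add, coeff_X_pow, finset_sum_coeff, coeff_C_mul]
        rw [if_neg (by omega), zero_add, Finset.sum_eq_single i]
        · rw [if_pos rfl, mul_one]
        · intro j _ hj
          rw [if_neg (fun e => hj (Fin.ext e.symm)), mul_zero]
        · exact fun h => absurd (Finset.mem_univ i) h
      have h0 : f.coeff 0 = a := by simpa using hcoef 0
      have hc' : ∀ i : Fin m, f.coeff (i.val + 1) = c i := fun i => by simpa using hcoef i.succ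
      have hdual : dualP σ f = f := by
        refine Polynomial.ext fun i => ?_
        rcases Nat.lt_or_ge (m + 1) i with hi | hi
        · rw [coeff_eq_zero_of_natDegree_lt (by rw [natDegree_dualP (h0.trans_ne ha0), hdeg]; exact hi),
            coeff_eq_zero_of_natDegree_lt (by rw [hdeg]; exact hi)]
        · rw [coeff_dualP f (by rw [hdeg]; exact hi), h0, hainv, hdeg]
          rcases Nat.eq_zero_or_pos i with rfl | hi0
          · have := hmon.coeff_natDegree
            rw [hdeg] at this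
            rw [Nat.sub_zero, this, map_one, mul_one, h0]
          rcases eq_or_lt_of_le hi with rfl | hi'
          · have := hmon.coeff_natDegree
            rw [hdeg] at this
            rw [Nat.sub_self, h0, this, ha]
          · obtain ⟨k, rfl⟩ : ∃ k : ℕ, i = k + 1 := ⟨i - 1, by omega⟩
            have h1 := hc' ⟨k, by omega⟩
            have h2 := hc' (Fin.rev ⟨k, by omega⟩)
            simp only [Fin.val_rev] at h2
            have h3 := hc (Fin.rev ⟨k, by omega⟩)
            rw [Fin.rev_rev] at h3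
            simp only at h1
            rw [show m + 1 - (k + 1) = m - (k + 1) + 1 by omega, h1, h2, h3]
      exact ⟨⟨⟨f, hmon, hdeg, h0.trans_ne ha0, hdual⟩, h0⟩, Subtype.ext (funext fun i => hc' i)⟩
  exact ⟨Finite.of_injective _ hbij.1, Nat.card_congr (Equiv.ofBijective _ hbij)⟩

theorem card_norm_one (hσ : IsInvol σ) (hfix : Nat.card (fixField σ) = q) :
    Nat.card (normHom σ).ker = q + 1 := by
  rw [card_ker_normHom hσ, hfix]

theorem mem_norm_ker {u : Fˣ} : u ∈ (normHom σ).ker ↔ (u : F) * σ u = 1 := by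
  rw [MonoidHom.mem_ker, Units.ext_iff]
  rfl

theorem finite_and_card (hσ : IsInvol σ) (hF : Fintype.card F = q ^ 2) (hfix : Nat.card (fixField σ) = q)
    (j : ℕ) : Finite (PolyU σ j) ∧ Nat.card (PolyU σ j) ≤ uc q j := by
  classical
  cases j with
  | zero =>
    have hu : ∀ f : PolyU σ 0, f.1 = 1 := fun f => f.2.1.natDegree_eq_zero.1 f.2.2.1
    haveI : Subsingleton (PolyU σ 0) := ⟨fun a b => Subtype.ext ((hu a).trans (hu b).symm)⟩
    exact ⟨Finite.of_subsingleton, Finite.card_le_one_iff_subsingleton.2 inferInstance⟩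
  | succ m =>
    haveI : ∀ v : (normHom σ).ker, Finite {f : PolyU σ (m + 1) // f.1.coeff 0 = (v.1 : F)} := fun v =>
      (card_fibre hσ hF m (mem_norm_ker.1 v.2)).1
    let Φ : PolyU σ (m + 1) → Σ v : (normHom σ).ker, {f : PolyU σ (m + 1) // f.1.coeff 0 = (v.1 : F)} :=
      fun f => ⟨⟨Units.mk0 _ f.2.2.2.1, mem_norm_ker.2 (norm_coeff_zero f)⟩, f, rfl⟩
    have hΦ : Function.Injective Φ := fun a b h =>
      congrArg (fun x : Σ v : (normHom σ).ker, {f : PolyU σ (m + 1) // f.1.coeff 0 = (v.1 : F)} => x.2.1) h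
    refine ⟨Finite.of_injective _ hΦ, (Nat.card_le_card_of_injective _ hΦ).trans (le_of_eq ?_)⟩
    rw [Nat.card_sigma, Finset.sum_congr rfl fun v _ => (card_fibre hσ hF m (mem_norm_ker.1 v.2)).2,
      Finset.sum_const, Finset.card_univ, smul_eq_mul, uc, ← Nat.card_eq_fintype_card, card_norm_one hσ hfix]

/-- For every norm-one scalar a permutation of the self-dual polynomials of given degree multiplying the constant term. -/
theorem exists_perm (hσ : IsInvol σ) (hF : Fintype.card F = q ^ 2) (m : ℕ) (v : (normHom σ).ker) :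
    ∃ P : PolyU σ (m + 1) → PolyU σ (m + 1), Function.Injective P ∧
      ∀ f, (P f).1.coeff 0 = f.1.coeff 0 * (v.1 : F) := by
  classical
  have hv := mem_norm_ker.1 v.2
  haveI : ∀ a : {a : F // a * σ a = 1}, Finite {f : PolyU σ (m + 1) // f.1.coeff 0 = a.1} := fun a =>
    (card_fibre hσ hF m a.2).1
  have hmul : ∀ a : {a : F // a * σ a = 1}, (a.1 * (v.1 : F)) * σ (a.1 * (v.1 : F)) = 1 := fun a => by
    rw [map_mul, mul_mul_mul_comm, a.2, hv, one_mul]
  have hE : ∀ a : {a : F // a * σ a = 1}, Nonempty ({f : PolyU σ (m + 1) // f.1.coeff 0 = a.1} ≃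
      {f : PolyU σ (m + 1) // f.1.coeff 0 = a.1 * (v.1 : F)}) := fun a => by
    haveI := (card_fibre hσ hF m (hmul a)).1
    exact ⟨(Finite.equivFin _).trans ((finCongr (by
      rw [(card_fibre hσ hF m a.2).2, (card_fibre hσ hF m (hmul a)).2])).trans (Finite.equivFin _).symm)⟩
  let E := fun a => (hE a).some
  refine ⟨fun f => (E ⟨_, norm_coeff_zero f⟩ ⟨f, rfl⟩).1, ?_, fun f => (E ⟨_, norm_coeff_zero f⟩ ⟨f, rfl⟩).2⟩
  intro f g h
  simp only at h
  have h0 : f.1.coeff 0 = g.1.coeff 0 := by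
    have e := congrArg (fun x : PolyU σ (m + 1) => x.1.coeff 0) h
    simp only [(E ⟨_, norm_coeff_zero f⟩ ⟨f, rfl⟩).2, (E ⟨_, norm_coeff_zero g⟩ ⟨g, rfl⟩).2] at e
    exact mul_right_cancel₀ (Units.ne_zero v.1) e
  have key : ∀ (a b : {a : F // a * σ a = 1}) (x : {f : PolyU σ (m + 1) // f.1.coeff 0 = a.1})
      (y : {f : PolyU σ (m + 1) // f.1.coeff 0 = b.1}), a = b → (E a x).1 = (E b y).1 → x.1 = y.1 := by
    rintro a b x y rfl e
    exact congrArg Subtype.val ((E a).injective (Subtype.ext e))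
  exact key _ _ ⟨f, rfl⟩ ⟨g, rfl⟩ (Subtype.ext h0) h

/-! ## Sequences -/

/-- Self-dual sequences of weighted degree `n`, weights starting at `m`. -/
abbrev USeqs (σ : F →+* F) (m n k : ℕ) :=
  {g : Fin k → F[X] // (∀ i, (g i).Monic ∧ (g i).coeff 0 ≠ 0 ∧ dualP σ (g i) = g i) ∧
    ∑ i : Fin k, (m + i) * (g i).natDegree = n}

theorem seqs_le (hσ : IsInvol σ) (hF : Fintype.card F = q ^ 2) (hfix : Nat.card (fixField σ) = q) :
    ∀ (k m n : ℕ), 1 ≤ m → Finite (USeqs σ m n k) ∧ Nat.card (USeqs σ m n k) ≤ BB q m n := by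
  intro k
  induction k with
  | zero =>
    intro m n _
    rcases Nat.eq_zero_or_pos n with rfl | hn
    · haveI : Subsingleton (USeqs σ m 0 0) := ⟨fun a b => Subtype.ext (funext fun i => i.elim0)⟩
      refine ⟨Finite.of_subsingleton, ?_⟩
      rw [BB_zero]
      exact Finite.card_le_one_iff_subsingleton.2 inferInstance
    · haveI : IsEmpty (USeqs σ m n 0) := ⟨fun a => by have h := a.2.2; simp at h; omega⟩
      exact ⟨Finite.of_subsingleton, by simp⟩
  | succ k ih =>
    intro m n hm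
    haveI : ∀ j : Fin (n / m + 1), Finite (PolyU σ j × USeqs σ (m + 1) (n - m * j) k) := fun j => by
      haveI := (finite_and_card (σ := σ) hσ hF hfix j).1
      haveI := (ih (m + 1) (n - m * j) (by omega)).1
      infer_instance
    have hdeg : ∀ g : USeqs σ m n (k + 1), m * (g.1 0).natDegree +
        ∑ i : Fin k, (m + 1 + i) * (g.1 i.succ).natDegree = n := by
      intro g
      conv_rhs => rw [← g.2.2, Fin.sum_univ_succ]
      simp only [Fin.val_zero, add_zero, Fin.val_succ]
      congr 1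
      exact Finset.sum_congr rfl fun i _ => by ring
    have hle : ∀ g : USeqs σ m n (k + 1), (g.1 0).natDegree < n / m + 1 := fun g => by
      rw [Nat.lt_succ_iff, Nat.le_div_iff_mul_le (by omega), mul_comm]
      have := hdeg g
      omega
    let Φ : USeqs σ m n (k + 1) → Σ j : Fin (n / m + 1), PolyU σ j × USeqs σ (m + 1) (n - m * j) k :=
      fun g => ⟨⟨(g.1 0).natDegree, hle g⟩, ⟨g.1 0, (g.2.1 0).1, rfl, (g.2.1 0).2.1, (g.2.1 0).2.2⟩,
        ⟨fun i => g.1 i.succ, fun i => g.2.1 i.succ, by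
          have := hdeg g
          simp only
          omega⟩⟩
    have hΦ : Function.Injective Φ := by
      intro a b h
      have h' : (Fin.cons (a.1 0) (fun i : Fin k => a.1 i.succ) : Fin (k + 1) → F[X]) =
          Fin.cons (b.1 0) (fun i : Fin k => b.1 i.succ) :=
        congrArg (fun x : (j : Fin (n / m + 1)) × (PolyU σ j × USeqs σ (m + 1) (n - m * j) k) =>
          (Fin.cons x.2.1.1 x.2.2.1 : Fin (k + 1) → F[X])) h
      refine Subtype.ext (funext fun i => ?_)
      induction i using Fin.cases with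
      | zero => exact congrFun h' 0
      | succ i => exact congrFun h' i.succ
    refine ⟨Finite.of_injective Φ hΦ, (Nat.card_le_card_of_injective Φ hΦ).trans ?_⟩
    rw [Nat.card_sigma, BB_sum _ hm, ← Fin.sum_univ_eq_sum_range]
    refine Finset.sum_le_sum fun j _ => ?_
    rw [Nat.card_prod]
    exact Nat.mul_le_mul (finite_and_card (σ := σ) hσ hF hfix j).2 (ih (m + 1) (n - m * j) (by omega)).2

variable {n : ℕ}

/-- The gcd of `q + 1` and the exponents in a set. -/
def GU' (q : ℕ) {n : ℕ} (S : Finset (Fin n)) : ℕ := Nat.gcd (q + 1) (S.gcd fun j => j.val + 1)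

theorem GU'_pos (S : Finset (Fin n)) : 0 < GU' q S := Nat.gcd_pos_of_pos_left _ (Nat.succ_pos q)

theorem exists_exponents (hσ : IsInvol σ) (hfix : Nat.card (fixField σ) = q) (S : Finset (Fin n)) :
    ∃ w : Fin n → ℤ, ∀ u : (normHom σ).ker, u ^ GU' q S = ∏ j ∈ S, (u ^ (j.val + 1)) ^ w j := by
  classical
  obtain ⟨w, hw⟩ := exists_bezout S (fun j => j.val + 1)
  refine ⟨fun j => Nat.gcdB (q + 1) (S.gcd fun j => j.val + 1) * w j, fun u => ?_⟩
  have h1 : u ^ (q + 1) = 1 := by
    rw [← card_norm_one (σ := σ) hσ hfix]; exact pow_card_eq_one'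
  rw [← zpow_natCast u (GU' q S), GU', Nat.gcd_eq_gcd_ab, zpow_add, zpow_mul, zpow_natCast, h1, one_zpow, one_mul,
    hw, Finset.sum_mul]
  have hsum : ∀ (T : Finset (Fin n)) (a : Fin n → ℤ), u ^ (∑ j ∈ T, a j) = ∏ j ∈ T, u ^ a j := by
    intro T a
    induction T using Finset.induction_on with
    | empty => simp
    | @insert x s hx ih => rw [Finset.sum_insert hx, Finset.prod_insert hx, zpow_add, ih]
  rw [hsum]
  refine Finset.prod_congr rfl fun j _ => ?_
  rw [← zpow_natCast u (j.val + 1), ← zpow_mul]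
  congr 1
  ring

theorem GU'_dvd {N k : ℕ} (g : USeqs σ 1 N k) : GU' q (Sg g.1) ∣ N := by
  refine (Nat.gcd_dvd_right _ _).trans ?_
  conv_rhs => rw [← g.2.2]
  refine Finset.dvd_sum fun j _ => ?_
  by_cases h : (g.1 j).natDegree = 0
  · rw [h, mul_zero]; exact dvd_zero _
  · rw [add_comm 1]
    exact (Finset.gcd_dvd (f := fun j : Fin k => j.val + 1) (mem_Sg.2 h)).trans (dvd_mul_right _ _)

open _root_.Classical in
/-- Twisting of sequences along norm-one scalars. -/
theorem exists_twist (hσ : IsInvol σ) (hF : Fintype.card F = q ^ 2) (hfix : Nat.card (fixField σ) = q) :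
    ∃ T : USeqs σ 1 n n → (normHom σ).ker → USeqs σ 1 n n, (∀ g u, Sg (T g u).1 = Sg g.1) ∧
      (∀ g u, sdet (T g u).1 = sdet g.1 * (((u ^ GU' q (Sg g.1) : (normHom σ).ker) : Fˣ) : F)) ∧
      ∀ u, Function.Injective fun g => T g u := by
  choose w hw using fun S : Finset (Fin n) => exists_exponents (σ := σ) hσ hfix S
  choose P hPi hP using fun m v => exists_perm (σ := σ) hσ hF m v
  let tp : (normHom σ).ker → (d : ℕ) → PolyU σ d → PolyU σ d := fun v d =>
    match d with
    | 0 => id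
    | m + 1 => P m v
  have htp : ∀ v d, 0 < d → ∀ f, (tp v d f).1.coeff 0 = f.1.coeff 0 * ((v.1 : Fˣ) : F) := by
    intro v d hd f
    cases d with
    | zero => omega
    | succ m => exact hP m v f
  have htpi : ∀ v d, Function.Injective (tp v d) := by
    intro v d
    cases d with
    | zero => exact fun a b h => h
    | succ m => exact hPi m v
  let pk : (g : USeqs σ 1 n n) → (j : Fin n) → PolyU σ (g.1 j).natDegree := fun g j =>
    ⟨g.1 j, (g.2.1 j).1, rfl, (g.2.1 j).2.1, (g.2.1 j).2.2⟩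
  let T : USeqs σ 1 n n → (normHom σ).ker → USeqs σ 1 n n := fun g u =>
    ⟨fun j => (tp (u ^ w (Sg g.1) j) _ (pk g j)).1,
      fun j => ⟨(tp _ _ (pk g j)).2.1, (tp _ _ (pk g j)).2.2.2.1, (tp _ _ (pk g j)).2.2.2.2⟩, by
      conv_rhs => rw [← g.2.2]
      exact Finset.sum_congr rfl fun j _ => by rw [(tp (u ^ w (Sg g.1) j) _ (pk g j)).2.2.1]⟩
  have hdeg : ∀ g u j, ((T g u).1 j).natDegree = (g.1 j).natDegree := fun g u j =>
    (tp (u ^ w (Sg g.1) j) _ (pk g j)).2.2.1
  have hS : ∀ g u, Sg (T g u).1 = Sg g.1 := fun g u => by ext j; rw [mem_Sg, mem_Sg, hdeg]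
  refine ⟨T, hS, fun g u => ?_, fun u a b h => ?_⟩
  · have hterm : ∀ j : Fin n, ((-1) ^ ((T g u).1 j).natDegree * ((T g u).1 j).coeff 0) ^ (j.val + 1) =
        ((-1) ^ (g.1 j).natDegree * (g.1 j).coeff 0) ^ (j.val + 1) *
          (if j ∈ Sg g.1 then ((((u ^ (j.val + 1)) ^ w (Sg g.1) j : (normHom σ).ker) : Fˣ) : F) else 1) := by
      intro j
      rw [hdeg]
      split_ifs with hj
      · show ((-1) ^ (g.1 j).natDegree * (tp _ _ (pk g j)).1.coeff 0) ^ (j.val + 1) = _
        rw [htp _ _ (Nat.pos_of_ne_zero (mem_Sg.1 hj)), ← mul_assoc, mul_pow]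
        congr 1
        rw [← Units.val_pow_eq_pow_val, ← SubmonoidClass.coe_pow, ← zpow_natCast, ← zpow_mul,
          ← zpow_natCast u (j.val + 1), ← zpow_mul, mul_comm]
      · have h0 : (g.1 j).natDegree = 0 := Classical.not_not.1 fun h => hj (mem_Sg.2 h)
        have h1 := (g.2.1 j).1.natDegree_eq_zero.1 h0
        have h2 := ((T g u).2.1 j).1.natDegree_eq_zero.1 ((hdeg g u j).trans h0)
        rw [h2, h1, mul_one]
    simp only [sdet, Finset.prod_congr rfl fun j _ => hterm j, Finset.prod_mul_distrib, Finset.prod_ite_mem,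
      Finset.univ_inter, ← Units.coe_prod, ← Subgroup.val_finsetProd]
    rw [← hw]
  · have hSab : Sg a.1 = Sg b.1 := by rw [← hS a u, ← hS b u]; exact congrArg (fun x => Sg x.1) h
    refine Subtype.ext (funext fun j => ?_)
    have hj : ((T a u).1 j) = (T b u).1 j := congrArg (fun x : USeqs σ 1 n n => x.1 j) h
    have key : ∀ (v : (normHom σ).ker) (d e : ℕ) (x : PolyU σ d) (y : PolyU σ e),
        d = e → (tp v d x).1 = (tp v e y).1 → x.1 = y.1 := by
      rintro v d e x y rfl e'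
      exact congrArg Subtype.val (htpi v d (Subtype.ext e'))
    refine key (u ^ w (Sg a.1) j) _ _ (pk a j) (pk b j) ?_ ?_
    · rw [← hdeg a u j, ← hdeg b u j, hj]
    · simp only [T] at hj
      rwa [← hSab] at hj

open _root_.Classical in
/-- Sequences of determinant one, weighted by their gcd, against all sequences weighted by the square. -/
theorem sum_det_one_le (hσ : IsInvol σ) (hF : Fintype.card F = q ^ 2) (hfix : Nat.card (fixField σ) = q)
    [Fintype (USeqs σ 1 n n)] :
    (q + 1) * ∑ g ∈ Finset.univ.filter (fun g : USeqs σ 1 n n => sdet g.1 = 1), GU' q (Sg g.1) ≤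
      ∑ h : USeqs σ 1 n n, GU' q (Sg h.1) * GU' q (Sg h.1) := by
  obtain ⟨T, hTS, hTd, hTi⟩ := exists_twist (σ := σ) (n := n) hσ hF hfix
  set A := Finset.univ.filter (fun g : USeqs σ 1 n n => sdet g.1 = 1) with hA
  have h1 : (q + 1) * ∑ g ∈ A, GU' q (Sg g.1) =
      ∑ x ∈ A ×ˢ (Finset.univ : Finset (normHom σ).ker), GU' q (Sg (T x.1 x.2).1) := by
    rw [Finset.sum_product, Finset.mul_sum]
    refine Finset.sum_congr rfl fun g _ => ?_
    simp only [hTS, Finset.sum_const, Finset.card_univ, smul_eq_mul]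
    rw [← Nat.card_eq_fintype_card, card_norm_one hσ hfix]
  rw [h1, ← Finset.sum_fiberwise_of_maps_to (g := fun x => T x.1 x.2) (t := Finset.univ)
    (fun x _ => Finset.mem_univ _)]
  refine Finset.sum_le_sum fun h _ => ?_
  rw [Finset.sum_congr rfl (g := fun _ => GU' q (Sg h.1)) (fun x hx => by rw [(Finset.mem_filter.1 hx).2]),
    Finset.sum_const, smul_eq_mul]
  refine Nat.mul_le_mul_right _ ?_
  have hsub : ((A ×ˢ (Finset.univ : Finset (normHom σ).ker)).filter fun x => T x.1 x.2 = h).image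
      (fun x => ((x.2.1 : Fˣ) : F)) ⊆ (nthRoots (GU' q (Sg h.1)) (sdet h.1)).toFinset := by
    intro a ha
    simp only [Finset.mem_image, Finset.mem_filter, Finset.mem_product] at ha
    obtain ⟨⟨g, u⟩, ⟨⟨hg, -⟩, rfl⟩, rfl⟩ := ha
    rw [Multiset.mem_toFinset, mem_nthRoots (GU'_pos _)]
    simp only [hTS, hTd, (Finset.mem_filter.1 hg).2, one_mul, SubmonoidClass.coe_pow, Units.val_pow_eq_pow_val]
  refine le_trans (le_of_eq (Finset.card_image_of_injOn ?_).symm) ((Finset.card_le_card hsub).trans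
    ((Multiset.toFinset_card_le _).trans (card_nthRoots _ _)))
  intro x hx y hy hxy
  have hx' := (Finset.mem_filter.1 hx).2
  have hy' := (Finset.mem_filter.1 hy).2
  have e : x.2 = y.2 := Subtype.ext (Units.ext hxy)
  refine Prod.ext (hTi x.2 ?_) e
  show T x.1 x.2 = T y.1 x.2
  rw [hx', e, hy']

theorem card_dvd_le (hσ : IsInvol σ) (hF : Fintype.card F = q ^ 2) (hfix : Nat.card (fixField σ) = q)
    (d : ℕ) (hd : 0 < d) :
    Nat.card {g : USeqs σ 1 n n // d ∣ GU' q (Sg g.1)} ≤ BB q 1 (n / d) := by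
  classical
  haveI := (seqs_le (σ := σ) hσ hF hfix n 1 (n / d) le_rfl).1
  let Φ : USeqs σ 1 n n → Fin n → F[X] := fun g k =>
    if h : d * (k.val + 1) ≤ n then g.1 ⟨d * (k.val + 1) - 1, by
      have : 0 < d * (k.val + 1) := Nat.mul_pos hd (Nat.succ_pos _)
      omega⟩ else 1
  have hmon : ∀ g k, (Φ g k).Monic ∧ (Φ g k).coeff 0 ≠ 0 ∧ dualP σ (Φ g k) = Φ g k := by
    intro g k
    simp only [Φ]
    split_ifs
    · exact g.2.1 _
    · exact ⟨monic_one, by simp, dualP_one⟩
  have hout : ∀ g : {g : USeqs σ 1 n n // d ∣ GU' q (Sg g.1)}, ∀ j : Fin n, ¬ d ∣ j.val + 1 → g.1.1 j = 1 := by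
    intro g j hj
    refine eq_one_of_not_mem (g.1.2.1 j).1 fun hm => hj ?_
    exact g.2.trans ((Nat.gcd_dvd_right _ _).trans (Finset.gcd_dvd (f := fun j : Fin n => j.val + 1) hm))
  have hsum : ∀ g : {g : USeqs σ 1 n n // d ∣ GU' q (Sg g.1)},
      d * ∑ k : Fin n, (1 + k.val) * (Φ g.1 k).natDegree = n := by
    intro g
    conv_rhs => rw [← g.1.2.2]
    rw [Finset.mul_sum]
    let e : {k : Fin n // d * (k.val + 1) ≤ n} → Fin n := fun k => ⟨d * (k.1.val + 1) - 1, by
      have : 0 < d * (k.1.val + 1) := Nat.mul_pos hd (Nat.succ_pos _)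
      have := k.2
      omega⟩
    have he : Function.Injective e := by
      intro a b hab
      have h1 : d * (a.1.val + 1) - 1 = d * (b.1.val + 1) - 1 := congrArg Fin.val hab
      have ha : 0 < d * (a.1.val + 1) := Nat.mul_pos hd (Nat.succ_pos _)
      have hb : 0 < d * (b.1.val + 1) := Nat.mul_pos hd (Nat.succ_pos _)
      have h2 : a.1.val + 1 = b.1.val + 1 := Nat.eq_of_mul_eq_mul_left hd (by omega)
      exact Subtype.ext (Fin.ext (by omega))
    rw [← Fintype.sum_of_injective (Subtype.val : {k : Fin n // d * (k.val + 1) ≤ n} → Fin n)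
      Subtype.val_injective (fun k => d * ((1 + k.1.val) * (Φ g.1 k.1).natDegree)) _ ?_ (fun _ => rfl)]
    swap
    · intro k hk
      have : ¬ d * (k.val + 1) ≤ n := fun h => hk ⟨⟨k, h⟩, rfl⟩
      simp [Φ, this]
    refine Fintype.sum_of_injective e he _ _ ?_ ?_
    · intro j hj
      rw [hout g j, natDegree_one, mul_zero]
      rintro ⟨c, hc⟩
      have hc0 : 0 < c := Nat.pos_of_ne_zero (by rintro rfl; simp at hc)
      have hcj : c ≤ d * c := Nat.le_mul_of_pos_left _ hd
      have hjn := j.2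
      refine hj ⟨⟨⟨c - 1, by omega⟩, ?_⟩, Fin.ext ?_⟩
      · show d * (c - 1 + 1) ≤ n
        rw [Nat.sub_add_cancel hc0]; omega
      · show d * (c - 1 + 1) - 1 = j.val
        rw [Nat.sub_add_cancel hc0]; omega
    · intro k
      have h1 : 0 < d * (k.1.val + 1) := Nat.mul_pos hd (Nat.succ_pos _)
      simp only [Φ, dif_pos k.2, e]
      rw [← mul_assoc]
      congr 1
      rw [add_comm 1 k.1.val]
      omega
  let Ψ : {g : USeqs σ 1 n n // d ∣ GU' q (Sg g.1)} → USeqs σ 1 (n / d) n := fun g =>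
    ⟨Φ g.1, hmon g.1, by
      conv_rhs => rw [← hsum g]
      rw [Nat.mul_div_cancel_left _ hd]⟩
  refine (Nat.card_le_card_of_injective Ψ ?_).trans (seqs_le (σ := σ) hσ hF hfix n 1 (n / d) le_rfl).2
  intro a b hab
  refine Subtype.ext (Subtype.ext (funext fun j => ?_))
  by_cases hj : d ∣ j.val + 1
  · obtain ⟨c, hc⟩ := hj
    have hc0 : 0 < c := Nat.pos_of_ne_zero (by rintro rfl; simp at hc)
    have hcj : c ≤ d * c := Nat.le_mul_of_pos_left _ hd
    have hjn := j.2
    have h := congrFun (congrArg Subtype.val hab) ⟨c - 1, by omega⟩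
    simp only [Ψ, Φ] at h
    have hk : d * (c - 1 + 1) ≤ n := by rw [Nat.sub_add_cancel hc0]; omega
    rw [dif_pos hk, dif_pos hk] at h
    have e : (⟨d * (c - 1 + 1) - 1, by omega⟩ : Fin n) = j := by
      refine Fin.ext ?_
      show d * (c - 1 + 1) - 1 = j.val
      rw [Nat.sub_add_cancel hc0]; omega
    rwa [e] at h
  · rw [hout a j hj, hout b j hj]

open _root_.Classical in
/-- The total of the squared gcds. -/
theorem sum_sq_le (hσ : IsInvol σ) (hF : Fintype.card F = q ^ 2) (hfix : Nat.card (fixField σ) = q)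
    [Fintype (USeqs σ 1 n n)] {D : ℕ} (hD : D = Nat.gcd n (q + 1)) :
    ∑ h : USeqs σ 1 n n, GU' q (Sg h.1) * GU' q (Sg h.1) ≤ BB q 1 n +
      ∑ d ∈ D.divisors.filter (fun d => 2 ≤ d), (d * d - 1) * BB q 1 (n / d) := by
  have hD0 : D ≠ 0 := by rw [hD]; exact (Nat.gcd_pos_of_pos_right _ (Nat.succ_pos q)).ne'
  have h1 : ∀ h : USeqs σ 1 n n, GU' q (Sg h.1) * GU' q (Sg h.1) ≤ 1 +
      ∑ d ∈ D.divisors.filter (fun d => 2 ≤ d), (d * d - 1) * (if d ∣ GU' q (Sg h.1) then 1 else 0) := by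
    intro h
    have hG : GU' q (Sg h.1) ∣ D := by
      rw [hD]; exact Nat.dvd_gcd (GU'_dvd h) (Nat.gcd_dvd_left _ _)
    have hpos : 0 < GU' q (Sg h.1) := GU'_pos _
    by_cases h2 : 2 ≤ GU' q (Sg h.1)
    · have hmem : GU' q (Sg h.1) ∈ D.divisors.filter (fun d => 2 ≤ d) :=
        Finset.mem_filter.2 ⟨Nat.mem_divisors.2 ⟨hG, hD0⟩, h2⟩
      refine le_trans ?_ (Nat.add_le_add_left (Finset.single_le_sum (f := fun d => (d * d - 1) *
        (if d ∣ GU' q (Sg h.1) then 1 else 0)) (fun _ _ => Nat.zero_le _) hmem) 1)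
      rw [if_pos dvd_rfl, mul_one]
      omega
    · have : GU' q (Sg h.1) = 1 := by omega
      rw [this]
      exact Nat.le_add_right 1 _
  refine (Finset.sum_le_sum fun h _ => h1 h).trans ?_
  rw [Finset.sum_add_distrib, Finset.sum_comm]
  refine Nat.add_le_add ?_ (Finset.sum_le_sum fun d hd => ?_)
  · rw [Finset.sum_const, smul_eq_mul, mul_one, Finset.card_univ, ← Nat.card_eq_fintype_card]
    exact (seqs_le (σ := σ) hσ hF hfix n 1 n le_rfl).2
  · rw [← Finset.mul_sum, Finset.sum_boole, Nat.cast_id]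
    refine Nat.mul_le_mul_left _ ?_
    rw [← Fintype.card_subtype, ← Nat.card_eq_fintype_card]
    exact card_dvd_le hσ hF hfix d (by have := (Finset.mem_filter.1 hd).2; omega)

end Count

end Cfsg.Agent.USeq
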