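import Cfsg.Agent.MatModule.InvariantHerm
import Cfsg.Agent.MatModule.Unipotent

/-!
Every Jordan type of unipotent matrices occurs in the unitary group.
-/

set_option autoImplicit false

namespace Cfsg.Agent.UnitaryConj

open Matrix Cfsg.Agent.Classical Cfsg.Agent.Classical.Herm Cfsg.Agent.MatModule

variable {F : Type*} [Field F] [Fintype F] {n : ℕ} {σ : F →+* F}

theorem rank_map_conj (hσ : ∀ x, σ (σ x) = x) (M : Matrix (Fin n) (Fin n) F) :
    (M.map σ).rank = M.rank := by
  classical
  let e : F ≃ F := ⟨σ, σ, hσ, hσ⟩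
  let E : (Fin n → F) ≃ (Fin n → F) := Equiv.piCongrRight fun _ => e
  have hE : ∀ v, E (M *ᵥ v) = M.map σ *ᵥ E v := fun v => by
    funext i
    simp [E, e, Equiv.piCongrRight, Matrix.mulVec, dotProduct, map_sum, Matrix.map_apply]
  have hc : Nat.card (LinearMap.range M.mulVecLin) = Nat.card (LinearMap.range (M.map σ).mulVecLin) := by
    refine Nat.card_congr (E.subtypeEquiv fun v => ?_)
    simp only [LinearMap.mem_range, Matrix.mulVecLin_apply]
    constructor
    · rintro ⟨w, rfl⟩
      exact ⟨E w, (hE w).symm⟩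
    · rintro ⟨w, hw⟩
      exact ⟨E.symm w, E.injective (by rw [hE, Equiv.apply_symm_apply, hw])⟩
  rw [Module.natCard_eq_pow_finrank (K := F) (V := LinearMap.range M.mulVecLin),
    Module.natCard_eq_pow_finrank (K := F) (V := LinearMap.range (M.map σ).mulVecLin)] at hc
  exact (Nat.pow_right_injective (Finite.one_lt_card (α := F)) hc).symm

/-- The finite unitary group contains unipotent elements of every Jordan type. -/
theorem exists_GU_hasType {q : ℕ} (hσ : IsInvol σ) (hσq : ∀ x, σ x = x ^ q) (m : Multiset ℕ)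
    (h0 : (0 : ℕ) ∉ m) (hm : m.sum = n) :
    ∃ g ∈ Cfsg.GU n F q, HasType (Matrix.toLin' (g : Matrix (Fin n) (Fin n) F)) m := by
  classical
  obtain ⟨A, hA⟩ := exists_gl_hasType (F := F) (n := n) m hm
  let As : GL (Fin n) F := ⟨adj σ (A⁻¹ : GL (Fin n) F).1, adj σ A.1,
    by rw [← adj_mul, Units.mul_inv, adj_one], by rw [← adj_mul, Units.inv_mul, adj_one]⟩
  have hadj_pow : ∀ (M : Matrix (Fin n) (Fin n) F) (k : ℕ), adj σ (M ^ k) = adj σ M ^ k := by
    intro M k
    induction k with
    | zero => simp [adj_one]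
    | succ k ih => rw [pow_succ, adj_mul, ih, pow_succ']
  have hrank : ∀ j, ((As.1 - 1) ^ j).rank = ((A.1 - 1) ^ j).rank := by
    intro j
    have e : As.1 - 1 = -As.1 * adj σ (A.1 - 1) := by
      have : adj σ (A.1 - 1) = adj σ A.1 - 1 := by
        rw [show A.1 - 1 = A.1 + (-1 : Matrix (Fin n) (Fin n) F) from sub_eq_add_neg _ _, adj_add,
          sub_eq_add_neg]
        congr 1
        ext i j
        by_cases h : i = j
        · subst h; simp [adj]
        · simp [adj, h, Ne.symm h]
      rw [this, neg_mul, mul_sub, mul_one, show As.1 * adj σ A.1 = 1 from As.mul_inv, neg_sub]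
    have hc : Commute (-As.1) (adj σ (A.1 - 1)) := by
      have h1 : Commute (A.1 - 1) (A⁻¹ : GL (Fin n) F).1 :=
        ((show Commute A.1 (A⁻¹ : GL (Fin n) F).1 from A.mul_inv.trans A.inv_mul.symm).sub_left
          (Commute.one_left _))
      have h2 := congrArg (adj σ) h1.eq
      rw [adj_mul, adj_mul] at h2
      exact (show Commute As.1 (adj σ (A.1 - 1)) from h2).neg_left
    rw [e, hc.mul_pow, Matrix.rank_mul_eq_right_of_isUnit_det _ _
      ((Matrix.isUnit_iff_isUnit_det _).1 (As.isUnit.neg.pow j)), ← hadj_pow, adj, Matrix.rank_transpose,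
      rank_map_conj hσ.2]
  have hfr : ∀ (M : Matrix (Fin n) (Fin n) F) (j : ℕ),
      Module.finrank F (LinearMap.range ((Matrix.toLin' M - 1) ^ j)) = ((M - 1) ^ j).rank := by
    intro M j
    rw [Module.End.one_eq_id, ← Matrix.toLin'_one, ← map_sub, ← Matrix.toLin'_pow]
    rfl
  have hz : (Matrix.toLin' As.1 - 1) ^ m.sum = 0 := by
    have h1 := (sub_one_pow_eq_zero_iff hA m.sum).2 fun e he => Multiset.le_sum_of_mem he
    have h2 : Module.finrank F (LinearMap.range ((Matrix.toLin' As.1 - 1) ^ m.sum)) = 0 := by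
      rw [hfr, hrank, ← hfr, h1, LinearMap.range_zero, finrank_bot]
    exact LinearMap.range_eq_bot.1 (Submodule.finrank_eq_zero.1 h2)
  obtain ⟨m', hm'0, hm'⟩ := exists_hasType _ hz
  have hmm : m' = m := by
    refine Multiset.ext.2 fun a => ?_
    rcases a with _ | j
    · rw [Multiset.count_eq_zero.2 h0, Multiset.count_eq_zero.2 hm'0]
    · have e : ∀ i, (m'.map (fun e => e - i)).sum = (m.map (fun e => e - i)).sum := fun i => by
        rw [← finrank_range_sub_one_pow hA i, ← finrank_range_sub_one_pow hm' i, hfr, hfr, hrank]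
      have h1 := count_succ_add m j
      have h2 := count_succ_add m' j
      have := e j
      have := e (j + 1)
      have := e (j + 2)
      omega
  subst hmm
  obtain ⟨g, hg⟩ := exists_conj_gl_of_hasType A As hA hm'
  have hX : adj σ A.1 * g.1 * A.1 = g.1 := by
    have h1 : g.1 * A.1 = As.1 * g.1 := by
      rw [← Units.val_mul, ← Units.val_mul, ← hg, inv_mul_cancel_right]
    rw [mul_assoc, h1, ← mul_assoc, show adj σ A.1 * As.1 = 1 from As.inv_mul, one_mul]
  obtain ⟨P, hP⟩ := exists_conj_mem_GU hσ hσq A g hX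
  exact ⟨_, hP, hasType_of_conj rfl hA⟩

end Cfsg.Agent.UnitaryConj
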