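import Cfsg.Agent.MatModule.ClassSeq
import Cfsg.Agent.MatModule.UnitarySeqCount
import Cfsg.Agent.MatModule.InvariantHerm
import Cfsg.Agent.MatModule.UnitaryUnipotent

/-!
# Sequences of unitary matrices and determinants in their unitary centralisers
-/

set_option autoImplicit false

namespace Cfsg.Agent.USeq

open Polynomial Cfsg.Agent.ClassNumberGL Cfsg.Agent.SeqCount Cfsg.Agent.MatModule UniqueFactorizationMonoid
open Cfsg.Agent.Classical.Herm Cfsg.Agent.UnitaryConj

universe u

variable {F : Type u} [Field F] {σ : F →+* F}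

/-- Evaluating a reversed polynomial. -/
theorem aeval_reverse {S : Type*} [Ring S] [Algebra F S] (x : Sˣ) (p : F[X]) :
    aeval (x : S) p.reverse = aeval ((x⁻¹ : Sˣ) : S) p * (x : S) ^ p.natDegree := by
  have hd : p.reverse.natDegree < p.natDegree + 1 := by rw [reverse_natDegree]; omega
  rw [aeval_eq_sum_range' hd, aeval_eq_sum_range, Finset.sum_mul, ← Finset.sum_range_reflect]
  refine Finset.sum_congr rfl fun i hi => ?_
  rw [Finset.mem_range] at hi
  have hi' : i ≤ p.natDegree := by omega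
  rw [show p.natDegree + 1 - 1 - i = p.natDegree - i by omega, coeff_reverse, revAt_le (Nat.sub_le _ _),
    Nat.sub_sub_self hi', smul_mul_assoc]
  congr 1
  rw [← Units.val_pow_eq_pow_val, ← Units.val_pow_eq_pow_val, ← Units.val_pow_eq_pow_val, ← Units.val_mul]
  congr 1
  rw [inv_pow, eq_inv_mul_iff_mul_eq, ← pow_add, Nat.add_sub_cancel' hi']

theorem aeval_dualP {S : Type*} [Ring S] [Algebra F S] (x : Sˣ) (f : F[X]) :
    aeval (x : S) (dualP σ f) = algebraMap F S ((σ (f.coeff 0))⁻¹) *
      (aeval ((x⁻¹ : Sˣ) : S) (f.map σ) * (x : S) ^ f.natDegree) := by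
  rw [dualP, map_mul, aeval_C, aeval_reverse, natDegree_map]

theorem dualP_mul {a b : F[X]} : dualP σ (a * b) = dualP σ a * dualP σ b := by
  simp only [dualP, mul_coeff_zero, map_mul, mul_inv, Polynomial.map_mul, reverse_mul_of_domain]
  ring

theorem monic_dualP {f : F[X]} (hf : f.Monic) (h0 : f.coeff 0 ≠ 0) : (dualP σ f).Monic := by
  rw [Monic, leadingCoeff, natDegree_dualP h0, coeff_dualP f le_rfl, Nat.sub_self,
    inv_mul_cancel₀ ((map_ne_zero σ).2 h0)]

theorem coeff_zero_dualP {f : F[X]} (hf : f.Monic) : (dualP σ f).coeff 0 = (σ (f.coeff 0))⁻¹ := by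
  rw [coeff_dualP f (Nat.zero_le _), Nat.sub_zero, hf.coeff_natDegree, map_one, mul_one]

theorem dualP_dualP (hσ : ∀ x, σ (σ x) = x) {f : F[X]} (hf : f.Monic) (h0 : f.coeff 0 ≠ 0) :
    dualP σ (dualP σ f) = f := by
  have h1 : (dualP σ f).coeff 0 ≠ 0 := by
    rw [coeff_zero_dualP hf]; exact inv_ne_zero ((map_ne_zero σ).2 h0)
  refine Polynomial.ext fun i => ?_
  rcases Nat.lt_or_ge f.natDegree i with hi | hi
  · rw [coeff_eq_zero_of_natDegree_lt (by rwa [natDegree_dualP h1, natDegree_dualP h0]),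
      coeff_eq_zero_of_natDegree_lt hi]
  · rw [coeff_dualP _ (by rwa [natDegree_dualP h0]), natDegree_dualP h0, coeff_zero_dualP hf,
      coeff_dualP f (Nat.sub_le _ _), Nat.sub_sub_self hi, map_inv₀, hσ, inv_inv, map_mul, map_inv₀, hσ, hσ,
      mul_inv_cancel_left₀ h0]

theorem irreducible_dualP (hσ : ∀ x, σ (σ x) = x) {f : F[X]} (hf : f.Monic) (h0 : f.coeff 0 ≠ 0)
    (hi : Irreducible f) : Irreducible (dualP σ f) := by
  refine ⟨fun h => hi.not_isUnit ?_, fun a b hab => ?_⟩
  · have := natDegree_eq_zero_of_isUnit h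
    rw [natDegree_dualP h0] at this
    rw [hf.natDegree_eq_zero.1 this]; exact isUnit_one
  · have h1 : (a * b).coeff 0 ≠ 0 := by
      rw [← hab, coeff_zero_dualP hf]; exact inv_ne_zero ((map_ne_zero σ).2 h0)
    rw [mul_coeff_zero] at h1
    have h := dualP_dualP hσ hf h0
    rw [hab, dualP_mul] at h
    have key : ∀ c : F[X], c.coeff 0 ≠ 0 → IsUnit (dualP σ c) → IsUnit c := by
      intro c hc hu
      have := natDegree_eq_zero_of_isUnit hu
      rw [natDegree_dualP hc] at this
      rw [eq_C_of_natDegree_eq_zero this]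
      exact isUnit_C.2 (isUnit_iff_ne_zero.2 hc)
    rcases hi.isUnit_or_isUnit h.symm with h2 | h2
    · exact Or.inl (key a (left_ne_zero_of_mul h1) h2)
    · exact Or.inr (key b (right_ne_zero_of_mul h1) h2)

variable [Fintype F] {n : ℕ}

/-- The sequence of a unitary matrix is self-dual. -/
theorem dual_fix {q : ℕ} (hσ : IsInvol σ) (hσq : ∀ x, σ x = x ^ q) {Y : GL (Fin n) F} (hY : Y ∈ Cfsg.GU n F q)
    {g : Seqs F 1 n n} (hg : HasSeq (Matrix.toLin' Y.1) n g.1) :
    ∀ j, dualP σ (g.1 j) = g.1 j := by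
  classical
  have hadj : ((Y⁻¹ : GL (Fin n) F) : Matrix (Fin n) (Fin n) F) = adj σ Y.1 :=
    Units.inv_eq_of_mul_eq_one_left ((mem_GU_iff_adj hσq Y).1 hY)
  have hrank : ∀ f : F[X], f.coeff 0 ≠ 0 → ∀ k : ℕ,
      (aeval Y.1 (dualP σ f ^ k)).rank = (aeval Y.1 (f ^ k)).rank := by
    intro f h0 k
    have hpow : ∀ (M : Matrix (Fin n) (Fin n) F) (k : ℕ), adj σ (M ^ k) = adj σ M ^ k := by
      intro M k
      induction k with
      | zero => simp [adj_one]
      | succ k ih => rw [pow_succ, adj_mul, ih, pow_succ']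
    have hae : ∀ p : F[X], adj σ (aeval Y.1 p) = aeval (adj σ Y.1) (p.map σ) := by
      intro p
      induction p using Polynomial.induction_on' with
      | add a b ha hb => rw [map_add, adj_add, ha, hb, Polynomial.map_add, map_add]
      | monomial i a => rw [aeval_monomial, adj_mul, adj_scalar, hpow, map_monomial, aeval_monomial,
          (Algebra.commutes (σ a) _).symm]
    have h1 : aeval Y.1 (dualP σ f ^ k) = aeval ((Y⁻¹ : GL (Fin n) F) : Matrix (Fin n) (Fin n) F)
        ((f ^ k).map σ) * ((algebraMap F (Matrix (Fin n) (Fin n) F) ((σ ((f ^ k).coeff 0))⁻¹)) * Y.1 ^ (f ^ k).natDegree) := by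
      have hk : dualP σ f ^ k = dualP σ (f ^ k) := by
        induction k with
        | zero => rw [pow_zero, pow_zero, dualP_one]
        | succ k ih => rw [pow_succ, pow_succ, dualP_mul, ih]
      rw [hk, aeval_dualP, ← mul_assoc, Algebra.commutes, mul_assoc]
    have h0k : (f ^ k).coeff 0 ≠ 0 := by
      rw [coeff_zero_eq_eval_zero, eval_pow, ← coeff_zero_eq_eval_zero]; exact pow_ne_zero _ h0
    rw [h1, hadj, ← hae, Matrix.rank_mul_eq_left_of_isUnit_det]
    · rw [adj, Matrix.rank_transpose, rank_map_conj hσ.2]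
    · refine (Matrix.isUnit_iff_isUnit_det _).1 (IsUnit.mul ?_ (Y.isUnit.pow _))
      exact (isUnit_iff_ne_zero.2 (inv_ne_zero ((map_ne_zero σ).2 h0k))).map _
  have hker : ∀ p : F[X], Module.finrank F (LinearMap.ker (aeval (Matrix.toLin' Y.1) p)) + (aeval Y.1 p).rank = n := by
    intro p
    have e : aeval (Matrix.toLin' Y.1) p = Matrix.toLin' (aeval Y.1 p) :=
      aeval_algHom_apply (Matrix.toLinAlgEquiv' : Matrix (Fin n) (Fin n) F ≃ₐ[F] _).toAlgHom Y.1 p
    rw [e, Matrix.rank, add_comm]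
    have h := LinearMap.finrank_range_add_finrank_ker (Matrix.toLin' (aeval Y.1 p))
    rw [Module.finrank_fin_fun] at h
    exact h
  have key : ∀ f : F[X], f.Monic → f.coeff 0 ≠ 0 → Irreducible f → ∀ j : Fin n,
      (normalizedFactors (g.1 j)).count (dualP σ f) = (normalizedFactors (g.1 j)).count f := by
    intro f hf h0 hfi
    refine congrFun (ClassSeq.eq_of_min_sum fun k => ?_)
    have h1 := ClassSeq.finrank_ker hg (monic_dualP hf h0) (irreducible_dualP hσ.2 hf h0 hfi) k
    have h2 := ClassSeq.finrank_ker hg hf hfi k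
    have h3 := hker (dualP σ f ^ k)
    have h4 := hker (f ^ k)
    rw [hrank f h0 k] at h3
    rw [natDegree_dualP h0] at h1
    refine Nat.eq_of_mul_eq_mul_left hfi.natDegree_pos ?_
    omega
  intro j
  obtain ⟨hm, hc⟩ := g.2.1 j
  set M := normalizedFactors (g.1 j) with hM
  have hN : M.prod = g.1 j := by
    rw [hM, prod_normalizedFactors_eq hm.ne_zero, hm.normalize_eq_self]
  have hmem : ∀ f ∈ M, f.Monic ∧ f.coeff 0 ≠ 0 ∧ Irreducible f := by
    intro f hf
    refine ⟨?_, fun h => ?_, irreducible_of_normalized_factor f hf⟩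
    · rw [← normalize_normalized_factor _ hf]
      exact monic_normalize (irreducible_of_normalized_factor _ hf).ne_zero
    · obtain ⟨b, hb⟩ := dvd_of_mem_normalizedFactors hf
      refine hc ?_
      rw [hb, mul_coeff_zero, h, zero_mul]
  have hprod : ∀ M : Multiset F[X], dualP σ M.prod = (M.map (dualP σ)).prod := by
    intro M
    induction M using Multiset.induction with
    | empty => simp [dualP_one]
    | cons a M ih => rw [Multiset.prod_cons, Multiset.map_cons, Multiset.prod_cons, ← ih, dualP_mul]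
  rw [← hN, hprod]
  congr 1
  refine Multiset.ext.2 fun f => ?_
  by_cases hf : f.Monic ∧ f.coeff 0 ≠ 0 ∧ Irreducible f
  · obtain ⟨hf1, hf2, hf3⟩ := hf
    have hd : (dualP σ f).Monic ∧ (dualP σ f).coeff 0 ≠ 0 := ⟨monic_dualP hf1 hf2, by
      rw [coeff_zero_dualP hf1]; exact inv_ne_zero ((map_ne_zero σ).2 hf2)⟩
    have e : (M.map (dualP σ)).count f = M.count (dualP σ f) := by
      rw [Multiset.count_map, Multiset.count_eq_card_filter_eq]
      refine congrArg Multiset.card (Multiset.filter_congr fun a ha => ?_)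
      obtain ⟨ha1, ha2, -⟩ := hmem a ha
      constructor
      · intro h; rw [h, dualP_dualP hσ.2 ha1 ha2]
      · intro h; rw [← h, dualP_dualP hσ.2 hf1 hf2]
    rw [e]
    exact key f hf1 hf2 hf3 j
  · rw [Multiset.count_eq_zero.2 fun h => hf (hmem f h), Multiset.count_eq_zero.2 fun h => hf ?_]
    obtain ⟨a, ha, rfl⟩ := Multiset.mem_map.1 h
    obtain ⟨ha1, ha2, ha3⟩ := hmem a ha
    exact ⟨monic_dualP ha1 ha2, by rw [coeff_zero_dualP ha1]; exact inv_ne_zero ((map_ne_zero σ).2 ha2),
      irreducible_dualP hσ.2 ha1 ha2 ha3⟩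

/-- An involution of an index set pairing dual colours of equal multiplicity. -/
theorem exists_pairing {I C : Type*} [Finite I] (col : I → C) (d : C → C) (hd : ∀ i, d (d (col i)) = col i)
    (hcard : ∀ i, Nat.card {k // col k = d (col i)} = Nat.card {k // col k = col i}) :
    ∃ π : I → I, (∀ i, π (π i) = i) ∧ ∀ i, col (π i) = d (col i) := by
  classical
  have := Fintype.ofFinite I
  let E : ∀ c : C, {k // col k = c} ≃ Fin (Nat.card {k // col k = c}) := fun c => Finite.equivFin _
  let rk : I → ℕ := fun i => (E (col i) ⟨i, rfl⟩).val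
  have hrk : ∀ (c : C) (x : {k // col k = c}), rk x.1 = (E c x).val := by
    rintro c ⟨k, rfl⟩; rfl
  have hinj : ∀ i k, col i = col k → rk i = rk k → i = k := by
    intro i k h1 h2
    rw [hrk (col k) ⟨i, h1⟩, hrk (col k) ⟨k, rfl⟩] at h2
    exact congrArg Subtype.val ((E _).injective (Fin.ext h2))
  have hex : ∀ i, ∃ k, col k = d (col i) ∧ rk k = rk i := fun i => by
    let x := (E (d (col i))).symm ⟨rk i, by rw [hcard]; exact (E (col i) ⟨i, rfl⟩).2⟩
    refine ⟨x.1, x.2, ?_⟩
    rw [hrk _ x, Equiv.apply_symm_apply]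
  choose π hπ1 hπ2 using hex
  exact ⟨π, fun i => hinj _ _ (by rw [hπ1, hπ1, hd]) (by rw [hπ2, hπ2]), hπ1⟩

set_option maxHeartbeats 1000000 in
/-- For every occurring exponent the unitary centraliser contains all corresponding powers as determinants. -/
theorem exists_unitary_commute_det {q : ℕ} (hσ : IsInvol σ) (hσq : ∀ x, σ x = x ^ q) {Y : GL (Fin n) F}
    (hY : Y ∈ Cfsg.GU n F q) {g : Seqs F 1 n n} (hg : HasSeq (Matrix.toLin' Y.1) n g.1) {j : Fin n}
    (hj : (g.1 j).natDegree ≠ 0) {z : F} (hz : z ≠ 0) :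
    ∃ W ∈ Cfsg.GU n F q, Commute W Y ∧ W.1.det = (z / σ z) ^ (j.val + 1) := by
  classical
  have hfix := dual_fix hσ hσq hY hg
  obtain ⟨ι, hι, p, e, hp, he, ⟨A⟩, hgg⟩ := hg
  let P : {i // 0 < e i} → F[X] := fun i => normalize (p i.1)
  have hPm : ∀ i, (P i).Monic := fun i => monic_normalize (hp i.1).ne_zero
  have hPi : ∀ i, Irreducible (P i) := fun i => (normalize_associated (p i.1)).irreducible_iff.2 (hp i.1)
  let s : {i // 0 < e i} → F[X] := fun i => P i ^ e i.1
  have hsm : ∀ i, (s i).Monic := fun i => (hPm i).pow _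
  have hjm : ∀ i : {i // 0 < e i}, ∃ k : Fin n, e i.1 = k.val + 1 := fun i => by
    have := he i.1
    have := i.2
    exact ⟨⟨e i.1 - 1, by omega⟩, by simp only; omega⟩
  have hP0 : ∀ i, (P i).coeff 0 ≠ 0 := by
    intro i h
    obtain ⟨k, hk⟩ := hjm i
    refine (g.2.1 k).2 ?_
    obtain ⟨b, hb⟩ : P i ∣ g.1 k := by
      rw [hgg]
      exact Finset.dvd_prod_of_mem (fun i => normalize (p i)) (Finset.mem_filter.2 ⟨Finset.mem_univ _, hk⟩)
    rw [hb, mul_coeff_zero, h, zero_mul]
  -- colours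
  have hmult : ∀ (f : F[X]) (k : Fin n), Nat.card {i : {i // 0 < e i} // (P i, e i.1) = (f, k.val + 1)} =
      (normalizedFactors (g.1 k)).count f := by
    intro f k
    rw [hgg, Finset.prod_eq_multiset_prod, normalizedFactors_prod_eq _ (fun a ha => by
      obtain ⟨i, -, rfl⟩ := Multiset.mem_map.1 ha
      exact (normalize_associated (p i)).irreducible_iff.2 (hp i)), Multiset.map_map]
    simp only [Function.comp_def, normalize_idem]
    rw [Multiset.count_map, ← Finset.filter_val, Finset.filter_filter, Finset.card_val, ← Fintype.card_subtype,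
      ← Nat.card_eq_fintype_card]
    refine Nat.card_congr ((Equiv.subtypeSubtypeEquivSubtype (q := fun i => (normalize (p i), e i) = (f, k.val + 1)) ?_).trans
      (Equiv.subtypeEquivRight fun i => ?_))
    · intro i hi
      have h2 := congrArg Prod.snd hi
      simp only at h2
      omega
    · rw [Prod.ext_iff, and_comm, eq_comm (a := normalize (p i))]
  obtain ⟨π, hππ, hπc⟩ := exists_pairing (fun i : {i // 0 < e i} => (P i, e i.1)) (fun c => (dualP σ c.1, c.2))
    (fun i => by simp only [dualP_dualP hσ.2 (hPm i) (hP0 i)]) (fun i => by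
      obtain ⟨k, hk⟩ := hjm i
      simp only [hk]
      rw [hmult, hmult]
      conv_rhs => rw [← hfix k]
      -- a self-dual polynomial has dual factors equally often
      set M := normalizedFactors (g.1 k) with hM
      have hmem : ∀ f ∈ M, f.Monic ∧ f.coeff 0 ≠ 0 ∧ Irreducible f := by
        intro f hf
        refine ⟨?_, fun h => ?_, irreducible_of_normalized_factor f hf⟩
        · rw [← normalize_normalized_factor _ hf]
          exact monic_normalize (irreducible_of_normalized_factor _ hf).ne_zero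
        · obtain ⟨b, hb⟩ := dvd_of_mem_normalizedFactors hf
          refine (g.2.1 k).2 ?_
          rw [hb, mul_coeff_zero, h, zero_mul]
      have hprod : ∀ M : Multiset F[X], dualP σ M.prod = (M.map (dualP σ)).prod := by
        intro M
        induction M using Multiset.induction with
        | empty => simp [dualP_one]
        | cons a M ih => rw [Multiset.prod_cons, Multiset.map_cons, Multiset.prod_cons, ← ih, dualP_mul]
      have hM' : normalizedFactors (dualP σ (g.1 k)) = M.map (dualP σ) := by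
        conv_lhs => rw [← (g.2.1 k).1.normalize_eq_self, ← prod_normalizedFactors_eq (g.2.1 k).1.ne_zero,
          ← hM, hprod]
        rw [normalizedFactors_prod_eq _ (fun a ha => by
          obtain ⟨b, hb, rfl⟩ := Multiset.mem_map.1 ha
          obtain ⟨h1, h2, h3⟩ := hmem b hb
          exact irreducible_dualP hσ.2 h1 h2 h3), Multiset.map_map]
        refine Multiset.map_congr rfl fun a ha => ?_
        obtain ⟨h1, h2, -⟩ := hmem a ha
        exact (monic_dualP h1 h2).normalize_eq_self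
      rw [hM', Multiset.count_map, Multiset.count_eq_card_filter_eq]
      refine congrArg Multiset.card (Multiset.filter_congr fun a ha => ?_)
      obtain ⟨ha1, ha2, -⟩ := hmem a ha
      constructor
      · intro h; rw [← h, dualP_dualP hσ.2 (hPm i) (hP0 i)]
      · intro h; rw [h, dualP_dualP hσ.2 ha1 ha2])
  have hs_dual : ∀ i, dualP σ (s (π i)) = s i := by
    intro i
    have h1 := congrArg Prod.fst (hπc i)
    have h2 := congrArg Prod.snd (hπc i)
    simp only at h1 h2
    have hk : ∀ (f : F[X]) (m : ℕ), dualP σ (f ^ m) = dualP σ f ^ m := fun f m => by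
      induction m with
      | zero => rw [pow_zero, pow_zero, dualP_one]
      | succ m ih => rw [pow_succ, pow_succ, dualP_mul, ih]
    simp only [s, h1, h2, hk, dualP_dualP hσ.2 (hPm i) (hP0 i)]
  -- the quotient rings
  let Q : {i // 0 < e i} → Type u := fun i => F[X] ⧸ Ideal.span {s i}
  let mk : ∀ i, F[X] →+* Q i := fun i => Ideal.Quotient.mk (Ideal.span {s i})
  have hmk_alg : ∀ i (a : F), mk i (C a) = algebraMap F (Q i) a := fun i a => rfl
  have hmk_s : ∀ i, mk i (s i) = 0 := fun i =>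
    Ideal.Quotient.eq_zero_iff_mem.2 (Ideal.mem_span_singleton_self _)
  have hx : ∀ i, ∃ u : (Q i)ˣ, (u : Q i) = mk i X := fun i => by
    have hcop : IsCoprime (X : F[X]) (s i) := by
      refine IsCoprime.pow_right ((Irreducible.coprime_iff_not_dvd irreducible_X).2 ?_)
      rw [X_dvd_iff]; exact hP0 i
    obtain ⟨a, b, hab⟩ := hcop
    have h := congrArg (mk i) hab
    rw [map_add, map_mul, map_mul, hmk_s, mul_zero, add_zero, map_one] at h
    exact ⟨⟨mk i X, mk i a, by rw [mul_comm]; exact h, h⟩, rfl⟩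
  choose x hx using hx
  have haev : ∀ i (r : F[X]), aeval ((x i : Q i)) r = mk i r := by
    intro i r
    rw [hx]
    induction r using Polynomial.induction_on' with
    | add a b ha hb => rw [map_add, map_add, ha, hb]
    | monomial m a => rw [aeval_monomial, ← C_mul_X_pow_eq_monomial, map_mul, map_pow, hmk_alg]
  let ρ : ∀ i, F[X] →+* Q i := fun i =>
    (aeval (((x i)⁻¹ : (Q i)ˣ) : Q i)).toRingHom.comp (mapRingHom σ)
  have hρs : ∀ i (r : F[X]), mk (π i) r = 0 → ρ i r = 0 := by
    intro i r hr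
    obtain ⟨t, rfl⟩ := Ideal.mem_span_singleton.1 (Ideal.Quotient.eq_zero_iff_mem.1 hr)
    rw [map_mul]
    refine mul_eq_zero_of_left ?_ _
    show aeval (((x i)⁻¹ : (Q i)ˣ) : Q i) ((s (π i)).map σ) = 0
    have h := aeval_dualP (σ := σ) (x i) (s (π i))
    rw [hs_dual, haev, hmk_s] at h
    have h0 : (s (π i)).coeff 0 ≠ 0 := by
      simp only [s, coeff_zero_eq_eval_zero, eval_pow]
      rw [← coeff_zero_eq_eval_zero]
      exact pow_ne_zero _ (hP0 _)
    have hu1 : IsUnit (algebraMap F (Q i) ((σ ((s (π i)).coeff 0))⁻¹)) :=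
      (isUnit_iff_ne_zero.2 (inv_ne_zero ((map_ne_zero σ).2 h0))).map _
    have hu2 : IsUnit ((x i : Q i) ^ (s (π i)).natDegree) := (x i).isUnit.pow _
    exact hu2.mul_left_eq_zero.1 (hu1.mul_right_eq_zero.1 h.symm)
  let θ : ∀ i, Q (π i) →+* Q i := fun i => Ideal.Quotient.lift _ (ρ i) fun r hr =>
    hρs i r (Ideal.Quotient.eq_zero_iff_mem.2 hr)
  have hθmk : ∀ i r, θ i (mk (π i) r) = ρ i r := fun i r => rfl
  have hρC : ∀ i (a : F), ρ i (C a) = algebraMap F (Q i) (σ a) := fun i a => by
    show aeval _ ((C a).map σ) = _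
    rw [map_C, aeval_C]
  have hρX : ∀ i, ρ i X = (((x i)⁻¹ : (Q i)ˣ) : Q i) := fun i => by
    show aeval _ ((X : F[X]).map σ) = _
    rw [map_X, aeval_X]
  let τ : (∀ i, Q i) →+* ∀ i, Q i := Pi.ringHom fun i => (θ i).comp (Pi.evalRingHom Q (π i))
  have hτi : ∀ v i, τ v i = θ i (v (π i)) := fun v i => rfl
  have hττ : ∀ v, τ (τ v) = v := by
    intro v
    have hr : ∀ i, ∃ r, mk i r = v i := fun i => Ideal.Quotient.mk_surjective _
    choose r hr using hr
    funext i
    have hv : τ v (π i) = ρ (π i) (r i) := by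
      rw [hτi, ← hr (π (π i)), hθmk]
      exact congrArg (fun k => ρ (π i) (r k)) (hππ i)
    rw [hτi, hv, ← hr i]
    suffices (θ i).comp (ρ (π i)) = mk i from DFunLike.congr_fun this (r i)
    refine Polynomial.ringHom_ext (fun a => ?_) ?_
    · rw [RingHom.comp_apply, hρC, ← hmk_alg, hθmk, hρC, hσ.2, ← hmk_alg]
    · rw [RingHom.comp_apply, hρX, ← hx i]
      have h1 : θ i (x (π i) : Q (π i)) = (((x i)⁻¹ : (Q i)ˣ) : Q i) := by rw [hx, hθmk, hρX]
      have h2 : θ i (x (π i) : Q (π i)) * θ i (((x (π i))⁻¹ : (Q (π i))ˣ) : Q (π i)) = 1 := by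
        rw [← map_mul, Units.mul_inv, map_one]
      rw [h1] at h2
      calc θ i (((x (π i))⁻¹ : (Q (π i))ˣ) : Q (π i))
          = (x i : Q i) * ((((x i)⁻¹ : (Q i)ˣ) : Q i) * θ i (((x (π i))⁻¹ : (Q (π i))ˣ) : Q (π i))) := by
            rw [← mul_assoc, Units.mul_inv, one_mul]
        _ = (x i : Q i) := by rw [h2, mul_one]
  have hτsmul : ∀ (a : F) (v : ∀ i, Q i), τ (a • v) = σ a • τ v := by
    intro a v
    funext i
    rw [Pi.smul_apply, hτi, hτi, Pi.smul_apply]
    obtain ⟨r, hr⟩ := Ideal.Quotient.mk_surjective (v (π i))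
    rw [← hr]
    show θ i (mk (π i) (a • r)) = σ a • θ i (mk (π i) r)
    rw [hθmk, hθmk, smul_eq_C_mul, map_mul, hρC]
    obtain ⟨t, ht⟩ := Ideal.Quotient.mk_surjective (ρ i r)
    rw [← ht]
    show mk i (C (σ a) * t) = mk i (σ a • t)
    rw [smul_eq_C_mul]
  haveI hfin : ∀ i, Module.Finite F (Q i) := fun i => (hsm i).finite_quotient
  -- socle elements and functionals
  let m₀ : ∀ i, Q i := fun i => mk i (P i ^ (e i.1 - 1))
  have hm₀ : ∀ i, m₀ i ≠ 0 := by
    intro i h
    rw [Ideal.Quotient.eq_zero_iff_mem, Ideal.mem_span_singleton] at h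
    have := (pow_dvd_pow_iff (hPm i).ne_zero (hPi i).not_isUnit).1 h
    have := i.2
    omega
  have hsoc : ∀ i (a : Q i), a ≠ 0 → ∃ b, a * b = m₀ i := by
    intro i a ha
    obtain ⟨r, rfl⟩ := Ideal.Quotient.mk_surjective a
    obtain ⟨t, htle, hass⟩ := (dvd_prime_pow (hPi i).prime (e i.1)).1 (EuclideanDomain.gcd_dvd_right r (s i))
    have hlt : t < e i.1 := by
      by_contra hc
      refine ha (Ideal.Quotient.eq_zero_iff_mem.2 (Ideal.mem_span_singleton.2 ?_))
      have h1 : s i ∣ EuclideanDomain.gcd r (s i) := by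
        rw [show t = e i.1 by omega] at hass
        exact hass.symm.dvd
      exact h1.trans (EuclideanDomain.gcd_dvd_left r (s i))
    obtain ⟨w, hw⟩ := (hass.dvd.trans (pow_dvd_pow _ (show t ≤ e i.1 - 1 by omega)) :
      EuclideanDomain.gcd r (s i) ∣ P i ^ (e i.1 - 1))
    refine ⟨mk i (EuclideanDomain.gcdA r (s i) * w), ?_⟩
    show mk i r * mk i _ = mk i _
    rw [← map_mul, hw, EuclideanDomain.gcd_eq_gcd_ab, add_mul, map_add, ← mul_assoc, map_mul (mk i) (s i * _),
      map_mul (mk i) (s i), hmk_s]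
    simp [mul_assoc]
  choose g0 hg0 using fun i => exists_functional (F := F) (s i) (hsm i).ne_zero
  let idx : {i // 0 < e i} → ℕ := fun i => (Fintype.equivFin _ i).val
  have hidx : Function.Injective idx := fun a b h => (Fintype.equivFin _).injective (Fin.ext h)
  have hchoice : ∀ i, ∃ (b : Q i) (c : F), (π i ≠ i → idx i < idx (π i) → c * g0 i (m₀ i * b) ≠ 0) ∧
      (π i = i → c * g0 i (m₀ i * b) + σ (c * g0 i (τ (Pi.single i (m₀ i * b)) i)) ≠ 0) ∧
      (idx (π i) < idx i → c = 0) := by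
    intro i
    obtain ⟨b, hb⟩ := hg0 i _ (hm₀ i)
    rcases lt_trichotomy (idx (π i)) (idx i) with h | h | h
    · exact ⟨b, 0, fun _ h' => absurd h' (by omega), fun h' => by rw [h'] at h; omega, fun _ => rfl⟩
    · obtain ⟨c, hc⟩ : ∃ c : F, c * g0 i (m₀ i * b) + σ (c * g0 i (τ (Pi.single i (m₀ i * b)) i)) ≠ 0 := by
        by_contra hc
        push Not at hc
        obtain ⟨a, ha⟩ := exists_moved hσ
        have h1 := hc 1
        have h2 := hc a
        rw [one_mul, one_mul] at h1
        rw [map_mul σ] at h2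
        refine hb ?_
        have h3 : (a - σ a) * g0 i (m₀ i * b) = 0 := by linear_combination h2 - σ a * h1
        exact (mul_eq_zero.1 h3).resolve_left (sub_ne_zero.2 (Ne.symm ha))
      exact ⟨b, c, fun h' => absurd (hidx h) h', fun _ => hc, fun h' => absurd h' (by omega)⟩
    · exact ⟨b, 1, fun _ _ => by rwa [one_mul], fun h' => by rw [h'] at h; omega, fun h' => absurd h' (by omega)⟩
  choose b c hc1 hc2 hc3 using hchoice
  let G : (∀ i, Q i) →ₗ[F] F := ∑ i, c i • (g0 i).comp (LinearMap.proj i)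
  have hG : ∀ i (w : Q i), G (Pi.single i w) = c i * g0 i w := by
    intro i w
    simp only [G, LinearMap.sum_apply, LinearMap.smul_apply, LinearMap.comp_apply, LinearMap.proj_apply, smul_eq_mul]
    rw [Finset.sum_eq_single i]
    · rw [Pi.single_eq_same]
    · intro k _ hk
      rw [Pi.single_eq_of_ne hk, map_zero, mul_zero]
    · exact fun h => absurd (Finset.mem_univ i) h
  let L : (∀ i, Q i) → F := fun v => G v + σ (G (τ v))
  have hL_add : ∀ v w, L (v + w) = L v + L w := fun v w => by simp only [L, map_add]; ring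
  have hL_smul : ∀ (a : F) v, L (a • v) = a * L v := fun a v => by
    simp only [L, hτsmul, map_smul, smul_eq_mul, map_mul, hσ.2]; ring
  have hLτ : ∀ v, L (τ v) = σ (L v) := fun v => by
    simp only [L, hττ, map_add, hσ.2]; ring
  have hτsingle : ∀ i k (w : Q k), π i ≠ k → τ (Pi.single k w) i = 0 := fun i k w h => by
    rw [hτi, Pi.single_eq_of_ne h, map_zero]
  have hτsupp : ∀ k (w : Q k), τ (Pi.single k w) = Pi.single (π k) (τ (Pi.single k w) (π k)) := by
    intro k w
    funext i
    by_cases h : i = π k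
    · subst h; rw [Pi.single_eq_same]
    · rw [Pi.single_eq_of_ne h, hτsingle]
      intro h'; exact h (by rw [← h', hππ])
  have hrep : ∀ i, (π i = i ∨ idx i < idx (π i)) → L (Pi.single i (m₀ i * b i)) ≠ 0 := by
    intro i hi
    rcases hi with h | h
    · have e : τ (Pi.single i (m₀ i * b i)) = Pi.single i (τ (Pi.single i (m₀ i * b i)) i) := by
        funext k
        by_cases hk : k = i
        · subst hk; rw [Pi.single_eq_same]
        · rw [Pi.single_eq_of_ne hk, hτsingle]
          intro h'; exact hk (by rw [← hππ k, h', h])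
      simp only [L]
      rw [hG, e, hG]
      exact hc2 i h
    · have hne : π i ≠ i := fun h' => by rw [h'] at h; omega
      simp only [L]
      rw [hG, hτsupp i, hG, hc3 (π i) (by rw [hππ]; exact h), zero_mul, map_zero, add_zero]
      exact hc1 i hne h
  have hLsoc : ∀ i, ∃ w : Q i, L (Pi.single i (m₀ i * w)) ≠ 0 := by
    intro i
    by_cases hi : π i = i ∨ idx i < idx (π i)
    · exact ⟨b i, hrep i hi⟩
    push Not at hi
    have h' : idx (π i) < idx i := lt_of_le_of_ne hi.2 fun h => hi.1 (hidx h)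
    have hk := hrep (π i) (Or.inr (by rw [hππ]; exact h'))
    set V := Pi.single (π i) (m₀ (π i) * b (π i)) with hV
    have hsupp : τ V = Pi.single i (τ V i) := by
      funext k
      by_cases hk : k = i
      · subst hk; rw [Pi.single_eq_same]
      · rw [Pi.single_eq_of_ne hk, hV, hτsingle]
        intro h2; exact hk (by rw [← hππ k, h2, hππ])
    obtain ⟨w, hw⟩ : m₀ i ∣ τ V i := by
      rw [hτi, hV, Pi.single_eq_same, map_mul]
      refine dvd_mul_of_dvd_left ?_ _
      show m₀ i ∣ θ i (mk (π i) (P (π i) ^ (e (π i).1 - 1)))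
      have h1 := congrArg Prod.fst (hπc i)
      have h2 := congrArg Prod.snd (hπc i)
      simp only at h1 h2
      rw [hθmk, h1, h2, map_pow]
      show mk i (P i ^ (e i.1 - 1)) ∣ _
      rw [map_pow]
      refine pow_dvd_pow_of_dvd ?_ _
      have h3 := aeval_dualP (σ := σ) (x i) (dualP σ (P i))
      rw [dualP_dualP hσ.2 (hPm i) (hP0 i), haev] at h3
      rw [h3, show ρ i (dualP σ (P i)) = aeval (((x i)⁻¹ : (Q i)ˣ) : Q i) ((dualP σ (P i)).map σ) from rfl]
      have h4 : (σ ((dualP σ (P i)).coeff 0))⁻¹ ≠ 0 := by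
        rw [coeff_zero_dualP (hPm i)]
        exact inv_ne_zero ((map_ne_zero σ).2 (inv_ne_zero ((map_ne_zero σ).2 (hP0 i))))
      exact (IsUnit.mul_left_dvd ((isUnit_iff_ne_zero.2 h4).map _)).2
        ((IsUnit.mul_right_dvd ((x i).isUnit.pow _)).2 dvd_rfl)
    refine ⟨w, fun h => hk ?_⟩
    rw [← hw, ← hsupp, hLτ, map_eq_zero] at h
    exact h
  have hnd : ∀ v, (∀ w, L (v * w) = 0) → v = 0 := by
    intro v hv
    funext i
    by_contra hne
    obtain ⟨w, hw⟩ := hLsoc i
    obtain ⟨b', hb'⟩ := hsoc i _ hne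
    refine hw ?_
    rw [← hb']
    have e : Pi.single i (v i * b' * w) = v * Pi.single i (b' * w) := by
      funext k
      by_cases hk : k = i
      · subst hk; rw [Pi.mul_apply, Pi.single_eq_same, Pi.single_eq_same, mul_assoc]
      · rw [Pi.mul_apply, Pi.single_eq_of_ne hk, Pi.single_eq_of_ne hk, mul_zero]
    rw [e]
    exact hv _
  -- the transported form
  let T : (Fin n → F) ≃ₗ[F] ∀ i, Q i :=
    (Module.AEval'.of (Matrix.toLin' Y.1)).trans (A.restrictScalars F)
  let xR : ∀ i, Q i := fun i => mk i X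
  have hTY : ∀ v, T (Y.1.mulVec v) = xR * T v := by
    intro v
    funext i
    show A (Module.AEval'.of (Matrix.toLin' Y.1) (Matrix.toLin' Y.1 v)) i = xR i * T v i
    rw [MatModule.of_apply, map_smul, Pi.smul_apply]
    obtain ⟨r, hr⟩ := Ideal.Quotient.mk_surjective (A (Module.AEval'.of (Matrix.toLin' Y.1) v) i)
    show (X : F[X]) • A (Module.AEval'.of (Matrix.toLin' Y.1) v) i = mk i X * A (Module.AEval'.of (Matrix.toLin' Y.1) v) i
    rw [← hr]
    rfl
  let es : Fin n → (Fin n → F) := fun k => Pi.single k 1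
  let H : Matrix (Fin n) (Fin n) F := Matrix.of fun k l => L (τ (T (es k)) * T (es l))
  have hbil : ∀ v w : Fin n → F, L (τ (T v) * T w) = ∑ k, ∑ l, σ (v k) * H k l * w l := by
    intro v w
    have hv : ∀ v : Fin n → F, v = ∑ k, v k • es k := fun v => pi_eq_sum_univ' v
    let Lm : (∀ i, Q i) →ₗ[F] F := ⟨⟨L, hL_add⟩, hL_smul⟩
    show Lm (τ (T v) * T w) = _
    conv_lhs => rw [hv v, hv w]
    simp only [map_sum, map_smul, hτsmul, Finset.sum_mul, Finset.mul_sum, smul_mul_assoc, mul_smul_comm, smul_eq_mul]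
    rw [Finset.sum_comm]
    refine Finset.sum_congr rfl fun k _ => Finset.sum_congr rfl fun l _ => ?_
    show _ = σ (v k) * L (τ (T (es k)) * T (es l)) * w l
    show w l * (σ (v k) * L (τ (T (es k)) * T (es l))) = _
    ring
  have hentry : ∀ (M N : Matrix (Fin n) (Fin n) F) k l,
      (adj σ M * H * N) k l = L (τ (T (M.mulVec (es k))) * T (N.mulVec (es l))) := by
    intro M N k l
    rw [hbil]
    simp only [es, Matrix.mulVec_single_one, Matrix.mul_apply, adj, Matrix.transpose_apply, Matrix.map_apply,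
      Finset.sum_mul, Matrix.col_apply]
    exact Finset.sum_comm
  have hHadj : adj σ H = H := by
    ext k l
    show σ (L (τ (T (es l)) * T (es k))) = L (τ (T (es k)) * T (es l))
    rw [← hLτ, map_mul, hττ, mul_comm]
  have hHu : IsUnit H := by
    rw [← Matrix.mulVec_injective_iff_isUnit]
    intro w w' hww
    rw [← sub_eq_zero] at hww ⊢
    rw [← Matrix.mulVec_sub] at hww
    refine T.map_eq_zero_iff.1 (hnd _ fun a => ?_)
    obtain ⟨v, hv⟩ := T.surjective (τ a)
    rw [mul_comm, ← hττ a, ← hv, hbil]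
    refine Finset.sum_eq_zero fun k _ => ?_
    have := congrFun hww k
    simp only [Matrix.mulVec, dotProduct, Pi.zero_apply] at this
    simp only [mul_assoc, ← Finset.mul_sum, this, mul_zero]
  let mat : (∀ i, Q i) → Matrix (Fin n) (Fin n) F := fun a =>
    LinearMap.toMatrix' (T.symm.toLinearMap ∘ₗ (LinearMap.mulLeft F a) ∘ₗ T.toLinearMap)
  have hmat : ∀ a v, T ((mat a).mulVec v) = a * T v := fun a v => by
    simp only [mat, LinearMap.toMatrix'_mulVec, LinearMap.comp_apply, LinearEquiv.coe_coe,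
      LinearEquiv.apply_symm_apply, LinearMap.mulLeft_apply]
  have hmatY : mat xR = Y.1 := by
    refine Matrix.ext_of_mulVec_single fun i => T.injective ?_
    rw [hmat, hTY]
  have hmat_mul : ∀ a a', mat a * mat a' = mat (a * a') := fun a a' => by
    refine Matrix.ext_of_mulVec_single fun i => T.injective ?_
    rw [← Matrix.mulVec_mulVec, hmat, hmat, hmat, mul_assoc]
  have hmat_one : mat 1 = 1 := by
    refine Matrix.ext_of_mulVec_single fun i => T.injective ?_
    rw [hmat, one_mul, Matrix.one_mulVec]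
  have hpres : ∀ a, τ a * a = 1 → adj σ (mat a) * H * mat a = H := by
    intro a ha
    ext k l
    rw [hentry, hmat, hmat, map_mul, mul_mul_mul_comm, ha, one_mul]
    rfl
  -- the element
  obtain ⟨i₀, hi₀⟩ : ∃ i : {i // 0 < e i}, e i.1 = j.val + 1 := by
    by_contra hc'
    refine hj ?_
    rw [hgg, Finset.prod_eq_one (fun i hi => absurd ⟨⟨i, ?_⟩, (Finset.mem_filter.1 hi).2⟩ hc'), natDegree_one]
    have := (Finset.mem_filter.1 hi).2
    omega
  haveI : Fact (Irreducible (P i₀)) := ⟨hPi i₀⟩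
  haveI : Module.Finite F (AdjoinRoot (P i₀)) := finite_adjoinRoot _ (hPm i₀)
  haveI : Module.Finite F (AdjoinRoot (s i₀)) := finite_adjoinRoot _ (hsm i₀)
  haveI : Finite (AdjoinRoot (P i₀)) := Module.finite_of_finite F
  have hexp : ∀ a : ℕ, ∀ y : AdjoinRoot (s i₀), aeval (y ^ Fintype.card F ^ a) (P i₀) =
      aeval y (P i₀ ^ Fintype.card F ^ a) := by
    intro a
    induction a with
    | zero => intro y; simp
    | succ a ih =>
      intro y
      rw [pow_succ', pow_mul, ih (y ^ Fintype.card F), ← expand_aeval, FiniteField.expand_card, ← pow_mul,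
        mul_comm (Fintype.card F ^ a)]
  have hroot : aeval (AdjoinRoot.root (s i₀) ^ Fintype.card F ^ e i₀.1) (P i₀) = 0 := by
    rw [hexp, AdjoinRoot.aeval_eq, AdjoinRoot.mk_eq_zero]
    exact pow_dvd_pow _ (Nat.lt_pow_self Fintype.one_lt_card).le
  let Lh : AdjoinRoot (P i₀) →ₐ[F] AdjoinRoot (s i₀) :=
    AdjoinRoot.liftAlgHom (P i₀) (Algebra.ofId F _) (AdjoinRoot.root (s i₀) ^ Fintype.card F ^ e i₀.1) hroot
  obtain ⟨y, hy⟩ := FiniteField.norm_surjective F (AdjoinRoot (P i₀)) z
  have hy0 : y ≠ 0 := by rintro rfl; rw [Algebra.norm_zero] at hy; exact hz hy.symm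
  have hnorm : Algebra.norm F (Lh y) = z ^ (j.val + 1) := by
    letI := Lh.toRingHom.toAlgebra
    haveI : IsScalarTower F (AdjoinRoot (P i₀)) (AdjoinRoot (s i₀)) :=
      IsScalarTower.of_algebraMap_eq' Lh.comp_algebraMap.symm
    haveI : Module.Finite (AdjoinRoot (P i₀)) (AdjoinRoot (s i₀)) := Module.Finite.of_restrictScalars_finite F _ _
    have hd := Module.finrank_mul_finrank F (AdjoinRoot (P i₀)) (AdjoinRoot (s i₀))
    rw [(AdjoinRoot.powerBasis (hPm i₀).ne_zero).finrank, (AdjoinRoot.powerBasis (hsm i₀).ne_zero).finrank,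
      AdjoinRoot.powerBasis_dim, AdjoinRoot.powerBasis_dim,
      show (s i₀).natDegree = e i₀.1 * (P i₀).natDegree from natDegree_pow _ _,
      mul_comm (e i₀.1)] at hd
    have hd' := Nat.eq_of_mul_eq_mul_left (hPi i₀).natDegree_pos hd
    have h1 : Lh y = algebraMap (AdjoinRoot (P i₀)) (AdjoinRoot (s i₀)) y := rfl
    rw [h1, ← Algebra.norm_norm (S := AdjoinRoot (P i₀)), Algebra.norm_algebraMap, map_pow, hy, hd', hi₀]
  let k₀ : Q i₀ := Lh y
  have hk₀ : IsUnit k₀ := (Ne.isUnit hy0).map Lh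
  let cR : ∀ i, Q i := Function.update 1 i₀ k₀
  have hcR : IsUnit cR := by
    rw [Pi.isUnit_iff]
    intro i
    by_cases h : i = i₀
    · subst h; simpa [cR] using hk₀
    · simp [cR, Function.update_of_ne h]
  have hdetc : (mat cR).det = z ^ (j.val + 1) := by
    have e1 : LinearMap.mulLeft F cR = LinearMap.id + (LinearMap.single F Q i₀).comp
        ((Algebra.lmul F (Q i₀) k₀ - LinearMap.id).comp (LinearMap.proj i₀)) := by
      refine LinearMap.ext fun v => funext fun i => ?_
      show cR i * v i = v i + Pi.single i₀ (k₀ * v i₀ - v i₀) i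
      by_cases h : i = i₀
      · subst h; simp [cR]
      · simp [cR, Function.update_of_ne h, Pi.single_eq_of_ne h]
    show (LinearMap.toMatrix' _).det = _
    rw [LinearMap.det_toMatrix', e1]
    have h := det_of_retract (LinearMap.proj (R := F) (φ := Q) i₀) (LinearMap.single F Q i₀)
      (fun w => Pi.single_eq_same i₀ w) (Algebra.lmul F (Q i₀) k₀)
    rw [← Algebra.norm_apply] at h
    refine Eq.trans ?_ (h.trans hnorm)
    exact LinearMap.det_conj _ T.symm
  have hdetτ : (mat (τ cR)).det = σ (mat cR).det := by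
    have e : adj σ (mat cR) * H = H * mat (τ cR) := by
      ext k l
      have h1 := hentry (mat cR) 1 k l
      have h2 := hentry 1 (mat (τ cR)) k l
      rw [Matrix.mul_one, Matrix.one_mulVec, hmat, map_mul] at h1
      rw [adj_one, Matrix.one_mul, hmat, Matrix.one_mulVec] at h2
      rw [h1, h2]; congr 1; ring
    have h := congrArg Matrix.det e
    rw [Matrix.det_mul, Matrix.det_mul, det_adj, mul_comm] at h
    exact (mul_left_cancel₀ ((Matrix.isUnit_iff_isUnit_det H).1 hHu).ne_zero h).symm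
  obtain ⟨C', hC'⟩ := hcR
  let uR : (∀ i, Q i)ˣ := C' * (Units.map τ.toMonoidHom C')⁻¹
  have huR : τ (uR : ∀ i, Q i) * (uR : ∀ i, Q i) = 1 := by
    have : Units.map τ.toMonoidHom uR * uR = 1 := by
      have h2 : Units.map τ.toMonoidHom (Units.map τ.toMonoidHom C') = C' := Units.ext (hττ _)
      show Units.map τ.toMonoidHom (C' * (Units.map τ.toMonoidHom C')⁻¹) * (C' * (Units.map τ.toMonoidHom C')⁻¹) = 1
      rw [map_mul, map_inv, h2]
      group
    exact congrArg Units.val this
  let matU : (∀ i, Q i)ˣ → GL (Fin n) F := fun a => ⟨mat a, mat (a⁻¹ : (∀ i, Q i)ˣ),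
    by rw [hmat_mul, Units.mul_inv, hmat_one], by rw [hmat_mul, Units.inv_mul, hmat_one]⟩
  obtain ⟨P', hP'⟩ := exists_adj_mul_self hσ hHadj hHu
  have hconj : ∀ M : GL (Fin n) F, adj σ M.1 * H * M.1 = H → P' * M * P'⁻¹ ∈ Cfsg.GU n F q := by
    intro M hM
    rw [mem_GU_iff_adj hσq, Units.val_mul, Units.val_mul, adj_mul, adj_mul]
    calc adj σ (P'⁻¹ : GL (Fin n) F).1 * (adj σ M.1 * adj σ P'.1) * (P'.1 * M.1 * (P'⁻¹ : GL (Fin n) F).1)
        = adj σ (P'⁻¹ : GL (Fin n) F).1 * (adj σ M.1 * (adj σ P'.1 * P'.1) * M.1) * (P'⁻¹ : GL (Fin n) F).1 := by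
          simp only [mul_assoc]
      _ = 1 := by
          rw [hP', hM, ← hP', ← mul_assoc, mul_assoc (_ * _) P'.1, Units.mul_inv, mul_one, ← adj_mul, Units.mul_inv,
            adj_one]
  have hxR : τ xR * xR = 1 := by
    funext i
    rw [Pi.mul_apply, hτi, Pi.one_apply, show xR (π i) = mk (π i) X from rfl, hθmk, hρX,
      show xR i = (x i : Q i) from (hx i).symm, Units.inv_mul]
  have hYH : adj σ Y.1 * H * Y.1 = H := by rw [← hmatY]; exact hpres _ hxR
  obtain ⟨W₀, hW₀, hW₀c⟩ := exists_unitary_conj hσ hσq hY (hconj Y hYH) rfl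
  have hcomm : Commute (matU uR) Y := by
    refine Units.ext ?_
    show mat uR * Y.1 = Y.1 * mat uR
    rw [← hmatY, hmat_mul, hmat_mul, mul_comm]
  refine ⟨W₀⁻¹ * (P' * matU uR * P'⁻¹) * W₀,
    mul_mem (mul_mem (inv_mem hW₀) (hconj _ (hpres _ huR))) hW₀, ?_, ?_⟩
  · have h1 : Commute (P' * matU uR * P'⁻¹) (P' * Y * P'⁻¹) := hcomm.map (MulAut.conj P').toMonoidHom
    rw [← hW₀c] at h1
    have h2 := h1.map (MulAut.conj W₀⁻¹).toMonoidHom
    simp only [MulEquiv.coe_toMonoidHom, MulAut.conj_apply, inv_inv] at h2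
    rwa [show W₀⁻¹ * (W₀ * Y * W₀⁻¹) * W₀ = Y by group] at h2
  · rw [Units.val_mul, Units.val_mul, Units.val_mul, Units.val_mul, Matrix.det_units_conj' W₀, Matrix.det_units_conj]
    show (mat (uR : ∀ i, Q i)).det = _
    have h : mat (uR : ∀ i, Q i) * mat (τ cR) = mat cR := by
      rw [hmat_mul, ← hC']
      congr 1
      exact congrArg Units.val (inv_mul_cancel_right C' (Units.map τ.toMonoidHom C'))
    have h' := congrArg Matrix.det h
    rw [Matrix.det_mul, hdetτ, hdetc] at h'
    rw [div_pow, ← map_pow, eq_div_iff ((map_ne_zero σ).2 (pow_ne_zero _ hz)), h']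

end Cfsg.Agent.USeq
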