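import Cfsg.Agent.Classical.SympGroup
import Cfsg.Agent.MatModule.SympConj
import Cfsg.Agent.MatModule.SelfDualPoly

/-!
Symplectic matrices with prescribed palindromic characteristic polynomial.
-/

set_option autoImplicit false

namespace Cfsg.Agent.SympConj

open Module Polynomial Matrix Cfsg.Agent.Classical

variable {F : Type*} [Field F] {m : ℕ}

theorem det_eq_one (A : Matrix.symplecticGroup (Fin m) F) : A.1.det = 1 := by
  have h : (⊤ : Subgroup (Matrix.symplecticGroup (Fin m) F)) ≤
      (Matrix.detMonoidHom.comp (Matrix.symplecticGroup (Fin m) F).subtype).ker := by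
    rw [← closure_sympTransvection, Subgroup.closure_le]
    rintro B ⟨w, c, hB⟩
    change B.1.det = 1
    rw [hB, Cfsg.sympTransvection, ← Matrix.smul_vecMulVec, Matrix.vecMulVec_eq Unit,
      Matrix.det_one_add_replicateCol_mul_replicateRow, dotProduct_smul, dotProduct_comm]
    have : w ⬝ᵥ (Matrix.J (Fin m) F *ᵥ w) = 0 := (sympB_apply w w).symm.trans (sympB_isAlt w)
    rw [this, smul_zero, add_zero]
  exact h (Subgroup.mem_top A)

theorem coeff_charpoly_palindromic (A : Matrix.symplecticGroup (Fin m) F) {i : ℕ} (hi : i ≤ 2 * m) :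
    A.1.charpoly.coeff (2 * m - i) = A.1.charpoly.coeff i := by
  have hJ : Matrix.J (Fin m) F * Matrix.J (Fin m) F = -1 := Matrix.J_squared (Fin m) F
  have h1 : A.1⁻¹ = -Matrix.J (Fin m) F * A.1ᵀ * Matrix.J (Fin m) F := by
    refine Matrix.inv_eq_left_inv ?_
    rw [mul_assoc, mul_assoc, ← mul_assoc A.1ᵀ, SymplecticGroup.mem_iff'.1 A.2, neg_mul, hJ, neg_neg]
  have h2 : A.1⁻¹.charpoly = A.1.charpoly := by
    rw [h1, Matrix.charpoly_mul_comm, ← mul_assoc, mul_neg, hJ, neg_neg, one_mul,
      Matrix.charpoly_transpose]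
  have h3 := Cfsg.Agent.MatModule.coeff_charpoly_inv A.1 (det_eq_one A)
    (i := i) (by simpa [two_mul] using hi)
  rw [h2, Fintype.card_sum, Fintype.card_fin, ← two_mul, pow_mul, neg_one_sq, one_pow, one_mul] at h3
  exact h3.symm

/-- The sequence defining an invariant form of a companion matrix. -/
def bseq (f : ℕ → F) (m : ℕ) (k : ℕ) : F :=
  if k < m then 0 else if k = m then 1 else
    -∑ l : Fin (2 * m), if 2 * m ≤ (l : ℕ) + k then f l * bseq f m ((l : ℕ) + k - 2 * m) else 0
termination_by k
decreasing_by have := l.isLt; omega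

theorem bseq_lt (f : ℕ → F) {m k : ℕ} (h : k < m) : bseq f m k = 0 := by
  rw [bseq, if_pos h]

theorem bseq_self (f : ℕ → F) (m : ℕ) : bseq f m m = 1 := by
  rw [bseq, if_neg (lt_irrefl _), if_pos rfl]

theorem bseq_gt (f : ℕ → F) {m k : ℕ} (h : m < k) :
    bseq f m k = -∑ l : Fin (2 * m),
      if 2 * m ≤ (l : ℕ) + k then f l * bseq f m ((l : ℕ) + k - 2 * m) else 0 := by
  rw [bseq, if_neg (by omega), if_neg (by omega)]

/-- The skew kernel. -/
def beta (f : ℕ → F) (m i j : ℕ) : F := bseq f m (j - i) - bseq f m (i - j)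

theorem beta_relation (f : ℕ → F) (hm : 0 < m) (hf : ∀ l ≤ 2 * m, f (2 * m - l) = f l)
    (hf0 : f 0 = 1) {k : ℕ} (hk : 1 ≤ k) (hk' : k < 2 * m) :
    ∑ l ∈ Finset.range (2 * m + 1), f l * beta f m k l = 0 := by
  have hsmall : ∀ k, 1 ≤ k → k < m → ∑ l ∈ Finset.range (2 * m + 1), f l * beta f m k l = 0 := by
    intro k hk hkm
    have hlast : f (2 * m) = 1 := by have := hf 0 (Nat.zero_le _); rw [Nat.sub_zero, hf0] at this; exact this
    rw [Finset.sum_range_succ, hlast, one_mul, beta, show k - 2 * m = 0 by omega, bseq_lt f hm,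
      sub_zero, bseq_gt f (show m < 2 * m - k by omega), ← sub_eq_add_neg, sub_eq_zero,
      ← Fin.sum_univ_eq_sum_range]
    refine Finset.sum_congr rfl fun l _ => ?_
    rw [beta, bseq_lt f (show k - (l : ℕ) < m by omega), sub_zero]
    by_cases h : k ≤ (l : ℕ)
    · rw [if_pos (by omega)]
      congr 2
      omega
    · rw [if_neg (by omega), bseq_lt f (show (l : ℕ) - k < m by omega), mul_zero]
  rcases lt_trichotomy k m with h | rfl | h
  · exact hsmall k hk h
  · rw [Finset.sum_range_succ, show 2 * k = (2 * k - 1) + 1 by omega, Finset.sum_range_succ',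
      Finset.sum_eq_zero, show 2 * k - 1 + 1 = 2 * k by omega]
    · have hlast : f (2 * k) = 1 := by have := hf 0 (Nat.zero_le _); rw [Nat.sub_zero, hf0] at this; exact this
      rw [hf0, hlast, beta, beta, show k - 2 * k = 0 by omega, show 2 * k - k = k by omega, Nat.sub_zero,
        Nat.zero_sub, bseq_lt f hm, bseq_self]
      ring
    · intro l hl
      rw [Finset.mem_range] at hl
      rw [beta, bseq_lt f (show l + 1 - k < k by omega), bseq_lt f (show k - (l + 1) < k by omega),
        sub_zero, mul_zero]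
  · rw [← Finset.sum_range_reflect]
    have := hsmall (2 * m - k) (by omega) (by omega)
    rw [← neg_eq_zero, ← Finset.sum_neg_distrib]
    refine Eq.trans (Finset.sum_congr rfl fun l hl => ?_) this
    rw [Finset.mem_range] at hl
    rw [show 2 * m + 1 - 1 - l = 2 * m - l by omega, hf l (by omega), beta, beta,
      show 2 * m - l - k = 2 * m - k - l by omega, show k - (2 * m - l) = l - (2 * m - k) by omega]
    ring

theorem eq_zero_of_beta (f : ℕ → F) (x : Fin (2 * m) → F)
    (hx : ∀ j : Fin (2 * m), ∑ i, x i * beta f m i j = 0) : x = 0 := by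
  suffices h : ∀ d, d < m → (∀ i : Fin (2 * m), (i : ℕ) = d → x i = 0) ∧
      (∀ i : Fin (2 * m), (i : ℕ) + d + 1 = 2 * m → x i = 0) by
    funext i
    rcases lt_or_ge (i : ℕ) m with hi | hi
    · exact (h i hi).1 i rfl
    · exact (h (2 * m - 1 - i) (by omega)).2 i (by omega)
  intro d
  induction d using Nat.strong_induction_on with
  | _ d ih =>
      intro hd
      refine ⟨fun i hi => ?_, fun i hi => ?_⟩
      · have h := hx ⟨m + d, by omega⟩
        rw [Finset.sum_eq_single i] at h
        · rw [beta, hi, show m + d - d = m by omega, bseq_self, show d - (m + d) = 0 by omega,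
            bseq_lt f (by omega), sub_zero, mul_one] at h
          exact h
        · intro k _ hk
          have hk' : (k : ℕ) ≠ d := fun e => hk (Fin.ext (e.trans hi.symm))
          rcases lt_or_ge (k : ℕ) d with hlt | hge
          · rw [(ih k hlt (by omega)).1 k rfl, zero_mul]
          · rw [beta, bseq_lt f (show m + d - (k : ℕ) < m by omega),
              bseq_lt f (show (k : ℕ) - (m + d) < m by omega), sub_zero, mul_zero]
        · exact fun h' => absurd (Finset.mem_univ i) h'
      · have h := hx ⟨m - 1 - d, by omega⟩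
        rw [Finset.sum_eq_single i] at h
        · rw [beta, show m - 1 - d - (i : ℕ) = 0 by omega, show (i : ℕ) - (m - 1 - d) = m by omega,
            bseq_lt f (show 0 < m by omega), bseq_self, zero_sub, mul_neg_one, neg_eq_zero] at h
          exact h
        · intro k _ hk
          have hk' : (k : ℕ) + d + 1 ≠ 2 * m := fun e => hk (Fin.ext (by omega))
          have hkl := k.isLt
          rcases lt_or_ge (2 * m - 1 - (k : ℕ)) d with hlt | hge
          · rw [(ih _ hlt (by omega)).2 k (by omega), zero_mul]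
          · rw [beta, bseq_lt f (show m - 1 - d - (k : ℕ) < m by omega),
              bseq_lt f (show (k : ℕ) - (m - 1 - d) < m by omega), sub_zero, mul_zero]
        · exact fun h' => absurd (Finset.mem_univ i) h'

theorem exists_charpoly (hm : 0 < m) (f : F[X]) (hf : f.Monic) (hdeg : f.natDegree = 2 * m)
    (hpal : ∀ l ≤ 2 * m, f.coeff (2 * m - l) = f.coeff l) (h0 : f.coeff 0 = 1) :
    ∃ A : Matrix.symplecticGroup (Fin m) F, A.1.charpoly = f := by
  classical
  set c : ℕ → F := fun l => f.coeff l with hc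
  set pb := AdjoinRoot.powerBasis hf.ne_zero with hpb
  have hdim : pb.dim = 2 * m := hdeg
  set b : Basis (Fin (2 * m)) F (AdjoinRoot f) := pb.basis.reindex (finCongr hdim) with hb
  set r := AdjoinRoot.root f with hr
  have hbi : ∀ i : Fin (2 * m), b i = r ^ (i : ℕ) := fun i => by
    rw [hb, Basis.reindex_apply, pb.basis_eq_pow]
    rfl
  set G : Matrix (Fin (2 * m)) (Fin (2 * m)) F := Matrix.of fun i j => beta c m i j with hG
  set B : LinearMap.BilinForm F (AdjoinRoot f) := Matrix.toBilin b G with hB
  have hBb : ∀ i j, B (b i) (b j) = beta c m i j := fun i j => by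
    have := congrFun (congrFun (LinearMap.BilinForm.toMatrix_toBilin b G) i) j
    rw [LinearMap.BilinForm.toMatrix_apply] at this
    exact this
  set a : Module.End F (AdjoinRoot f) := Algebra.lmul F _ r with ha
  have halt : B.IsAlt := by
    intro x
    rw [hB, Matrix.toBilin_apply]
    set y := b.repr x
    calc ∑ i, ∑ j, y i * G i j * y j = ∑ p : Fin (2 * m) × Fin (2 * m), y p.1 * G p.1 p.2 * y p.2 :=
          (Fintype.sum_prod_type fun p : Fin (2 * m) × Fin (2 * m) => y p.1 * G p.1 p.2 * y p.2).symm
      _ = 0 := by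
        refine Finset.sum_involution (fun p _ => Prod.swap p) (fun p _ => ?_) (fun p _ hp hfix => ?_)
          (fun p _ => Finset.mem_univ _) (fun p _ => Prod.swap_swap p)
        · simp only [hG, Matrix.of_apply, beta, Prod.fst_swap, Prod.snd_swap]
          ring
        · have : p.1 = p.2 := (congrArg Prod.fst hfix).symm
          apply hp
          simp [hG, Matrix.of_apply, beta, this]
  have hroot : r * b ⟨2 * m - 1, by omega⟩ = ∑ l : Fin (2 * m), (-f.coeff l) • b l := by
    rw [hbi, ← pow_succ', show 2 * m - 1 + 1 = 2 * m by omega]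
    have h := AdjoinRoot.eval₂_root f
    rw [eval₂_eq_sum_range, hdeg, Finset.sum_range_succ, ← Fin.sum_univ_eq_sum_range (fun i =>
      AdjoinRoot.of f (f.coeff i) * AdjoinRoot.root f ^ i),
      show f.coeff (2 * m) = 1 by rw [← hdeg]; exact hf.coeff_natDegree, map_one, one_mul] at h
    rw [eq_neg_of_add_eq_zero_right h, ← Finset.sum_neg_distrib]
    refine Finset.sum_congr rfl fun l _ => ?_
    rw [hbi, neg_smul, Algebra.smul_def]
    rfl
  have hpres : ∀ x y, B (a x) (a y) = B x y := by
    obtain ⟨L, hL⟩ : ∃ L : Fin (2 * m), (L : ℕ) = 2 * m - 1 := ⟨⟨2 * m - 1, by omega⟩, rfl⟩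
    have key : ∀ (i j : Fin (2 * m)), B (r * b i) (r * b j) = B (b i) (b j) := by
      have hsucc : ∀ (i : Fin (2 * m)) (h : (i : ℕ) + 1 < 2 * m), r * b i = b ⟨(i : ℕ) + 1, h⟩ := by
        intro i h; rw [hbi, hbi, ← pow_succ']
      have hone : ∀ (i : Fin (2 * m)), (i : ℕ) + 1 < 2 * m →
          B (r * b i) (r * b L) = B (b i) (b L) := by
        intro i h
        have hl := beta_relation c hm hpal h0 (k := (i : ℕ) + 1) (by omega) h
        rw [Finset.sum_range_succ, ← Fin.sum_univ_eq_sum_range (fun l => c l * beta c m ((i : ℕ) + 1) l)] at hl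
        have htop : c (2 * m) = 1 := by rw [hc]; dsimp only; rw [← hdeg]; exact hf.coeff_natDegree
        rw [htop, one_mul] at hl
        rw [hsucc i h, show L = ⟨2 * m - 1, by omega⟩ from Fin.ext hL, hroot, map_sum]
        simp only [map_smul, hBb, smul_eq_mul, neg_mul, Finset.sum_neg_distrib]
        have e : beta c m ((i : ℕ) + 1) (2 * m) = beta c m i (2 * m - 1) := by
          rw [beta, beta]; congr 2 <;> omega
        rw [← e]
        exact neg_eq_of_add_eq_zero_right hl
      intro i j
      by_cases hi : (i : ℕ) + 1 < 2 * m <;> by_cases hj : (j : ℕ) + 1 < 2 * m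
      · rw [hsucc i hi, hsucc j hj, hBb, hBb]
        simp only [beta, Nat.add_sub_add_right]
      · rw [show j = L from Fin.ext (by have := j.isLt; omega)]
        exact hone i hi
      · rw [show i = L from Fin.ext (by have := i.isLt; omega)]
        rw [← LinearMap.IsAlt.neg halt, hone j hj, LinearMap.IsAlt.neg halt]
      · rw [show i = L from Fin.ext (by have := i.isLt; omega)]
        rw [show j = L from Fin.ext (by have := j.isLt; omega)]
        rw [halt, halt]
    intro x y
    have : B.comp a a = B := b.ext fun i => b.ext fun j => by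
      rw [LinearMap.BilinForm.comp_apply]; exact key i j
    exact LinearMap.congr_fun (LinearMap.congr_fun this x) y
  have hsep : ∀ x, (∀ y, B x y = 0) → x = 0 := by
    intro x hx
    refine b.repr.map_eq_zero_iff.1 (Finsupp.ext fun i => congrFun (eq_zero_of_beta c (fun i => b.repr x i) fun j => ?_) i)
    have := hx (b j)
    rw [← b.sum_repr x, map_sum, LinearMap.sum_apply] at this
    simpa [hBb] using this
  have : FiniteDimensional F (AdjoinRoot f) := Module.Finite.of_basis b
  let e : AdjoinRoot f ≃ₗ[F] (Fin m ⊕ Fin m → F) :=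
    b.equivFun.trans (LinearEquiv.funCongrLeft F F (finSumFinEquiv.trans (finCongr (two_mul m).symm)))
  obtain ⟨y, hy⟩ := exists_isometry (B := (sympB m F).comp e.toLinearMap e.toLinearMap) (B' := B)
    (fun x => sympB_isAlt (m := m) (e x)) (fun x hx => e.map_eq_zero_iff.1 (sympB_nondeg.1 _ fun z => by
      obtain ⟨z, rfl⟩ := e.surjective z; exact hx z)) halt hsep
  have hyinj : Function.Injective y := by
    rw [← LinearMap.ker_eq_bot, Submodule.eq_bot_iff]
    intro x hx
    refine hsep x fun z => ?_
    rw [← hy, LinearMap.mem_ker.1 hx, map_zero, LinearMap.zero_apply]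
  let φ : AdjoinRoot f ≃ₗ[F] (Fin m ⊕ Fin m → F) :=
    (LinearEquiv.ofBijective y ⟨hyinj, LinearMap.injective_iff_surjective.1 hyinj⟩).trans e
  have hφ : ∀ x z, sympB m F (φ x) (φ z) = B x z := hy
  refine ⟨⟨LinearMap.toMatrix' (φ.conj a), (mem_symplectic_iff _).2 fun u v => ?_⟩, ?_⟩
  · rw [LinearMap.toMatrix'_mulVec, LinearMap.toMatrix'_mulVec]
    change sympB m F (φ (a (φ.symm u))) (φ (a (φ.symm v))) = _
    rw [hφ, hpres, ← hφ, LinearEquiv.apply_symm_apply, LinearEquiv.apply_symm_apply]
  · change (LinearMap.toMatrix' (φ.conj a)).charpoly = f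
    rw [← Matrix.charpoly_toLin', Matrix.toLin'_toMatrix', LinearEquiv.charpoly_conj,
      ← LinearMap.charpoly_toMatrix a pb.basis]
    change (Algebra.leftMulMatrix pb.basis pb.gen).charpoly = f
    rw [charpoly_leftMulMatrix, hpb, AdjoinRoot.powerBasis_gen, AdjoinRoot.minpoly_root hf.ne_zero,
      hf.leadingCoeff, inv_one, map_one, mul_one]

end Cfsg.Agent.SympConj
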