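import Cfsg.Agent.MatModule.PolyModule

/-!
# Semisimple endomorphisms are determined by their characteristic polynomials
-/

set_option autoImplicit false

namespace Cfsg.Agent.MatModule

open Polynomial
open scoped DirectSum

universe u v

variable {F : Type u} [Field F]

/-- Multiplication by the root in each factor. -/
noncomputable def rootMul {ι : Type*} (s : ι → F[X]) : Module.End F (∀ i, AdjoinRoot (s i)) :=
  LinearMap.pi fun i => (LinearMap.mulLeft F (AdjoinRoot.root (s i))).comp (LinearMap.proj i)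

theorem rootMul_apply {ι : Type*} (s : ι → F[X]) (v : ∀ i, AdjoinRoot (s i)) (i : ι) :
    rootMul s v i = AdjoinRoot.root (s i) * v i := rfl

theorem charpoly_mulLeft_root (f : F[X]) (hf : f.Monic) [Module.Finite F (AdjoinRoot f)] :
    (LinearMap.mulLeft F (AdjoinRoot.root f)).charpoly = f := by
  classical
  have h := charpoly_leftMulMatrix (AdjoinRoot.powerBasis hf.ne_zero)
  rw [AdjoinRoot.powerBasis_gen, AdjoinRoot.minpoly_root hf.ne_zero, hf.leadingCoeff, inv_one,
    map_one, mul_one, Algebra.leftMulMatrix_apply, LinearMap.charpoly_toMatrix] at h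
  exact h

theorem finite_adjoinRoot (f : F[X]) (hf : f.Monic) : Module.Finite F (AdjoinRoot f) :=
  Module.Finite.of_basis (AdjoinRoot.powerBasis hf.ne_zero).basis

theorem charpoly_pi_fin : ∀ (k : ℕ) (M : Fin k → Type u) [∀ i, AddCommGroup (M i)]
    [∀ i, Module F (M i)] [∀ i, Module.Finite F (M i)] (f : ∀ i, Module.End F (M i)),
    (LinearMap.pi fun i => (f i).comp (LinearMap.proj i)).charpoly = ∏ i, (f i).charpoly := by
  intro k
  induction k with
  | zero =>
    intro M _ _ _ f
    rw [Fin.prod_univ_zero]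
    exact Polynomial.eq_one_of_monic_natDegree_zero (LinearMap.charpoly_monic _)
      (by rw [LinearMap.charpoly_natDegree, Module.finrank_zero_of_subsingleton])
  | succ k ih =>
    intro M _ _ _ f
    rw [Fin.prod_univ_succ, ← ih (fun i => M i.succ) (fun i => f i.succ), ← LinearMap.charpoly_prodMap,
      ← (Fin.consLinearEquiv F M).charpoly_conj]
    congr 1
    refine LinearMap.ext fun v => funext fun i => ?_
    induction i using Fin.cases <;> rfl

theorem charpoly_rootMul {ι : Type u} [Fintype ι] (s : ι → F[X]) (hs : ∀ i, (s i).Monic)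
    [Module.Finite F (∀ i, AdjoinRoot (s i))] :
    (rootMul s).charpoly = ∏ i, s i := by
  classical
  haveI : ∀ i, Module.Finite F (AdjoinRoot (s i)) := fun i => finite_adjoinRoot (s i) (hs i)
  haveI : Module.Finite F (∀ i, AdjoinRoot (s i)) := Module.Finite.pi
  set e := (Fintype.equivFin ι).symm
  set E : (∀ i, AdjoinRoot (s i)) ≃ₗ[F] ∀ j, AdjoinRoot (s (e j)) :=
    (LinearEquiv.piCongrLeft F (fun i => AdjoinRoot (s i)) e).symm
  haveI := fun j => finite_adjoinRoot (s (e j)) (hs (e j))
  rw [← E.charpoly_conj, ← Equiv.prod_comp e (fun i => s i)]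
  have : E.conj (rootMul s) =
      LinearMap.pi fun j => (LinearMap.mulLeft F (AdjoinRoot.root (s (e j)))).comp (LinearMap.proj j) := by
    refine LinearMap.ext fun v => funext fun j => ?_
    show rootMul s (E.symm v) (e j) = _
    rw [rootMul_apply]
    show _ * E (E.symm v) j = _
    rw [LinearEquiv.apply_symm_apply]
    rfl
  rw [this, charpoly_pi_fin]
  exact Finset.prod_congr rfl fun j _ => charpoly_mulLeft_root _ (hs (e j))

variable {V : Type v} [AddCommGroup V] [Module F V] [FiniteDimensional F V]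

/-- A semisimple endomorphism is a product of multiplications by roots of irreducible polynomials. -/
theorem exists_rootMul (φ : Module.End F V) {q : F[X]} (hq : Squarefree q) (hφ : aeval φ q = 0) :
    ∃ (ι : Type u) (_ : Fintype ι) (s : ι → F[X]), (∀ i, (s i).Monic) ∧ (∀ i, Irreducible (s i)) ∧
      ∃ Φ : V ≃ₗ[F] ∀ i, AdjoinRoot (s i), ∀ v, Φ (φ v) = rootMul s (Φ v) := by
  classical
  obtain ⟨ι, hι, p, hp, e, ⟨E⟩⟩ := Module.equiv_directSum_of_isTorsion
    (Module.AEval.isTorsion_of_finiteDimensional F V φ)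
  have hann : ∀ m : Module.AEval F V φ, q • m = 0 := by
    intro m
    obtain ⟨v, rfl⟩ := (Module.AEval'.of φ).surjective m
    rw [← Module.AEval.of_aeval_smul, hφ, zero_smul, map_zero]
  have he : ∀ i, e i = 0 ∨ e i = 1 := by
    intro i
    refine (hq.squarefree_of_dvd ?_).eq_zero_or_one_of_pow_of_not_isUnit (hp i).not_isUnit
    rw [← Ideal.mem_span_singleton, ← Ideal.Quotient.eq_zero_iff_mem]
    have h := congrArg (fun m => E m i)
      (hann (E.symm (DirectSum.of (fun j => F[X] ⧸ Ideal.span {p j ^ e j}) i 1)))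
    simp only [map_smul, LinearEquiv.apply_symm_apply, DirectSum.smul_apply, map_zero,
      DirectSum.zero_apply] at h
    calc Ideal.Quotient.mk (Ideal.span {p i ^ e i}) q = Ideal.Quotient.mk _ (q * 1) := by rw [mul_one]
      _ = q • (DirectSum.of (fun j => F[X] ⧸ Ideal.span {p j ^ e j}) i 1) i := by
        rw [DirectSum.of_eq_same]; rfl
      _ = 0 := h
  set s : {i // e i = 1} → F[X] := fun i => p i * C (p i).leadingCoeff⁻¹ with hs
  have hmon : ∀ i, (s i).Monic := fun i => monic_mul_leadingCoeff_inv (hp i).ne_zero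
  have hirr : ∀ i, Irreducible (s i) := fun i => irreducible_mul_leadingCoeff_inv.2 (hp i)
  have hspan : ∀ i : {i // e i = 1}, Ideal.span {p i ^ e i} = Ideal.span {s i} := by
    intro i
    rw [i.2, pow_one, hs]
    exact (Ideal.span_singleton_mul_right_unit
      (isUnit_C.2 (isUnit_iff_ne_zero.2 (inv_ne_zero (leadingCoeff_ne_zero.2 (hp i).ne_zero)))) _).symm
  set T : V →ₗ[F] ∀ i : {i // e i = 1}, AdjoinRoot (s i) :=
    LinearMap.pi fun i => (((Submodule.quotEquivOfEq _ _ (hspan i)).toLinearMap.comp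
      ((DirectSum.component F[X] ι (fun j => F[X] ⧸ Ideal.span {p j ^ e j}) i).comp
        E.toLinearMap)).restrictScalars F).comp (Module.AEval'.of φ).toLinearMap with hT
  have hTi : ∀ v (i : {i // e i = 1}), T v i =
      Submodule.quotEquivOfEq _ _ (hspan i) (E (Module.AEval'.of φ v) i) := fun v i => rfl
  have hbij : Function.Bijective T := by
    constructor
    · rw [injective_iff_map_eq_zero]
      intro v hv
      refine (Module.AEval'.of φ).map_eq_zero_iff.1 (E.map_eq_zero_iff.1 (DFinsupp.ext fun i => ?_))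
      rcases he i with h | h
      · haveI : Subsingleton (F[X] ⧸ Ideal.span {p i ^ e i}) := by
          rw [h, pow_zero, Ideal.span_singleton_one]; infer_instance
        exact Subsingleton.elim _ _
      · have := congrFun hv ⟨i, h⟩
        rw [hTi] at this
        exact (Submodule.quotEquivOfEq _ _ (hspan ⟨i, h⟩)).map_eq_zero_iff.1 this
    · intro w
      refine ⟨(Module.AEval'.of φ).symm (E.symm (∑ i : {i // e i = 1},
        DirectSum.of (fun j => F[X] ⧸ Ideal.span {p j ^ e j}) i
          ((Submodule.quotEquivOfEq _ _ (hspan i)).symm (w i)))), funext fun i => ?_⟩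
      rw [hTi, LinearEquiv.apply_symm_apply, LinearEquiv.apply_symm_apply, DFinsupp.finsetSum_apply,
        Finset.sum_eq_single i]
      · rw [DirectSum.of_eq_same]
        exact LinearEquiv.apply_symm_apply _ _
      · intro j _ hj
        exact DirectSum.of_eq_of_ne _ _ _ fun h => hj (Subtype.ext h).symm
      · exact fun h => absurd (Finset.mem_univ i) h
  refine ⟨{i // e i = 1}, inferInstance, s, hmon, hirr, LinearEquiv.ofBijective T hbij, fun v => ?_⟩
  funext i
  show T (φ v) i = AdjoinRoot.root (s i) * T v i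
  rw [hTi, hTi, of_apply, map_smul, DirectSum.smul_apply, map_smul]
  obtain ⟨r, hr⟩ := Ideal.Quotient.mk_surjective
    (Submodule.quotEquivOfEq _ _ (hspan i) (E (Module.AEval'.of φ v) i))
  rw [← hr]
  rfl

theorem exists_equiv_of_multiset_eq {ι κ : Type u} [Fintype ι] [Fintype κ] (s : ι → F[X])
    (t : κ → F[X]) (h : (Finset.univ.val.map s) = (Finset.univ.val.map t)) :
    ∃ Ψ : (∀ j, AdjoinRoot (t j)) ≃ₗ[F] ∀ i, AdjoinRoot (s i),
      ∀ v, Ψ (rootMul t v) = rootMul s (Ψ v) := by
  classical
  have hc : ∀ f : F[X], Fintype.card {i // s i = f} = Fintype.card {j // t j = f} := by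
    intro f
    rw [Fintype.card_subtype, Fintype.card_subtype]
    have := congrArg (Multiset.count f) h
    rw [Multiset.count_map, Multiset.count_map] at this
    simpa [Finset.card_def, Finset.filter_val, eq_comm] using this
  obtain ⟨σ, hσ⟩ : ∃ σ : ι ≃ κ, ∀ i, t (σ i) = s i :=
    ⟨Equiv.ofFiberEquiv fun f => Fintype.equivOfCardEq (hc f), fun i => Equiv.ofFiberEquiv_map _ i⟩
  obtain rfl : s = fun i => t (σ i) := funext fun i => (hσ i).symm
  exact ⟨(LinearEquiv.piCongrLeft F (fun j => AdjoinRoot (t j)) σ).symm, fun v => rfl⟩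

/-- Two semisimple endomorphisms with the same characteristic polynomial are conjugate. -/
theorem exists_conj_of_charpoly_eq (φ ψ : Module.End F V) {q r : F[X]} (hq : Squarefree q)
    (hφ : aeval φ q = 0) (hr : Squarefree r) (hψ : aeval ψ r = 0) (h : φ.charpoly = ψ.charpoly) :
    ∃ Θ : V ≃ₗ[F] V, ∀ v, Θ (φ v) = ψ (Θ v) := by
  classical
  obtain ⟨ι, _, s, hs, hsi, Φ, hΦ⟩ := exists_rootMul φ hq hφ
  obtain ⟨κ, _, t, ht, hti, Ψ, hΨ⟩ := exists_rootMul ψ hr hψ
  haveI : ∀ i, Module.Finite F (AdjoinRoot (s i)) := fun i => finite_adjoinRoot (s i) (hs i)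
  haveI : ∀ i, Module.Finite F (AdjoinRoot (t i)) := fun j => finite_adjoinRoot (t j) (ht j)
  haveI : Module.Finite F (∀ i, AdjoinRoot (s i)) := Module.Finite.pi
  haveI : Module.Finite F (∀ i, AdjoinRoot (t i)) := Module.Finite.pi
  have e1 : φ.charpoly = ∏ i, s i := by
    rw [← charpoly_rootMul s hs, ← Φ.charpoly_conj φ]
    congr 1
    refine LinearMap.ext fun v => ?_
    show Φ (φ (Φ.symm v)) = _
    rw [hΦ, LinearEquiv.apply_symm_apply]
  have e2 : ψ.charpoly = ∏ i, t i := by
    rw [← charpoly_rootMul t ht, ← Ψ.charpoly_conj ψ]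
    congr 1
    refine LinearMap.ext fun v => ?_
    show Ψ (ψ (Ψ.symm v)) = _
    rw [hΨ, LinearEquiv.apply_symm_apply]
  have hn : ∀ {α : Type u} [Fintype α] (f : α → F[X]), (∀ a, (f a).Monic) → (∀ a, Irreducible (f a)) →
      UniqueFactorizationMonoid.normalizedFactors (∏ a, f a) = Finset.univ.val.map f := by
    intro α _ f hf hi
    have := UniqueFactorizationMonoid.normalizedFactors_prod_eq (Finset.univ.val.map f)
      (fun a ha => by obtain ⟨b, -, rfl⟩ := Multiset.mem_map.1 ha; exact hi b)
    rw [Multiset.map_map] at this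
    rw [show (Finset.univ.val.map f).prod = ∏ a, f a from rfl] at this
    rw [this]
    exact Multiset.map_congr rfl fun a _ => (hf a).normalize_eq_self
  have hms : (Finset.univ.val.map s) = (Finset.univ.val.map t) := by
    rw [← hn s hs hsi, ← hn t ht hti, ← e1, ← e2, h]
  obtain ⟨Δ, hΔ⟩ := exists_equiv_of_multiset_eq s t hms
  refine ⟨Φ.trans (Δ.symm.trans Ψ.symm), fun v => ?_⟩
  apply Ψ.injective
  simp only [LinearEquiv.trans_apply, LinearEquiv.apply_symm_apply, hΨ, hΦ]
  apply Δ.injective
  rw [hΔ]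
  simp only [LinearEquiv.apply_symm_apply]

end Cfsg.Agent.MatModule
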