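import Cfsg.Agent.Classical.QuadForm
import Cfsg.Agent.MatModule.SympConj

/-!
Semisimple isometries of odd order of a quadratic space which are linearly conjugate are conjugate by an
isometry.
-/

set_option autoImplicit false

namespace Cfsg.Agent.SympConj

open Module Polynomial QuadraticMap

universe u v

variable {F : Type u} [Field F] [Finite F] {V : Type v} [AddCommGroup V] [Module F V] [FiniteDimensional F V]

/-- Conjugating isometry for linearly conjugate semisimple isometries without eigenvalue `-1`
(outside characteristic two). -/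
theorem exists_isometry_conj {Q : QuadraticForm F V} (hQ : (polarBilin Q).Nondegenerate)
    {a b : Module.End F V} (ha : ∀ x, Q (a x) = Q x) (hb : ∀ x, Q (b x) = Q x)
    {q : F[X]} (hq : Squarefree q) (haq : aeval a q = 0)
    (hneg : ∀ x, a x = -x → a x = x)
    (Φ : V ≃ₗ[F] V) (hΦ : ∀ x, Φ (a x) = b (Φ x)) :
    ∃ U ∈ Classical.Quad.oG Q, ∀ x, U (a x) = b (U x) := by
  classical
  set f : Module.End F V := a - 1 with hf
  have hfapp : ∀ x, f x = a x - x := fun x => rfl
  set K := LinearMap.ker f
  have hKa : ∀ x ∈ K, a x = x := fun x hx => sub_eq_zero.1 ((hfapp x).symm.trans hx)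
  have hss := Module.End.isSemisimple_of_squarefree_aeval_eq_zero hq haq
  obtain ⟨P, hP, hc⟩ := Module.End.isSemisimple_iff.1 hss K (fun x hx => by
    show a x ∈ K
    rw [hKa x hx]; exact hx)
  have hPa : ∀ x ∈ P, a x ∈ P := fun x hx => hP hx
  set c := a.restrict hPa with hcdef
  have hinj : Function.Injective (c - 1 : Module.End F P) := by
    rw [← LinearMap.ker_eq_bot, Submodule.eq_bot_iff]
    intro x hx
    have h1 : (x : V) ∈ K := congrArg Subtype.val hx
    exact Subtype.ext ((Submodule.disjoint_def.1 hc.disjoint) _ h1 x.2)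
  have hinj' : Function.Injective (c + 1 : Module.End F P) := by
    rw [← LinearMap.ker_eq_bot, Submodule.eq_bot_iff]
    intro x hx
    have h1 : a x + (x : V) = 0 := congrArg Subtype.val hx
    have h2 : (x : V) ∈ K := by
      rw [LinearMap.mem_ker, hfapp, sub_eq_zero]
      exact hneg x (eq_neg_of_add_eq_zero_left h1)
    exact Subtype.ext ((Submodule.disjoint_def.1 hc.disjoint) _ h2 x.2)
  set Q' : QuadraticForm F V := Q.comp Φ.toLinearMap with hQ'def
  have hQ'app : ∀ x, Q' x = Q (Φ x) := fun x => rfl
  have ha' : ∀ x, Q' (a x) = Q' x := fun x => by rw [hQ'app, hQ'app, hΦ, hb]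
  have hQ' : ∀ x, (∀ y, polar Q' x y = 0) → x = 0 := by
    intro x hx
    refine Φ.map_eq_zero_iff.1 (hQ.1 _ fun y => ?_)
    obtain ⟨y, rfl⟩ := Φ.surjective y
    have := hx y
    simpa [polar, hQ'app] using this
  have hall : ∀ v : V, ∃ (u : K) (p : P), (u : V) + (p : V) = v := by
    intro v
    obtain ⟨u, hu, p, hp, rfl⟩ := Submodule.mem_sup.1 (hc.sup_eq_top.symm ▸ Submodule.mem_top (x := v))
    exact ⟨⟨u, hu⟩, ⟨p, hp⟩, rfl⟩
  have horth : ∀ R : QuadraticForm F V, (∀ x, R (a x) = R x) → ∀ u ∈ K, ∀ x ∈ P, polar R x u = 0 := by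
    intro R hR u hu x hx
    obtain ⟨w, hw⟩ := LinearMap.injective_iff_surjective.1 hinj ⟨x, hx⟩
    have hw' : a w - (w : V) = x := congrArg Subtype.val hw
    have h1 : polar R (a w) u = polar R (w : V) u := by
      conv_lhs => rw [← hKa u hu]
      simp only [polar, ← map_add, hR]
    rw [← hw', polar_sub_left, h1, sub_self]
  have hpolar : ∀ R : QuadraticForm F V, (∀ x, R (a x) = R x) → (∀ x, (∀ y, polar R x y = 0) → x = 0) →
      Signed 1 (LinearMap.BilinForm.restrict (polarBilin R) P) c := by
    intro R hR hR0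
    refine ⟨fun x y => ?_, fun x hx => ?_, fun x y => ?_⟩
    · rw [one_mul]; exact polar_comm R (y : V) (x : V)
    · refine Subtype.ext (hR0 _ fun v => ?_)
      obtain ⟨u, p, rfl⟩ := hall v
      rw [polar_add_right, horth R hR u u.2 x x.2, zero_add]
      exact hx p
    · change polar R (a x) (a y) = polar R (x : V) (y : V)
      simp only [polar, ← map_add, hR]
  obtain ⟨y, hyc, hy⟩ := exists_of_injective (one_mul (1 : F))
    (hpolar Q ha fun x hx => hQ.1 x hx) (hpolar Q' ha' hQ') hinj hinj'
  have hy' : ∀ x z : P, polar Q (y x : V) (y z : V) = polar Q' (x : V) (z : V) := hy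
  -- the quadratic forms agree along `y`
  have hQy : ∀ x : P, Q (y x : V) = Q' (x : V) := by
    let D : P → F := fun x => Q (y x : V) - Q' (x : V)
    have hadd : ∀ x z, D (x + z) = D x + D z := fun x z => by
      have := hy' x z
      simp only [polar] at this
      simp only [D, map_add, Submodule.coe_add]
      linear_combination this
    have hD : ∀ x, D (c x) = D x := fun x => by
      have e : y (c x) = c (y x) := LinearMap.congr_fun hyc.eq x
      simp only [D, e]
      change Q (a (y x : V)) - Q' (a (x : V)) = _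
      rw [ha, ha']
    intro x
    obtain ⟨w, rfl⟩ := LinearMap.injective_iff_surjective.1 hinj x
    refine sub_eq_zero.1 ?_
    change D (c w - w) = 0
    have := hadd (c w - w) w
    rw [sub_add_cancel, hD] at this
    linear_combination -this
  have hyinj : Function.Injective y := by
    rw [← LinearMap.ker_eq_bot, Submodule.eq_bot_iff]
    intro x hx
    refine (hpolar Q' ha' hQ').sep x fun z => ?_
    rw [← hy, LinearMap.mem_ker.1 hx, map_zero, LinearMap.zero_apply]
  let Y := LinearEquiv.ofBijective y ⟨hyinj, LinearMap.injective_iff_surjective.1 hyinj⟩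
  let φ : Submodule.map (Φ : V →ₗ[F] V) P ≃ₗ[F] P := (Φ.submoduleMap P).symm.trans Y
  obtain ⟨g, hg, hgφ⟩ := Classical.Quad.witt hQ _ _ φ (fun z => by
    obtain ⟨x, rfl⟩ := (Φ.submoduleMap P).surjective z
    change Q (y ((Φ.submoduleMap P).symm (Φ.submoduleMap P x)) : V) = _
    rw [LinearEquiv.symm_apply_apply, hQy]
    rfl)
  set G : V ≃ₗ[F] V := Φ.trans g with hG
  have hGQ : ∀ x, Q (G x) = Q' x := fun x => hg (Φ x)
  have hGP : ∀ x : P, G (x : V) = (y x : V) := by
    intro x
    have := hgφ (Φ.submoduleMap P x)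
    rw [show φ (Φ.submoduleMap P x) = y x by simp [φ, Y]; rfl] at this
    exact this
  have hGK : ∀ u ∈ K, G u ∈ K := by
    intro u hu
    obtain ⟨u', p, he⟩ := hall (G u)
    have hp : p = 0 := by
      refine (hpolar Q ha fun x hx => hQ.1 x hx).sep p fun z => ?_
      obtain ⟨x, rfl⟩ := Y.surjective z
      change polar Q (p : V) (y x : V) = 0
      have h1 : polar Q (G u) (G x) = 0 := by
        have : polar Q (G u) (G x) = polar Q' u (x : V) := by simp only [polar, ← map_add, hGQ]
        rw [this, polar_comm, horth Q' ha' u hu x x.2]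
      rw [← he, polar_add_left, hGP, polar_comm Q (u' : V), horth Q ha u' u'.2 _ (y x).2, zero_add] at h1
      exact h1
    rw [← he, hp, Submodule.coe_zero, add_zero]
    exact u'.2
  have hGa : ∀ x, G (a x) = a (G x) := by
    intro v
    obtain ⟨u, p, rfl⟩ := hall v
    rw [map_add a, hKa u u.2, map_add G, map_add G, map_add a, hKa _ (hGK u u.2),
      show a p = ((c p : P) : V) from rfl, hGP, hGP]
    exact congrArg _ (congrArg Subtype.val (LinearMap.congr_fun hyc.eq p))
  refine ⟨G.symm.trans Φ, fun x => ?_, fun x => ?_⟩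
  · change Q (Φ (G.symm x)) = Q x
    rw [← hQ'app, ← hGQ, LinearEquiv.apply_symm_apply]
  · change Φ (G.symm (a x)) = b (Φ (G.symm x))
    rw [← hΦ]
    congr 1
    apply G.injective
    rw [hGa, LinearEquiv.apply_symm_apply, LinearEquiv.apply_symm_apply]

end Cfsg.Agent.SympConj
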