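import Cfsg.Agent.MatModule.Semisimple

/-!
# Semisimple elements of the general linear group
-/

set_option autoImplicit false

namespace Cfsg.Agent.MatModule

open Polynomial

variable {F : Type*} [Field F] [Fintype F] {p : ℕ} [Fact p.Prime] [CharP F p] {n : ℕ}

theorem exists_squarefree_aeval (x : GL (Fin n) F) (hx : (orderOf x).Coprime p) :
    ∃ q : F[X], Squarefree q ∧
      aeval (Matrix.toLin' (x : Matrix (Fin n) (Fin n) F)) q = 0 := by
  classical
  refine ⟨X ^ orderOf x - C 1, (separable_X_pow_sub_C (1 : F) ?_ one_ne_zero).squarefree, ?_⟩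
  · rw [Ne, CharP.cast_eq_zero_iff F p]
    intro hd
    exact (Fact.out : p.Prime).ne_one (Nat.eq_one_of_dvd_coprimes hx hd dvd_rfl)
  · rw [map_sub, map_pow, aeval_X, aeval_C, map_one, ← Matrix.toLin'_pow,
      ← Units.val_pow_eq_pow_val, pow_orderOf_eq_one, Units.val_one, Matrix.toLin'_one]
    exact sub_self _

theorem exists_conj_of_matrix_charpoly_eq (x y : GL (Fin n) F) (hx : (orderOf x).Coprime p)
    (hy : (orderOf y).Coprime p)
    (h : (x : Matrix (Fin n) (Fin n) F).charpoly = (y : Matrix (Fin n) (Fin n) F).charpoly) :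
    ∃ g : GL (Fin n) F, g * x * g⁻¹ = y := by
  classical
  obtain ⟨q, hq, hxq⟩ := exists_squarefree_aeval x hx
  obtain ⟨r, hr, hyr⟩ := exists_squarefree_aeval y hy
  have hc : (Matrix.toLin' (x : Matrix (Fin n) (Fin n) F)).charpoly =
      (Matrix.toLin' (y : Matrix (Fin n) (Fin n) F)).charpoly := by
    rw [Matrix.charpoly_toLin', Matrix.charpoly_toLin', h]
  obtain ⟨Θ, hΘ⟩ := exists_conj_of_charpoly_eq _ _ hq hxq hr hyr hc
  set A := LinearMap.toMatrix' (Θ : (Fin n → F) →ₗ[F] Fin n → F) with hA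
  set B := LinearMap.toMatrix' (Θ.symm : (Fin n → F) →ₗ[F] Fin n → F) with hB
  have h1 : A * B = 1 := by
    rw [hA, hB, ← LinearMap.toMatrix'_comp]
    simp
  have h2 : B * A = 1 := by
    rw [hA, hB, ← LinearMap.toMatrix'_comp]
    simp
  refine ⟨⟨A, B, h1, h2⟩, ?_⟩
  rw [mul_inv_eq_iff_eq_mul]
  apply Units.ext
  show A * (x : Matrix (Fin n) (Fin n) F) = (y : Matrix (Fin n) (Fin n) F) * A
  have e : (Θ : (Fin n → F) →ₗ[F] Fin n → F) ∘ₗ Matrix.toLin' (x : Matrix (Fin n) (Fin n) F) =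
      Matrix.toLin' (y : Matrix (Fin n) (Fin n) F) ∘ₗ (Θ : (Fin n → F) →ₗ[F] Fin n → F) :=
    LinearMap.ext hΘ
  have := congrArg LinearMap.toMatrix' e
  rwa [LinearMap.toMatrix'_comp, LinearMap.toMatrix'_comp, LinearMap.toMatrix'_toLin',
    LinearMap.toMatrix'_toLin'] at this

end Cfsg.Agent.MatModule
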