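import Cfsg.Agent.MatModule.PolyModule
import Cfsg.Agent.S2387

/-!
# The number of conjugacy classes of the general linear group
-/

set_option autoImplicit false

namespace Cfsg.Agent.ClassNumberGL

open Polynomial
open scoped DirectSum

universe u

/-! ## Counting -/

/-- The number of monic polynomials of degree `j` with nonzero constant term. -/
def cc (q : ℕ) : ℕ → ℕ
  | 0 => 1
  | j + 1 => (q - 1) * q ^ j

/-- Weighted sequences of polynomials starting at weight `m`. -/
def AA (q m n : ℕ) : ℕ :=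
  if n = 0 then 1 else if h : m = 0 ∨ n < m then 0
  else ∑ j ∈ Finset.range (n / m + 1), cc q j * AA q (m + 1) (n - m * j)
termination_by n + 1 - m
decreasing_by
  have := Nat.sub_le n (m * j)
  omega

theorem AA_zero (q m : ℕ) : AA q m 0 = 1 := by rw [AA, if_pos rfl]

theorem AA_lt (q : ℕ) {m n : ℕ} (hn : n ≠ 0) (h : n < m) : AA q m n = 0 := by
  rw [AA, if_neg hn, dif_pos (Or.inr h)]

theorem AA_sum (q : ℕ) {m : ℕ} (hm : 1 ≤ m) (n : ℕ) :
    AA q m n = ∑ j ∈ Finset.range (n / m + 1), cc q j * AA q (m + 1) (n - m * j) := by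
  rcases Nat.eq_zero_or_pos n with rfl | hn
  · simp [AA_zero, cc]
  by_cases h : n < m
  · rw [AA_lt q hn.ne' h, Nat.div_eq_of_lt h]
    simp [cc, AA_lt q hn.ne' (show n < m + 1 by omega)]
  · rw [AA, if_neg hn.ne', dif_neg (by omega)]

theorem AA_rec {q : ℕ} (hq : 1 ≤ q) {m : ℕ} (hm : 1 ≤ m) (N : ℕ) :
    AA q m (N + m) + AA q (m + 1) N = q * AA q m N + AA q (m + 1) (N + m) := by
  rw [AA_sum q hm (N + m), AA_sum q hm N, Nat.add_div_right _ (by omega),
    Finset.sum_range_succ' (fun j => cc q j * AA q (m + 1) (N + m - m * j)), Finset.mul_sum,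
    Finset.sum_range_succ' (fun j => q * (cc q j * AA q (m + 1) (N - m * j))),
    Finset.sum_range_succ' (fun j => cc q (j + 1) * AA q (m + 1) (N + m - m * (j + 1)))]
  simp only [mul_zero, Nat.sub_zero, zero_add, cc, pow_zero, mul_one, one_mul]
  have e : ∀ j, N + m - m * (j + 1) = N - m * j := fun j => by rw [Nat.mul_add, mul_one]; omega
  have h1 : ∀ x : ℕ, (q - 1) * x + x = q * x := fun x => by
    rw [← add_one_mul, Nat.sub_add_cancel hq]
  rw [show N + m - m = N by omega]
  have h2 : ∑ j ∈ Finset.range (N / m), (q - 1) * q ^ (j + 1) * AA q (m + 1) (N + m - m * (j + 1 + 1)) =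
      ∑ j ∈ Finset.range (N / m), q * ((q - 1) * q ^ j * AA q (m + 1) (N - m * (j + 1))) :=
    Finset.sum_congr rfl fun j _ => by rw [e (j + 1), pow_succ]; ring
  rw [h2, ← h1 (AA q (m + 1) N)]
  ring

theorem sum_eq_pow {q : ℕ} (hq : 1 ≤ q) (n : ℕ) :
    AA q 1 n + ∑ i ∈ Finset.range n, AA q (i + 2) (n - 1 - i) = q ^ n := by
  induction n with
  | zero => simp [AA_zero]
  | succ n ih =>
    have hrec : ∀ i ∈ Finset.range n, AA q (i + 2) (n + 1) + AA q (i + 3) (n - 1 - i) =
        q * AA q (i + 2) (n - 1 - i) + AA q (i + 3) (n + 1) := by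
      intro i hi
      rw [Finset.mem_range] at hi
      have := AA_rec hq (show 1 ≤ i + 2 by omega) (n - 1 - i)
      rwa [show n - 1 - i + (i + 2) = n + 1 by omega] at this
    have h := Finset.sum_congr rfl hrec
    rw [Finset.sum_add_distrib, Finset.sum_add_distrib, ← Finset.mul_sum] at h
    have htel : ∑ i ∈ Finset.range n, AA q (i + 2) (n + 1) + AA q (n + 2) (n + 1) =
        ∑ i ∈ Finset.range n, AA q (i + 3) (n + 1) + AA q 2 (n + 1) := by
      rw [← Finset.sum_range_succ (fun i => AA q (i + 2) (n + 1)),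
        Finset.sum_range_succ' (fun i => AA q (i + 2) (n + 1))]
    rw [AA_lt q (Nat.succ_ne_zero n) (by omega : n + 1 < n + 2), add_zero] at htel
    have hA := AA_rec hq (le_refl 1) n
    rw [pow_succ', ← ih, Finset.sum_range_succ', mul_add]
    simp only [Nat.add_sub_cancel, Nat.sub_zero, zero_add]
    have he : ∀ i ∈ Finset.range n, AA q (i + 1 + 2) (n - (i + 1)) = AA q (i + 3) (n - 1 - i) :=
      fun i _ => by rw [show n - (i + 1) = n - 1 - i by omega]
    rw [Finset.sum_congr rfl he]
    simp only [one_add_one_eq_two] at hA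
    omega

theorem AA_one_le {q : ℕ} (hq : 1 ≤ q) (n : ℕ) : AA q 1 n ≤ q ^ n :=
  (Nat.le_add_right _ _).trans (sum_eq_pow hq n).le

/-! ## Sequences of polynomials -/

section Field

variable {F : Type u} [Field F] [Fintype F]

/-- Monic polynomials of degree `j` with nonzero constant term. -/
abbrev PolyDeg (F : Type*) [Field F] (j : ℕ) := {f : F[X] // f.Monic ∧ f.natDegree = j ∧ f.coeff 0 ≠ 0}

theorem finite_and_card (j : ℕ) : Finite (PolyDeg F j) ∧ Nat.card (PolyDeg F j) = cc (Fintype.card F) j := by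
  cases j with
  | zero =>
    have hu : ∀ f : PolyDeg F 0, f.1 = 1 := fun f => f.2.1.natDegree_eq_zero.1 f.2.2.1
    haveI : Subsingleton (PolyDeg F 0) := ⟨fun a b => Subtype.ext ((hu a).trans (hu b).symm)⟩
    haveI : Nonempty (PolyDeg F 0) := ⟨⟨1, monic_one, natDegree_one, by simp⟩⟩
    exact ⟨Finite.of_subsingleton, Nat.card_eq_one_iff_unique.2 ⟨inferInstance, inferInstance⟩⟩
  | succ j =>
    have h : Nat.card (PolyDeg F (j + 1)) = cc (Fintype.card F) (j + 1) := Cfsg.Agent.S2387.card_monic j
    refine ⟨Nat.finite_of_card_ne_zero ?_, h⟩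
    rw [h, cc]
    have := Fintype.one_lt_card (α := F)
    exact Nat.mul_ne_zero (by omega) (pow_ne_zero _ (by omega))

/-- Sequences of weighted total degree `n`, weights starting at `m`. -/
abbrev Seqs (F : Type*) [Field F] (m n k : ℕ) :=
  {g : Fin k → F[X] // (∀ i, (g i).Monic ∧ (g i).coeff 0 ≠ 0) ∧ ∑ i : Fin k, (m + i) * (g i).natDegree = n}

theorem seqs_le : ∀ (k m n : ℕ), 1 ≤ m →
    Finite (Seqs F m n k) ∧ Nat.card (Seqs F m n k) ≤ AA (Fintype.card F) m n := by
  intro k
  induction k with
  | zero =>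
    intro m n _
    rcases Nat.eq_zero_or_pos n with rfl | hn
    · haveI : Subsingleton (Seqs F m 0 0) := ⟨fun a b => Subtype.ext (funext fun i => i.elim0)⟩
      refine ⟨Finite.of_subsingleton, ?_⟩
      rw [AA_zero]
      exact Finite.card_le_one_iff_subsingleton.2 inferInstance
    · haveI : IsEmpty (Seqs F m n 0) := ⟨fun a => by have h := a.2.2; simp at h; omega⟩
      exact ⟨Finite.of_subsingleton, by simp⟩
  | succ k ih =>
    intro m n hm
    haveI : ∀ j : Fin (n / m + 1), Finite (PolyDeg F j × Seqs F (m + 1) (n - m * j) k) := fun j => by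
      haveI := (finite_and_card (F := F) j).1
      haveI := (ih (m + 1) (n - m * j) (by omega)).1
      infer_instance
    have hdeg : ∀ g : Seqs F m n (k + 1), m * (g.1 0).natDegree +
        ∑ i : Fin k, (m + 1 + i) * (g.1 i.succ).natDegree = n := by
      intro g
      conv_rhs => rw [← g.2.2, Fin.sum_univ_succ]
      simp only [Fin.val_zero, add_zero, Fin.val_succ]
      congr 1
      exact Finset.sum_congr rfl fun i _ => by ring
    have hle : ∀ g : Seqs F m n (k + 1), (g.1 0).natDegree < n / m + 1 := fun g => by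
      rw [Nat.lt_succ_iff, Nat.le_div_iff_mul_le (by omega), mul_comm]
      have := hdeg g
      omega
    let Φ : Seqs F m n (k + 1) → Σ j : Fin (n / m + 1), PolyDeg F j × Seqs F (m + 1) (n - m * j) k :=
      fun g => ⟨⟨(g.1 0).natDegree, hle g⟩, ⟨g.1 0, (g.2.1 0).1, rfl, (g.2.1 0).2⟩,
        ⟨fun i => g.1 i.succ, fun i => g.2.1 i.succ, by
          have := hdeg g
          simp only
          omega⟩⟩
    have hΦ : Function.Injective Φ := by
      intro a b h
      have h' : (Fin.cons (a.1 0) (fun i : Fin k => a.1 i.succ) : Fin (k + 1) → F[X]) =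
          Fin.cons (b.1 0) (fun i : Fin k => b.1 i.succ) :=
        congrArg (fun x : (j : Fin (n / m + 1)) × (PolyDeg F j × Seqs F (m + 1) (n - m * j) k) =>
          (Fin.cons x.2.1.1 x.2.2.1 : Fin (k + 1) → F[X])) h
      refine Subtype.ext (funext fun i => ?_)
      induction i using Fin.cases with
      | zero => exact congrFun h' 0
      | succ i => exact congrFun h' i.succ
    refine ⟨Finite.of_injective Φ hΦ, (Nat.card_le_card_of_injective Φ hΦ).trans ?_⟩
    rw [Nat.card_sigma, AA_sum _ hm, ← Fin.sum_univ_eq_sum_range]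
    refine Finset.sum_le_sum fun j _ => ?_
    rw [Nat.card_prod, (finite_and_card (F := F) j).2]
    exact Nat.mul_le_mul_left _ (ih (m + 1) (n - m * j) (by omega)).2

/-! ## The invariant of a class -/

variable {V : Type*} [AddCommGroup V] [Module F V] [FiniteDimensional F V]

open Classical in
/-- The product of the monic primes occurring with each exponent in some cyclic decomposition. -/
def HasSeq (φ : Module.End F V) (n : ℕ) (g : Fin n → F[X]) : Prop :=
  ∃ (ι : Type u) (_ : Fintype ι) (p : ι → F[X]) (e : ι → ℕ),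
    (∀ i, Irreducible (p i)) ∧ (∀ i, e i ≤ n) ∧
    Nonempty (Module.AEval' φ ≃ₗ[F[X]] ∀ i : {i // 0 < e i}, F[X] ⧸ Ideal.span {normalize (p i) ^ e i}) ∧
    ∀ j : Fin n, g j = ∏ i ∈ Finset.univ.filter (fun i => e i = j.val + 1), normalize (p i)

theorem exists_seq (φ : Module.End F V) (hφ : Function.Injective φ) :
    ∃ g : Seqs F 1 (Module.finrank F V) (Module.finrank F V), HasSeq φ _ g.1 := by
  classical
  set n := Module.finrank F V with hn
  obtain ⟨ι, hι, p, hp, e, ⟨E⟩⟩ := Module.equiv_directSum_of_isTorsion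
    (Module.AEval.isTorsion_of_finiteDimensional F V φ)
  let E₁ : Module.AEval' φ ≃ₗ[F[X]] ∀ i, F[X] ⧸ Ideal.span {p i ^ e i} :=
    E.trans (DirectSum.linearEquivFunOnFintype F[X] ι _)
  let res : (∀ i, F[X] ⧸ Ideal.span {p i ^ e i}) →ₗ[F[X]] ∀ i : {i // 0 < e i}, F[X] ⧸ Ideal.span {p i ^ e i} :=
    LinearMap.pi fun i => LinearMap.proj i.1
  have hres : Function.Bijective res := by
    constructor
    · intro a b h
      funext i
      rcases Nat.eq_zero_or_pos (e i) with h0 | h0
      · haveI : Subsingleton (F[X] ⧸ Ideal.span {p i ^ e i}) := by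
          rw [h0, pow_zero, Ideal.span_singleton_one]; infer_instance
        exact Subsingleton.elim _ _
      · exact congrFun h ⟨i, h0⟩
    · intro w
      exact ⟨fun i => if h : 0 < e i then w ⟨i, h⟩ else 0, funext fun i => by simp [res, i.2]⟩
  have hspan : ∀ i, Ideal.span {p i ^ e i} = Ideal.span {normalize (p i) ^ e i} := fun i =>
    Ideal.span_singleton_eq_span_singleton.2 ((normalize_associated _).symm.pow_pow)
  let E₂ : Module.AEval' φ ≃ₗ[F[X]] ∀ i : {i // 0 < e i}, F[X] ⧸ Ideal.span {normalize (p i) ^ e i} :=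
    (E₁.trans (LinearEquiv.ofBijective res hres)).trans
      (LinearEquiv.piCongrRight fun i => Submodule.quotEquivOfEq _ _ (hspan i))
  have hne : ∀ i, normalize (p i) ≠ 0 := fun i => normalize_eq_zero.not.2 (hp i).ne_zero
  have hfin : ∀ f : F[X], f ≠ 0 → Module.Finite F (F[X] ⧸ Ideal.span {f}) ∧
      Module.finrank F (F[X] ⧸ Ideal.span {f}) = f.natDegree := fun f hf => by
    have he := Ideal.span_singleton_eq_span_singleton.2 (normalize_associated f)
    haveI := (monic_normalize hf).finite_quotient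
    have h1 : Module.Finite F (F[X] ⧸ Ideal.span {f}) := by rw [← he]; infer_instance
    exact ⟨h1, finrank_quotient_span_eq_natDegree⟩
  haveI : ∀ i : {i // 0 < e i}, Module.Finite F (F[X] ⧸ Ideal.span {normalize (p i) ^ e i}) :=
    fun i => (hfin _ (pow_ne_zero _ (hne i))).1
  have hsum : ∑ i, e i * (normalize (p i)).natDegree = n := by
    rw [hn, ((Module.AEval'.of φ).trans (E₂.restrictScalars F)).finrank_eq, Module.finrank_pi_fintype]
    rw [Finset.sum_congr rfl (fun (i : {i // 0 < e i}) _ => (hfin _ (pow_ne_zero (e i.1) (hne i.1))).2)]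
    simp only [natDegree_pow]
    rw [← Finset.sum_subtype (Finset.univ.filter fun i => 0 < e i) (by simp)
      (fun i => e i * (normalize (p i)).natDegree), Finset.sum_filter]
    refine Finset.sum_congr rfl fun i _ => ?_
    split_ifs with h
    · rfl
    · simp [Nat.eq_zero_of_not_pos h]
  have hdeg1 : ∀ i, 1 ≤ (normalize (p i)).natDegree := fun i =>
    ((normalize_associated (p i)).irreducible_iff.2 (hp i)).natDegree_pos
  have hle : ∀ i, e i ≤ n := fun i => by
    rw [← hsum]
    exact (Nat.le_mul_of_pos_right _ (hdeg1 i)).trans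
      (Finset.single_le_sum (f := fun i => e i * (normalize (p i)).natDegree) (fun _ _ => Nat.zero_le _)
        (Finset.mem_univ i))
  have hX : ∀ i, 0 < e i → ¬ (X : F[X]) ∣ normalize (p i) := by
    intro i hi hd
    have hass : Associated (X : F[X]) (normalize (p i)) :=
      irreducible_X.associated_of_dvd ((normalize_associated (p i)).irreducible_iff.2 (hp i)) hd
    let w : ∀ j : {j // 0 < e j}, F[X] ⧸ Ideal.span {normalize (p j) ^ e j} :=
      Pi.single ⟨i, hi⟩ (Ideal.Quotient.mk _ (normalize (p i) ^ (e i - 1)))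
    have hw : (X : F[X]) • w = 0 := by
      funext j
      by_cases hj : j = ⟨i, hi⟩
      · subst hj
        simp only [w, Pi.smul_apply, Pi.single_eq_same, Pi.zero_apply]
        refine Ideal.Quotient.eq_zero_iff_mem.2 (Ideal.mem_span_singleton.2 ?_)
        show normalize (p i) ^ e i ∣ X * normalize (p i) ^ (e i - 1)
        calc normalize (p i) ^ e i = normalize (p i) * normalize (p i) ^ (e i - 1) := by
              rw [← pow_succ', Nat.sub_add_cancel hi]
          _ ∣ _ := mul_dvd_mul_right hass.symm.dvd _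
      · simp only [w, Pi.smul_apply, Pi.single_eq_of_ne hj, smul_zero, Pi.zero_apply]
    obtain ⟨v, hv⟩ := (Module.AEval'.of φ).surjective (E₂.symm w)
    have h0 : φ v = 0 := by
      refine (Module.AEval'.of φ).map_eq_zero_iff.1 ?_
      rw [MatModule.of_apply, hv, ← map_smul, hw, map_zero]
    have hv0 : v = 0 := hφ (h0.trans (map_zero φ).symm)
    rw [hv0, map_zero] at hv
    have h1 := congrArg (fun u => u ⟨i, hi⟩) (E₂.symm.map_eq_zero_iff.1 hv.symm)
    simp only [w, Pi.single_eq_same, Pi.zero_apply] at h1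
    rw [Ideal.Quotient.eq_zero_iff_mem, Ideal.mem_span_singleton,
      pow_dvd_pow_iff (hne i) ((normalize_associated (p i)).irreducible_iff.2 (hp i)).not_isUnit] at h1
    omega
  set g : Fin n → F[X] := fun j => ∏ i ∈ Finset.univ.filter (fun i => e i = j.val + 1), normalize (p i) with hg
  refine ⟨⟨g, fun j => ⟨monic_prod_of_monic _ _ fun i _ => monic_normalize (hp i).ne_zero, ?_⟩, ?_⟩,
    ι, hι, p, e, hp, hle, ⟨E₂⟩, fun j => rfl⟩
  · rw [hg, coeff_zero_prod]
    refine Finset.prod_ne_zero_iff.2 fun i hi => fun h0 => ?_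
    exact hX i (by rw [(Finset.mem_filter.1 hi).2]; omega) (X_dvd_iff.2 h0)
  · conv_rhs => rw [← hsum]
    have h1 : ∀ j : Fin n, (1 + (j : ℕ)) * (g j).natDegree =
        ∑ i ∈ Finset.univ.filter (fun i => e i = j.val + 1), e i * (normalize (p i)).natDegree := by
      intro j
      rw [hg, natDegree_prod_of_monic _ _ fun i _ => monic_normalize (hp i).ne_zero, Finset.mul_sum]
      exact Finset.sum_congr rfl fun i hi => by rw [(Finset.mem_filter.1 hi).2, add_comm 1]
    rw [Finset.sum_congr rfl fun j _ => h1 j]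
    simp only [Finset.sum_filter]
    rw [Finset.sum_comm]
    refine Finset.sum_congr rfl fun i _ => ?_
    rcases Nat.eq_zero_or_pos (e i) with h | h
    · simp [h]
    · rw [Finset.sum_eq_single (⟨e i - 1, by have := hle i; omega⟩ : Fin n)]
      · exact if_pos (by simp only; omega)
      · intro j _ hj
        refine if_neg fun h2 => hj (Fin.ext ?_)
        simp only
        omega
      · exact fun h2 => absurd (Finset.mem_univ _) h2

theorem conj_of_hasSeq (φ ψ : Module.End F V) {n : ℕ} {g : Fin n → F[X]} (hφ : HasSeq φ n g)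
    (hψ : HasSeq ψ n g) : ∃ Θ : V ≃ₗ[F] V, ∀ v, Θ (φ v) = ψ (Θ v) := by
  classical
  obtain ⟨ι, hι, p, e, hp, he, ⟨A⟩, hg⟩ := hφ
  obtain ⟨κ, hκ, q, d, hq, hd, ⟨B⟩, hg'⟩ := hψ
  have hmult : ∀ j : Fin n, ((Finset.univ.filter fun i => e i = j.val + 1).val.map fun i => normalize (p i)) =
      (Finset.univ.filter fun k => d k = j.val + 1).val.map fun k => normalize (q k) := by
    intro j
    have h := congrArg UniqueFactorizationMonoid.normalizedFactors ((hg j).symm.trans (hg' j))
    rw [Finset.prod_eq_multiset_prod, Finset.prod_eq_multiset_prod,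
      UniqueFactorizationMonoid.normalizedFactors_prod_eq _ (fun a ha => by
        obtain ⟨i, -, rfl⟩ := Multiset.mem_map.1 ha
        exact (normalize_associated (p i)).irreducible_iff.2 (hp i)),
      UniqueFactorizationMonoid.normalizedFactors_prod_eq _ (fun a ha => by
        obtain ⟨i, -, rfl⟩ := Multiset.mem_map.1 ha
        exact (normalize_associated (q i)).irreducible_iff.2 (hq i)), Multiset.map_map, Multiset.map_map] at h
    simpa [Function.comp_def, normalize_idem] using h
  let lp : {i // 0 < e i} → F[X] × ℕ := fun i => (normalize (p i), e i)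
  let lq : {k // 0 < d k} → F[X] × ℕ := fun k => (normalize (q k), d k)
  have hfib : ∀ c : F[X] × ℕ, Fintype.card {i // lp i = c} = Fintype.card {k // lq k = c} := by
    rintro ⟨f, j⟩
    by_cases hj : 0 < j ∧ j ≤ n
    · have h := congrArg (Multiset.count f) (hmult ⟨j - 1, by omega⟩)
      rw [Multiset.count_map, Multiset.count_map, ← Finset.filter_val, ← Finset.filter_val, Finset.filter_filter,
        Finset.filter_filter, Finset.card_val, Finset.card_val, ← Fintype.card_subtype, ← Fintype.card_subtype] at h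
      simp only [Nat.sub_add_cancel hj.1] at h
      refine (Fintype.card_congr ?_).trans (h.trans (Fintype.card_congr ?_).symm)
      · refine (Equiv.subtypeSubtypeEquivSubtype (q := fun i => (normalize (p i), e i) = (f, j)) ?_).trans
          (Equiv.subtypeEquivRight fun i => ?_)
        · intro i hi
          have h2 := congrArg Prod.snd hi
          simp only at h2
          omega
        · rw [Prod.ext_iff, and_comm, eq_comm (a := normalize (p i))]
      · refine (Equiv.subtypeSubtypeEquivSubtype (q := fun i => (normalize (q i), d i) = (f, j)) ?_).trans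
          (Equiv.subtypeEquivRight fun i => ?_)
        · intro i hi
          have h2 := congrArg Prod.snd hi
          simp only at h2
          omega
        · rw [Prod.ext_iff, and_comm, eq_comm (a := normalize (q i))]
    · rw [Fintype.card_eq_zero_iff.2 ⟨fun i => hj ?_⟩, Fintype.card_eq_zero_iff.2 ⟨fun k => hj ?_⟩]
      · have h2 : d k.1.1 = j := congrArg Prod.snd k.2
        exact h2 ▸ ⟨k.1.2, hd _⟩
      · have h2 : e i.1.1 = j := congrArg Prod.snd i.2
        exact h2 ▸ ⟨i.1.2, he _⟩
  let σ : {i // 0 < e i} ≃ {k // 0 < d k} :=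
    Equiv.ofFiberEquiv fun c => Fintype.equivOfCardEq (hfib c)
  have hσ : ∀ i, lq (σ i) = lp i := fun i => Equiv.ofFiberEquiv_map _ i
  have hspan : ∀ i, Ideal.span {normalize (p i.1) ^ e i.1} =
      Ideal.span {normalize (q (σ i).1) ^ d (σ i).1} := fun i => by
    rw [show normalize (q (σ i).1) = normalize (p i.1) from congrArg Prod.fst (hσ i),
      show d (σ i).1 = e i.1 from congrArg Prod.snd (hσ i)]
  let Δ : (∀ i : {i // 0 < e i}, F[X] ⧸ Ideal.span {normalize (p i) ^ e i}) ≃ₗ[F[X]]
      ∀ k : {k // 0 < d k}, F[X] ⧸ Ideal.span {normalize (q k) ^ d k} :=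
    (LinearEquiv.piCongrRight fun i => Submodule.quotEquivOfEq _ _ (hspan i)).trans
      (LinearEquiv.piCongrLeft F[X] (fun k : {k // 0 < d k} => F[X] ⧸ Ideal.span {normalize (q k) ^ d k}) σ)
  let Θ : Module.AEval' φ ≃ₗ[F[X]] Module.AEval' ψ := A.trans (Δ.trans B.symm)
  refine ⟨((Module.AEval'.of φ).trans (Θ.restrictScalars F)).trans (Module.AEval'.of ψ).symm, fun v => ?_⟩
  apply (Module.AEval'.of ψ).injective
  simp only [LinearEquiv.trans_apply, LinearEquiv.apply_symm_apply, LinearEquiv.restrictScalars_apply]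
  rw [MatModule.of_apply, map_smul, MatModule.of_apply, LinearEquiv.apply_symm_apply]

theorem card_classes_le (n : ℕ) :
    Nat.card (ConjClasses (Matrix.GeneralLinearGroup (Fin n) F)) ≤ Fintype.card F ^ n := by
  classical
  have hinj : ∀ x : GL (Fin n) F, Function.Injective (Matrix.toLin' x.1) := fun x => by
    intro a b h
    have h' := congrArg (fun u => (x⁻¹ : GL (Fin n) F).1.mulVec u) h
    simpa [Matrix.toLin'_apply, Matrix.mulVec_mulVec, ← Units.val_mul, -Matrix.coe_units_inv] using h'
  have hN : Module.finrank F (Fin n → F) = n := Module.finrank_fin_fun F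
  have hex : ∀ x : GL (Fin n) F, ∃ g : Seqs F 1 n n, HasSeq (Matrix.toLin' x.1) n g.1 := fun x => by
    have h := exists_seq (Matrix.toLin' x.1) (hinj x)
    rwa [hN] at h
  choose g hg using hex
  haveI := (seqs_le (F := F) n 1 n le_rfl).1
  let Φ : ConjClasses (GL (Fin n) F) → Seqs F 1 n n := fun C => g C.exists_rep.choose
  have hΦ : Function.Injective Φ := by
    intro C D h
    rw [← C.exists_rep.choose_spec, ← D.exists_rep.choose_spec, ConjClasses.mk_eq_mk_iff_isConj]
    have h1 := hg C.exists_rep.choose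
    rw [show g C.exists_rep.choose = g D.exists_rep.choose from h] at h1
    obtain ⟨Θ, hΘ⟩ := conj_of_hasSeq _ _ h1 (hg D.exists_rep.choose)
    generalize C.exists_rep.choose = x at hΘ ⊢
    generalize D.exists_rep.choose = y at hΘ ⊢
    let T : GL (Fin n) F := Units.map (Matrix.toLinAlgEquiv'.symm : Module.End F (Fin n → F) ≃ₐ[F] _).toAlgHom.toRingHom.toMonoidHom
      (LinearMap.GeneralLinearGroup.ofLinearEquiv Θ)
    refine isConj_iff.2 ⟨T, mul_inv_eq_iff_eq_mul.2 (Units.ext (Matrix.toLin'.injective ?_))⟩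
    have hT : Matrix.toLin' T.1 = (Θ : (Fin n → F) →ₗ[F] Fin n → F) := Matrix.toLin'_toMatrix' _
    rw [Units.val_mul, Units.val_mul, Matrix.toLin'_mul, Matrix.toLin'_mul, hT]
    exact LinearMap.ext hΘ
  exact (Nat.card_le_card_of_injective Φ hΦ).trans ((seqs_le (F := F) n 1 n le_rfl).2.trans
    (AA_one_le Fintype.card_pos n))

theorem le_card_classes (n : ℕ) (hn : 1 ≤ n) :
    Fintype.card F ^ n - Fintype.card F ^ (n - 1) ≤
      Nat.card (ConjClasses (Matrix.GeneralLinearGroup (Fin n) F)) := by
  classical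
  obtain ⟨p, hp⟩ := CharP.exists F
  obtain ⟨E, hpp, -⟩ := FiniteField.card F p
  haveI := Fact.mk hpp
  obtain ⟨k, rfl⟩ : ∃ k, n = k + 1 := ⟨n - 1, by omega⟩
  have hc : Nat.card (PolyDeg F (k + 1)) = Fintype.card F ^ (k + 1) - Fintype.card F ^ (k + 1 - 1) := by
    rw [(finite_and_card (F := F) (k + 1)).2, cc, Nat.add_sub_cancel, Nat.sub_mul, one_mul, pow_succ']
  rw [← hc]
  have hex : ∀ f : PolyDeg F (k + 1), ∃ x : GL (Fin (k + 1)) F, x.1.charpoly = f.1 := fun f => by
    obtain ⟨x, -, hx⟩ := Cfsg.Agent.S2387.exists_semisimple p f.1 f.2.1 f.2.2.1 f.2.2.2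
    exact ⟨x, hx⟩
  choose x hx using hex
  refine Nat.card_le_card_of_injective (fun f => ConjClasses.mk (x f)) fun a b h => ?_
  obtain ⟨c, hc⟩ := isConj_iff.1 (ConjClasses.mk_eq_mk_iff_isConj.1 h)
  have e := congrArg (fun z : GL (Fin (k + 1)) F => z.1.charpoly) hc
  simp only [Units.val_mul] at e
  rw [Matrix.charpoly_mul_comm, ← mul_assoc, ← Units.val_mul, inv_mul_cancel, Units.val_one, one_mul,
    hx, hx] at e
  exact Subtype.ext e

end Field

end Cfsg.Agent.ClassNumberGL
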