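import Cfsg.Agent.Classical.SympGroup
import Cfsg.Agent.MatModule.SympConj

/-!
Semisimple symplectic matrices which are linearly conjugate are symplectically conjugate.
-/

set_option autoImplicit false

namespace Cfsg.Agent.SympConj

open Module Polynomial Matrix Cfsg.Agent.Classical

variable {F : Type*} [Field F] {m : ℕ}

theorem exists_squarefree (p : ℕ) [Fact p.Prime] [CharP F p] [Finite F]
    (A : Matrix.symplecticGroup (Fin m) F) (hA : (orderOf A).Coprime p) :
    ∃ q : F[X], Squarefree q ∧ aeval (Matrix.toLin' A.1) q = 0 := by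
  classical
  refine ⟨X ^ orderOf A - C 1, (separable_X_pow_sub_C (1 : F) ?_ one_ne_zero).squarefree, ?_⟩
  · rw [Ne, CharP.cast_eq_zero_iff F p]
    intro hd
    exact (Fact.out : p.Prime).ne_one (Nat.eq_one_of_dvd_coprimes hA hd dvd_rfl)
  · rw [map_sub, map_pow, aeval_X, aeval_C, map_one, ← Matrix.toLin'_pow,
      ← SubmonoidClass.coe_pow, pow_orderOf_eq_one, OneMemClass.coe_one, Matrix.toLin'_one]
    exact sub_self _

/-- The centraliser absorbs the failure of a linear conjugation to be symplectic. -/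
theorem isConj_of_linear [Finite F] (A B : Matrix.symplecticGroup (Fin m) F) {q : F[X]}
    (hq : Squarefree q) (hqA : aeval (Matrix.toLin' A.1) q = 0)
    (P : (Fin m ⊕ Fin m → F) ≃ₗ[F] (Fin m ⊕ Fin m → F))
    (hP : ∀ x, P (A.1 *ᵥ x) = B.1 *ᵥ P x) : IsConj A B := by
  set S := sympB m F with hS
  have hA := (mem_symplectic_iff A.1).1 A.2
  have hB := (mem_symplectic_iff B.1).1 B.2
  have g1 : Good S (Matrix.toLin' A.1) :=
    ⟨sympB_isAlt, fun x hx => sympB_nondeg.1 x hx, fun x y => by
      rw [Matrix.toLin'_apply, Matrix.toLin'_apply]; exact hA x y⟩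
  have g2 : Good (S.comp P.toLinearMap P.toLinearMap) (Matrix.toLin' A.1) := by
    refine ⟨fun x => sympB_isAlt (m := m) (P x), fun x hx => ?_, fun x y => ?_⟩
    · exact P.map_eq_zero_iff.1 (sympB_nondeg.1 _ fun y => by
        obtain ⟨y, rfl⟩ := P.surjective y; exact hx y)
    · change S (P (Matrix.toLin' A.1 x)) (P (Matrix.toLin' A.1 y)) = S (P x) (P y)
      rw [Matrix.toLin'_apply, Matrix.toLin'_apply, hP, hP]
      exact hB _ _
  obtain ⟨y, hyA, hy⟩ := exists_centralizer_isometry g1 g2 hq hqA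
  have hinj : Function.Injective y := by
    rw [← LinearMap.ker_eq_bot, Submodule.eq_bot_iff]
    intro x hx
    refine g2.sep x fun z => ?_
    rw [← hy, LinearMap.mem_ker.1 hx, map_zero, LinearMap.zero_apply]
  let Y := LinearEquiv.ofBijective y ⟨hinj, LinearMap.injective_iff_surjective.1 hinj⟩
  let U : Alt.isoGroup S := ⟨Y.symm.trans P, fun u v => by
    change S (P (Y.symm u)) (P (Y.symm v)) = S u v
    obtain ⟨u, rfl⟩ := Y.surjective u
    obtain ⟨v, rfl⟩ := Y.surjective v
    rw [LinearEquiv.symm_apply_apply, LinearEquiv.symm_apply_apply]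
    exact (hy u v).symm⟩
  refine isConj_iff.2 ⟨(spEquiv m F).symm U, ?_⟩
  rw [mul_inv_eq_iff_eq_mul]
  refine Subtype.ext (Matrix.ext_of_mulVec_single fun i => ?_)
  rw [Submonoid.coe_mul, Submonoid.coe_mul, ← Matrix.mulVec_mulVec, ← Matrix.mulVec_mulVec,
    spEquiv_symm_mulVec, spEquiv_symm_mulVec]
  change P (Y.symm (A.1 *ᵥ _)) = B.1 *ᵥ P (Y.symm _)
  rw [← hP]
  congr 1
  apply Y.injective
  rw [LinearEquiv.apply_symm_apply]
  change _ = y (Matrix.toLin' A.1 (Y.symm _))
  rw [← Module.End.mul_apply, hyA.eq, Module.End.mul_apply, Matrix.toLin'_apply]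
  change _ = A.1 *ᵥ Y (Y.symm _)
  rw [LinearEquiv.apply_symm_apply]

end Cfsg.Agent.SympConj
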