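import Cfsg.Agent.MatModule.SympSeqBound
import Cfsg.Agent.MatModule.UnitarySeqForm

/-!
# Counting self-reciprocal sequences with signs
-/

set_option autoImplicit false

namespace Cfsg.Agent.FormClass

open Polynomial Cfsg.Agent.USeq

variable {F : Type*} [Field F]

/-- A monic polynomial equal to the one with reciprocal roots. -/
def SelfRec (f : F[X]) : Prop := f.Monic ∧ f.coeff 0 ≠ 0 ∧ dualP (RingHom.id F) f = f

theorem coeff_rec {f : F[X]} (hf : SelfRec f) {i : ℕ} (hi : i ≤ f.natDegree) :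
    f.coeff (f.natDegree - i) = f.coeff 0 * f.coeff i := by
  have h := coeff_dualP (σ := RingHom.id F) f hi
  rw [hf.2.2, RingHom.id_apply, RingHom.id_apply] at h
  rw [h, mul_inv_cancel_left₀ hf.2.1]

theorem coeff_zero_sq {f : F[X]} (hf : SelfRec f) : f.coeff 0 = 1 ∨ f.coeff 0 = -1 := by
  refine mul_self_eq_one_iff.1 ?_
  have h := coeff_rec hf (i := 0) (Nat.zero_le _)
  rw [Nat.sub_zero, hf.1.coeff_natDegree] at h
  exact h.symm

theorem eq_of_low {f g : F[X]} (hf : SelfRec f) (hg : SelfRec g) (hd : f.natDegree = g.natDegree)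
    (h : ∀ i ≤ f.natDegree / 2, f.coeff i = g.coeff i) : f = g := by
  ext i
  rcases le_or_gt i (f.natDegree / 2) with hi | hi
  · exact h i hi
  rcases le_or_gt i f.natDegree with hi' | hi'
  · have h1 := coeff_rec hf (i := f.natDegree - i) (Nat.sub_le _ _)
    have h2 := coeff_rec hg (i := f.natDegree - i) (by omega)
    rw [Nat.sub_sub_self hi'] at h1
    rw [← hd, Nat.sub_sub_self hi'] at h2
    rw [h1, h2, h 0 (Nat.zero_le _), h _ (by omega)]
  · rw [coeff_eq_zero_of_natDegree_lt hi', coeff_eq_zero_of_natDegree_lt (hd ▸ hi')]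

theorem selfRec_linear {s : F} (hs : s * s = 1) : SelfRec (X - C s) := by
  have hs0 : s ≠ 0 := left_ne_zero_of_mul_eq_one hs
  refine ⟨monic_X_sub_C s, by simpa using hs0, Polynomial.ext fun i => ?_⟩
  rcases le_or_gt i 1 with hi | hi
  · rw [coeff_dualP _ (by rwa [natDegree_X_sub_C]), natDegree_X_sub_C, RingHom.id_apply, RingHom.id_apply]
    interval_cases i
    · simp
      field_simp
      linear_combination -hs
    · simp [hs0]
  · have h0 : (X - C s : F[X]).coeff 0 ≠ 0 := by simpa using hs0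
    rw [coeff_eq_zero_of_natDegree_lt (by rwa [natDegree_dualP h0, natDegree_X_sub_C]),
      coeff_eq_zero_of_natDegree_lt (by rwa [natDegree_X_sub_C])]

theorem selfRec_div {p h : F[X]} (hp : SelfRec p) (hph : SelfRec (p * h)) : SelfRec h := by
  have h0 : h.coeff 0 ≠ 0 := by
    have := hph.2.1
    rw [mul_coeff_zero] at this
    exact right_ne_zero_of_mul this
  refine ⟨hp.1.of_mul_monic_left hph.1, h0, ?_⟩
  have e := hph.2.2
  rw [dualP_mul, hp.2.2] at e
  exact mul_left_cancel₀ hp.1.ne_zero e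

/-- The self-reciprocal polynomials of degree `j`. -/
abbrev RecPoly (F : Type*) [Field F] (j : ℕ) := {f : F[X] // SelfRec f ∧ f.natDegree = j}

/-- Those with constant term one. -/
abbrev RecPolyOne (F : Type*) [Field F] (j : ℕ) := {f : RecPoly F j // f.1.coeff 0 = 1 ∧ Even j}

/-- Those divisible by a polynomial. -/
abbrev RecPolyDvd (p : F[X]) (j : ℕ) := {f : RecPoly F j // p ∣ f.1}

/-- Self-reciprocal polynomials with the marks allowed at weight `w`. -/
abbrev PW (F : Type*) [Field F] (w j : ℕ) :=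
  {p : F[X] × (Bool × Bool) // SelfRec p.1 ∧ p.1.natDegree = j ∧ (Odd w → p.1.coeff 0 = 1 ∧ Even j) ∧
    (p.2.1 = true → Even w ∧ X - C (1 : F) ∣ p.1) ∧ (p.2.2 = true → Even w ∧ X - C (-1 : F) ∣ p.1)}

section Count

variable [Fintype F]

instance finite_recPoly (j : ℕ) : Finite (RecPoly F j) :=
  Finite.of_injective (fun f : RecPoly F j => fun i : Fin (j + 1) => f.1.coeff i) fun f g h =>
    Subtype.ext (eq_of_low f.2.1 g.2.1 (f.2.2.trans g.2.2.symm) fun i hi =>
      congrFun h ⟨i, by have := f.2.2; omega⟩)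

instance finite_pw (w j : ℕ) : Finite (PW F w j) :=
  Finite.of_injective (fun p : PW F w j => ((⟨p.1.1, p.2.1, p.2.2.1⟩ : RecPoly F j), p.1.2)) fun a b h => by
    simp only [Prod.mk.injEq, Subtype.mk.injEq] at h
    exact Subtype.ext (Prod.ext h.1 h.2)

theorem card_recPolyOne_le (j : ℕ) : Nat.card (RecPolyOne F j) ≤ hh (Fintype.card F) j := by
  by_cases hj : Even j
  swap
  · haveI : IsEmpty (RecPolyOne F j) := ⟨fun f => hj f.2.2⟩
    simp
  rw [hh, if_pos hj, ← Nat.card_eq_fintype_card,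
    show Nat.card F ^ (j / 2) = Nat.card (Fin (j / 2) → F) by simp [Nat.card_fun]]
  refine Nat.card_le_card_of_injective (fun f i => f.1.1.coeff (i.val + 1)) fun f g h => ?_
  refine Subtype.ext (Subtype.ext (eq_of_low f.1.2.1 g.1.2.1 (f.1.2.2.trans g.1.2.2.symm) fun i hi => ?_))
  rw [f.1.2.2] at hi
  rcases i with _ | i
  · rw [f.2.1, g.2.1]
  · exact congrFun h ⟨i, by omega⟩

theorem card_recPoly_le (h2 : (2 : F) ≠ 0) (j : ℕ) : Nat.card (RecPoly F j) ≤ bin (Fintype.card F) 2 j := by
  classical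
  have hbin : bin (Fintype.card F) 2 j = hh (Fintype.card F) j + (if 1 ≤ j then 2 * hh (Fintype.card F) (j - 1) else 0)
      + (if 2 ≤ j then hh (Fintype.card F) (j - 2) else 0) := by
    rw [bin]
    simp [Finset.sum_range_succ, Nat.choose]
  rw [hbin]
  rcases Nat.even_or_odd' j with ⟨k, rfl | rfl⟩
  · rcases Nat.eq_zero_or_pos k with rfl | hk
    · haveI : Subsingleton (RecPoly F (2 * 0)) := ⟨fun f g => Subtype.ext ((f.2.1.1.natDegree_eq_zero.1
        (f.2.2.trans (by simp))).trans (g.2.1.1.natDegree_eq_zero.1 (g.2.2.trans (by simp))).symm)⟩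
      refine (Finite.card_le_one_iff_subsingleton.2 inferInstance).trans ?_
      simp [hh]
    · obtain ⟨k, rfl⟩ : ∃ k', k = k' + 1 := ⟨k - 1, by omega⟩
      let Φ : RecPoly F (2 * (k + 1)) → (Fin (k + 1) → F) ⊕ (Fin k → F) := fun f =>
        if f.1.coeff 0 = 1 then Sum.inl fun i => f.1.coeff (i.val + 1) else Sum.inr fun i => f.1.coeff (i.val + 1)
      refine (Nat.card_le_card_of_injective Φ ?_).trans ?_
      · intro f g h
        refine Subtype.ext (eq_of_low f.2.1 g.2.1 (f.2.2.trans g.2.2.symm) fun i hi => ?_)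
        rw [f.2.2] at hi
        simp only [Φ] at h
        split_ifs at h with hf hg hg
        · rcases i with _ | i
          · rw [hf, hg]
          · exact congrFun (Sum.inl.inj h) ⟨i, by omega⟩
        · have hmid : ∀ f : RecPoly F (2 * (k + 1)), f.1.coeff 0 = -1 → f.1.coeff (k + 1) = 0 := by
            intro f hf
            have h1 := coeff_rec f.2.1 (i := k + 1) (by rw [f.2.2]; omega)
            rw [f.2.2, show 2 * (k + 1) - (k + 1) = k + 1 by omega, hf] at h1
            exact (mul_eq_zero.1 (show (2 : F) * f.1.coeff (k + 1) = 0 by linear_combination h1)).resolve_left h2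
          have ef := (coeff_zero_sq f.2.1).resolve_left hf
          have eg := (coeff_zero_sq g.2.1).resolve_left hg
          rcases i with _ | i
          · rw [ef, eg]
          · rcases Nat.lt_or_ge i k with hik | hik
            · exact congrFun (Sum.inr.inj h) ⟨i, hik⟩
            · rw [show i = k by omega, hmid f ef, hmid g eg]
      · rw [Nat.card_sum, Nat.card_fun, Nat.card_fun, Nat.card_eq_fintype_card]
        simp only [Nat.card_eq_fintype_card, Fintype.card_fin]
        rw [show 2 * (k + 1) = 2 * k + 1 + 1 by ring]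
        simp [hh, Nat.even_add_one, show (2 * k + 1 + 1) / 2 = k + 1 by omega]
  · let Φ : RecPoly F (2 * k + 1) → Bool × (Fin k → F) := fun f =>
      (decide (f.1.coeff 0 = 1), fun i => f.1.coeff (i.val + 1))
    refine (Nat.card_le_card_of_injective Φ ?_).trans ?_
    · intro f g h
      refine Subtype.ext (eq_of_low f.2.1 g.2.1 (f.2.2.trans g.2.2.symm) fun i hi => ?_)
      rw [f.2.2] at hi
      rcases i with _ | i
      · have h1 : decide (f.1.coeff 0 = 1) = decide (g.1.coeff 0 = 1) := congrArg Prod.fst h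
        simp only [decide_eq_decide] at h1
        rcases coeff_zero_sq f.2.1 with e | e <;> rcases coeff_zero_sq g.2.1 with e' | e' <;> rw [e, e'] at h1 ⊢
        · exact (h1.1 rfl).symm
        · exact h1.2 rfl
      · exact congrFun (congrArg Prod.snd h) ⟨i, by omega⟩
    · rw [Nat.card_prod, Nat.card_fun, Nat.card_eq_fintype_card]
      simp [hh, Nat.even_add_one]

theorem card_recPolyDvd_le {p : F[X]} (hp : SelfRec p) (j : ℕ) :
    Nat.card (RecPolyDvd p j) ≤ if p.natDegree ≤ j then Nat.card (RecPoly F (j - p.natDegree)) else 0 := by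
  split_ifs with h
  · choose q hq using fun f : RecPolyDvd p j => f.2
    have hh : ∀ f : RecPolyDvd p j, SelfRec (q f) ∧ (q f).natDegree = j - p.natDegree := fun f => by
      have h1 := f.1.2
      rw [hq f] at h1
      have h2 := selfRec_div hp h1.1
      exact ⟨h2, by rw [← h1.2, hp.1.natDegree_mul h2.1, Nat.add_sub_cancel_left]⟩
    refine Nat.card_le_card_of_injective (fun f => (⟨q f, hh f⟩ : RecPoly F (j - p.natDegree))) fun f g e => ?_
    refine Subtype.ext (Subtype.ext ?_)
    rw [hq f, hq g]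
    exact congrArg (p * ·) (congrArg Subtype.val e)
  · haveI : IsEmpty (RecPolyDvd p j) := ⟨fun f => h (by
      rw [← f.1.2.2]
      exact natDegree_le_of_dvd f.2 f.1.2.1.1.ne_zero)⟩
    simp

theorem card_pw_le (h2 : (2 : F) ≠ 0) (w j : ℕ) : Nat.card (PW F w j) ≤ cw (Fintype.card F) w j := by
  classical
  by_cases hw : Odd w
  · rw [cw, if_pos hw]
    refine le_trans ?_ (card_recPolyOne_le (F := F) j)
    have hb : ∀ p : PW F w j, p.1.2 = (false, false) := fun p => by
      refine Prod.ext (Bool.eq_false_iff.2 fun h => ?_) (Bool.eq_false_iff.2 fun h => ?_)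
      · exact (Nat.not_even_iff_odd.2 hw) (p.2.2.2.2.1 h).1
      · exact (Nat.not_even_iff_odd.2 hw) (p.2.2.2.2.2 h).1
    refine Nat.card_le_card_of_injective
      (fun p : PW F w j => (⟨⟨p.1.1, p.2.1, p.2.2.1⟩, p.2.2.2.1 hw⟩ : RecPolyOne F j)) fun a b h => ?_
    exact Subtype.ext (Prod.ext (congrArg (fun x : RecPolyOne F j => x.1.1) h) ((hb a).trans (hb b).symm))
  rw [cw, if_neg hw]
  set p1 := X - C (1 : F) with hp1
  set p2 := X - C (-1 : F) with hp2
  have hs1 : SelfRec p1 := selfRec_linear (one_mul 1)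
  have hs2 : SelfRec p2 := selfRec_linear (by ring)
  have hcop : IsCoprime p1 p2 :=
    isCoprime_X_sub_C_of_isUnit_sub (Ne.isUnit (by rw [sub_neg_eq_add, one_add_one_eq_two]; exact h2))
  have hs12 : SelfRec (p1 * p2) := ⟨hs1.1.mul hs2.1, by
    rw [mul_coeff_zero]; exact mul_ne_zero hs1.2.1 hs2.2.1, by rw [dualP_mul, hs1.2.2, hs2.2.2]⟩
  let Φ : PW F w j → (RecPoly F j ⊕ RecPolyDvd p1 j) ⊕ (RecPolyDvd p2 j ⊕ RecPolyDvd (p1 * p2) j) := fun p =>
    if h : p.1.2.1 = true then
      (if h' : p.1.2.2 = true then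
        Sum.inr (Sum.inr ⟨⟨p.1.1, p.2.1, p.2.2.1⟩, hcop.mul_dvd (p.2.2.2.2.1 h).2 (p.2.2.2.2.2 h').2⟩)
      else Sum.inl (Sum.inr ⟨⟨p.1.1, p.2.1, p.2.2.1⟩, (p.2.2.2.2.1 h).2⟩))
    else
      (if h' : p.1.2.2 = true then Sum.inr (Sum.inl ⟨⟨p.1.1, p.2.1, p.2.2.1⟩, (p.2.2.2.2.2 h').2⟩)
      else Sum.inl (Sum.inl ⟨p.1.1, p.2.1, p.2.2.1⟩))
  let Ψ : (RecPoly F j ⊕ RecPolyDvd p1 j) ⊕ (RecPolyDvd p2 j ⊕ RecPolyDvd (p1 * p2) j) → F[X] × (Bool × Bool) :=
    Sum.elim (Sum.elim (fun f => (f.1, false, false)) fun f => (f.1.1, true, false))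
      (Sum.elim (fun f => (f.1.1, false, true)) fun f => (f.1.1, true, true))
  have hΨ : ∀ p, Ψ (Φ p) = p.1 := by
    intro p
    simp only [Φ]
    split_ifs with h h' h'' <;> simp only [Ψ, Sum.elim_inl, Sum.elim_inr] <;>
      refine Prod.ext rfl (Prod.ext ?_ ?_) <;> simp_all
  have hΦ : Function.Injective Φ := fun a b h => Subtype.ext (by rw [← hΨ a, ← hΨ b, h])
  refine (Nat.card_le_card_of_injective Φ hΦ).trans ?_
  rw [Nat.card_sum, Nat.card_sum, Nat.card_sum]
  have d1 : p1.natDegree = 1 := natDegree_X_sub_C _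
  have d2 : p2.natDegree = 1 := natDegree_X_sub_C _
  have d12 : (p1 * p2).natDegree = 2 := by rw [hs1.1.natDegree_mul hs2.1, d1, d2]
  have c1 := card_recPolyDvd_le hs1 j
  have c2 := card_recPolyDvd_le hs2 j
  have c12 := card_recPolyDvd_le hs12 j
  rw [d1] at c1
  rw [d2] at c2
  rw [d12] at c12
  have P := card_recPoly_le (F := F) h2
  have key : ∀ k, (if k ≤ j then Nat.card (RecPoly F (j - k)) else 0) ≤
      if k ≤ j then bin (Fintype.card F) 2 (j - k) else 0 := fun k => by
    split_ifs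
    · exact P _
    · exact le_rfl
  have k1 := key 1
  have k2 := key 2
  have hid : bin (Fintype.card F) 2 j + (if 1 ≤ j then bin (Fintype.card F) 2 (j - 1) else 0) +
      ((if 1 ≤ j then bin (Fintype.card F) 2 (j - 1) else 0) + if 2 ≤ j then bin (Fintype.card F) 2 (j - 2) else 0) =
      bin (Fintype.card F) 4 j := by
    rcases j with _ | _ | _ | _ | j <;> simp [bin, Finset.sum_range_succ, Nat.choose] <;> ring
  calc _ ≤ _ := Nat.add_le_add (Nat.add_le_add (P j) (c1.trans k1)) (Nat.add_le_add (c2.trans k1) (c12.trans k2))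
    _ = _ := hid

/-- Sequences of marked self-reciprocal polynomials of weighted degree `N`, weights starting at `m`. -/
abbrev SSeqs (F : Type*) [Field F] (m N k : ℕ) :=
  {p : Fin k → F[X] × (Bool × Bool) // (∀ i, SelfRec (p i).1 ∧ (Odd (m + i.val) → (p i).1.coeff 0 = 1 ∧
      Even (p i).1.natDegree) ∧ ((p i).2.1 = true → Even (m + i.val) ∧ X - C (1 : F) ∣ (p i).1) ∧
      ((p i).2.2 = true → Even (m + i.val) ∧ X - C (-1 : F) ∣ (p i).1)) ∧
    ∑ i : Fin k, (m + i.val) * (p i).1.natDegree = N}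

theorem sseqs_le (h2 : (2 : F) ≠ 0) :
    ∀ (k m n : ℕ), 1 ≤ m → Finite (SSeqs F m (2 * n) k) ∧
      Nat.card (SSeqs F m (2 * n) k) ≤ SP (Fintype.card F) m n := by
  intro k
  induction k with
  | zero =>
    intro m n _
    rcases Nat.eq_zero_or_pos n with rfl | hn
    · haveI : Subsingleton (SSeqs F m (2 * 0) 0) := ⟨fun a b => Subtype.ext (funext fun i => i.elim0)⟩
      refine ⟨Finite.of_subsingleton, ?_⟩
      rw [SP_zero]
      exact Finite.card_le_one_iff_subsingleton.2 inferInstance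
    · haveI : IsEmpty (SSeqs F m (2 * n) 0) := ⟨fun a => by have h := a.2.2; simp at h; omega⟩
      exact ⟨Finite.of_subsingleton, by simp⟩
  | succ k ih =>
    intro m n hm
    haveI : ∀ j : Fin (2 * n / m + 1), Finite (PW F m j × SSeqs F (m + 1) (2 * (n - m * j / 2)) k) := fun j => by
      haveI := (ih (m + 1) (n - m * j / 2) (by omega)).1
      infer_instance
    have hdeg : ∀ g : SSeqs F m (2 * n) (k + 1), m * (g.1 0).1.natDegree +
        ∑ i : Fin k, (m + 1 + i.val) * (g.1 i.succ).1.natDegree = 2 * n := by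
      intro g
      conv_rhs => rw [← g.2.2, Fin.sum_univ_succ]
      simp only [Fin.val_zero, add_zero, Fin.val_succ]
      congr 1
      exact Finset.sum_congr rfl fun i _ => by ring
    have hev : ∀ g : SSeqs F m (2 * n) (k + 1), Even (m * (g.1 0).1.natDegree) := fun g => by
      rcases Nat.even_or_odd m with h | h
      · exact h.mul_right _
      · exact ((g.2.1 0).2.1 (by simpa using h)).2.mul_left _
    have hle : ∀ g : SSeqs F m (2 * n) (k + 1), (g.1 0).1.natDegree < 2 * n / m + 1 := fun g => by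
      rw [Nat.lt_succ_iff, Nat.le_div_iff_mul_le (by omega), mul_comm]
      have := hdeg g
      omega
    let Φ : SSeqs F m (2 * n) (k + 1) →
        Σ j : Fin (2 * n / m + 1), PW F m j × SSeqs F (m + 1) (2 * (n - m * j / 2)) k :=
      fun g => ⟨⟨(g.1 0).1.natDegree, hle g⟩, ⟨g.1 0, (g.2.1 0).1, rfl,
          fun h => (g.2.1 0).2.1 (by simpa using h), fun h => by simpa using (g.2.1 0).2.2.1 h,
          fun h => by simpa using (g.2.1 0).2.2.2 h⟩,
        ⟨fun i => g.1 i.succ, fun i => by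
            have := g.2.1 i.succ
            rwa [show m + (i.succ).val = m + 1 + i.val by rw [Fin.val_succ]; ring] at this, by
          have := hdeg g
          obtain ⟨r, hr⟩ := hev g
          simp only
          omega⟩⟩
    have hΦ : Function.Injective Φ := by
      intro a b h
      have h' : (Fin.cons (a.1 0) (fun i : Fin k => a.1 i.succ) : Fin (k + 1) → F[X] × (Bool × Bool)) =
          Fin.cons (b.1 0) (fun i : Fin k => b.1 i.succ) :=
        congrArg (fun x : (j : Fin (2 * n / m + 1)) × (PW F m j × SSeqs F (m + 1) (2 * (n - m * j / 2)) k) =>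
          (Fin.cons x.2.1.1 x.2.2.1 : Fin (k + 1) → F[X] × (Bool × Bool))) h
      refine Subtype.ext (funext fun i => ?_)
      induction i using Fin.cases with
      | zero => exact congrFun h' 0
      | succ i => exact congrFun h' i.succ
    refine ⟨Finite.of_injective Φ hΦ, (Nat.card_le_card_of_injective Φ hΦ).trans ?_⟩
    rw [Nat.card_sigma, SP_sum _ hm, ← Fin.sum_univ_eq_sum_range]
    refine Finset.sum_le_sum fun j _ => ?_
    rw [Nat.card_prod]
    exact Nat.mul_le_mul (card_pw_le h2 m j) (ih (m + 1) (n - m * j / 2) (by omega)).2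

end Count

end Cfsg.Agent.FormClass
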