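import Cfsg.Agent.MatModule.FormSplit
import Cfsg.Agent.MatModule.SympSeqCount
import Cfsg.Agent.MatModule.SympGroupConj

/-!
# The class number of the symplectic group in odd characteristic
-/

set_option autoImplicit false

namespace Cfsg.Agent.FormClass

open Module Polynomial Matrix UniqueFactorizationMonoid
open Cfsg.Agent.ClassNumberGL Cfsg.Agent.SympConj Cfsg.Agent.USeq Cfsg.Agent.Classical

section Dual

universe u v

variable {F : Type u} [Field F] {V : Type v} [AddCommGroup V] [Module F V] [FiniteDimensional F V]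
variable {B : LinearMap.BilinForm F V} {a : Module.End F V} {c : F}

/-- The kernel of a polynomial in an isometry and in its inverse have the same dimension. -/
theorem finrank_ker_inv (hc : c * c = 1) (hB : Signed c B a) (U : (Module.End F V)ˣ) (hU : U.1 = a) (p : F[X]) :
    finrank F (LinearMap.ker (aeval ((U⁻¹ : (Module.End F V)ˣ) : Module.End F V) p)) =
      finrank F (LinearMap.ker (aeval a p)) := by
  have hpow : ∀ (k : ℕ) x y, B ((a ^ k) x) y =
      B x ((((U⁻¹ : (Module.End F V)ˣ) : Module.End F V) ^ k) y) := by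
    intro k
    induction k with
    | zero => intro x y; rfl
    | succ k ih =>
      intro x y
      have h : ∀ z, a (((U⁻¹ : (Module.End F V)ˣ) : Module.End F V) z) = z := fun z => by
        rw [← hU, ← Module.End.mul_apply, U.mul_inv, Module.End.one_apply]
      rw [pow_succ, Module.End.mul_apply, ih, pow_succ', Module.End.mul_apply]
      conv_lhs => rw [← h ((((U⁻¹ : (Module.End F V)ˣ) : Module.End F V) ^ k) y)]
      exact hB.pres _ _
  have hadj : ∀ (p : F[X]) x y, B (aeval a p x) y =
      B x (aeval ((U⁻¹ : (Module.End F V)ˣ) : Module.End F V) p y) := by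
    intro p
    induction p using Polynomial.induction_on' with
    | add f g hf hg => intro x y; simp [hf, hg]
    | monomial i r =>
      intro x y
      simp [aeval_monomial, Module.algebraMap_end_apply, hpow]
  have heq : B.orthogonal (LinearMap.range (aeval a p)) =
      LinearMap.ker (aeval ((U⁻¹ : (Module.End F V)ˣ) : Module.End F V) p) := by
    ext y
    rw [LinearMap.BilinForm.mem_orthogonal_iff, LinearMap.mem_ker]
    constructor
    · intro h
      refine hB.sep _ fun x => ?_
      rw [hB.flip x, ← hadj, h _ ⟨x, rfl⟩, mul_zero]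
    · rintro h _ ⟨x, rfl⟩
      show B (aeval a p x) y = 0
      rw [hadj, h, map_zero]
  have hrefl : B.IsRefl := fun x y h => by rw [hB.flip, h, mul_zero]
  have h1 := LinearMap.BilinForm.finrank_add_finrank_orthogonal hrefl (LinearMap.range (aeval a p))
  have h2 : B.orthogonal ⊤ = ⊥ := by
    refine (Submodule.eq_bot_iff _).2 fun x hx => hB.sep x fun y => hrefl _ _ (hx y Submodule.mem_top)
  rw [h2, inf_bot_eq, finrank_bot, add_zero, heq] at h1
  have h3 := (aeval a p).finrank_range_add_finrank_ker
  omega

/-- The sequence of an isometry is fixed by reciprocation. -/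
theorem dual_fix_signed [Fintype F] (hc : c * c = 1) (hB : Signed c B a) {n N : ℕ} {g : Seqs F 1 N n}
    (hg : HasSeq a n g.1) : ∀ j, dualP (RingHom.id F) (g.1 j) = g.1 j := by
  classical
  obtain ⟨U, hU⟩ : IsUnit a := (Module.End.isUnit_iff a).2
    ⟨hB.injective, LinearMap.injective_iff_surjective.1 hB.injective⟩
  have hid : ∀ x : F, RingHom.id F (RingHom.id F x) = x := fun x => rfl
  have hdual : ∀ f : F[X], f.coeff 0 ≠ 0 → ∀ k : ℕ,
      finrank F (LinearMap.ker (aeval a (dualP (RingHom.id F) f ^ k))) =
        finrank F (LinearMap.ker (aeval a (f ^ k))) := by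
    intro f h0 k
    have h0k : (f ^ k).coeff 0 ≠ 0 := by
      rw [coeff_zero_eq_eval_zero, eval_pow, ← coeff_zero_eq_eval_zero]; exact pow_ne_zero _ h0
    have hk : dualP (RingHom.id F) f ^ k = dualP (RingHom.id F) (f ^ k) := by
      induction k with
      | zero => rw [pow_zero, pow_zero, dualP_one]
      | succ k ih =>
        rw [pow_succ, pow_succ, dualP_mul, ih (by
          rw [coeff_zero_eq_eval_zero, eval_pow, ← coeff_zero_eq_eval_zero]; exact pow_ne_zero _ h0)]
    rw [hk, ← finrank_ker_inv hc hB U hU (f ^ k), ← hU, aeval_dualP, Polynomial.map_id, RingHom.id_apply]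
    set R := aeval ((U⁻¹ : (Module.End F V)ˣ) : Module.End F V) (f ^ k)
    have hcm : Commute R (U : Module.End F V) :=
      Algebra.commute_of_mem_adjoin_singleton_of_commute (aeval_mem_adjoin_singleton F _)
        (U.inv_mul.trans U.mul_inv.symm).symm |>.symm
    have hop : algebraMap F (Module.End F V) ((f ^ k).coeff 0)⁻¹ * (R * (U : Module.End F V) ^ (f ^ k).natDegree) =
        (algebraMap F (Module.End F V) ((f ^ k).coeff 0)⁻¹ * (U : Module.End F V) ^ (f ^ k).natDegree) * R := by
      rw [(hcm.pow_right _).eq, mul_assoc]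
    rw [hop]
    refine congrArg (fun W : Submodule F V => finrank F W) (LinearMap.ker_comp_of_ker_eq_bot R ?_)
    refine LinearMap.ker_eq_bot.2 ((Module.End.isUnit_iff _).1 ?_).injective
    exact ((isUnit_iff_ne_zero.2 (inv_ne_zero h0k)).map _).mul (U.isUnit.pow _)
  have key : ∀ f : F[X], f.Monic → f.coeff 0 ≠ 0 → Irreducible f → ∀ j : Fin n,
      (normalizedFactors (g.1 j)).count (dualP (RingHom.id F) f) = (normalizedFactors (g.1 j)).count f := by
    intro f hf h0 hfi
    refine congrFun (ClassSeq.eq_of_min_sum fun k => ?_)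
    have h1 := ClassSeq.finrank_ker hg (monic_dualP hf h0) (irreducible_dualP hid hf h0 hfi) k
    have h2 := ClassSeq.finrank_ker hg hf hfi k
    rw [hdual f h0 k, h2, natDegree_dualP h0] at h1
    exact (Nat.eq_of_mul_eq_mul_left hfi.natDegree_pos h1).symm
  intro j
  obtain ⟨hm, hc0⟩ := g.2.1 j
  set M := normalizedFactors (g.1 j) with hM
  have hN : M.prod = g.1 j := by
    rw [hM, prod_normalizedFactors_eq hm.ne_zero, hm.normalize_eq_self]
  have hmem : ∀ f ∈ M, f.Monic ∧ f.coeff 0 ≠ 0 ∧ Irreducible f := by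
    intro f hf
    refine ⟨?_, fun h => ?_, irreducible_of_normalized_factor f hf⟩
    · rw [← normalize_normalized_factor _ hf]
      exact monic_normalize (irreducible_of_normalized_factor _ hf).ne_zero
    · obtain ⟨b, hb⟩ := dvd_of_mem_normalizedFactors hf
      refine hc0 ?_
      rw [hb, mul_coeff_zero, h, zero_mul]
  have hprod : ∀ M : Multiset F[X], dualP (RingHom.id F) M.prod = (M.map (dualP (RingHom.id F))).prod := by
    intro M
    induction M using Multiset.induction with
    | empty => simp [dualP_one]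
    | cons a M ih => rw [Multiset.prod_cons, Multiset.map_cons, Multiset.prod_cons, ← ih, dualP_mul]
  rw [← hN, hprod]
  congr 1
  refine Multiset.ext.2 fun f => ?_
  by_cases hf : f.Monic ∧ f.coeff 0 ≠ 0 ∧ Irreducible f
  · obtain ⟨hf1, hf2, hf3⟩ := hf
    have e : (M.map (dualP (RingHom.id F))).count f = M.count (dualP (RingHom.id F) f) := by
      rw [Multiset.count_map, Multiset.count_eq_card_filter_eq]
      refine congrArg Multiset.card (Multiset.filter_congr fun a ha => ?_)
      obtain ⟨ha1, ha2, -⟩ := hmem a ha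
      constructor
      · intro h; rw [h, dualP_dualP hid ha1 ha2]
      · intro h; rw [← h, dualP_dualP hid hf1 hf2]
    rw [e]
    exact key f hf1 hf2 hf3 j
  · rw [Multiset.count_eq_zero.2 fun h => hf (hmem f h), Multiset.count_eq_zero.2 fun h => hf ?_]
    obtain ⟨a, ha, rfl⟩ := Multiset.mem_map.1 h
    obtain ⟨ha1, ha2, ha3⟩ := hmem a ha
    exact ⟨monic_dualP ha1 ha2, by
      rw [coeff_zero_dualP ha1]; exact inv_ne_zero ((map_ne_zero (RingHom.id F)).2 ha2),
      irreducible_dualP hid ha1 ha2 ha3⟩

open _root_.Classical in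
/-- A self-reciprocal polynomial with both `1` and `-1` of even multiplicity. -/
theorem even_selfRec (h2 : (2 : F) ≠ 0) {f : F[X]} (hf : SelfRec f)
    (h1 : Even ((normalizedFactors f).count (X - C (1 : F))))
    (hm : Even ((normalizedFactors f).count (X - C (-1 : F)))) : f.coeff 0 = 1 ∧ Even f.natDegree := by
  classical
  set p1 := X - C (1 : F)
  set p2 := X - C (-1 : F)
  have hne : p1 ≠ p2 := fun h => h2 (by
    have := congrArg (eval (1 : F)) h
    simp [p1, p2, one_add_one_eq_two] at this
    exact absurd this.symm h2)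
  set M := normalizedFactors f with hM
  set R := M.filter (fun x => ¬(x = p1 ∨ x = p2)) with hR
  obtain ⟨a, ha⟩ := h1
  obtain ⟨b, hb⟩ := hm
  have hsplit : M = (Multiset.replicate (a + a) p1 + Multiset.replicate (b + b) p2) + R := by
    conv_lhs => rw [← Multiset.filter_add_not (fun x => x = p1 ∨ x = p2) M]
    congr 1
    refine Multiset.ext.2 fun x => ?_
    rw [Multiset.count_filter, Multiset.count_add, Multiset.count_replicate, Multiset.count_replicate]
    by_cases e1 : x = p1
    · subst e1; simp [hne.symm, ha]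
    by_cases e2 : x = p2
    · subst e2; simp [hne, hb]
    simp [e1, e2, Ne.symm e1, Ne.symm e2]
  have hs1 : SelfRec p1 := selfRec_linear (one_mul 1)
  have hs2 : SelfRec p2 := selfRec_linear (by ring)
  have hN : M.prod = f := by rw [hM, prod_normalizedFactors_eq hf.1.ne_zero, hf.1.normalize_eq_self]
  rw [hsplit, Multiset.prod_add, Multiset.prod_add, Multiset.prod_replicate, Multiset.prod_replicate] at hN
  set r := R.prod with hr
  have hpp : ∀ (p : F[X]), SelfRec p → ∀ k : ℕ, SelfRec (p ^ k) := by
    intro p hp k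
    induction k with
    | zero => rw [pow_zero]; exact ⟨monic_one, by simp, dualP_one⟩
    | succ k ih =>
      rw [pow_succ]
      exact ⟨ih.1.mul hp.1, by rw [mul_coeff_zero]; exact mul_ne_zero ih.2.1 hp.2.1,
        by rw [dualP_mul, ih.2.2, hp.2.2]⟩
  have hpre : SelfRec (p1 ^ (a + a) * p2 ^ (b + b)) := ⟨(hs1.1.pow _).mul (hs2.1.pow _), by
    rw [mul_coeff_zero]; exact mul_ne_zero (hpp p1 hs1 _).2.1 (hpp p2 hs2 _).2.1,
    by rw [dualP_mul, (hpp p1 hs1 _).2.2, (hpp p2 hs2 _).2.2]⟩
  have hrs : SelfRec r := selfRec_div hpre (hN.symm ▸ hf)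
  have hev : ∀ s : F, X - C s ∈ ({p1, p2} : Set F[X]) → r.eval s ≠ 0 := by
    intro s hs h0
    have hd : X - C s ∣ R.prod := dvd_iff_isRoot.2 h0
    obtain ⟨x, hx, hdx⟩ := (prime_X_sub_C s).exists_mem_multiset_dvd hd
    rw [hR, Multiset.mem_filter] at hx
    refine hx.2 ?_
    have hxm : x.Monic := by
      rw [← normalize_normalized_factor _ hx.1]
      exact monic_normalize (irreducible_of_normalized_factor _ hx.1).ne_zero
    have : x = X - C s := eq_of_monic_of_associated hxm (monic_X_sub_C s)
      ((irreducible_X_sub_C s).associated_of_dvd (irreducible_of_normalized_factor _ hx.1) hdx).symm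
    rcases hs with hs | hs
    · exact Or.inl (this.trans hs)
    · exact Or.inr (this.trans hs)
  have heval : ∀ (s : F) (u : Fˣ), (u : F) = s → s * s = 1 →
      r.coeff 0 * r.eval s = r.eval s * s ^ r.natDegree := by
    intro s u hu hs
    have h := aeval_dualP (σ := RingHom.id F) u r
    rw [hrs.2.2, Polynomial.map_id, RingHom.id_apply, Units.val_inv_eq_inv_val, hu, inv_eq_of_mul_eq_one_right hs] at h
    simp only [Algebra.algebraMap_self, RingHom.id_apply, coe_aeval_eq_eval] at h
    conv_lhs => rw [h]
    rw [mul_inv_cancel_left₀ hrs.2.1]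
  have e1 := heval 1 1 rfl (one_mul 1)
  have e2 := heval (-1) (-1) rfl (by ring)
  rw [one_pow, mul_one] at e1
  have r0 : r.coeff 0 = 1 := mul_right_cancel₀ (hev 1 (Or.inl rfl)) (e1.trans (one_mul _).symm)
  rw [r0, one_mul] at e2
  have rdeg : Even r.natDegree := by
    rcases Nat.even_or_odd r.natDegree with h | h
    · exact h
    · rw [h.neg_one_pow] at e2
      refine absurd ?_ (hev (-1) (Or.inr rfl))
      exact (mul_eq_zero.1 (show (2 : F) * r.eval (-1) = 0 by linear_combination e2)).resolve_left h2
  rw [← hN]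
  refine ⟨?_, ?_⟩
  · rw [mul_coeff_zero, mul_coeff_zero, r0, coeff_zero_eq_eval_zero, coeff_zero_eq_eval_zero]
    simp [p1, p2, ← two_mul, pow_mul]
  · rw [(hpre.1).natDegree_mul hrs.1, (hs1.1.pow _).natDegree_mul (hs2.1.pow _), natDegree_pow, natDegree_pow]
    simp [p1, p2, ← two_mul, rdeg, parity_simps]

omit [FiniteDimensional F V] in
/-- Layers above the dimension carry nothing. -/
theorem discSq_of_big [FiniteDimensional F V] {φ : Module.End F V} {e : ℕ} (he : finrank F V < e) :
    DiscSq B φ e := by
  refine ⟨0, Fin.elim0, fun i => i.elim0, by simp, by simp, fun l w hw h0 => ?_⟩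
  by_contra hl
  refine h0 ?_
  have hz : ∀ i, ((φ - 1) ^ (e - 1)) (w i) = 0 := fun i => by
    have h1 := Module.End.ker_pow_le_ker_pow_finrank (φ - 1) e (LinearMap.mem_ker.2 (hw i))
    rw [show e - 1 = (e - 1 - finrank F V) + finrank F V by omega, pow_add, Module.End.mul_apply,
      LinearMap.mem_ker.1 h1, map_zero]
  have : pgram B φ e w = 0 := by
    ext i j
    rw [pgram_apply, pform_apply, hz, map_zero, LinearMap.zero_apply, Matrix.zero_apply]
  rw [this]
  have : Nonempty (Fin l) := ⟨⟨0, Nat.pos_of_ne_zero fun e => hl (by omega)⟩⟩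
  exact Matrix.det_zero

end Dual

section Main

variable {F : Type*} [Field F] [Fintype F] {n : ℕ}

open _root_.Classical in
/-- The marks of a layer. -/
noncomputable def mark (B : LinearMap.BilinForm F (Fin n ⊕ Fin n → F)) (a : Module.End F (Fin n ⊕ Fin n → F))
    (s : F) (j : ℕ) : Bool :=
  decide (Odd j ∧ ¬ DiscSq B (s • a) (j + 1))

theorem card_conjClasses_le (h2 : (2 : F) ≠ 0) :
    Nat.card (ConjClasses (Matrix.symplecticGroup (Fin n) F)) ≤ SP (Fintype.card F) 1 n := by
  classical
  set S := sympB n F with hS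
  set N := Module.finrank F (Fin n ⊕ Fin n → F) with hNdef
  have hN : N = 2 * n := finrank_symp
  have hc : (-1 : F) * (-1) = 1 := by ring
  have hgood : ∀ A : Matrix.symplecticGroup (Fin n) F, Signed (-1) S (Matrix.toLin' A.1) := fun A =>
    Good.signed ⟨sympB_isAlt, fun x hx => sympB_nondeg.1 x hx, fun x y => by
      rw [Matrix.toLin'_apply, Matrix.toLin'_apply]; exact (mem_symplectic_iff A.1).1 A.2 x y⟩
  choose g hg using fun A : Matrix.symplecticGroup (Fin n) F =>
    exists_seq (Matrix.toLin' A.1) (hgood A).injective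
  have hcount : ∀ (A : Matrix.symplecticGroup (Fin n) F) (j : Fin N) (s : F), s * s = 1 →
      ¬ DiscSq S (s • Matrix.toLin' A.1) (j.val + 1) → X - C s ∣ (g A).1 j := by
    intro A j s hs hd
    by_contra hc0
    exact hd ((layer_facts h2 hc (hgood A) (hg A) hs j).2
      (Multiset.count_eq_zero.2 fun h => hc0 (dvd_of_mem_normalizedFactors h)))
  have hSR : ∀ A (j : Fin N), SelfRec ((g A).1 j) := fun A j =>
    ⟨((g A).2.1 j).1, ((g A).2.1 j).2, dual_fix_signed hc (hgood A) (hg A) j⟩
  let inv : Matrix.symplecticGroup (Fin n) F → SSeqs F 1 (2 * n) N := fun A =>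
    ⟨fun j => ((g A).1 j, mark S (Matrix.toLin' A.1) 1 j.val, mark S (Matrix.toLin' A.1) (-1) j.val), by
      refine ⟨fun j => ⟨hSR A j, fun hodd => ?_, fun h => ?_, fun h => ?_⟩, (g A).2.2.trans hN⟩
      · have hj : Even j.val := by
          rw [Nat.odd_add] at hodd
          exact hodd.1 odd_one
        refine even_selfRec h2 (hSR A j) ?_ ?_
        · exact (layer_facts h2 hc (hgood A) (hg A) (one_mul 1) j).1 (by rw [hj.neg_one_pow, one_mul])
        · exact (layer_facts h2 hc (hgood A) (hg A) hc j).1 (by rw [hj.neg_one_pow, one_mul])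
      · simp only [mark, decide_eq_true_eq] at h
        exact ⟨by rw [add_comm]; exact h.1.add_one, hcount A j 1 (one_mul 1) h.2⟩
      · simp only [mark, decide_eq_true_eq] at h
        exact ⟨by rw [add_comm]; exact h.1.add_one, hcount A j (-1) hc h.2⟩⟩
  have key : ∀ A A' : Matrix.symplecticGroup (Fin n) F, inv A = inv A' → IsConj A A' := by
    intro A A' h
    have hpt := fun j : Fin N => congrFun (congrArg Subtype.val h) j
    have hgg : (g A).1 = (g A').1 := funext fun j => congrArg Prod.fst (hpt j)
    obtain ⟨P, hP⟩ := conj_of_hasSeq _ _ (hg A) (hgg ▸ hg A')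
    set S' := S.comp P.toLinearMap P.toLinearMap with hS'
    have g1 := hgood A
    have g2 : Signed (-1) S' (Matrix.toLin' A.1) :=
      ⟨fun x y => (hgood A').flip _ _, fun x hx => P.map_eq_zero_iff.1 ((hgood A').sep _ fun y => by
        obtain ⟨y, rfl⟩ := P.surjective y; exact hx y), fun x y => by
        change S (P (Matrix.toLin' A.1 x)) (P (Matrix.toLin' A.1 y)) = S (P x) (P y)
        rw [hP, hP]
        exact (hgood A').pres _ _⟩
    obtain ⟨y, hyA, hy⟩ := exists_equiv h2 hc g1 g2 (fun s hs e he hpar => by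
      rw [discSq_map (B := S) P.toLinearMap P.injective S' (fun _ _ => rfl)
        (f := s • Matrix.toLin' A.1) (φ := s • Matrix.toLin' A'.1)
        (fun x => by simp [← Matrix.toLin'_apply, hP]) (fun x _ => P.surjective x)]
      rcases lt_or_ge N e with hbig | hsmall
      · exact iff_of_true (discSq_of_big hbig) (discSq_of_big hbig)
      have hodd : Odd (e - 1) := by
        rcases Nat.even_or_odd (e - 1) with he' | he'
        · rw [he'.neg_one_pow, one_mul] at hpar
          exact absurd (by linear_combination -hpar : (2 : F) = 0) h2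
        · exact he'
      have hj := hpt ⟨e - 1, by omega⟩
      simp only [inv, Prod.mk.injEq, mark, decide_eq_decide, Nat.sub_add_cancel he] at hj
      rcases mul_self_eq_one_iff.1 hs with rfl | rfl
      · have := hj.2.1; simp only [hodd, true_and, not_iff_not] at this; exact this
      · have := hj.2.2; simp only [hodd, true_and, not_iff_not] at this; exact this)
    have hinj : Function.Injective y := injective_of_comp g2 hy
    let Y := LinearEquiv.ofBijective y ⟨hinj, LinearMap.injective_iff_surjective.1 hinj⟩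
    let U : Alt.isoGroup S := ⟨Y.symm.trans P, fun u v => by
      change S (P (Y.symm u)) (P (Y.symm v)) = S u v
      obtain ⟨u, rfl⟩ := Y.surjective u
      obtain ⟨v, rfl⟩ := Y.surjective v
      rw [LinearEquiv.symm_apply_apply, LinearEquiv.symm_apply_apply]
      exact (hy u v).symm⟩
    refine isConj_iff.2 ⟨(spEquiv n F).symm U, ?_⟩
    rw [mul_inv_eq_iff_eq_mul]
    refine Subtype.ext (Matrix.ext_of_mulVec_single fun i => ?_)
    rw [Submonoid.coe_mul, Submonoid.coe_mul, ← Matrix.mulVec_mulVec, ← Matrix.mulVec_mulVec,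
      spEquiv_symm_mulVec, spEquiv_symm_mulVec]
    change P (Y.symm (A.1 *ᵥ _)) = A'.1 *ᵥ P (Y.symm _)
    rw [← Matrix.toLin'_apply A'.1, ← hP]
    congr 1
    apply Y.injective
    rw [LinearEquiv.apply_symm_apply]
    change _ = y (Matrix.toLin' A.1 (Y.symm _))
    rw [← Module.End.mul_apply, hyA.eq, Module.End.mul_apply, Matrix.toLin'_apply]
    change _ = A.1 *ᵥ Y (Y.symm _)
    rw [LinearEquiv.apply_symm_apply]
  obtain ⟨hfin, hle⟩ := sseqs_le (F := F) h2 N 1 n le_rfl
  refine le_trans (Nat.card_le_card_of_injective (fun C => inv C.out) fun C D h => ?_) hle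
  rw [← Quotient.out_eq C, ← Quotient.out_eq D]
  exact ConjClasses.mk_eq_mk_iff_isConj.2 (key _ _ h)

end Main

end Cfsg.Agent.FormClass
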