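import Cfsg.Agent.MatModule.SympSeqBound

/-!
# Upper bounds for weighted sequence numbers of orthogonal groups
-/

set_option autoImplicit false

namespace Cfsg.Agent.FormClass

/-- Weighted sequences with coefficients `c`, weights starting at `m`, of total weight `N`. -/
def Wt (c : ℕ → ℕ → ℕ) (m N : ℕ) : ℕ :=
  if N = 0 then 1 else if h : m = 0 ∨ N < m then 0
  else ∑ j ∈ Finset.range (N / m + 1), c m j * Wt c (m + 1) (N - m * j)
termination_by N + 1 - m
decreasing_by
  have := Nat.sub_le N (m * j)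
  omega

theorem Wt_zero (c : ℕ → ℕ → ℕ) (m : ℕ) : Wt c m 0 = 1 := by rw [Wt, if_pos rfl]

theorem Wt_lt (c : ℕ → ℕ → ℕ) {m N : ℕ} (hN : N ≠ 0) (h : N < m) : Wt c m N = 0 := by
  rw [Wt, if_neg hN, dif_pos (Or.inr h)]

theorem Wt_sum (c : ℕ → ℕ → ℕ) (hc : ∀ m, c m 0 = 1) {m : ℕ} (hm : 1 ≤ m) (N : ℕ) :
    Wt c m N = ∑ j ∈ Finset.range (N / m + 1), c m j * Wt c (m + 1) (N - m * j) := by
  rcases Nat.eq_zero_or_pos N with rfl | hN
  · simp [Wt_zero, hc]
  by_cases h : N < m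
  · rw [Wt_lt c hN.ne' h, Nat.div_eq_of_lt h]
    simp [hc, Wt_lt c hN.ne' (show N < m + 1 by omega)]
  · rw [Wt, if_neg hN.ne', dif_neg (by omega)]

/-- Scaled partial sums. -/
noncomputable def TW (c : ℕ → ℕ → ℕ) (r : ℝ) (m L : ℕ) : ℝ := ∑ N ∈ Finset.range L, (Wt c m N : ℝ) * r ^ N

theorem TW_nonneg (c : ℕ → ℕ → ℕ) {r : ℝ} (hr : 0 ≤ r) (m L : ℕ) : 0 ≤ TW c r m L :=
  Finset.sum_nonneg fun N _ => by positivity

theorem TW_of_le (c : ℕ → ℕ → ℕ) (r : ℝ) {m L : ℕ} (h : L ≤ m) : TW c r m L ≤ 1 := by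
  rcases L with _ | L
  · simp [TW]
  rw [TW, Finset.sum_range_succ', Finset.sum_eq_zero]
  · simp [Wt_zero]
  · intro N hN
    rw [Finset.mem_range] at hN
    rw [Wt_lt c (Nat.succ_ne_zero N) (show N + 1 < m by omega)]
    simp

theorem TW_step (c : ℕ → ℕ → ℕ) (hc : ∀ m, c m 0 = 1) {r : ℝ} (hr : 0 ≤ r) {m : ℕ} (hm : 1 ≤ m) (L : ℕ) {G : ℝ}
    (hG : ∀ M, ∑ j ∈ Finset.range M, (c m j : ℝ) * r ^ (m * j) ≤ G) :
    TW c r m L ≤ G * TW c r (m + 1) L := by
  calc TW c r m L
      = ∑ N ∈ Finset.range L, ∑ j ∈ Finset.range L, (if m * j ≤ N then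
          ((c m j : ℝ) * r ^ (m * j)) * ((Wt c (m + 1) (N - m * j) : ℝ) * r ^ (N - m * j)) else 0) := by
        refine Finset.sum_congr rfl fun N hN => ?_
        rw [Finset.mem_range] at hN
        rw [Wt_sum c hc hm, Nat.cast_sum, Finset.sum_mul, ← Finset.sum_filter]
        refine Finset.sum_congr ?_ fun j hj => ?_
        · ext j
          rw [Finset.mem_range, Finset.mem_filter, Finset.mem_range, Nat.lt_succ_iff,
            Nat.le_div_iff_mul_le (by omega), mul_comm j]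
          exact ⟨fun h => ⟨lt_of_le_of_lt ((Nat.le_mul_of_pos_left j (by omega)).trans h) hN, h⟩, fun h => h.2⟩
        · have hle : m * j ≤ N := (Finset.mem_filter.1 hj).2
          rw [Nat.cast_mul, mul_mul_mul_comm, ← pow_add, Nat.add_sub_cancel' hle]
    _ = ∑ j ∈ Finset.range L, ((c m j : ℝ) * r ^ (m * j)) * ∑ N ∈ Finset.range L, (if m * j ≤ N then
          (Wt c (m + 1) (N - m * j) : ℝ) * r ^ (N - m * j) else 0) := by
        rw [Finset.sum_comm]
        refine Finset.sum_congr rfl fun j _ => ?_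
        rw [Finset.mul_sum]
        exact Finset.sum_congr rfl fun N _ => by split_ifs <;> simp
    _ ≤ ∑ j ∈ Finset.range L, ((c m j : ℝ) * r ^ (m * j)) * TW c r (m + 1) L := by
        refine Finset.sum_le_sum fun j _ => mul_le_mul_of_nonneg_left ?_ (by positivity)
        rw [← Finset.sum_filter]
        have himg : ((Finset.range L).filter fun N => m * j ≤ N).image (fun N => N - m * j) ⊆ Finset.range L := by
          intro x hx
          simp only [Finset.mem_image, Finset.mem_filter, Finset.mem_range] at hx ⊢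
          obtain ⟨N, ⟨hN, -⟩, rfl⟩ := hx
          omega
        refine le_trans ?_ (Finset.sum_le_sum_of_subset_of_nonneg himg fun N _ _ => by positivity)
        rw [Finset.sum_image (f := fun N => (Wt c (m + 1) N : ℝ) * r ^ N)]
        intro a ha b hb h
        have ha' := (Finset.mem_filter.1 ha).2
        have hb' := (Finset.mem_filter.1 hb).2
        simp only at h
        omega
    _ ≤ _ := by
        rw [← Finset.sum_mul]
        exact mul_le_mul_of_nonneg_right (hG _) (TW_nonneg c hr _ _)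

/-- Splitting off the first weight. -/
theorem Wt_one_le (c : ℕ → ℕ → ℕ) (hc : ∀ m, c m 0 = 1) {r : ℝ} (hr : 0 ≤ r) {K : ℝ}
    (hK : ∀ j, (c 1 j : ℝ) * r ^ j ≤ K) (N : ℕ) :
    (Wt c 1 N : ℝ) * r ^ N ≤ K * TW c r 2 (N + 1) := by
  rw [Wt_sum c hc le_rfl, Nat.div_one, Nat.cast_sum, Finset.sum_mul, TW, Finset.mul_sum,
    ← Finset.sum_range_reflect (fun N' => K * ((Wt c 2 N' : ℝ) * r ^ N'))]
  refine Finset.sum_le_sum fun j hj => ?_
  rw [Finset.mem_range] at hj
  rw [one_mul, Nat.add_sub_cancel, Nat.cast_mul,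
    show r ^ N = r ^ j * r ^ (N - j) by rw [← pow_add, Nat.add_sub_cancel' (by omega)], mul_mul_mul_comm]
  exact mul_le_mul_of_nonneg_right (hK j) (by positivity)

/-- The upper estimate for `1 / √3`. -/
noncomputable abbrev rho : ℝ := 5774 / 10000

theorem sum_geom_le' {y y0 : ℝ} (hy : 0 ≤ y) (hle : y ≤ y0) (h1 : y0 < 1) (M : ℕ) :
    ∑ i ∈ Finset.range M, y ^ i ≤ 1 / (1 - y0) := by
  refine (Finset.sum_le_sum fun i _ => pow_le_pow_left₀ hy hle i).trans ?_
  rw [geom_sum_eq h1.ne, le_div_iff₀ (by linarith), div_mul_eq_mul_div, div_le_iff_of_neg (by linarith)]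
  have : 0 ≤ y0 ^ M := pow_nonneg (hy.trans hle) _
  nlinarith

theorem sum_hh_le' (q a M : ℕ) (f : ℕ → ℝ) (hf : ∀ j, 0 ≤ f j) :
    ∑ j ∈ Finset.range M, (if a ≤ j then (hh q (j - a) : ℝ) * f j else 0) ≤
      ∑ i ∈ Finset.range M, (q : ℝ) ^ i * f (a + 2 * i) := by
  calc ∑ j ∈ Finset.range M, (if a ≤ j then (hh q (j - a) : ℝ) * f j else 0)
      = ∑ j ∈ (Finset.range M).filter (fun j => a ≤ j ∧ Even (j - a)), (q : ℝ) ^ ((j - a) / 2) * f j := by
        rw [Finset.sum_filter]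
        refine Finset.sum_congr rfl fun j _ => ?_
        by_cases h : a ≤ j
        · by_cases h' : Even (j - a) <;> simp [hh, h, h']
        · simp [h]
    _ ≤ ∑ j ∈ (Finset.range M).image (fun i => a + 2 * i), (q : ℝ) ^ ((j - a) / 2) * f j := by
        refine Finset.sum_le_sum_of_subset_of_nonneg ?_ fun j _ _ => mul_nonneg (by positivity) (hf j)
        intro j hj
        simp only [Finset.mem_filter, Finset.mem_range] at hj
        obtain ⟨hj, ha, r, hr⟩ := hj
        exact Finset.mem_image.2 ⟨r, Finset.mem_range.2 (by omega), by omega⟩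
    _ = ∑ i ∈ Finset.range M, (q : ℝ) ^ i * f (a + 2 * i) := by
        rw [Finset.sum_image (fun x _ y _ h => by omega)]
        exact Finset.sum_congr rfl fun i _ => by rw [Nat.add_sub_cancel_left, Nat.mul_div_cancel_left _ two_pos]

/-- Scaling parameter. -/
structure Scale (q : ℕ) (r : ℝ) : Prop where
  pos : 0 ≤ r
  sq : (q : ℝ) * r ^ 2 = 1
  le : r ≤ rho

theorem exists_scale {q : ℕ} (hq : 3 ≤ q) : ∃ r, Scale q r := by
  have hq' : (3 : ℝ) ≤ q := by exact_mod_cast hq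
  have h2 : (Real.sqrt q)⁻¹ ^ 2 = (q : ℝ)⁻¹ := by rw [inv_pow, Real.sq_sqrt (by linarith)]
  refine ⟨(Real.sqrt q)⁻¹, by positivity, by rw [h2, mul_inv_cancel₀ (by linarith)], ?_⟩
  refine (sq_le_sq₀ (by positivity) (by norm_num [rho])).1 ?_
  rw [h2]
  calc (q : ℝ)⁻¹ ≤ 3⁻¹ := inv_anti₀ (by norm_num) hq'
    _ ≤ rho ^ 2 := by norm_num [rho]

theorem sum_part_le {q : ℕ} {r : ℝ} (h : Scale q r) {m : ℕ} (hm : 2 ≤ m) (a M : ℕ) :
    ∑ j ∈ Finset.range M, (if a ≤ j then (hh q (j - a) : ℝ) * r ^ (m * j) else 0) ≤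
      rho ^ (m * a) * (1 / (1 - rho ^ (2 * m - 2))) := by
  have h1 : rho ^ (2 * m - 2) < 1 := pow_lt_one₀ (by norm_num [rho]) (by norm_num [rho]) (by omega)
  refine (sum_hh_le' q a M (fun j => r ^ (m * j)) (fun j => pow_nonneg h.pos _)).trans ?_
  refine le_trans (le_of_eq (Finset.sum_congr rfl (g := fun i => r ^ (m * a) * (r ^ (2 * m - 2)) ^ i) fun i _ => ?_)) ?_
  · rw [show m * (a + 2 * i) = m * a + (2 * i + (2 * m - 2) * i) by
      rw [← Nat.add_mul, Nat.add_sub_cancel' (by omega : 2 ≤ 2 * m)]; ring, pow_add, pow_add, pow_mul r 2,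
      pow_mul r (2 * m - 2)]
    have e : (q : ℝ) ^ i * (r ^ 2) ^ i = 1 := by rw [← mul_pow, h.sq, one_pow]
    linear_combination (r ^ (m * a) * (r ^ (2 * m - 2)) ^ i) * e
  · rw [← Finset.mul_sum]
    exact mul_le_mul (pow_le_pow_left₀ h.pos h.le _)
      (sum_geom_le' (pow_nonneg h.pos _) (pow_le_pow_left₀ h.pos h.le _) h1 M)
      (Finset.sum_nonneg fun i _ => pow_nonneg (pow_nonneg h.pos _) _) (by norm_num [rho])

/-- Coefficients for marks at odd weights. -/
def cAll (q m j : ℕ) : ℕ := if Odd m then bin q 4 j else hh q j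

/-- Coefficients without marks. -/
def cNone (q : ℕ) (_m j : ℕ) : ℕ := hh q j

theorem cAll_zero (q m : ℕ) : cAll q m 0 = 1 := by
  unfold cAll
  split_ifs <;> simp [bin, hh]

theorem cNone_zero (q m : ℕ) : cNone q m 0 = 1 := by simp [cNone, hh]

theorem weight_hh {q : ℕ} {r : ℝ} (h : Scale q r) {m : ℕ} (hm : 2 ≤ m) (M : ℕ) :
    ∑ j ∈ Finset.range M, (hh q j : ℝ) * r ^ (m * j) ≤ 1 / (1 - rho ^ (2 * m - 2)) := by
  have := sum_part_le h hm 0 M
  simpa using this

theorem weight_bin {q : ℕ} {r : ℝ} (h : Scale q r) {m : ℕ} (hm : 2 ≤ m) (M : ℕ) :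
    ∑ j ∈ Finset.range M, (bin q 4 j : ℝ) * r ^ (m * j) ≤ (1 + rho ^ m) ^ 4 / (1 - rho ^ (2 * m - 2)) := by
  calc ∑ j ∈ Finset.range M, (bin q 4 j : ℝ) * r ^ (m * j)
      = ∑ a ∈ Finset.range 5, ((Nat.choose 4 a : ℕ) : ℝ) * ∑ j ∈ Finset.range M,
          (if a ≤ j then (hh q (j - a) : ℝ) * r ^ (m * j) else 0) := by
        simp only [Finset.mul_sum]
        rw [Finset.sum_comm]
        refine Finset.sum_congr rfl fun j _ => ?_
        rw [bin, Nat.cast_sum, Finset.sum_mul]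
        refine Finset.sum_congr rfl fun a _ => ?_
        split_ifs
        · push_cast; ring
        · simp
    _ ≤ ∑ a ∈ Finset.range 5, ((Nat.choose 4 a : ℕ) : ℝ) * (rho ^ (m * a) * (1 / (1 - rho ^ (2 * m - 2)))) :=
        Finset.sum_le_sum fun a _ => mul_le_mul_of_nonneg_left (sum_part_le h hm a M) (Nat.cast_nonneg _)
    _ = _ := by
        rw [add_comm (1 : ℝ), add_pow, Finset.sum_div]
        exact Finset.sum_congr rfl fun a _ => by rw [pow_mul]; ring

theorem step_all {q : ℕ} {r : ℝ} (h : Scale q r) (l L : ℕ) (hl : 1 ≤ l) :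
    TW (cAll q) r (2 * l) L ≤ 1 / (1 - rho ^ (4 * l - 2)) * TW (cAll q) r (2 * l + 1) L ∧
    TW (cAll q) r (2 * l + 1) L ≤
      (1 + rho ^ (2 * l + 1)) ^ 4 / (1 - rho ^ (4 * l)) * TW (cAll q) r (2 * l + 2) L := by
  refine ⟨TW_step _ (cAll_zero q) h.pos (by omega) L fun M => ?_,
    TW_step _ (cAll_zero q) h.pos (by omega) L fun M => ?_⟩
  · simp only [cAll, if_neg (Nat.not_odd_iff_even.2 (even_two_mul l))]
    have := weight_hh h (show 2 ≤ 2 * l by omega) M
    rwa [show 2 * (2 * l) - 2 = 4 * l - 2 by omega] at this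
  · simp only [cAll, if_pos (odd_two_mul_add_one l)]
    have := weight_bin h (show 2 ≤ 2 * l + 1 by omega) M
    rwa [show 2 * (2 * l + 1) - 2 = 4 * l by omega] at this

theorem tail_all {q : ℕ} {r : ℝ} (h : Scale q r) (L : ℕ) :
    ∀ k l, 7 ≤ l → L ≤ 2 * l + k → TW (cAll q) r (2 * l) L ≤ 1 + 6 * rho ^ (2 * l) := by
  intro k
  induction k with
  | zero =>
    intro l _ hL
    have := TW_of_le (cAll q) r (show L ≤ 2 * l by omega)
    have : (0 : ℝ) ≤ rho ^ (2 * l) := pow_nonneg (by norm_num [rho]) _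
    linarith
  | succ k ih =>
    intro l hl hL
    obtain ⟨h1, h2⟩ := step_all h l L (by omega)
    have h3 := ih (l + 1) (by omega) (by omega)
    have hR : rho ^ (2 * l) ≤ 5 / 10000 :=
      (pow_le_pow_of_le_one (by norm_num [rho]) (by norm_num [rho]) (show 14 ≤ 2 * l by omega)).trans
        (by norm_num [rho])
    have e1 : rho ^ (4 * l) = (rho ^ (2 * l)) ^ 2 := by rw [← pow_mul]; congr 1; omega
    have e2 : rho ^ (4 * l - 2) = (rho ^ (2 * l)) ^ 2 / rho ^ 2 := by
      rw [eq_div_iff (by norm_num [rho]), ← pow_add, ← pow_mul]; congr 1; omega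
    rw [show 2 * (l + 1) = 2 * l + 2 by ring, pow_add] at h3
    rw [pow_add rho (2 * l) 1, pow_one, e1] at h2
    rw [e2] at h1
    set R := rho ^ (2 * l)
    have hR0 : 0 ≤ R := pow_nonneg (by norm_num [rho]) _
    have hRR : R ^ 2 ≤ R * (5 / 10000) := by rw [sq]; exact mul_le_mul_of_nonneg_left hR hR0
    have ha : 1 / (1 - R ^ 2 / rho ^ 2) ≤ 1 + R := by
      norm_num [rho]
      rw [inv_le_iff_one_le_mul₀ (by nlinarith)]
      nlinarith [mul_le_mul_of_nonneg_left hR (sq_nonneg R)]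
    have hb : (1 + R * rho) ^ 4 / (1 - R ^ 2) ≤ 1 + 5 / 2 * R := by
      norm_num [rho]
      rw [div_le_iff₀ (by nlinarith)]
      nlinarith [mul_le_mul_of_nonneg_left hR (sq_nonneg R), pow_nonneg hR0 3, pow_nonneg hR0 4,
        mul_le_mul hRR hR hR0 (by positivity)]
    have hA := TW_nonneg (cAll q) h.pos (2 * l + 1) L
    have hB := TW_nonneg (cAll q) h.pos (2 * l + 2) L
    calc TW (cAll q) r (2 * l) L ≤ (1 + R) * TW (cAll q) r (2 * l + 1) L :=
          h1.trans (mul_le_mul_of_nonneg_right ha hA)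
      _ ≤ (1 + R) * ((1 + 5 / 2 * R) * (1 + 6 * (R * rho ^ 2))) :=
          mul_le_mul_of_nonneg_left ((h2.trans (mul_le_mul_of_nonneg_right hb hB)).trans
            (mul_le_mul_of_nonneg_left h3 (by linarith))) (by linarith)
      _ ≤ 1 + 6 * R := by
          norm_num [rho]
          nlinarith [mul_le_mul_of_nonneg_left hR (sq_nonneg R)]

theorem TW_all_two {q : ℕ} {r : ℝ} (h : Scale q r) (L : ℕ) : TW (cAll q) r 2 L ≤ 529 / 100 := by
  have h14 := tail_all h L L 7 le_rfl (by omega)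
  obtain ⟨a1, b1⟩ := step_all h 1 L le_rfl
  obtain ⟨a2, b2⟩ := step_all h 2 L (by omega)
  obtain ⟨a3, b3⟩ := step_all h 3 L (by omega)
  obtain ⟨a4, b4⟩ := step_all h 4 L (by omega)
  obtain ⟨a5, b5⟩ := step_all h 5 L (by omega)
  obtain ⟨a6, b6⟩ := step_all h 6 L (by omega)
  norm_num [rho] at a1 a2 a3 a4 a5 a6 b1 b2 b3 b4 b5 b6 h14
  linarith

theorem step_none {q : ℕ} {r : ℝ} (h : Scale q r) (m L : ℕ) (hm : 2 ≤ m) :
    TW (cNone q) r m L ≤ 1 / (1 - rho ^ (2 * m - 2)) * TW (cNone q) r (m + 1) L :=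
  TW_step _ (cNone_zero q) h.pos (by omega) L fun M => weight_hh h hm M

theorem tail_none {q : ℕ} {r : ℝ} (h : Scale q r) (L : ℕ) :
    ∀ k m, 6 ≤ m → L ≤ m + k → TW (cNone q) r m L ≤ 1 + 2 * rho ^ (2 * m - 2) := by
  intro k
  induction k with
  | zero =>
    intro m _ hL
    have := TW_of_le (cNone q) r (show L ≤ m by omega)
    have : (0 : ℝ) ≤ rho ^ (2 * m - 2) := pow_nonneg (by norm_num [rho]) _
    linarith
  | succ k ih =>
    intro m hm hL
    have h1 := step_none h m L (by omega)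
    have h3 := ih (m + 1) (by omega) (by omega)
    have hR : rho ^ (2 * m - 2) ≤ 5 / 1000 :=
      (pow_le_pow_of_le_one (by norm_num [rho]) (by norm_num [rho]) (show 10 ≤ 2 * m - 2 by omega)).trans
        (by norm_num [rho])
    rw [show 2 * (m + 1) - 2 = (2 * m - 2) + 2 by omega, pow_add] at h3
    set R := rho ^ (2 * m - 2)
    have hR0 : 0 ≤ R := pow_nonneg (by norm_num [rho]) _
    have ha : 1 / (1 - R) ≤ 1 + 6 / 5 * R := by
      rw [div_le_iff₀ (by linarith)]
      nlinarith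
    calc TW (cNone q) r m L ≤ (1 + 6 / 5 * R) * (1 + 2 * (R * rho ^ 2)) :=
          (h1.trans (mul_le_mul_of_nonneg_right ha (TW_nonneg _ h.pos _ _))).trans
            (mul_le_mul_of_nonneg_left h3 (by linarith))
      _ ≤ 1 + 2 * R := by
          norm_num [rho]
          nlinarith

theorem TW_none_two {q : ℕ} {r : ℝ} (h : Scale q r) (L : ℕ) : TW (cNone q) r 2 L ≤ 18 / 10 := by
  have h6 := tail_none h L L 6 le_rfl (by omega)
  have a2 := step_none h 2 L le_rfl
  have a3 := step_none h 3 L (by omega)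
  have a4 := step_none h 4 L (by omega)
  have a5 := step_none h 5 L (by omega)
  norm_num [rho] at a2 a3 a4 a5 h6
  linarith

theorem Wt_bound {q : ℕ} (hq : 3 ≤ q) (n : ℕ) :
    Wt (cAll q) 1 (2 * n) + Wt (cNone q) 1 (2 * n) ≤ 19 * q ^ n := by
  obtain ⟨r, h⟩ := exists_scale hq
  have hq' : (3 : ℝ) ≤ q := by exact_mod_cast hq
  have hi : ∀ i : ℕ, (q : ℝ) ^ i * r ^ (2 * i) = 1 := fun i => by rw [pow_mul, ← mul_pow, h.sq, one_pow]
  have hr0 := h.pos
  have hrle := h.le
  norm_num [rho] at hrle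
  have hK : ∀ j, (bin q 4 j : ℝ) * r ^ j ≤ 312 / 100 := by
    intro j
    rcases Nat.even_or_odd' j with ⟨k, rfl | rfl⟩
    · rcases k with _ | _ | k
      · simp [bin, hh]; norm_num
      · simp [bin, hh, Finset.sum_range_succ, Nat.choose]
        nlinarith [h.sq]
      · have he : bin q 4 (2 * (k + 2)) = q ^ (k + 2) + 6 * q ^ (k + 1) + q ^ k := by
          rw [show 2 * (k + 2) = 2 * k + 4 by ring]
          simp [bin, hh, Finset.sum_range_succ, Nat.choose, Nat.even_add_one,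
            show (2 * k + 4) / 2 = k + 2 by omega, show (2 * k + 4 - 2) / 2 = k + 1 by omega, parity_simps]
        rw [he]
        push_cast
        have e0 := hi (k + 2)
        have e1 : (q : ℝ) ^ (k + 1) * r ^ (2 * (k + 2)) = r ^ 2 := by
          rw [show 2 * (k + 2) = 2 * (k + 1) + 2 by ring, pow_add r, ← mul_assoc, hi, one_mul]
        have e2 : (q : ℝ) ^ k * r ^ (2 * (k + 2)) = r ^ 2 * r ^ 2 := by
          rw [show 2 * (k + 2) = 2 * k + (2 + 2) by ring, pow_add r, ← mul_assoc, hi, one_mul, pow_add r]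
        have h3 : r ^ 2 ≤ 1 / 3 := by nlinarith [h.sq, sq_nonneg r]
        calc _ = (q : ℝ) ^ (k + 2) * r ^ (2 * (k + 2)) + 6 * ((q : ℝ) ^ (k + 1) * r ^ (2 * (k + 2))) +
              (q : ℝ) ^ k * r ^ (2 * (k + 2)) := by ring
          _ ≤ _ := by rw [e0, e1, e2]; nlinarith [sq_nonneg r]
    · rcases k with _ | k
      · simp [bin, hh, Finset.sum_range_succ, Nat.choose]
        linarith
      · have he : bin q 4 (2 * (k + 1) + 1) = 4 * q ^ (k + 1) + 4 * q ^ k := by
          have hev : ∀ i, hh q (2 * i) = q ^ i := fun i => by simp [hh]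
          have hod : ∀ i, hh q (2 * i + 1) = 0 := fun i => by simp [hh, parity_simps]
          rcases k with _ | k
          · simp [bin, hh, Finset.sum_range_succ, Nat.choose, parity_simps]

          · simp only [bin, Finset.sum_range_succ, Finset.sum_range_zero, zero_add]
            rw [if_pos (by omega), if_pos (by omega), if_pos (by omega), if_pos (by omega), if_pos (by omega),
              show 2 * (k + 1 + 1) + 1 - 0 = 2 * (k + 2) + 1 by omega, show 2 * (k + 1 + 1) + 1 - 1 = 2 * (k + 2) by omega,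
              show 2 * (k + 1 + 1) + 1 - 2 = 2 * (k + 1) + 1 by omega, show 2 * (k + 1 + 1) + 1 - 3 = 2 * (k + 1) by omega,
              show 2 * (k + 1 + 1) + 1 - 4 = 2 * k + 1 by omega, hev, hev, hod, hod, hod]
            simp [Nat.choose]
        rw [he]
        push_cast
        have e0 : (q : ℝ) ^ (k + 1) * r ^ (2 * (k + 1) + 1) = r := by rw [pow_succ r, ← mul_assoc, hi, one_mul]
        have e1 : (q : ℝ) ^ k * r ^ (2 * (k + 1) + 1) = r ^ 2 * r := by
          rw [show 2 * (k + 1) + 1 = 2 * k + (2 + 1) by ring, pow_add r, ← mul_assoc, hi, one_mul, pow_add r, pow_one]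
        have h3 : r ^ 2 ≤ 1 / 3 := by nlinarith [h.sq, sq_nonneg r]
        calc _ = 4 * ((q : ℝ) ^ (k + 1) * r ^ (2 * (k + 1) + 1)) + 4 * ((q : ℝ) ^ k * r ^ (2 * (k + 1) + 1)) := by
              ring
          _ ≤ _ := by rw [e0, e1]; nlinarith [mul_le_mul_of_nonneg_right h3 hr0]
  have hK' : ∀ j, (hh q j : ℝ) * r ^ j ≤ 1 := by
    intro j
    rcases Nat.even_or_odd' j with ⟨k, rfl | rfl⟩
    · simp [hh, hi]
    · simp [hh, parity_simps]
  have hA := Wt_one_le (cAll q) (cAll_zero q) h.pos (K := 312 / 100) (fun j => by simpa [cAll] using hK j) (2 * n)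
  have hU := Wt_one_le (cNone q) (cNone_zero q) h.pos (K := 1) (fun j => by simpa [cNone] using hK' j) (2 * n)
  have t1 := TW_all_two h (2 * n + 1)
  have t2 := TW_none_two h (2 * n + 1)
  have hpos : (0 : ℝ) ≤ (q : ℝ) ^ n := by positivity
  have hsum : ((Wt (cAll q) 1 (2 * n) : ℝ) + Wt (cNone q) 1 (2 * n)) * r ^ (2 * n) ≤ 19 := by
    rw [add_mul]; linarith
  have : ((Wt (cAll q) 1 (2 * n) : ℝ) + Wt (cNone q) 1 (2 * n)) ≤ 19 * (q : ℝ) ^ n := by
    have h4 := mul_le_mul_of_nonneg_right hsum hpos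
    rwa [mul_assoc, mul_comm (r ^ (2 * n)), hi, mul_one] at h4
  exact_mod_cast this

end Cfsg.Agent.FormClass
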