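import Cfsg.Agent.MatModule.OrthLayerDisc
import Cfsg.Agent.MatModule.OrthSeqBound
import Cfsg.Agent.MatModule.ClassNumberSp
import Cfsg.Agent.Classical.QuadMat

/-!
# The class number of an orthogonal group of even dimension in odd characteristic: upper bound
-/

set_option autoImplicit false

namespace Cfsg.Agent.FormClass

open Module Polynomial UniqueFactorizationMonoid
open Cfsg.Agent.ClassNumberGL Cfsg.Agent.SympConj

section Count

variable {α : Type*}

/-- Sequences of weighted degree `N`, weights starting at `m`, with a condition at each weight. -/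
abbrev WSeqs (P : ℕ → α → Prop) (dg : α → ℕ) (m N k : ℕ) :=
  {p : Fin k → α // (∀ i, P (m + i.val) (p i)) ∧ ∑ i : Fin k, (m + i.val) * dg (p i) = N}

theorem wseqs_le (P : ℕ → α → Prop) (dg : α → ℕ) (c : ℕ → ℕ → ℕ) (hc : ∀ m, c m 0 = 1)
    (hP : ∀ m j, Finite {x : α // P m x ∧ dg x = j} ∧ Nat.card {x : α // P m x ∧ dg x = j} ≤ c m j) :
    ∀ (k m N : ℕ), 1 ≤ m → Finite (WSeqs P dg m N k) ∧ Nat.card (WSeqs P dg m N k) ≤ Wt c m N := by
  intro k
  induction k with
  | zero =>
    intro m N _
    rcases Nat.eq_zero_or_pos N with rfl | hN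
    · haveI : Subsingleton (WSeqs P dg m 0 0) := ⟨fun a b => Subtype.ext (funext fun i => i.elim0)⟩
      refine ⟨Finite.of_subsingleton, ?_⟩
      rw [Wt_zero]
      exact Finite.card_le_one_iff_subsingleton.2 inferInstance
    · haveI : IsEmpty (WSeqs P dg m N 0) := ⟨fun a => by have h := a.2.2; simp at h; omega⟩
      exact ⟨Finite.of_subsingleton, by simp⟩
  | succ k ih =>
    intro m N hm
    haveI : ∀ j : Fin (N / m + 1), Finite ({x : α // P m x ∧ dg x = j} × WSeqs P dg (m + 1) (N - m * j) k) := fun j => by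
      haveI := (hP m j).1
      haveI := (ih (m + 1) (N - m * j) (by omega)).1
      infer_instance
    have hdeg : ∀ g : WSeqs P dg m N (k + 1), m * dg (g.1 0) +
        ∑ i : Fin k, (m + 1 + i.val) * dg (g.1 i.succ) = N := by
      intro g
      conv_rhs => rw [← g.2.2, Fin.sum_univ_succ]
      simp only [Fin.val_zero, add_zero, Fin.val_succ]
      congr 1
      exact Finset.sum_congr rfl fun i _ => by ring
    have hle : ∀ g : WSeqs P dg m N (k + 1), dg (g.1 0) < N / m + 1 := fun g => by
      rw [Nat.lt_succ_iff, Nat.le_div_iff_mul_le (by omega), mul_comm]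
      have := hdeg g
      omega
    let Φ : WSeqs P dg m N (k + 1) →
        Σ j : Fin (N / m + 1), {x : α // P m x ∧ dg x = j} × WSeqs P dg (m + 1) (N - m * j) k :=
      fun g => ⟨⟨dg (g.1 0), hle g⟩, ⟨g.1 0, by simpa using g.2.1 0, rfl⟩,
        ⟨fun i => g.1 i.succ, fun i => by
            have := g.2.1 i.succ
            rwa [show m + (i.succ).val = m + 1 + i.val by rw [Fin.val_succ]; ring] at this, by
          have := hdeg g
          simp only
          omega⟩⟩
    have hΦ : Function.Injective Φ := by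
      intro a b h
      have h' : (Fin.cons (a.1 0) (fun i : Fin k => a.1 i.succ) : Fin (k + 1) → α) =
          Fin.cons (b.1 0) (fun i : Fin k => b.1 i.succ) :=
        congrArg (fun x : (j : Fin (N / m + 1)) × ({x : α // P m x ∧ dg x = j} × WSeqs P dg (m + 1) (N - m * j) k) =>
          (Fin.cons x.2.1.1 x.2.2.1 : Fin (k + 1) → α)) h
      refine Subtype.ext (funext fun i => ?_)
      induction i using Fin.cases with
      | zero => exact congrFun h' 0
      | succ i => exact congrFun h' i.succ
    refine ⟨Finite.of_injective Φ hΦ, (Nat.card_le_card_of_injective Φ hΦ).trans ?_⟩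
    rw [Nat.card_sigma, Wt_sum c hc hm, ← Fin.sum_univ_eq_sum_range]
    refine Finset.sum_le_sum fun j _ => ?_
    rw [Nat.card_prod]
    exact Nat.mul_le_mul (hP m j).2 (ih (m + 1) (N - m * j) (by omega)).2

end Count

variable {F : Type*} [Field F]

/-- The members of a marked sequence of an isometry of a symmetric form. -/
def OMem (F : Type*) [Field F] (w : ℕ) (p : F[X] × (Bool × Bool)) : Prop :=
  SelfRec p.1 ∧ (Even w → p.1.coeff 0 = 1 ∧ Even p.1.natDegree) ∧
    (p.2.1 = true → Odd w ∧ X - C (1 : F) ∣ p.1) ∧ (p.2.2 = true → Odd w ∧ X - C (-1 : F) ∣ p.1)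

/-- Those without room for a mark. -/
def NMem (F : Type*) [Field F] (p : F[X] × (Bool × Bool)) : Prop :=
  SelfRec p.1 ∧ p.1.coeff 0 = 1 ∧ Even p.1.natDegree ∧ p.2 = (false, false)

theorem omem_card [Fintype F] (h2 : (2 : F) ≠ 0) (w j : ℕ) :
    Finite {p : F[X] × (Bool × Bool) // OMem F w p ∧ p.1.natDegree = j} ∧
      Nat.card {p : F[X] × (Bool × Bool) // OMem F w p ∧ p.1.natDegree = j} ≤ cAll (Fintype.card F) w j := by
  let e : {p : F[X] × (Bool × Bool) // OMem F w p ∧ p.1.natDegree = j} → PW F (w + 1) j := fun p =>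
    ⟨p.1, p.2.1.1, p.2.2, fun h => by
      rw [Nat.odd_add_one, Nat.not_odd_iff_even] at h
      have := p.2.1.2.1 h
      rwa [p.2.2] at this,
      fun h => ⟨(p.2.1.2.2.1 h).1.add_one, (p.2.1.2.2.1 h).2⟩,
      fun h => ⟨(p.2.1.2.2.2 h).1.add_one, (p.2.1.2.2.2 h).2⟩⟩
  have he : Function.Injective e := fun a b h => Subtype.ext (congrArg (fun x : PW F (w + 1) j => x.1) h)
  refine ⟨Finite.of_injective e he, (Nat.card_le_card_of_injective e he).trans ((card_pw_le h2 (w + 1) j).trans ?_)⟩
  rw [cw, cAll]
  by_cases hw : Odd w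
  · rw [if_pos hw, if_neg (by rw [Nat.odd_add_one]; exact not_not.2 hw)]
  · rw [if_neg hw, if_pos (Nat.odd_add_one.2 hw)]

theorem nmem_card [Fintype F] (w j : ℕ) :
    Finite {p : F[X] × (Bool × Bool) // NMem F p ∧ p.1.natDegree = j} ∧
      Nat.card {p : F[X] × (Bool × Bool) // NMem F p ∧ p.1.natDegree = j} ≤ cNone (Fintype.card F) w j := by
  let e : {p : F[X] × (Bool × Bool) // NMem F p ∧ p.1.natDegree = j} → RecPolyOne F j := fun p =>
    ⟨⟨p.1.1, p.2.1.1, p.2.2⟩, p.2.1.2.1, p.2.2 ▸ p.2.1.2.2.1⟩
  have he : Function.Injective e := fun a b h => by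
    refine Subtype.ext (Prod.ext (congrArg (fun x : RecPolyOne F j => x.1.1) h) ?_)
    rw [a.2.1.2.2.2, b.2.1.2.2.2]
  exact ⟨Finite.of_injective e he, (Nat.card_le_card_of_injective e he).trans (card_recPolyOne_le j)⟩

open QuadraticMap Cfsg.Agent.Classical.Quad

variable [Fintype F] {ι : Type} [Fintype ι] [DecidableEq ι]

set_option maxHeartbeats 1000000 in
open _root_.Classical in
/-- Twice the class number is at most the number of markable sequences plus the unmarkable ones. -/
theorem two_mul_card_orth_le (h2 : (2 : F) ≠ 0) (Q : QuadraticForm F (ι → F)) (hQ : (polarBilin Q).Nondegenerate)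
    {n : ℕ} (hι : Fintype.card ι = 2 * n) :
    2 * Nat.card (ConjClasses (Cfsg.isometryGroup F ⇑Q)) ≤
      Wt (cAll (Fintype.card F)) 1 (2 * n) + Wt (cNone (Fintype.card F)) 1 (2 * n) := by
  set B : LinearMap.BilinForm F (ι → F) := polarBilin Q with hBdef
  set N := Module.finrank F (ι → F) with hNdef
  have hN : N = 2 * n := by rw [hNdef, Module.finrank_fintype_fun_eq_card, hι]
  have hc : (1 : F) * 1 = 1 := one_mul 1
  have hm : (-1 : F) * (-1) = 1 := by ring
  let G := oG Q
  have hBQ : ∀ (f : (ι → F) →ₗ[F] (ι → F)), (∀ x, Q (f x) = Q x) → ∀ x y, B (f x) (f y) = B x y := fun f hf x y => by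
    simp only [B, polarBilin_apply_apply, polar, ← map_add, hf]
  have hgood : ∀ A : G, Signed 1 B A.1.toLinearMap := fun A =>
    ⟨fun x y => by rw [one_mul]; exact polar_comm Q y x, fun x hx => hQ.1 x hx, hBQ _ A.2⟩
  choose g hg using fun A : G => exists_seq A.1.toLinearMap (hgood A).injective
  have hcount : ∀ (A : G) (j : Fin N) (s : F), s * s = 1 →
      ¬ DiscSq B (s • A.1.toLinearMap) (j.val + 1) → X - C s ∣ (g A).1 j := by
    intro A j s hs hd
    by_contra hc0
    exact hd ((layer_facts h2 hc (hgood A) (hg A) hs j).2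
      (Multiset.count_eq_zero.2 fun h => hc0 (dvd_of_mem_normalizedFactors h)))
  have hSR : ∀ A (j : Fin N), SelfRec ((g A).1 j) := fun A j =>
    ⟨((g A).2.1 j).1, ((g A).2.1 j).2, dual_fix_signed hc (hgood A) (hg A) j⟩
  let dg : F[X] × (Bool × Bool) → ℕ := fun p => p.1.natDegree
  let mk : G → F → ℕ → Bool := fun A s j => decide (Even j ∧ ¬ DiscSq B (s • A.1.toLinearMap) (j + 1))
  let inv : G → WSeqs (OMem F) dg 1 (2 * n) N := fun A =>
    ⟨fun j => ((g A).1 j, mk A 1 j.val, mk A (-1) j.val), by
      refine ⟨fun j => ⟨hSR A j, fun hev => ?_, fun h => ?_, fun h => ?_⟩, (g A).2.2.trans hN⟩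
      · have hj : Odd j.val := by
          rcases hev with ⟨r, hr⟩
          exact ⟨r - 1, by omega⟩
        refine even_selfRec h2 (hSR A j) ?_ ?_
        · exact (layer_facts h2 hc (hgood A) (hg A) (one_mul 1) j).1 (by rw [hj.neg_one_pow, mul_one])
        · exact (layer_facts h2 hc (hgood A) (hg A) hm j).1 (by rw [hj.neg_one_pow, mul_one])
      · simp only [mk, decide_eq_true_eq] at h
        exact ⟨by rw [add_comm]; exact h.1.add_one, hcount A j 1 (one_mul 1) h.2⟩
      · simp only [mk, decide_eq_true_eq] at h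
        exact ⟨by rw [add_comm]; exact h.1.add_one, hcount A j (-1) hm h.2⟩⟩
  -- isometries with equal sequences
  have hdiscΘ : ∀ (A A' : G) (P : (ι → F) ≃ₗ[F] (ι → F)),
      (∀ x, P (A.1 x) = A'.1 (P x)) → ∀ (s : F) (e : ℕ),
      DiscSq (B.comp P.toLinearMap P.toLinearMap) (s • A.1.toLinearMap) e ↔ DiscSq B (s • A'.1.toLinearMap) e :=
    fun A A' P hP s e => discSq_map (B := B) P.toLinearMap P.injective _ (fun _ _ => rfl)
      (f := s • A.1.toLinearMap) (φ := s • A'.1.toLinearMap) (fun x => by simp [hP]) fun x _ => P.surjective x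
  have hgoodΘ : ∀ (A A' : G) (P : (ι → F) ≃ₗ[F] (ι → F)), (∀ x, P (A.1 x) = A'.1 (P x)) →
      Signed 1 (B.comp P.toLinearMap P.toLinearMap) A.1.toLinearMap := fun A A' P hP =>
    ⟨fun x y => (hgood A').flip _ _, fun x hx => P.map_eq_zero_iff.1 ((hgood A').sep _ fun y => by
      obtain ⟨y, rfl⟩ := P.surjective y; exact hx y), fun x y => by
      change B (P (A.1 x)) (P (A.1 y)) = B (P x) (P y)
      rw [hP, hP]
      exact (hgood A').pres _ _⟩
  have hconj : ∀ A A' : G, inv A = inv A' → IsConj A A' := by
    intro A A' h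
    have hpt := fun j : Fin N => congrFun (congrArg Subtype.val h) j
    have hgg : (g A).1 = (g A').1 := funext fun j => congrArg Prod.fst (hpt j)
    obtain ⟨P, hP⟩ := conj_of_hasSeq _ _ (hg A) (hgg ▸ hg A')
    obtain ⟨y, hyA, hy⟩ := exists_equiv h2 hc (hgood A) (hgoodΘ A A' P hP) (fun s hs e he hpar => by
      rw [hdiscΘ A A' P hP s e]
      rcases lt_or_ge N e with hbig | hsmall
      · exact iff_of_true (discSq_of_big hbig) (discSq_of_big hbig)
      have heven : Even (e - 1) := by
        rcases Nat.even_or_odd (e - 1) with he' | he'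
        · exact he'
        · rw [he'.neg_one_pow, mul_one] at hpar
          exact absurd (by linear_combination -hpar : (2 : F) = 0) h2
      have hj := hpt ⟨e - 1, by omega⟩
      simp only [inv, Prod.mk.injEq, mk, decide_eq_decide, Nat.sub_add_cancel he] at hj
      rcases mul_self_eq_one_iff.1 hs with rfl | rfl
      · have := hj.2.1; simp only [heven, true_and, not_iff_not] at this; exact this
      · have := hj.2.2; simp only [heven, true_and, not_iff_not] at this; exact this)
    have hinj : Function.Injective y := injective_of_comp (hgoodΘ A A' P hP) hy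
    let Y := LinearEquiv.ofBijective y ⟨hinj, LinearMap.injective_iff_surjective.1 hinj⟩
    let U : G := ⟨Y.symm.trans P, fun u => by
      have h3 : B (P (Y.symm u)) (P (Y.symm u)) = B u u := by
        obtain ⟨u, rfl⟩ := Y.surjective u
        rw [LinearEquiv.symm_apply_apply]
        exact (hy u u).symm
      simp only [B, polarBilin_apply_apply, polar_self', smul_eq_mul] at h3
      exact mul_left_cancel₀ h2 h3⟩
    refine isConj_iff.2 ⟨U, ?_⟩
    rw [mul_inv_eq_iff_eq_mul]
    refine Subtype.ext (LinearEquiv.ext fun v => ?_)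
    show P (Y.symm (A.1 v)) = A'.1.toLinearMap (P (Y.symm v))
    rw [← hP]
    congr 1
    apply Y.injective
    rw [LinearEquiv.apply_symm_apply]
    show _ = y (A.1.toLinearMap (Y.symm v))
    rw [← Module.End.mul_apply, hyA.eq, Module.End.mul_apply]
    show _ = A.1 (Y (Y.symm v))
    rw [LinearEquiv.apply_symm_apply]
  -- the mark to flip
  let mkable : WSeqs (OMem F) dg 1 (2 * n) N → Fin N → Prop := fun p j =>
    Even j.val ∧ (X - C (1 : F) ∣ (p.1 j).1 ∨ X - C (-1 : F) ∣ (p.1 j).1)
  let flipAt : (F[X] × (Bool × Bool)) → F[X] × (Bool × Bool) := fun q =>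
    if X - C (1 : F) ∣ q.1 then (q.1, !q.2.1, q.2.2) else (q.1, q.2.1, !q.2.2)
  let first : (p : WSeqs (OMem F) dg 1 (2 * n) N) → (∃ j, mkable p j) → Fin N := fun p hp =>
    Fin.find (mkable p) hp
  let flip : WSeqs (OMem F) dg 1 (2 * n) N → WSeqs (OMem F) dg 1 (2 * n) N := fun p =>
    if hp : ∃ j, mkable p j then
      ⟨fun j => if j = first p hp then flipAt (p.1 j) else p.1 j, by
        have hdeg : ∀ q, (flipAt q).1 = q.1 := fun q => by simp only [flipAt]; split_ifs <;> rfl
        refine ⟨fun j => ?_, ?_⟩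
        · by_cases hj : j = first p hp
          · obtain ⟨hev, hd⟩ : mkable p (first p hp) := Fin.find_spec hp
            have hodd : Odd (1 + j.val) := by rw [hj, add_comm]; exact hev.add_one
            obtain ⟨h1, h3, h4, h5⟩ := p.2.1 j
            beta_reduce
            rw [if_pos hj]
            simp only [flipAt]
            split_ifs with hd1
            · exact ⟨h1, h3, fun _ => ⟨hodd, hd1⟩, h5⟩
            · exact ⟨h1, h3, h4, fun _ => ⟨hodd, by rw [hj] at hd1 ⊢; exact hd.resolve_left hd1⟩⟩
          · beta_reduce; rw [if_neg hj]; exact p.2.1 j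
        · refine Eq.trans (Finset.sum_congr rfl fun j _ => ?_) p.2.2
          simp only [dg]
          split_ifs
          · rw [hdeg]
          · rfl⟩
    else p
  have hmkable_flip : ∀ p, mkable (flip p) = mkable p := by
    intro p
    funext j
    simp only [flip]
    split_ifs with hp
    · simp only [mkable, flipAt]
      split_ifs <;> rfl
    · rfl
  have hflipflip : ∀ p, (∃ j, mkable p j) → flip (flip p) = p := by
    intro p hp
    have hp' : ∃ j, mkable (flip p) j := by rwa [hmkable_flip]
    have hfirst : first (flip p) hp' = first p hp := by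
      simp only [first]
      congr 1
      exact hmkable_flip p
    refine Subtype.ext (funext fun j => ?_)
    have e1 : (flip (flip p)).1 j = if j = first p hp then flipAt ((flip p).1 j) else (flip p).1 j := by
      rw [← hfirst]
      conv_lhs => simp only [flip]; rw [dif_pos hp']
    have e2 : (flip p).1 j = if j = first p hp then flipAt (p.1 j) else p.1 j := by
      conv_lhs => simp only [flip]; rw [dif_pos hp]
    rw [e1, e2]
    split_ifs with hj
    · simp only [flipAt]
      split_ifs <;> simp
    · rfl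
  have hnot : ∀ A A' : G, (∃ j, mkable (inv A) j) → inv A' ≠ flip (inv A) := by
    intro A A' hp h
    set j0 := first (inv A) hp with hj0
    obtain ⟨hev, hd⟩ : mkable (inv A) j0 := Fin.find_spec hp
    have hval : ∀ j, (inv A').1 j = if j = j0 then flipAt ((inv A).1 j) else (inv A).1 j := fun j => by
      rw [h]
      simp only [flip]
      rw [dif_pos hp]
    have hgg : (g A).1 = (g A').1 := funext fun j => by
      have h1 := congrArg Prod.fst (hval j)
      split_ifs at h1 with hj
      · simp only [flipAt] at h1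
        split_ifs at h1 <;> exact h1.symm
      · exact h1.symm
    obtain ⟨P, hP⟩ := conj_of_hasSeq _ _ (hg A) (hgg ▸ hg A')
    set s0 : F := if X - C (1 : F) ∣ ((inv A).1 j0).1 then 1 else -1 with hs0
    have hs0' : s0 * s0 = 1 := by simp only [s0]; split_ifs <;> ring
    have h11 : (1 : F) ≠ -1 := fun e => h2 (by linear_combination e)
    refine flip_disc h2 (hgood A) (hgoodΘ A A' P hP) hs0' (e0 := j0.val + 1) hev.add_one ?_ ?_ ?_
    · rw [hdiscΘ A A' P hP]
      have h1 := congrArg Prod.snd (hval j0)
      rw [if_pos rfl] at h1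
      simp only [flipAt, s0] at h1 ⊢
      split_ifs at h1 ⊢ with hd1 <;> simp only [inv, mk, hev, true_and, Prod.mk.injEq] at h1
      · have := h1.1
        simp only [decide_not, Bool.not_not] at this
        intro hiff
        simp only [propext hiff] at this
        simp at this
      · have := h1.2
        simp only [decide_not, Bool.not_not] at this
        intro hiff
        simp only [propext hiff] at this
        simp at this
    · intro s hs e he hne
      rw [hdiscΘ A A' P hP]
      rcases lt_or_ge N e with hbig | hsmall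
      · exact iff_of_true (discSq_of_big hbig) (discSq_of_big hbig)
      obtain ⟨r, rfl⟩ := he
      have h1 := congrArg Prod.snd (hval ⟨2 * r, by omega⟩)
      have hev2 : Even (2 * r) := even_two_mul r
      by_cases hj : (⟨2 * r, by omega⟩ : Fin N) = j0
      · rw [if_pos hj] at h1
        have hs' : s ≠ s0 := hne.resolve_right (fun h' => h' (by rw [← hj]))
        simp only [flipAt, s0, ← hj] at h1 hs'
        split_ifs at h1 hs' <;> simp only [inv, mk, hev2, true_and, Prod.mk.injEq, decide_eq_decide, not_iff_not] at h1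
        · rw [(mul_self_eq_one_iff.1 hs).resolve_left hs']; exact h1.2
        · rw [(mul_self_eq_one_iff.1 hs).resolve_right hs']; exact h1.1
      · rw [if_neg hj] at h1
        simp only [inv, mk, hev2, true_and, Prod.mk.injEq, decide_eq_decide, not_iff_not] at h1
        rcases mul_self_eq_one_iff.1 hs with rfl | rfl
        · exact h1.1
        · exact h1.2
    · rw [ddet_comp]
      exact ⟨ddet B * LinearMap.det P.toLinearMap, by ring⟩
  obtain ⟨hfin, hle⟩ := wseqs_le (OMem F) dg (cAll (Fintype.card F)) (cAll_zero _) (omem_card h2) N 1 (2 * n) le_rfl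
  obtain ⟨hfinN, hleN⟩ := wseqs_le (fun _ p => NMem F p) dg (cNone (Fintype.card F)) (cNone_zero _) nmem_card N 1
    (2 * n) le_rfl
  -- the classes
  let cls : ConjClasses (Cfsg.isometryGroup F ⇑Q) → WSeqs (OMem F) dg 1 (2 * n) N := fun C => inv (oEquiv Q C.out)
  have hcls : Function.Injective cls := fun C D h => by
    rw [← Quotient.out_eq C, ← Quotient.out_eq D]
    refine ConjClasses.mk_eq_mk_iff_isConj.2 ?_
    have h3 := (oEquiv Q).symm.toMonoidHom.map_isConj (hconj _ _ h)
    simpa using h3
  have := Fintype.ofFinite (WSeqs (OMem F) dg 1 (2 * n) N)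
  set I := Finset.univ.filter fun p : WSeqs (OMem F) dg 1 (2 * n) N => p ∈ Set.range cls with hI
  have hcard : Nat.card (ConjClasses (Cfsg.isometryGroup F ⇑Q)) = I.card := by
    rw [Nat.card_congr (Equiv.ofInjective cls hcls), Nat.card_eq_fintype_card, hI, ← Fintype.card_subtype]
  set M := Finset.univ.filter fun p : WSeqs (OMem F) dg 1 (2 * n) N => ∃ j, mkable p j with hM
  set U := Finset.univ.filter fun p : WSeqs (OMem F) dg 1 (2 * n) N => ¬ ∃ j, mkable p j with hU
  have h1 : 2 * (I ∩ M).card ≤ M.card := by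
    have hd : Disjoint (I ∩ M) ((I ∩ M).image flip) := by
      rw [Finset.disjoint_left]
      intro p hp hp'
      obtain ⟨q, hq, rfl⟩ := Finset.mem_image.1 hp'
      simp only [Finset.mem_inter, hI, hM, Finset.mem_filter, Finset.mem_univ, true_and, Set.mem_range] at hp hq
      obtain ⟨⟨C, hC⟩, -⟩ := hp
      obtain ⟨⟨D, rfl⟩, hq2⟩ := hq
      exact hnot _ _ hq2 hC
    have hinjOn : Set.InjOn flip (I ∩ M : Finset _) := fun p hp q hq h => by
      simp only [Finset.coe_inter, Set.mem_inter_iff, hM, Finset.mem_coe, Finset.mem_filter, Finset.mem_univ,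
        true_and] at hp hq
      rw [← hflipflip p hp.2, h, hflipflip q hq.2]
    have hsub : (I ∩ M) ∪ (I ∩ M).image flip ⊆ M := by
      refine Finset.union_subset Finset.inter_subset_right fun p hp => ?_
      obtain ⟨q, hq, rfl⟩ := Finset.mem_image.1 hp
      simp only [Finset.mem_inter, hM, Finset.mem_filter, Finset.mem_univ, true_and] at hq ⊢
      rw [hmkable_flip]; exact hq.2
    have := Finset.card_le_card hsub
    rw [Finset.card_union_of_disjoint hd, Finset.card_image_of_injOn hinjOn] at this
    omega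
  have h3 : I.card ≤ (I ∩ M).card + U.card := by
    refine le_trans (Finset.card_le_card (t := (I ∩ M) ∪ U) fun p hp => ?_) (Finset.card_union_le _ _)
    simp only [Finset.mem_union, Finset.mem_inter, hM, hU, Finset.mem_filter, Finset.mem_univ, true_and]
    exact (_root_.em (∃ j, mkable p j)).imp (fun h => ⟨hp, h⟩) id
  have h4 : M.card + U.card ≤ Wt (cAll (Fintype.card F)) 1 (2 * n) := by
    rw [hM, hU, Finset.card_filter_add_card_filter_not, Finset.card_univ, ← Nat.card_eq_fintype_card]
    exact hle
  have h5 : U.card ≤ Wt (cNone (Fintype.card F)) 1 (2 * n) := by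
    refine le_trans ?_ hleN
    rw [hU, ← Fintype.card_subtype, ← Nat.card_eq_fintype_card]
    have hNM : ∀ (p : {p : WSeqs (OMem F) dg 1 (2 * n) N // ¬ ∃ j, mkable p j}) (j : Fin N), NMem F (p.1.1 j) := by
      intro p j
      obtain ⟨h1, h3, h4, h5⟩ := p.1.2.1 j
      have hno : Odd (1 + j.val) → ¬ X - C (1 : F) ∣ (p.1.1 j).1 ∧ ¬ X - C (-1 : F) ∣ (p.1.1 j).1 := by
        intro ho
        have hj : Even j.val := by rw [Nat.odd_add] at ho; exact ho.1 odd_one
        exact ⟨fun hd => p.2 ⟨j, hj, Or.inl hd⟩, fun hd => p.2 ⟨j, hj, Or.inr hd⟩⟩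
      have hb1 : (p.1.1 j).2.1 = false := Bool.eq_false_iff.2 fun h => (hno (h4 h).1).1 (h4 h).2
      have hb2 : (p.1.1 j).2.2 = false := Bool.eq_false_iff.2 fun h => (hno (h5 h).1).2 (h5 h).2
      have hpar : (p.1.1 j).1.coeff 0 = 1 ∧ Even (p.1.1 j).1.natDegree := by
        rcases Nat.even_or_odd (1 + j.val) with he | ho
        · exact h3 he
        · refine even_selfRec h2 h1 ?_ ?_
          · rw [Multiset.count_eq_zero.2 fun h => (hno ho).1 (dvd_of_mem_normalizedFactors h)]
            exact Even.zero
          · rw [Multiset.count_eq_zero.2 fun h => (hno ho).2 (dvd_of_mem_normalizedFactors h)]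
            exact Even.zero
      exact ⟨h1, hpar.1, hpar.2, Prod.ext hb1 hb2⟩
    exact Nat.card_le_card_of_injective
      (fun p => (⟨p.1.1, hNM p, p.1.2.2⟩ : WSeqs (fun _ p => NMem F p) dg 1 (2 * n) N))
      fun a b h => Subtype.ext (Subtype.ext (congrArg Subtype.val h :))
  rw [hcard]
  omega

end Cfsg.Agent.FormClass
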