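import Cfsg.Agent.MatModule.ClassNumberOrth
import Cfsg.Agent.IndexTwo.ClassCount

/-!
# Classes of an orthogonal group of odd dimension
-/

set_option autoImplicit false

namespace Cfsg.Agent.FormClass

open Module Polynomial UniqueFactorizationMonoid
open Cfsg.Agent.ClassNumberGL Cfsg.Agent.SympConj
open QuadraticMap Cfsg.Agent.Classical.Quad

variable {F : Type*} [Field F] [Fintype F] {ι : Type} [Fintype ι] [DecidableEq ι]

set_option maxHeartbeats 1000000 in
open _root_.Classical in
/-- Twice the number of classes with a property is at most the number of markable sequences. -/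
theorem two_mul_pclasses_odd_le (h2 : (2 : F) ≠ 0) (Q : QuadraticForm F (ι → F)) (hQ : (polarBilin Q).Nondegenerate)
    {n : ℕ} (hι : Fintype.card ι = 2 * n + 1) (P0 : oG Q → Prop) (E : ℕ → F[X] → Prop)
    (hE : ∀ (A : oG Q) (f : Fin (Module.finrank F (ι → F)) → F[X]),
      HasSeq A.1.toLinearMap _ f → P0 A → ∀ j, E (1 + j.val) (f j))
    (c : ℕ → ℕ → ℕ) (hc0 : ∀ m, c m 0 = 1)
    (hcard : ∀ w j, Finite {p : F[X] × (Bool × Bool) // (OMem F w p ∧ E w p.1) ∧ p.1.natDegree = j} ∧
      Nat.card {p : F[X] × (Bool × Bool) // (OMem F w p ∧ E w p.1) ∧ p.1.natDegree = j} ≤ c w j) :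
    2 * Nat.card (IndexTwo.PClasses P0) ≤ Wt c 1 (2 * n + 1) := by
  set B : LinearMap.BilinForm F (ι → F) := polarBilin Q with hBdef
  set N := Module.finrank F (ι → F) with hNdef
  have hN : N = 2 * n + 1 := by rw [hNdef, Module.finrank_fintype_fun_eq_card, hι]
  have hc : (1 : F) * 1 = 1 := one_mul 1
  have hm : (-1 : F) * (-1) = 1 := by ring
  let G := oG Q
  have hBQ : ∀ (f : (ι → F) →ₗ[F] (ι → F)), (∀ x, Q (f x) = Q x) → ∀ x y, B (f x) (f y) = B x y := fun f hf x y => by
    simp only [B, polarBilin_apply_apply, polar, ← map_add, hf]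
  have hgood : ∀ A : G, Signed 1 B A.1.toLinearMap := fun A =>
    ⟨fun x y => by rw [one_mul]; exact polar_comm Q y x, fun x hx => hQ.1 x hx, hBQ _ A.2⟩
  choose g hg using fun A : G => exists_seq A.1.toLinearMap (hgood A).injective
  have hcount : ∀ (A : G) (j : Fin N) (s : F), s * s = 1 →
      ¬ DiscSq B (s • A.1.toLinearMap) (j.val + 1) → X - C s ∣ (g A).1 j := by
    intro A j s hs hd
    by_contra hc0
    exact hd ((layer_facts h2 hc (hgood A) (hg A) hs j).2
      (Multiset.count_eq_zero.2 fun h => hc0 (dvd_of_mem_normalizedFactors h)))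
  have hSR : ∀ A (j : Fin N), SelfRec ((g A).1 j) := fun A j =>
    ⟨((g A).2.1 j).1, ((g A).2.1 j).2, dual_fix_signed hc (hgood A) (hg A) j⟩
  let dg : F[X] × (Bool × Bool) → ℕ := fun p => p.1.natDegree
  let mk : G → F → ℕ → Bool := fun A s j => decide (Even j ∧ ¬ DiscSq B (s • A.1.toLinearMap) (j + 1))
  let inv : G → WSeqs (OMem F) dg 1 ((2 * n + 1)) N := fun A =>
    ⟨fun j => ((g A).1 j, mk A 1 j.val, mk A (-1) j.val), by
      refine ⟨fun j => ⟨hSR A j, fun hev => ?_, fun h => ?_, fun h => ?_⟩, (g A).2.2.trans hN⟩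
      · have hj : Odd j.val := by
          rcases hev with ⟨r, hr⟩
          exact ⟨r - 1, by omega⟩
        refine even_selfRec h2 (hSR A j) ?_ ?_
        · exact (layer_facts h2 hc (hgood A) (hg A) (one_mul 1) j).1 (by rw [hj.neg_one_pow, mul_one])
        · exact (layer_facts h2 hc (hgood A) (hg A) hm j).1 (by rw [hj.neg_one_pow, mul_one])
      · simp only [mk, decide_eq_true_eq] at h
        exact ⟨by rw [add_comm]; exact h.1.add_one, hcount A j 1 (one_mul 1) h.2⟩
      · simp only [mk, decide_eq_true_eq] at h
        exact ⟨by rw [add_comm]; exact h.1.add_one, hcount A j (-1) hm h.2⟩⟩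
  -- isometries with equal sequences
  have hdiscΘ : ∀ (A A' : G) (P : (ι → F) ≃ₗ[F] (ι → F)),
      (∀ x, P (A.1 x) = A'.1 (P x)) → ∀ (s : F) (e : ℕ),
      DiscSq (B.comp P.toLinearMap P.toLinearMap) (s • A.1.toLinearMap) e ↔ DiscSq B (s • A'.1.toLinearMap) e :=
    fun A A' P hP s e => discSq_map (B := B) P.toLinearMap P.injective _ (fun _ _ => rfl)
      (f := s • A.1.toLinearMap) (φ := s • A'.1.toLinearMap) (fun x => by simp [hP]) fun x _ => P.surjective x
  have hgoodΘ : ∀ (A A' : G) (P : (ι → F) ≃ₗ[F] (ι → F)), (∀ x, P (A.1 x) = A'.1 (P x)) →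
      Signed 1 (B.comp P.toLinearMap P.toLinearMap) A.1.toLinearMap := fun A A' P hP =>
    ⟨fun x y => (hgood A').flip _ _, fun x hx => P.map_eq_zero_iff.1 ((hgood A').sep _ fun y => by
      obtain ⟨y, rfl⟩ := P.surjective y; exact hx y), fun x y => by
      change B (P (A.1 x)) (P (A.1 y)) = B (P x) (P y)
      rw [hP, hP]
      exact (hgood A').pres _ _⟩
  have hconj : ∀ A A' : G, inv A = inv A' → IsConj A A' := by
    intro A A' h
    have hpt := fun j : Fin N => congrFun (congrArg Subtype.val h) j
    have hgg : (g A).1 = (g A').1 := funext fun j => congrArg Prod.fst (hpt j)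
    obtain ⟨P, hP⟩ := conj_of_hasSeq _ _ (hg A) (hgg ▸ hg A')
    obtain ⟨y, hyA, hy⟩ := exists_equiv h2 hc (hgood A) (hgoodΘ A A' P hP) (fun s hs e he hpar => by
      rw [hdiscΘ A A' P hP s e]
      rcases lt_or_ge N e with hbig | hsmall
      · exact iff_of_true (discSq_of_big hbig) (discSq_of_big hbig)
      have heven : Even (e - 1) := by
        rcases Nat.even_or_odd (e - 1) with he' | he'
        · exact he'
        · rw [he'.neg_one_pow, mul_one] at hpar
          exact absurd (by linear_combination -hpar : (2 : F) = 0) h2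
      have hj := hpt ⟨e - 1, by omega⟩
      simp only [inv, Prod.mk.injEq, mk, decide_eq_decide, Nat.sub_add_cancel he] at hj
      rcases mul_self_eq_one_iff.1 hs with rfl | rfl
      · have := hj.2.1; simp only [heven, true_and, not_iff_not] at this; exact this
      · have := hj.2.2; simp only [heven, true_and, not_iff_not] at this; exact this)
    have hinj : Function.Injective y := injective_of_comp (hgoodΘ A A' P hP) hy
    let Y := LinearEquiv.ofBijective y ⟨hinj, LinearMap.injective_iff_surjective.1 hinj⟩
    let U : G := ⟨Y.symm.trans P, fun u => by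
      have h3 : B (P (Y.symm u)) (P (Y.symm u)) = B u u := by
        obtain ⟨u, rfl⟩ := Y.surjective u
        rw [LinearEquiv.symm_apply_apply]
        exact (hy u u).symm
      simp only [B, polarBilin_apply_apply, polar_self', smul_eq_mul] at h3
      exact mul_left_cancel₀ h2 h3⟩
    refine isConj_iff.2 ⟨U, ?_⟩
    rw [mul_inv_eq_iff_eq_mul]
    refine Subtype.ext (LinearEquiv.ext fun v => ?_)
    show P (Y.symm (A.1 v)) = A'.1.toLinearMap (P (Y.symm v))
    rw [← hP]
    congr 1
    apply Y.injective
    rw [LinearEquiv.apply_symm_apply]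
    show _ = y (A.1.toLinearMap (Y.symm v))
    rw [← Module.End.mul_apply, hyA.eq, Module.End.mul_apply]
    show _ = A.1 (Y (Y.symm v))
    rw [LinearEquiv.apply_symm_apply]
  -- the mark to flip
  let mkable : WSeqs (OMem F) dg 1 ((2 * n + 1)) N → Fin N → Prop := fun p j =>
    Even j.val ∧ (X - C (1 : F) ∣ (p.1 j).1 ∨ X - C (-1 : F) ∣ (p.1 j).1)
  let flipAt : (F[X] × (Bool × Bool)) → F[X] × (Bool × Bool) := fun q =>
    if X - C (1 : F) ∣ q.1 then (q.1, !q.2.1, q.2.2) else (q.1, q.2.1, !q.2.2)
  let first : (p : WSeqs (OMem F) dg 1 ((2 * n + 1)) N) → (∃ j, mkable p j) → Fin N := fun p hp =>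
    Fin.find (mkable p) hp
  let flip : WSeqs (OMem F) dg 1 ((2 * n + 1)) N → WSeqs (OMem F) dg 1 ((2 * n + 1)) N := fun p =>
    if hp : ∃ j, mkable p j then
      ⟨fun j => if j = first p hp then flipAt (p.1 j) else p.1 j, by
        have hdeg : ∀ q, (flipAt q).1 = q.1 := fun q => by simp only [flipAt]; split_ifs <;> rfl
        refine ⟨fun j => ?_, ?_⟩
        · by_cases hj : j = first p hp
          · obtain ⟨hev, hd⟩ : mkable p (first p hp) := Fin.find_spec hp
            have hodd : Odd (1 + j.val) := by rw [hj, add_comm]; exact hev.add_one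
            obtain ⟨h1, h3, h4, h5⟩ := p.2.1 j
            beta_reduce
            rw [if_pos hj]
            simp only [flipAt]
            split_ifs with hd1
            · exact ⟨h1, h3, fun _ => ⟨hodd, hd1⟩, h5⟩
            · exact ⟨h1, h3, h4, fun _ => ⟨hodd, by rw [hj] at hd1 ⊢; exact hd.resolve_left hd1⟩⟩
          · beta_reduce; rw [if_neg hj]; exact p.2.1 j
        · refine Eq.trans (Finset.sum_congr rfl fun j _ => ?_) p.2.2
          simp only [dg]
          split_ifs
          · rw [hdeg]
          · rfl⟩
    else p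
  have hmkable_flip : ∀ p, mkable (flip p) = mkable p := by
    intro p
    funext j
    simp only [flip]
    split_ifs with hp
    · simp only [mkable, flipAt]
      split_ifs <;> rfl
    · rfl
  have hflipflip : ∀ p, (∃ j, mkable p j) → flip (flip p) = p := by
    intro p hp
    have hp' : ∃ j, mkable (flip p) j := by rwa [hmkable_flip]
    have hfirst : first (flip p) hp' = first p hp := by
      simp only [first]
      congr 1
      exact hmkable_flip p
    refine Subtype.ext (funext fun j => ?_)
    have e1 : (flip (flip p)).1 j = if j = first p hp then flipAt ((flip p).1 j) else (flip p).1 j := by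
      rw [← hfirst]
      conv_lhs => simp only [flip]; rw [dif_pos hp']
    have e2 : (flip p).1 j = if j = first p hp then flipAt (p.1 j) else p.1 j := by
      conv_lhs => simp only [flip]; rw [dif_pos hp]
    rw [e1, e2]
    split_ifs with hj
    · simp only [flipAt]
      split_ifs <;> simp
    · rfl
  have hnot : ∀ A A' : G, (∃ j, mkable (inv A) j) → inv A' ≠ flip (inv A) := by
    intro A A' hp h
    set j0 := first (inv A) hp with hj0
    obtain ⟨hev, hd⟩ : mkable (inv A) j0 := Fin.find_spec hp
    have hval : ∀ j, (inv A').1 j = if j = j0 then flipAt ((inv A).1 j) else (inv A).1 j := fun j => by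
      rw [h]
      simp only [flip]
      rw [dif_pos hp]
    have hgg : (g A).1 = (g A').1 := funext fun j => by
      have h1 := congrArg Prod.fst (hval j)
      split_ifs at h1 with hj
      · simp only [flipAt] at h1
        split_ifs at h1 <;> exact h1.symm
      · exact h1.symm
    obtain ⟨P, hP⟩ := conj_of_hasSeq _ _ (hg A) (hgg ▸ hg A')
    set s0 : F := if X - C (1 : F) ∣ ((inv A).1 j0).1 then 1 else -1 with hs0
    have hs0' : s0 * s0 = 1 := by simp only [s0]; split_ifs <;> ring
    have h11 : (1 : F) ≠ -1 := fun e => h2 (by linear_combination e)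
    refine flip_disc h2 (hgood A) (hgoodΘ A A' P hP) hs0' (e0 := j0.val + 1) hev.add_one ?_ ?_ ?_
    · rw [hdiscΘ A A' P hP]
      have h1 := congrArg Prod.snd (hval j0)
      rw [if_pos rfl] at h1
      simp only [flipAt, s0] at h1 ⊢
      split_ifs at h1 ⊢ with hd1 <;> simp only [inv, mk, hev, true_and, Prod.mk.injEq] at h1
      · have := h1.1
        simp only [decide_not, Bool.not_not] at this
        intro hiff
        simp only [propext hiff] at this
        simp at this
      · have := h1.2
        simp only [decide_not, Bool.not_not] at this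
        intro hiff
        simp only [propext hiff] at this
        simp at this
    · intro s hs e he hne
      rw [hdiscΘ A A' P hP]
      rcases lt_or_ge N e with hbig | hsmall
      · exact iff_of_true (discSq_of_big hbig) (discSq_of_big hbig)
      obtain ⟨r, rfl⟩ := he
      have h1 := congrArg Prod.snd (hval ⟨2 * r, by omega⟩)
      have hev2 : Even (2 * r) := even_two_mul r
      by_cases hj : (⟨2 * r, by omega⟩ : Fin N) = j0
      · rw [if_pos hj] at h1
        have hs' : s ≠ s0 := hne.resolve_right (fun h' => h' (by rw [← hj]))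
        simp only [flipAt, s0, ← hj] at h1 hs'
        split_ifs at h1 hs' <;> simp only [inv, mk, hev2, true_and, Prod.mk.injEq, decide_eq_decide, not_iff_not] at h1
        · rw [(mul_self_eq_one_iff.1 hs).resolve_left hs']; exact h1.2
        · rw [(mul_self_eq_one_iff.1 hs).resolve_right hs']; exact h1.1
      · rw [if_neg hj] at h1
        simp only [inv, mk, hev2, true_and, Prod.mk.injEq, decide_eq_decide, not_iff_not] at h1
        rcases mul_self_eq_one_iff.1 hs with rfl | rfl
        · exact h1.1
        · exact h1.2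
    · rw [ddet_comp]
      exact ⟨ddet B * LinearMap.det P.toLinearMap, by ring⟩
  haveI : Finite (WSeqs (OMem F) dg 1 (2 * n + 1) N) :=
    (wseqs_le (OMem F) dg (cAll (Fintype.card F)) (cAll_zero _) (omem_card h2) N 1 (2 * n + 1) le_rfl).1
  obtain ⟨hfinE, hleE⟩ := wseqs_le (fun w p => OMem F w p ∧ E w p.1) dg c hc0 hcard N 1 (2 * n + 1) le_rfl
  -- in odd dimension every sequence has a mark
  have hall : ∀ p : WSeqs (OMem F) dg 1 (2 * n + 1) N, ∃ j, mkable p j := by
    intro p
    by_contra hno
    push Not at hno
    have hev : ∀ j : Fin N, Even ((1 + j.val) * dg (p.1 j)) := by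
      intro j
      obtain ⟨h1, h3, -, -⟩ := p.2.1 j
      rcases Nat.even_or_odd (1 + j.val) with he | ho
      · exact he.mul_right _
      · have hj : Even j.val := by rw [Nat.odd_add] at ho; exact ho.1 odd_one
        have hno' := hno j
        simp only [mkable, hj, true_and, not_or] at hno'
        refine (even_selfRec h2 h1 ?_ ?_).2.mul_left _
        · rw [Multiset.count_eq_zero.2 fun h => hno'.1 (dvd_of_mem_normalizedFactors h)]
          exact Even.zero
        · rw [Multiset.count_eq_zero.2 fun h => hno'.2 (dvd_of_mem_normalizedFactors h)]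
          exact Even.zero
    have hsum : Even (∑ j : Fin N, (1 + j.val) * dg (p.1 j)) :=
      Finset.sum_induction _ Even (fun _ _ => Even.add) Even.zero fun j _ => hev j
    rw [p.2.2] at hsum
    exact Nat.not_even_iff_odd.2 (odd_two_mul_add_one n) hsum
  -- the classes
  choose r hr1 hr2 using fun C : IndexTwo.PClasses P0 => C.2
  let cls : IndexTwo.PClasses P0 → WSeqs (OMem F) dg 1 (2 * n + 1) N := fun C => inv (r C)
  have hcls : Function.Injective cls := fun C D h => by
    refine Subtype.ext ?_
    rw [← hr1 C, ← hr1 D]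
    exact ConjClasses.mk_eq_mk_iff_isConj.2 (hconj _ _ h)
  let E' : WSeqs (OMem F) dg 1 (2 * n + 1) N → Prop := fun p => ∀ j, E (1 + j.val) (p.1 j).1
  have hEflip : ∀ p, E' p → E' (flip p) := by
    intro p hp j
    have e1 : ((flip p).1 j).1 = (p.1 j).1 := by
      simp only [flip]
      rw [dif_pos (hall p)]
      dsimp only
      split_ifs
      · simp only [flipAt]; split_ifs <;> rfl
      · rfl
    rw [e1]; exact hp j
  let Φ : Bool × IndexTwo.PClasses P0 → WSeqs (fun w p => OMem F w p ∧ E w p.1) dg 1 (2 * n + 1) N := fun x =>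
    ⟨(if x.1 then flip (cls x.2) else cls x.2).1, fun j => ⟨(if x.1 then flip (cls x.2) else cls x.2).2.1 j, by
      have h0 : E' (cls x.2) := fun j => hE _ _ (hg (r x.2)) (hr2 x.2) j
      split_ifs
      · exact hEflip _ h0 j
      · exact h0 j⟩, (if x.1 then flip (cls x.2) else cls x.2).2.2⟩
  have hΦ : Function.Injective Φ := by
    rintro ⟨b, C⟩ ⟨b', D⟩ h
    have h' : (if b then flip (cls C) else cls C) = if b' then flip (cls D) else cls D :=
      Subtype.ext (congrArg Subtype.val h :)
    cases b <;> cases b' <;> simp only [if_true, Bool.false_eq_true, if_false] at h'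
    · rw [hcls h']
    · exact absurd h' (hnot _ _ (hall _))
    · exact absurd h'.symm (hnot _ _ (hall _))
    · have := congrArg flip h'
      rw [hflipflip _ (hall _), hflipflip _ (hall _)] at this
      rw [hcls this]
  have := Nat.card_le_card_of_injective Φ hΦ
  rw [Nat.card_prod, Nat.card_eq_fintype_card (α := Bool), Fintype.card_bool] at this
  exact this.trans hleE

end Cfsg.Agent.FormClass
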