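import Cfsg.Agent.MatModule.ClassSeq

/-!
# Class numbers of the special linear group and its central quotient
-/

set_option autoImplicit false

namespace Cfsg.Agent.ClassNumberSL

open Polynomial Cfsg.Agent.ClassNumberGL Cfsg.Agent.SeqCount

universe u

/-! ## Classes of a quotient by a central subgroup -/

section Central

variable {G : Type*} [Group G] (Z : Subgroup G)

theorem isConj_mul_left (hZ : Z ≤ Subgroup.center G) (z : Z) {a b : G} (h : IsConj a b) :
    IsConj ((z : G) * a) ((z : G) * b) := by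
  obtain ⟨c, rfl⟩ := isConj_iff.1 h
  refine isConj_iff.2 ⟨c, ?_⟩
  have hc := (Subgroup.mem_center_iff.1 (hZ z.2) c)
  rw [← mul_assoc c, hc]
  group

/-- Multiplication of classes by a central subgroup. -/
@[reducible] def classAction (hZ : Z ≤ Subgroup.center G) : MulAction Z (ConjClasses G) where
  smul z := Quotient.map (fun g => (z : G) * g) fun _ _ h => isConj_mul_left Z hZ z h
  one_smul C := by
    induction C using ConjClasses.forall_isConj.2 with
    | _ a => exact congrArg ConjClasses.mk (one_mul a)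
  mul_smul z w C := by
    induction C using ConjClasses.forall_isConj.2 with
    | _ a => exact congrArg ConjClasses.mk (mul_assoc _ _ a)

variable [Finite G]

theorem card_le_card_quotient (hZ : Z ≤ Subgroup.center G) [Z.Normal] :
    Nat.card (ConjClasses G) ≤ Nat.card Z * Nat.card (ConjClasses (G ⧸ Z)) := by
  classical
  haveI : Finite (ConjClasses (G ⧸ Z)) := Quotient.finite _
  have key : ∀ C : ConjClasses G, ∀ y : G, ∀ b : G, ConjClasses.mk y = C →
      IsConj (b : G ⧸ Z) (y : G ⧸ Z) → ∃ z : Z, C = ConjClasses.mk ((z : G) * b) := by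
    intro C y b hy hb
    obtain ⟨c', hc⟩ := isConj_iff.1 hb
    obtain ⟨c, rfl⟩ := QuotientGroup.mk_surjective c'
    rw [← QuotientGroup.mk_inv, ← QuotientGroup.mk_mul, ← QuotientGroup.mk_mul, QuotientGroup.eq] at hc
    refine ⟨⟨_, hc⟩, ?_⟩
    rw [← hy, ConjClasses.mk_eq_mk_iff_isConj]
    refine (isConj_iff.2 ⟨c, ?_⟩).symm
    have hz := Subgroup.mem_center_iff.1 (hZ hc) b
    have hz' := Subgroup.mem_center_iff.1 (hZ hc) (c * b * c⁻¹)
    rw [← mul_assoc c, Subgroup.mem_center_iff.1 (hZ hc) c, mul_assoc, mul_assoc, ← mul_assoc c b, ← hz']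
    group
  have hsurj : ∀ Q : ConjClasses (G ⧸ Z), ∃ b : G, ConjClasses.mk (b : G ⧸ Z) = Q := by
    intro Q
    obtain ⟨x, rfl⟩ := Q.exists_rep
    obtain ⟨b, rfl⟩ := QuotientGroup.mk_surjective x
    exact ⟨b, rfl⟩
  choose base hbase using hsurj
  have hex : ∀ C : ConjClasses G, ∃ x : Z × ConjClasses (G ⧸ Z), C = ConjClasses.mk ((x.1 : G) * base x.2) := by
    intro C
    obtain ⟨y, hy⟩ := C.exists_rep
    obtain ⟨z, hz⟩ := key C y (base (ConjClasses.mk (y : G ⧸ Z))) hy
      (ConjClasses.mk_eq_mk_iff_isConj.1 (hbase _))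
    exact ⟨(z, _), hz⟩
  choose f hf using hex
  rw [← Nat.card_prod]
  exact Nat.card_le_card_of_injective f fun a b h => by rw [hf a, hf b, h]

theorem card_quotient_mul_le (hZ : Z ≤ Subgroup.center G) [Z.Normal] [Fintype Z] :
    Nat.card Z * Nat.card (ConjClasses (G ⧸ Z)) ≤
      ∑ z : Z, Nat.card {C : ConjClasses G // ∀ y : G, ConjClasses.mk y = C → IsConj y ((z : G) * y)} := by
  classical
  haveI : Finite (ConjClasses G) := Quotient.finite _
  letI := classAction Z hZ
  letI := Fintype.ofFinite (ConjClasses G)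
  letI := Fintype.ofFinite (MulAction.orbitRel.Quotient Z (ConjClasses G))
  have hB := MulAction.sum_card_fixedBy_eq_card_orbits_mul_card_group Z (ConjClasses G)
  have h1 : ∀ z : Z, Fintype.card (MulAction.fixedBy (ConjClasses G) z) ≤
      Nat.card {C : ConjClasses G // ∀ y : G, ConjClasses.mk y = C → IsConj y ((z : G) * y)} := by
    intro z
    rw [← Nat.card_eq_fintype_card]
    refine Nat.card_le_card_of_injective (fun C => ⟨C.1, fun y hy => ?_⟩) fun a b h =>
      Subtype.ext (congrArg (fun x => x.1) h)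
    refine (ConjClasses.mk_eq_mk_iff_isConj.1 ?_).symm
    have h2 : z • C.1 = C.1 := C.2
    rw [← hy] at h2
    exact h2
  refine le_trans ?_ (Finset.sum_le_sum fun z _ => h1 z)
  rw [hB, ← Nat.card_eq_fintype_card, ← Nat.card_eq_fintype_card, mul_comm]
  refine Nat.mul_le_mul_right _ ?_
  haveI : Finite (ConjClasses (G ⧸ Z)) := Quotient.finite _
  refine Nat.card_le_card_of_surjective (Quotient.lift
    (fun C : ConjClasses G => ConjClasses.map (QuotientGroup.mk' Z) C) ?_) ?_
  · intro a b h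
    obtain ⟨z, rfl⟩ := MulAction.mem_orbit_iff.1 h
    obtain ⟨y, rfl⟩ := b.exists_rep
    show ConjClasses.mk (((z : G) * y : G) : G ⧸ Z) = ConjClasses.mk ((y : G) : G ⧸ Z)
    rw [QuotientGroup.mk_mul, (QuotientGroup.eq_one_iff _).2 z.2, one_mul]
  · intro Q
    obtain ⟨x, rfl⟩ := Q.exists_rep
    obtain ⟨b, rfl⟩ := QuotientGroup.mk_surjective x
    exact ⟨Quotient.mk _ (ConjClasses.mk b), rfl⟩

end Central

/-! ## The special linear group -/

section Linear

variable {F : Type u} [Field F] [Fintype F] {n : ℕ}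

local notation "SLn" => Matrix.SpecialLinearGroup (Fin n) F

/-- The endomorphism of a matrix of determinant one. -/
noncomputable abbrev endo (y : SLn) : Module.End F (Fin n → F) := Matrix.toLin' (y : Matrix (Fin n) (Fin n) F)

omit [Fintype F] in
theorem endo_mul (a b : SLn) : endo (a * b) = endo a * endo b := Matrix.toLin'_mul _ _

theorem exists_seq_sl (y : SLn) : ∃ g : Seqs F 1 n n, HasSeq (endo y) n g.1 ∧ sdet g.1 = 1 := by
  have hinj : Function.Injective (endo y) := by
    intro a b h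
    have h' := congrArg (endo y⁻¹) h
    simpa only [← Module.End.mul_apply, ← endo_mul, inv_mul_cancel, endo, Matrix.SpecialLinearGroup.coe_one,
      Matrix.toLin'_one, LinearMap.id_apply] using h'
  have h := exists_seq (endo y) hinj
  rw [Module.finrank_fin_fun] at h
  obtain ⟨g, hg⟩ := h
  refine ⟨g, hg, ?_⟩
  rw [← ClassSeq.det_eq hg fun j => (g.2.1 j).1, LinearMap.det_toLin']
  exact y.2

omit [Fintype F] in
theorem isConj_of_equiv {y y' : SLn} (Θ : (Fin n → F) ≃ₗ[F] (Fin n → F)) (hdet : LinearEquiv.det Θ = 1)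
    (h : ∀ v, Θ (endo y v) = endo y' (Θ v)) : IsConj y y' := by
  let s : SLn := ⟨LinearMap.toMatrix' Θ.toLinearMap, by
    rw [LinearMap.det_toMatrix', ← LinearEquiv.coe_det, hdet, Units.val_one]⟩
  refine isConj_iff.2 ⟨s, mul_inv_eq_iff_eq_mul.2 (Subtype.ext (Matrix.toLin'.injective ?_))⟩
  show endo (s * y) = endo (y' * s)
  rw [endo_mul, endo_mul]
  refine LinearMap.ext fun v => ?_
  simp only [Module.End.mul_apply, endo, s, Matrix.toLin'_toMatrix']
  exact h v

/-- The determinants of the linear maps commuting with an endomorphism. -/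
def detCent (φ : Module.End F (Fin n → F)) : Subgroup Fˣ where
  carrier := {d | ∃ C : (Fin n → F) ≃ₗ[F] (Fin n → F), (∀ v, C (φ v) = φ (C v)) ∧ LinearEquiv.det C = d}
  one_mem' := ⟨LinearEquiv.refl F _, fun _ => rfl, map_one _⟩
  mul_mem' := by
    rintro a b ⟨A, hA, rfl⟩ ⟨B, hB, rfl⟩
    refine ⟨A * B, fun v => ?_, map_mul _ _ _⟩
    show A (B (φ v)) = φ (A (B v))
    rw [hB, hA]
  inv_mem' := by
    rintro a ⟨A, hA, rfl⟩
    refine ⟨A⁻¹, fun v => ?_, map_inv _ _⟩
    apply A.injective
    show A (A.symm (φ v)) = A (φ (A.symm v))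
    rw [hA, LinearEquiv.apply_symm_apply, LinearEquiv.apply_symm_apply]

theorem pow_GS_mem_detCent {φ : Module.End F (Fin n → F)} {g : Fin n → F[X]} (h : HasSeq φ n g) (u : Fˣ) :
    u ^ GS F (Sg g) ∈ detCent φ := by
  refine pow_GS_mem _ _ (fun j hj v => ?_) u
  obtain ⟨C, hC, hdet⟩ := ClassSeq.exists_commute_det h (mem_Sg.1 hj) (Units.ne_zero v)
  have hne : LinearMap.det C ≠ 0 := by rw [hdet]; exact pow_ne_zero _ (Units.ne_zero v)
  refine ⟨LinearMap.equivOfDetNeZero C hne, fun w => ?_, Units.ext ?_⟩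
  · exact LinearMap.congr_fun hC w
  · rw [LinearEquiv.coe_det, Units.val_pow_eq_pow_val, ← hdet]
    rfl

/-- A chosen sequence of an element. -/
noncomputable def seq (y : SLn) : Seqs F 1 n n := (exists_seq_sl y).choose

theorem seq_spec (y : SLn) : HasSeq (endo y) n (seq y).1 ∧ sdet (seq y).1 = 1 := (exists_seq_sl y).choose_spec

open Classical in
/-- Classes whose sequences satisfy a predicate, counted with splitting bounded by the gcd. -/
theorem card_classes_le [Fintype (Seqs F 1 n n)] (P : Seqs F 1 n n → Prop) (S : ConjClasses SLn → Prop)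
    (hP : ∀ y : SLn, S (ConjClasses.mk y) → P (seq y)) :
    Nat.card {C : ConjClasses SLn // S C} ≤
      ∑ g ∈ Finset.univ.filter (fun g : Seqs F 1 n n => sdet g.1 = 1 ∧ P g), GS F (Sg g.1) := by
  have hbase : ∀ g : Seqs F 1 n n, ∃ φ : Module.End F (Fin n → F), ∀ y : SLn, seq y = g → HasSeq φ n g.1 := by
    intro g
    by_cases h : ∃ y : SLn, seq y = g
    · exact ⟨endo h.choose, fun y _ => by
        have h1 := (seq_spec h.choose).1
        rwa [h.choose_spec] at h1⟩
    · exact ⟨0, fun y hy => absurd ⟨y, hy⟩ h⟩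
  choose base hbase using hbase
  have hrep : ∀ C : {C : ConjClasses SLn // S C}, ∃ y : SLn, ConjClasses.mk y = C.1 := fun C => C.1.exists_rep
  choose rep hr using hrep
  have hth : ∀ y : SLn, ∃ Θ : (Fin n → F) ≃ₗ[F] (Fin n → F), ∀ v, Θ (base (seq y) v) = endo y (Θ v) := fun y =>
    conj_of_hasSeq _ _ (hbase _ y rfl) (seq_spec y).1
  choose Θ hΘ using hth
  let R := fun g : {g // g ∈ Finset.univ.filter (fun g : Seqs F 1 n n => sdet g.1 = 1 ∧ P g)} =>
    Fˣ ⧸ (powMonoidHom (GS F (Sg g.1.1)) : Fˣ →* Fˣ).range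
  let f : {C : ConjClasses SLn // S C} → Σ g, R g := fun C =>
    ⟨⟨seq (rep C), Finset.mem_filter.2 ⟨Finset.mem_univ _, (seq_spec _).2, hP _ (by rw [hr]; exact C.2)⟩⟩,
      QuotientGroup.mk (LinearEquiv.det (Θ (rep C)))⟩
  have key : ∀ y y' : SLn, seq y = seq y' →
      (LinearEquiv.det (Θ y))⁻¹ * LinearEquiv.det (Θ y') ∈
        (powMonoidHom (GS F (Sg (seq y).1)) : Fˣ →* Fˣ).range → IsConj y y' := by
    intro y y' hg hu
    obtain ⟨u, hu⟩ := hu
    obtain ⟨C, hC, hdet⟩ := (detCent (base (seq y))).inv_mem (pow_GS_mem_detCent (hbase _ y rfl) u)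
    rw [powMonoidHom_apply] at hu
    refine isConj_of_equiv (Θ y' * C * (Θ y)⁻¹) ?_ fun v => ?_
    · rw [map_mul, map_mul, map_inv, hdet, hu]
      rw [mul_inv_rev, inv_inv, mul_inv_cancel_left, mul_inv_cancel]
    · show Θ y' (C ((Θ y).symm (endo y v))) = endo y' (Θ y' (C ((Θ y).symm v)))
      obtain ⟨w, rfl⟩ := (Θ y).surjective v
      rw [← hΘ, LinearEquiv.symm_apply_apply, LinearEquiv.symm_apply_apply, hC]
      have h2 := hΘ y' (C w)
      rw [← hg] at h2
      exact h2
  have hf : Function.Injective f := by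
    intro a b h
    have h1 : seq (rep a) = seq (rep b) := congrArg (fun x => x.1.1) h
    have h2 : (LinearEquiv.det (Θ (rep a)))⁻¹ * LinearEquiv.det (Θ (rep b)) ∈
        (powMonoidHom (GS F (Sg (seq (rep a)).1)) : Fˣ →* Fˣ).range := by
      have hgen : ∀ (x y : Σ g, R g), x = y → ∀ (p q : Fˣ), x.2 = QuotientGroup.mk p → y.2 = QuotientGroup.mk q →
          p⁻¹ * q ∈ (powMonoidHom (GS F (Sg x.1.1.1)) : Fˣ →* Fˣ).range := by
        rintro x y rfl p q hp hq
        exact QuotientGroup.eq.1 (hp.symm.trans hq)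
      exact hgen _ _ h _ _ rfl rfl
    exact Subtype.ext ((hr a).symm.trans ((ConjClasses.mk_eq_mk_iff_isConj.2 (key _ _ h1 h2)).trans (hr b)))
  refine (Nat.card_le_card_of_injective f hf).trans ?_
  rw [Nat.card_sigma, ← Finset.sum_coe_sort (Finset.univ.filter (fun g : Seqs F 1 n n => sdet g.1 = 1 ∧ P g))]
  refine le_of_eq (Finset.sum_congr rfl fun g _ => ?_)
  rw [← Subgroup.index_eq_card, IsCyclic.index_powMonoidHom_range, Nat.card_units,
    Nat.card_eq_fintype_card]
  exact Nat.gcd_eq_right (Nat.gcd_dvd_left _ _)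

/-- The bound on `(q - 1)` times the class number of `SL_n(q)`. -/
def slBound (q n D : ℕ) : ℕ :=
  AA q 1 n + ∑ d ∈ D.divisors.filter (fun d => 2 ≤ d), (d * d - 1) * AA q 1 (n / d)

theorem card_sl_le :
    (Fintype.card F - 1) * Nat.card (ConjClasses SLn) ≤
      slBound (Fintype.card F) n (Nat.gcd n (Fintype.card F - 1)) := by
  classical
  haveI := finite_seqs (F := F) 1 n n le_rfl
  letI := Fintype.ofFinite (Seqs F 1 n n)
  have h := card_classes_le (F := F) (n := n) (fun _ => True) (fun _ => True) fun _ _ => trivial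
  rw [Nat.card_congr (Equiv.subtypeUnivEquiv fun _ => trivial)] at h
  simp only [and_true] at h
  exact (Nat.mul_le_mul_left _ h).trans (sum_det_one_le.trans (sum_sq_le rfl))

/-- The scalar of a central element. -/
noncomputable def chi (hn : 0 < n) : Subgroup.center SLn →* Fˣ :=
  (rootsOfUnity (Fintype.card (Fin n)) F).subtype.comp
    (Matrix.SpecialLinearGroup.center_equiv_rootsOfUnity' (⟨0, hn⟩ : Fin n)).toMonoidHom

omit [Fintype F] in
theorem chi_injective (hn : 0 < n) : Function.Injective (chi (F := F) hn) :=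
  Subtype.val_injective.comp
    (Matrix.SpecialLinearGroup.center_equiv_rootsOfUnity' (⟨0, hn⟩ : Fin n)).injective

omit [Fintype F] in
theorem endo_center (hn : 0 < n) (z : Subgroup.center SLn) (y : SLn) :
    endo ((z : SLn) * y) = (chi hn z : F) • endo y := by
  have h : (chi hn z : F) = ((z : SLn) : Matrix (Fin n) (Fin n) F) ⟨0, hn⟩ ⟨0, hn⟩ := rfl
  have hs := Matrix.SpecialLinearGroup.scalar_eq_self_of_mem_center z.2 (⟨0, hn⟩ : Fin n)
  show Matrix.toLin' (((z : SLn) : Matrix (Fin n) (Fin n) F) * (y : Matrix (Fin n) (Fin n) F)) = _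
  rw [← hs, h, Matrix.scalar_apply, ← Matrix.smul_eq_diagonal_mul, map_smul]

open Classical in
theorem card_fixed_le [Fintype (Seqs F 1 n n)] (hn : 0 < n) (z : Subgroup.center SLn) :
    Nat.card {C : ConjClasses SLn // ∀ y, ConjClasses.mk y = C → IsConj y ((z : SLn) * y)} ≤
      ∑ g ∈ Finset.univ.filter (fun g : Seqs F 1 n n => sdet g.1 = 1 ∧ Inv (chi hn z) g.1),
        GS F (Sg g.1) := by
  classical
  refine card_classes_le (fun g => Inv (chi hn z) g.1) _ fun y hy => ?_
  obtain ⟨s, hs⟩ := isConj_iff.1 (hy y rfl)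
  rw [mul_inv_eq_iff_eq_mul] at hs
  let S : (Fin n → F) ≃ₗ[F] (Fin n → F) := LinearEquiv.ofLinear (endo s) (endo s⁻¹)
    (by show endo s * endo s⁻¹ = _; rw [← endo_mul, mul_inv_cancel]; exact Matrix.toLin'_one)
    (by show endo s⁻¹ * endo s = _; rw [← endo_mul, inv_mul_cancel]; exact Matrix.toLin'_one)
  refine ClassSeq.inv_of_conj (seq_spec y).1 (fun j => ((seq y).2.1 j).1) (chi hn z) S fun v => ?_
  have h := LinearMap.congr_fun (congrArg endo hs) v
  rw [endo_mul, endo_mul, endo_center hn z y] at h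
  exact h

/-- The contribution of the fixed classes. -/
def fixBound (q n D : ℕ) : ℕ :=
  ∑ r ∈ D.divisors.filter (fun r => 2 ≤ r), (r - 1) * (Nat.gcd (q - 1) (n / r) * AA q 1 (n / r))

theorem card_psl_le (hn : 0 < n) :
    Nat.gcd n (Fintype.card F - 1) * Nat.card (ConjClasses (Matrix.ProjectiveSpecialLinearGroup (Fin n) F)) ≤
      Nat.card (ConjClasses SLn) + fixBound (Fintype.card F) n (Nat.gcd n (Fintype.card F - 1)) ∧
    (n = 2 → Nat.gcd n (Fintype.card F - 1) * Nat.card (ConjClasses (Matrix.ProjectiveSpecialLinearGroup (Fin n) F)) ≤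
      Nat.card (ConjClasses SLn) + 1) ∧
    Nat.card (ConjClasses SLn) ≤
      Nat.gcd n (Fintype.card F - 1) * Nat.card (ConjClasses (Matrix.ProjectiveSpecialLinearGroup (Fin n) F)) := by
  classical
  haveI := finite_seqs (F := F) 1 n n le_rfl
  letI := Fintype.ofFinite (Seqs F 1 n n)
  letI := Fintype.ofFinite (Subgroup.center SLn)
  have hZ : Nat.card (Subgroup.center SLn) = Nat.gcd n (Fintype.card F - 1) := by
    rw [Nat.card_congr (Matrix.SpecialLinearGroup.center_equiv_rootsOfUnity' (⟨0, hn⟩ : Fin n)).toEquiv]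
    have h : rootsOfUnity (Fintype.card (Fin n)) F = (powMonoidHom (Fintype.card (Fin n)) : Fˣ →* Fˣ).ker := by
      ext x; simp [mem_rootsOfUnity]
    rw [h, IsCyclic.card_powMonoidHom_ker, Nat.card_units, Nat.card_eq_fintype_card, Fintype.card_fin, Nat.gcd_comm]
  have hmain := card_quotient_mul_le (Subgroup.center SLn) le_rfl
  rw [hZ] at hmain
  have h1 : ∀ f : Subgroup.center SLn → ℕ, (∀ z : Subgroup.center SLn, Nat.card {C : ConjClasses SLn //
      ∀ y, ConjClasses.mk y = C → IsConj y ((z : SLn) * y)} ≤ f z ∨ z = 1) →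
      Nat.gcd n (Fintype.card F - 1) * Nat.card (ConjClasses (Matrix.ProjectiveSpecialLinearGroup (Fin n) F)) ≤
        Nat.card (ConjClasses SLn) + ∑ z ∈ Finset.univ.erase 1, f z := by
    intro f hf
    refine hmain.trans ?_
    rw [← Finset.add_sum_erase _ _ (Finset.mem_univ (1 : Subgroup.center SLn))]
    refine Nat.add_le_add ?_ (Finset.sum_le_sum fun z hz => (hf z).resolve_right (Finset.ne_of_mem_erase hz))
    exact Nat.card_le_card_of_injective _ Subtype.val_injective
  have hord : ∀ z : Subgroup.center SLn, orderOf (chi hn z) ∣ Nat.gcd n (Fintype.card F - 1) := fun z => by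
    rw [orderOf_injective _ (chi_injective hn), ← hZ]
    exact orderOf_dvd_natCard z
  refine ⟨?_, ?_, ?_⟩
  · refine (h1 (fun z => Nat.gcd (Fintype.card F - 1) (n / orderOf (chi hn z)) *
      AA (Fintype.card F) 1 (n / orderOf (chi hn z))) fun z => Or.inl ((card_fixed_le hn z).trans (sum_inv_le _))).trans ?_
    refine Nat.add_le_add_left ?_ _
    rw [← Finset.sum_fiberwise_of_maps_to (g := fun z => orderOf (chi hn z))
      (t := (Nat.gcd n (Fintype.card F - 1)).divisors.filter (fun r => 2 ≤ r))]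
    swap
    · intro z hz
      refine Finset.mem_filter.2 ⟨Nat.mem_divisors.2 ⟨hord z, ?_⟩, ?_⟩
      · exact (Nat.gcd_pos_of_pos_left _ hn).ne'
      · have h0 := orderOf_pos (chi hn z)
        have : orderOf (chi hn z) ≠ 1 := fun h => Finset.ne_of_mem_erase hz
          (chi_injective hn ((orderOf_eq_one_iff.1 h).trans (map_one _).symm))
        omega
    refine Finset.sum_le_sum fun r hr => ?_
    rw [Finset.sum_congr rfl (g := fun _ => Nat.gcd (Fintype.card F - 1) (n / r) * AA (Fintype.card F) 1 (n / r))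
      (fun z hz => by simp only [(Finset.mem_filter.1 hz).2]), Finset.sum_const, smul_eq_mul]
    refine Nat.mul_le_mul_right _ ?_
    refine le_trans (le_of_eq (Finset.card_image_of_injective _ (chi_injective hn)).symm) (le_trans
      (Finset.card_le_card (t := (Finset.univ.filter fun u : Fˣ => u ^ r = 1).erase 1) ?_) ?_)
    · intro u hu
      obtain ⟨z, hz, rfl⟩ := Finset.mem_image.1 hu
      obtain ⟨hz1, hz2⟩ := Finset.mem_filter.1 hz
      refine Finset.mem_erase.2 ⟨fun h => Finset.ne_of_mem_erase hz1 (chi_injective hn (h.trans (map_one _).symm)),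
        Finset.mem_filter.2 ⟨Finset.mem_univ _, ?_⟩⟩
      rw [← hz2]
      exact pow_orderOf_eq_one _
    · rw [Finset.card_erase_of_mem (by simp)]
      exact Nat.sub_le_sub_right (IsCyclic.card_pow_eq_one_le (by have := (Finset.mem_filter.1 hr).2; omega)) 1
  · rintro rfl
    refine (h1 (fun _ => 1) fun z => ?_).trans (Nat.add_le_add_left ?_ _)
    · by_cases hz : z = 1
      · exact Or.inr hz
      · exact Or.inl ((card_fixed_le hn z).trans (sum_inv_two_le fun h => hz (chi_injective hn (h.trans (map_one _).symm))))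
    · rw [Finset.sum_const, smul_eq_mul, mul_one, Finset.card_erase_of_mem (Finset.mem_univ _), Finset.card_univ,
        ← Nat.card_eq_fintype_card, hZ]
      have := Nat.le_of_dvd (by norm_num) (Nat.gcd_dvd_left 2 (Fintype.card F - 1))
      omega
  · rw [← hZ]
    exact card_le_card_quotient _ le_rfl

end Linear

end Cfsg.Agent.ClassNumberSL
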