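import Cfsg.Agent.MatModule.ClassNumberSL

/-!
# Arithmetic of the class number bounds
-/

set_option autoImplicit false

namespace Cfsg.Agent.ClassNumberSL

open Cfsg.Agent.ClassNumberGL

theorem AA_one_one {q : ℕ} (hq : 1 ≤ q) : AA q 1 1 = q - 1 := by
  have h := sum_eq_pow hq 1
  simp [Finset.sum_range_succ, AA_zero] at h
  omega

theorem AA_one_two {q : ℕ} (hq : 1 ≤ q) : AA q 1 2 + 1 = q ^ 2 := by
  have h := sum_eq_pow hq 2
  simp [Finset.sum_range_succ, AA_zero, AA_lt] at h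
  exact h

theorem AA_one_three {q : ℕ} (hq : 1 ≤ q) : AA q 1 3 + q = q ^ 3 := by
  have h := sum_eq_pow hq 3
  have h22 : AA q 2 2 = q - 1 := by
    rw [AA_sum q (by omega : 1 ≤ 2)]
    simp [Finset.sum_range_succ, AA_zero, AA_lt, cc]
  simp [Finset.sum_range_succ, AA_zero, AA_lt, h22] at h
  omega

theorem large_slBound {q n D : ℕ} (hq : 3 ≤ q) (hn : 8 ≤ n) (hD : D ≤ q - 1) :
    slBound q n D ≤ q ^ n + 2 * q ^ (n - 2) ∧ (q - 1) * fixBound q n D ≤ 2 * q ^ (n - 2) := by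
  have hq1 : 1 ≤ q := by omega
  have hA : ∀ k, AA q 1 k ≤ q ^ k := AA_one_le hq1
  have hcard : (D.divisors.filter (fun d => 2 ≤ d)).card ≤ q := by
    have := (Finset.card_filter_le D.divisors (fun d => 2 ≤ d)).trans (Nat.card_divisors_le_self D)
    omega
  have split : ∀ (f : ℕ → ℕ) (A B : ℕ), (∀ d ∈ D.divisors.filter (fun d => 2 ≤ d), d = 2 → f d ≤ A) →
      (∀ d ∈ D.divisors.filter (fun d => 2 ≤ d), 3 ≤ d → f d ≤ B) →
      ∑ d ∈ D.divisors.filter (fun d => 2 ≤ d), f d ≤ A + q * B := by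
    intro f A B hA hB
    refine (Finset.sum_le_sum (g := fun d => (if d = 2 then A else 0) + B) fun d hd => ?_).trans ?_
    · by_cases h : d = 2
      · rw [if_pos h]; exact (hA d hd h).trans (Nat.le_add_right _ _)
      · rw [if_neg h, zero_add]
        exact hB d hd (by have := (Finset.mem_filter.1 hd).2; omega)
    · rw [Finset.sum_add_distrib, Finset.sum_const, smul_eq_mul, Finset.sum_ite_eq']
      refine Nat.add_le_add ?_ (Nat.mul_le_mul_right _ hcard)
      split_ifs <;> omega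
  have hd3 : ∀ d, 3 ≤ d → n / d ≤ n / 3 := fun d hd => Nat.div_le_div_left hd (by norm_num)
  have hdq : ∀ d ∈ D.divisors.filter (fun d => 2 ≤ d), d ≤ q - 1 := fun d hd =>
    (Nat.divisor_le (Finset.mem_filter.1 hd).1).trans hD
  have hpow : ∀ {a b}, a ≤ b → q ^ a ≤ q ^ b := fun h => Nat.pow_le_pow_right (by omega) h
  constructor
  · have h := split (fun d => (d * d - 1) * AA q 1 (n / d)) (3 * q ^ (n / 2)) (q ^ (n / 3 + 2))
      (fun d _ hd => by subst hd; exact Nat.mul_le_mul_left 3 (hA _))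
      (fun d hd hd' => by
        have : d * d - 1 ≤ q ^ 2 := by
          have := hdq d hd
          have : d * d ≤ q * q := Nat.mul_le_mul (by omega) (by omega)
          rw [pow_two]; omega
        rw [add_comm (n / 3), pow_add]
        exact Nat.mul_le_mul this ((hA _).trans (hpow (hd3 d hd'))))
    have e1 : 3 * q ^ (n / 2) ≤ q ^ (n - 2) :=
      le_trans (by rw [pow_succ']; exact Nat.mul_le_mul_right _ hq) (hpow (show n / 2 + 1 ≤ n - 2 by omega))
    have e2 : q * q ^ (n / 3 + 2) ≤ q ^ (n - 2) := by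
      rw [← pow_succ']; exact hpow (by omega)
    have e3 := hA n
    unfold slBound
    omega
  · have h := split (fun r => (r - 1) * (Nat.gcd (q - 1) (n / r) * AA q 1 (n / r))) (q ^ (n / 2 + 1))
      (q ^ (n / 3 + 2))
      (fun d _ hd => by
        subst hd
        rw [pow_succ', show 2 - 1 = 1 from rfl, one_mul]
        exact Nat.mul_le_mul ((Nat.gcd_le_left _ (by omega)).trans (by omega)) (hA _))
      (fun d hd hd' => by
        rw [pow_succ', pow_succ']
        exact Nat.mul_le_mul (by have := hdq d hd; omega) (Nat.mul_le_mul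
          ((Nat.gcd_le_left _ (by omega)).trans (by omega)) ((hA _).trans (hpow (hd3 d hd')))))
    have e1 : q * q ^ (n / 2 + 1) ≤ q ^ (n - 2) := by
      rw [← pow_succ']; exact hpow (by omega)
    have e2 : q * (q * q ^ (n / 3 + 2)) ≤ q ^ (n - 2) := by
      rw [← pow_succ', ← pow_succ']; exact hpow (by omega)
    have h2 := Nat.mul_le_mul (show q - 1 ≤ q by omega) h
    rw [mul_add] at h2
    unfold fixBound
    omega

/-- The two estimates needed. -/
def Good (q n D : ℕ) : Prop :=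
  slBound q n D ≤ (q - 1) * (q ^ (n - 1) + 3 * q ^ (n - 2)) ∧
    slBound q n D + (q - 1) * fixBound q n D ≤ (q - 1) * (q ^ (n - 1) + 5 * q ^ (n - 2))

theorem good {q n D : ℕ} (hq : 2 ≤ q) (hn : 3 ≤ n) (hD : D = Nat.gcd n (q - 1)) : Good q n D := by
  have hq1 : 1 ≤ q := by omega
  have hA : ∀ k, AA q 1 k ≤ q ^ k := AA_one_le hq1
  have a1 := AA_one_one hq1
  have a2 := AA_one_two hq1
  have a3 := AA_one_three hq1
  obtain ⟨k, rfl⟩ : ∃ k, n = k + 2 := ⟨n - 2, by omega⟩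
  have hDn : D ∣ k + 2 := hD ▸ Nat.gcd_dvd_left _ _
  have hDq : D ∣ q - 1 := hD ▸ Nat.gcd_dvd_right _ _
  have hDle : D ≤ q - 1 := Nat.le_of_dvd (by omega) hDq
  have hDpos : 0 < D := Nat.pos_of_dvd_of_pos hDn (by omega)
  unfold Good
  rw [show k + 2 - 1 = k + 1 by omega, Nat.add_sub_cancel]
  by_cases hD1 : D = 1
  · subst hD1
    have e1 : slBound q (k + 2) 1 = AA q 1 (k + 2) := by simp [slBound, Finset.sum_filter]
    have e2 : fixBound q (k + 2) 1 = 0 := by simp [fixBound, Finset.sum_filter]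
    rw [e1, e2, mul_zero, add_zero]
    have h := hA (k + 2)
    obtain ⟨m, rfl⟩ : ∃ m, q = m + 2 := ⟨q - 2, by omega⟩
    rw [show m + 2 - 1 = m + 1 by omega]
    have hp : (m + 2) ^ (k + 2) = (m + 2) ^ k * (m + 2) * (m + 2) := by rw [pow_succ, pow_succ]
    have hp1 : (m + 2) ^ (k + 1) = (m + 2) ^ k * (m + 2) := pow_succ _ _
    have hpos : 0 < (m + 2) ^ k := Nat.pow_pos (by omega)
    constructor <;> nlinarith
  by_cases hbig : 6 ≤ k
  · obtain ⟨h1, h2⟩ := large_slBound (q := q) (n := k + 2) (D := D) (by omega) (by omega) hDle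
    rw [Nat.add_sub_cancel] at h1 h2
    obtain ⟨m, rfl⟩ : ∃ m, q = m + 3 := ⟨q - 3, by omega⟩
    rw [show m + 3 - 1 = m + 2 by omega] at h2 ⊢
    have hp : (m + 3) ^ (k + 2) = (m + 3) ^ k * (m + 3) * (m + 3) := by rw [pow_succ, pow_succ]
    have hp1 : (m + 3) ^ (k + 1) = (m + 3) ^ k * (m + 3) := pow_succ _ _
    constructor <;> nlinarith
  have hcases : (k = 1 ∧ D = 3) ∨ (k = 2 ∧ (D = 2 ∨ D = 4)) ∨ (k = 3 ∧ D = 5) ∨
      (k = 4 ∧ (D = 2 ∨ D = 3 ∨ D = 6)) ∨ (k = 5 ∧ D = 7) := by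
    have : k < 6 := by omega
    have := Nat.le_of_dvd (by omega) hDn
    interval_cases k <;> interval_cases D <;> first | omega | norm_num at hDn
  have g1 : Nat.gcd (q - 1) 1 = 1 := Nat.gcd_one_right _
  have g2 : Nat.gcd (q - 1) 2 ≤ 2 := Nat.gcd_le_right _ (by norm_num)
  have g3 : Nat.gcd (q - 1) 3 ≤ 3 := Nat.gcd_le_right _ (by norm_num)
  have v3 : (3 : ℕ).divisors = {1, 3} := by decide
  have v2 : (2 : ℕ).divisors = {1, 2} := by decide
  have v4 : (4 : ℕ).divisors = {1, 2, 4} := by decide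
  have v5 : (5 : ℕ).divisors = {1, 5} := by decide
  have v6 : (6 : ℕ).divisors = {1, 2, 3, 6} := by decide
  have v7 : (7 : ℕ).divisors = {1, 7} := by decide
  have h4 := hA 4
  have h5 := hA 5
  have h6 := hA 6
  have h7 := hA 7
  rcases hcases with ⟨rfl, rfl⟩ | ⟨rfl, rfl | rfl⟩ | ⟨rfl, rfl⟩ | ⟨rfl, rfl | rfl | rfl⟩ | ⟨rfl, rfl⟩ <;>
    simp [slBound, fixBound, Finset.sum_filter, v2, v3, v4, v5, v6, v7, a1, g1]
  · obtain ⟨m, rfl⟩ : ∃ m, q = m + 4 := ⟨q - 4, by omega⟩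
    simp only [show m + 4 - 1 = m + 3 by omega] at *
    constructor <;> nlinarith
  · obtain ⟨m, rfl⟩ : ∃ m, q = m + 3 := ⟨q - 3, by omega⟩
    simp only [show m + 3 - 1 = m + 2 by omega] at *
    constructor <;> nlinarith [Nat.mul_le_mul_right (AA (m + 3) 1 2) g2]
  · obtain ⟨m, rfl⟩ : ∃ m, q = m + 5 := ⟨q - 5, by omega⟩
    simp only [show m + 5 - 1 = m + 4 by omega] at *
    constructor <;> nlinarith [Nat.mul_le_mul_right (AA (m + 5) 1 2) g2]
  · obtain ⟨m, rfl⟩ : ∃ m, q = m + 6 := ⟨q - 6, by omega⟩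
    simp only [show m + 6 - 1 = m + 5 by omega] at *
    constructor <;> nlinarith
  · obtain ⟨m, rfl⟩ : ∃ m, q = m + 3 := ⟨q - 3, by omega⟩
    simp only [show m + 3 - 1 = m + 2 by omega] at *
    constructor <;> nlinarith [Nat.mul_le_mul g3 (hA 3)]
  · obtain ⟨m, rfl⟩ : ∃ m, q = m + 4 := ⟨q - 4, by omega⟩
    simp only [show m + 4 - 1 = m + 3 by omega] at *
    constructor <;> nlinarith [Nat.mul_le_mul g2 (hA 2)]
  · obtain ⟨m, rfl⟩ : ∃ m, q = m + 7 := ⟨q - 7, by omega⟩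
    simp only [show m + 7 - 1 = m + 6 by omega] at *
    constructor <;> nlinarith [Nat.mul_le_mul g2 (hA 2), Nat.mul_le_mul g3 (hA 3)]
  · obtain ⟨m, rfl⟩ : ∃ m, q = m + 8 := ⟨q - 8, by omega⟩
    simp only [show m + 8 - 1 = m + 7 by omega] at *
    constructor <;> nlinarith

end Cfsg.Agent.ClassNumberSL
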