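import Cfsg.Agent.MatModule.UnitarySeqCount

/-!
# An upper bound for the number of self-dual sequences
-/

set_option autoImplicit false

namespace Cfsg.Agent.USeq

/-- Scaled partial sums. -/
def TT (q m N : ℕ) : ℚ := ∑ n ∈ Finset.range N, (BB q m n : ℚ) / (q : ℚ) ^ n

theorem TT_nonneg (q m N : ℕ) : 0 ≤ TT q m N :=
  Finset.sum_nonneg fun n _ => by positivity

theorem TT_of_le (q : ℕ) {m N : ℕ} (h : N ≤ m) : TT q m N ≤ 1 := by
  rcases N with _ | N
  · simp [TT]
  rw [TT, Finset.sum_range_succ', Finset.sum_eq_zero]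
  · simp [BB_zero]
  · intro n hn
    rw [Finset.mem_range] at hn
    rw [BB_lt q (Nat.succ_ne_zero n) (show n + 1 < m by omega)]
    simp

/-- The weight of one step. -/
theorem TT_step {q : ℕ} (hq : 2 ≤ q) {m : ℕ} (hm : 2 ≤ m) (N : ℕ) :
    TT q m N ≤ (1 + 3 / 2 / ((2 : ℚ) ^ (m - 1) - 1)) * TT q (m + 1) N := by
  have hq0 : (0 : ℚ) < q := by exact_mod_cast (show 0 < q by omega)
  set r : ℚ := (1 / (q : ℚ) ^ (m - 1)) with hr
  have hr0 : 0 ≤ r := by positivity
  have hrle : r ≤ 1 / (2 : ℚ) ^ (m - 1) := by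
    rw [hr]
    gcongr
    exact_mod_cast hq
  have h2 : (2 : ℚ) ≤ 2 ^ (m - 1) := le_self_pow₀ one_le_two (by omega)
  -- bound each coefficient
  have hterm : ∀ j : ℕ, (uc q j : ℚ) / (q : ℚ) ^ (m * j) ≤ if j = 0 then 1 else 3 / 2 * r ^ j := by
    intro j
    cases j with
    | zero => simp [uc]
    | succ j =>
      rw [if_neg (Nat.succ_ne_zero j), hr, one_div_pow, ← pow_mul, uc, Nat.cast_mul, Nat.cast_pow, Nat.cast_add,
        Nat.cast_one]
      have e : m * (j + 1) = (m - 1) * (j + 1) + (j + 1) := by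
        rw [← add_one_mul, Nat.sub_add_cancel (by omega : 1 ≤ m)]
      rw [e, pow_add, div_le_iff₀ (by positivity)]
      have hq2 : (2 : ℚ) ≤ q := by exact_mod_cast hq
      have hp : (0 : ℚ) < (q : ℚ) ^ j := by positivity
      have hX : (q : ℚ) ^ ((m - 1) * (j + 1)) ≠ 0 := by positivity
      have e2 : 3 / 2 * (1 / (q : ℚ) ^ ((m - 1) * (j + 1))) * ((q : ℚ) ^ ((m - 1) * (j + 1)) * (q : ℚ) ^ (j + 1)) =
          3 / 2 * (q : ℚ) ^ j * q := by
        rw [pow_succ]; field_simp
      rw [e2]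
      nlinarith
  have hgeom : ∑ j ∈ Finset.range N, (if j = 0 then (1 : ℚ) else 3 / 2 * r ^ j) ≤
      1 + 3 / 2 / ((2 : ℚ) ^ (m - 1) - 1) := by
    cases N with
    | zero =>
      simp only [Finset.range_zero, Finset.sum_empty]
      have : (0 : ℚ) ≤ 3 / 2 / ((2 : ℚ) ^ (m - 1) - 1) := div_nonneg (by norm_num) (by linarith)
      linarith
    | succ N =>
      rw [Finset.sum_range_succ', if_pos rfl]
      simp only [Nat.succ_ne_zero, if_false]
      rw [add_comm, ← Finset.mul_sum]
      refine add_le_add_right ?_ _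
      set R : ℚ := 1 / (2 : ℚ) ^ (m - 1) with hR
      have hR1 : R < 1 := by rw [hR, div_lt_one (by positivity)]; linarith
      have hsum : ∑ j ∈ Finset.range N, r ^ (j + 1) ≤ R / (1 - R) := by
        calc ∑ j ∈ Finset.range N, r ^ (j + 1) ≤ ∑ j ∈ Finset.range N, R ^ (j + 1) :=
              Finset.sum_le_sum fun j _ => pow_le_pow_left₀ hr0 hrle _
          _ = R * ∑ j ∈ Finset.range N, R ^ j := by
              rw [Finset.mul_sum]; exact Finset.sum_congr rfl fun j _ => by rw [pow_succ']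
          _ ≤ R * (1 / (1 - R)) := by
              refine mul_le_mul_of_nonneg_left ?_ (by positivity)
              rw [geom_sum_eq hR1.ne, le_div_iff₀ (by linarith), div_mul_eq_mul_div, div_le_iff_of_neg (by linarith)]
              have : 0 ≤ R ^ N := by positivity
              nlinarith
          _ = R / (1 - R) := by ring
      calc 3 / 2 * ∑ j ∈ Finset.range N, r ^ (j + 1) ≤ 3 / 2 * (R / (1 - R)) :=
            mul_le_mul_of_nonneg_left hsum (by norm_num)
        _ = 3 / 2 / ((2 : ℚ) ^ (m - 1) - 1) := by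
            have h3 : (2 : ℚ) ^ (m - 1) - 1 ≠ 0 := by linarith
            rw [hR]; field_simp
  calc TT q m N
      = ∑ n ∈ Finset.range N, ∑ j ∈ Finset.range N,
          (if m * j ≤ n then ((uc q j : ℚ) / (q : ℚ) ^ (m * j)) * ((BB q (m + 1) (n - m * j) : ℚ) / (q : ℚ) ^ (n - m * j)) else 0) := by
        refine Finset.sum_congr rfl fun n hn => ?_
        rw [Finset.mem_range] at hn
        rw [BB_sum q (by omega : 1 ≤ m), Nat.cast_sum, Finset.sum_div, ← Finset.sum_filter]
        refine Finset.sum_congr ?_ fun j hj => ?_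
        · ext j
          rw [Finset.mem_range, Finset.mem_filter, Finset.mem_range, Nat.lt_succ_iff,
            Nat.le_div_iff_mul_le (by omega), mul_comm j]
          refine ⟨fun h => ⟨lt_of_le_of_lt ((Nat.le_mul_of_pos_left j (by omega)).trans h) hn, h⟩, fun h => h.2⟩
        · have hle : m * j ≤ n := (Finset.mem_filter.1 hj).2
          rw [Nat.cast_mul, div_mul_div_comm, ← pow_add, Nat.add_sub_cancel' hle]
    _ = ∑ j ∈ Finset.range N, ((uc q j : ℚ) / (q : ℚ) ^ (m * j)) *
          ∑ n ∈ Finset.range N, (if m * j ≤ n then (BB q (m + 1) (n - m * j) : ℚ) / (q : ℚ) ^ (n - m * j) else 0) := by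
        rw [Finset.sum_comm]
        refine Finset.sum_congr rfl fun j _ => ?_
        rw [Finset.mul_sum]
        exact Finset.sum_congr rfl fun n _ => by split_ifs <;> simp
    _ ≤ ∑ j ∈ Finset.range N, (if j = 0 then (1 : ℚ) else 3 / 2 * r ^ j) * TT q (m + 1) N := by
        refine Finset.sum_le_sum fun j _ => mul_le_mul (hterm j) ?_ (Finset.sum_nonneg fun n _ => ?_) ?_
        · rw [← Finset.sum_filter]
          have himg : ((Finset.range N).filter fun n => m * j ≤ n).image (fun n => n - m * j) ⊆ Finset.range N := by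
            intro x hx
            simp only [Finset.mem_image, Finset.mem_filter, Finset.mem_range] at hx ⊢
            obtain ⟨n, ⟨hn, -⟩, rfl⟩ := hx
            omega
          refine le_trans ?_ (Finset.sum_le_sum_of_subset_of_nonneg himg fun n _ _ => by positivity)
          rw [Finset.sum_image (f := fun n => (BB q (m + 1) n : ℚ) / (q : ℚ) ^ n)]
          intro a ha b hb h
          have ha' := (Finset.mem_filter.1 ha).2
          have hb' := (Finset.mem_filter.1 hb).2
          simp only at h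
          omega
        · split_ifs <;> positivity
        · split_ifs <;> positivity
    _ ≤ _ := by
        rw [← Finset.sum_mul]
        exact mul_le_mul_of_nonneg_right hgeom (TT_nonneg _ _ _)

theorem TT_tail {q : ℕ} (hq : 2 ≤ q) (N : ℕ) : ∀ k m, 6 ≤ m → N ≤ m + k → TT q m N ≤ 1 + 7 / (2 : ℚ) ^ m := by
  intro k
  induction k with
  | zero =>
    intro m _ h
    have := TT_of_le q (show N ≤ m from h)
    have : (0 : ℚ) ≤ 7 / (2 : ℚ) ^ m := by positivity
    linarith
  | succ k ih =>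
    intro m hm h
    have h1 := TT_step hq (show 2 ≤ m by omega) N
    have h2 := ih (m + 1) (by omega) (by omega)
    have hM : (64 : ℚ) ≤ 2 ^ m := by
      calc (64 : ℚ) = 2 ^ 6 := by norm_num
        _ ≤ 2 ^ m := pow_le_pow_right₀ one_le_two hm
    have e1 : (2 : ℚ) ^ (m - 1) = 2 ^ m / 2 := by
      rw [eq_div_iff (two_ne_zero), ← pow_succ, Nat.sub_add_cancel (by omega : 1 ≤ m)]
    have e2 : (2 : ℚ) ^ (m + 1) = 2 ^ m * 2 := pow_succ _ _
    rw [e2] at h2
    rw [e1] at h1
    refine h1.trans ((mul_le_mul_of_nonneg_left h2 ?_).trans ?_)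
    · have : (0 : ℚ) ≤ 3 / 2 / ((2 : ℚ) ^ m / 2 - 1) := div_nonneg (by norm_num) (by linarith)
      linarith
    · generalize (2 : ℚ) ^ m = M at hM
      have hM1 : (0 : ℚ) < M / 2 - 1 := by linarith
      rw [← sub_nonneg]
      have e : 1 + 7 / M - (1 + 3 / 2 / (M / 2 - 1)) * (1 + 7 / (M * 2)) =
          (7 / 2 / M * (M / 2 - 1) - 3 / 2 * (1 + 7 / 2 / M)) / (M / 2 - 1) := by
        rw [eq_div_iff hM1.ne']
        have hc : 3 / 2 / (M / 2 - 1) * (M / 2 - 1) = 3 / 2 := div_mul_cancel₀ _ hM1.ne'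
        linear_combination (-(1 + 7 / (M * 2))) * hc
      rw [e]
      refine div_nonneg ?_ hM1.le
      have : 7 / 2 / M * (M / 2 - 1) - 3 / 2 * (1 + 7 / 2 / M) = (M - 35) / (4 * M) := by
        field_simp
        ring
      rw [this]
      exact div_nonneg (by linarith) (by linarith)

theorem TT_two {q : ℕ} (hq : 2 ≤ q) (N : ℕ) : TT q 2 N ≤ 557 / 100 := by
  have h6 := TT_tail hq N N 6 le_rfl (by omega)
  have h5 := TT_step hq (show 2 ≤ 5 by omega) N
  have h4 := TT_step hq (show 2 ≤ 4 by omega) N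
  have h3 := TT_step hq (show 2 ≤ 3 by omega) N
  have h2 := TT_step hq (le_refl 2) N
  norm_num at h2 h3 h4 h5 h6
  linarith

theorem BB_one_le {q : ℕ} (hq : 2 ≤ q) {n : ℕ} (hn : 1 ≤ n) :
    100 * BB q 1 n ≤ 557 * ((q + 1) * q ^ (n - 1)) := by
  have hq0 : (0 : ℚ) < q := by exact_mod_cast (show 0 < q by omega)
  have hT := TT_two hq (n + 1)
  have h : (BB q 1 n : ℚ) ≤ ((q : ℚ) + 1) * (q : ℚ) ^ (n - 1) * TT q 2 (n + 1) := by
    rw [BB_sum q le_rfl, Nat.div_one, Nat.cast_sum, TT, ← Finset.sum_range_reflect, Finset.mul_sum]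
    refine Finset.sum_le_sum fun i hi => ?_
    rw [Finset.mem_range] at hi
    rw [Nat.add_sub_cancel, one_mul, Nat.sub_sub_self (by omega : i ≤ n), Nat.cast_mul]
    have key : (uc q (n - i) : ℚ) * (q : ℚ) ^ i ≤ ((q : ℚ) + 1) * (q : ℚ) ^ (n - 1) := by
      rcases Nat.eq_zero_or_pos (n - i) with h0 | h0
      · obtain rfl : i = n := by omega
        rw [h0]
        have e : (q : ℚ) ^ i = (q : ℚ) * (q : ℚ) ^ (i - 1) := by rw [← pow_succ']; congr 1; omega
        have hp : (0 : ℚ) < (q : ℚ) ^ (i - 1) := by positivity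
        simp only [uc, Nat.cast_one, one_mul, e]
        nlinarith
      · obtain ⟨k, hk⟩ : ∃ k, n - i = k + 1 := ⟨n - i - 1, by omega⟩
        rw [hk, uc, Nat.cast_mul, Nat.cast_add, Nat.cast_one, Nat.cast_pow, mul_assoc, ← pow_add,
          show k + i = n - 1 by omega]
    rw [one_add_one_eq_two]
    calc (uc q (n - i) : ℚ) * (BB q 2 i : ℚ) = ((uc q (n - i) : ℚ) * (q : ℚ) ^ i) * ((BB q 2 i : ℚ) / (q : ℚ) ^ i) := by
          field_simp
      _ ≤ _ := mul_le_mul_of_nonneg_right key (by positivity)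
  have : (100 * BB q 1 n : ℚ) ≤ 557 * (((q : ℚ) + 1) * (q : ℚ) ^ (n - 1)) := by
    have hpos : (0 : ℚ) ≤ ((q : ℚ) + 1) * (q : ℚ) ^ (n - 1) := by positivity
    nlinarith [mul_le_mul_of_nonneg_left hT hpos]
  exact_mod_cast this

end Cfsg.Agent.USeq
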