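import Cfsg.Agent.MatModule.UnitarySeqForm
import Cfsg.Agent.MatModule.UnitarySeqBound
import Cfsg.Agent.MatModule.ClassNumberSL

/-!
# The class number of the special unitary group
-/

set_option autoImplicit false

namespace Cfsg.Agent.USeq

open Polynomial Cfsg.Agent.ClassNumberGL Cfsg.Agent.SeqCount Cfsg.Agent.UnitaryConj Cfsg.Agent.Classical
  Cfsg.Agent.Classical.Herm

variable {F : Type*} [Field F] [Fintype F] {σ : F →+* F} {n q : ℕ}

theorem det_mem_norm_ker (hσq : ∀ x, σ x = x ^ q) {T : GL (Fin n) F} (hT : T ∈ Cfsg.GU n F q) :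
    Matrix.GeneralLinearGroup.det T ∈ (normHom σ).ker := by
  rw [mem_norm_ker]
  have h := congrArg Matrix.det ((mem_GU_iff_adj hσq T).1 hT)
  rw [Matrix.det_mul, det_adj, Matrix.det_one, mul_comm] at h
  exact h

open _root_.Classical in
theorem card_su_le (hσ : IsInvol σ) (hσq : ∀ x, σ x = x ^ q) (hfixc : Nat.card (fixField σ) = q)
    [Fintype (USeqs σ 1 n n)] :
    Nat.card (ConjClasses (Cfsg.SU n F q)) ≤
      ∑ g ∈ Finset.univ.filter (fun g : USeqs σ 1 n n => sdet g.1 = 1), GU' q (Sg g.1) := by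
  let Y : Cfsg.SU n F q → GL (Fin n) F := fun y => Matrix.SpecialLinearGroup.toGL y.1
  have hY : ∀ y, Y y ∈ Cfsg.GU n F q := fun y => (mem_GU_iff hσq _).2 ((mem_SU_iff hσq y.1).1 y.2)
  have hdet1 : ∀ y, (Y y).1.det = 1 := fun y => y.1.2
  have hex : ∀ y, ∃ g : USeqs σ 1 n n, HasSeq (Matrix.toLin' (Y y).1) n g.1 ∧ sdet g.1 = 1 := by
    intro y
    obtain ⟨g, hg, hs⟩ := ClassNumberSL.exists_seq_sl y.1
    exact ⟨⟨g.1, fun j => ⟨(g.2.1 j).1, (g.2.1 j).2, dual_fix hσ hσq (hY y) (g := g) hg j⟩, g.2.2⟩, hg, hs⟩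
  choose seq hseq hsdet using hex
  have hbase : ∀ g : USeqs σ 1 n n, ∃ Y₀ : GL (Fin n) F,
      ∀ y, seq y = g → Y₀ ∈ Cfsg.GU n F q ∧ HasSeq (Matrix.toLin' Y₀.1) n g.1 := by
    intro g
    by_cases h : ∃ y, seq y = g
    · obtain ⟨y, rfl⟩ := h
      exact ⟨Y y, fun _ _ => ⟨hY y, hseq y⟩⟩
    · exact ⟨1, fun y hy => absurd ⟨y, hy⟩ h⟩
  choose base hbase using hbase
  have hth : ∀ y, ∃ U ∈ Cfsg.GU n F q, U * base (seq y) * U⁻¹ = Y y := by
    intro y
    obtain ⟨h1, h2⟩ := hbase _ y rfl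
    obtain ⟨Θ, hΘ⟩ := conj_of_hasSeq _ _ h2 (hseq y)
    let T : GL (Fin n) F := Units.map
      (Matrix.toLinAlgEquiv'.symm : Module.End F (Fin n → F) ≃ₐ[F] _).toAlgHom.toRingHom.toMonoidHom
      (LinearMap.GeneralLinearGroup.ofLinearEquiv Θ)
    refine exists_unitary_conj hσ hσq h1 (hY y) (P := T) (mul_inv_eq_iff_eq_mul.2 (Units.ext (Matrix.toLin'.injective ?_)))
    have hT : Matrix.toLin' T.1 = (Θ : (Fin n → F) →ₗ[F] Fin n → F) := Matrix.toLin'_toMatrix' _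
    rw [Units.val_mul, Units.val_mul, Matrix.toLin'_mul, Matrix.toLin'_mul, hT]
    exact LinearMap.ext hΘ
  choose Θ hΘU hΘ using hth
  let dΘ : Cfsg.SU n F q → (normHom σ).ker := fun y => ⟨_, det_mem_norm_ker hσq (hΘU y)⟩
  let R := fun g : {g // g ∈ Finset.univ.filter (fun g : USeqs σ 1 n n => sdet g.1 = 1)} =>
    (normHom σ).ker ⧸ (powMonoidHom (GU' q (Sg g.1.1)) : (normHom σ).ker →* (normHom σ).ker).range
  have hrep : ∀ C : ConjClasses (Cfsg.SU n F q), ∃ y, ConjClasses.mk y = C := fun C => C.exists_rep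
  choose rep hr using hrep
  let f : ConjClasses (Cfsg.SU n F q) → Σ g, R g := fun C =>
    ⟨⟨seq (rep C), Finset.mem_filter.2 ⟨Finset.mem_univ _, hsdet _⟩⟩, QuotientGroup.mk (dΘ (rep C))⟩
  have key : ∀ y y', seq y = seq y' →
      (dΘ y)⁻¹ * dΘ y' ∈ (powMonoidHom (GU' q (Sg (seq y).1)) : (normHom σ).ker →* (normHom σ).ker).range →
      IsConj y y' := by
    intro y y' hg hu
    obtain ⟨u, hu⟩ := hu
    obtain ⟨hY₀, hs₀⟩ := hbase _ y rfl
    let D : Subgroup (normHom σ).ker :=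
      { carrier := {d | ∃ W ∈ Cfsg.GU n F q, Commute W (base (seq y)) ∧ Matrix.GeneralLinearGroup.det W = d.1}
        one_mem' := ⟨1, one_mem _, Commute.one_left _, map_one _⟩
        mul_mem' := by
          rintro a b ⟨A, hA, hA', ha⟩ ⟨B, hB, hB', hb⟩
          exact ⟨A * B, mul_mem hA hB, hA'.mul_left hB', by rw [map_mul, ha, hb]; rfl⟩
        inv_mem' := by
          rintro a ⟨A, hA, hA', ha⟩
          exact ⟨A⁻¹, inv_mem hA, hA'.inv_left, by rw [map_inv, ha]; rfl⟩ }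
    have hD : ∀ j ∈ Sg (seq y).1, ∀ v : (normHom σ).ker, v ^ (j.val + 1) ∈ D := by
      intro j hj v
      obtain ⟨z, hz, hzv⟩ := exists_conj_quot hσ (mem_norm_ker.1 v.2)
      obtain ⟨W, hW, hWc, hWd⟩ := exists_unitary_commute_det hσ hσq hY₀
        (g := ⟨(seq y).1, fun i => ⟨((seq y).2.1 i).1, ((seq y).2.1 i).2.1⟩, (seq y).2.2⟩) hs₀ (mem_Sg.1 hj) hz
      refine ⟨W, hW, hWc, Units.ext ?_⟩
      rw [Matrix.GeneralLinearGroup.val_det_apply, hWd, hzv, SubmonoidClass.coe_pow, Units.val_pow_eq_pow_val]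
    obtain ⟨w, hw⟩ := exists_exponents (σ := σ) (n := n) hσ hfixc (Sg (seq y).1)
    have hmem : u ^ GU' q (Sg (seq y).1) ∈ D := by
      rw [hw]; exact D.prod_mem fun j hj => D.zpow_mem (hD j hj u) _
    obtain ⟨W, hW, hWc, hWd⟩ := D.inv_mem hmem
    set T : GL (Fin n) F := Θ y' * W * (Θ y)⁻¹ with hT
    have hTU : T ∈ Cfsg.GU n F q := mul_mem (mul_mem (hΘU y') hW) (inv_mem (hΘU y))
    have hTd : T.1.det = 1 := by
      have e : Matrix.GeneralLinearGroup.det T = 1 := by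
        rw [powMonoidHom_apply] at hu
        have hu' := congrArg Subtype.val hu
        rw [hT, map_mul, map_mul, map_inv, hWd]
        rw [Subgroup.coe_inv, hu']
        show _ * ((Matrix.GeneralLinearGroup.det (Θ y))⁻¹ * Matrix.GeneralLinearGroup.det (Θ y'))⁻¹ * _ = 1
        rw [mul_inv_rev, inv_inv, mul_inv_cancel_left, mul_inv_cancel]
      exact congrArg Units.val e
    let s : Cfsg.SU n F q := ⟨⟨T.1, hTd⟩, (mem_SU_iff hσq _).2 ((mem_GU_iff hσq T).1 hTU)⟩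
    refine isConj_iff.2 ⟨s, ?_⟩
    have hinj : Function.Injective Y := fun a b hab => Subtype.ext (Subtype.ext (congrArg Units.val hab))
    apply hinj
    have e : Y (s * y * s⁻¹) = T * Y y * T⁻¹ := by
      have hs : Y s = T := Units.ext rfl
      rw [← hs]
      simp only [Y, Subgroup.coe_mul, InvMemClass.coe_inv, map_mul, map_inv]
    rw [e, ← hΘ y, ← hΘ y', ← hg, hT]
    calc Θ y' * W * (Θ y)⁻¹ * (Θ y * base (seq y) * (Θ y)⁻¹) * (Θ y' * W * (Θ y)⁻¹)⁻¹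
        = Θ y' * (W * base (seq y)) * W⁻¹ * (Θ y')⁻¹ := by group
      _ = Θ y' * base (seq y) * (Θ y')⁻¹ := by rw [hWc.eq]; group
  have hf : Function.Injective f := by
    intro a b h
    have h1 : seq (rep a) = seq (rep b) := congrArg (fun x => x.1.1) h
    have h2 : (dΘ (rep a))⁻¹ * dΘ (rep b) ∈
        (powMonoidHom (GU' q (Sg (seq (rep a)).1)) : (normHom σ).ker →* (normHom σ).ker).range := by
      have hgen : ∀ (x y : Σ g, R g), x = y → ∀ (p r : (normHom σ).ker), x.2 = QuotientGroup.mk p →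
          y.2 = QuotientGroup.mk r →
          p⁻¹ * r ∈ (powMonoidHom (GU' q (Sg x.1.1.1)) : (normHom σ).ker →* (normHom σ).ker).range := by
        rintro x y rfl p r hp hr'
        exact QuotientGroup.eq.1 (hp.symm.trans hr')
      exact hgen _ _ h _ _ rfl rfl
    exact (hr a).symm.trans ((ConjClasses.mk_eq_mk_iff_isConj.2 (key _ _ h1 h2)).trans (hr b))
  refine (Nat.card_le_card_of_injective f hf).trans ?_
  rw [Nat.card_sigma, ← Finset.sum_coe_sort (Finset.univ.filter (fun g : USeqs σ 1 n n => sdet g.1 = 1))]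
  refine le_of_eq (Finset.sum_congr rfl fun g _ => ?_)
  rw [← Subgroup.index_eq_card, IsCyclic.index_powMonoidHom_range, card_norm_one hσ hfixc]
  exact Nat.gcd_eq_right (Nat.gcd_dvd_left _ _)

/-- Bound on `(q + 1)` times the class number. -/
def suBound (q n D : ℕ) : ℕ :=
  BB q 1 n + ∑ d ∈ D.divisors.filter (fun d => 2 ≤ d), (d * d - 1) * BB q 1 (n / d)

theorem BB_one_one (q : ℕ) : BB q 1 1 = q + 1 := by
  rw [BB_sum q le_rfl]
  simp [Finset.sum_range_succ, BB_zero, BB_lt, uc]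

theorem BB_one_two (q : ℕ) : BB q 1 2 = (q + 1) * (q + 1) := by
  rw [BB_sum q le_rfl]
  have h22 : BB q 2 2 = q + 1 := by
    rw [BB_sum q (by omega : 1 ≤ 2)]
    simp [Finset.sum_range_succ, BB_zero, BB_lt, uc]
  simp [Finset.sum_range_succ, BB_zero, BB_lt, uc, h22]
  ring

theorem suBound_le {q n D : ℕ} (hq : 2 ≤ q) (hn : 2 ≤ n) (hD : D = Nat.gcd n (q + 1)) :
    100 * suBound q n D ≤ 826 * ((q + 1) * q ^ (n - 1)) := by
  have hB : ∀ k, 1 ≤ k → 100 * BB q 1 k ≤ 557 * ((q + 1) * q ^ (k - 1)) := fun k hk => BB_one_le hq hk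
  have b1 := BB_one_one q
  have b2 := BB_one_two q
  have hn1 := hB n (by omega)
  have hDn : D ∣ n := hD ▸ Nat.gcd_dvd_left _ _
  have hDq : D ∣ q + 1 := hD ▸ Nat.gcd_dvd_right _ _
  have hDle : D ≤ q + 1 := Nat.le_of_dvd (by omega) hDq
  have hDpos : 0 < D := Nat.pos_of_dvd_of_pos hDn (by omega)
  by_cases hbig : 9 ≤ n
  · set S := D.divisors.filter (fun d => 2 ≤ d) with hS
    set W := (q + 1) * q ^ (n - 1) with hW
    -- each divisor, scaled by a power of `q`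
    have hd2 : ∀ d ∈ S, d = 2 → q ^ 4 * (100 * ((d * d - 1) * BB q 1 (n / d))) ≤ 1671 * W := by
      intro d _ hd
      subst hd
      have hpow : q ^ (n / 2 - 1) * q ^ 4 ≤ q ^ (n - 1) := by
        rw [← pow_add]; exact Nat.pow_le_pow_right (by omega) (by omega)
      calc q ^ 4 * (100 * ((2 * 2 - 1) * BB q 1 (n / 2))) = 3 * q ^ 4 * (100 * BB q 1 (n / 2)) := by ring
        _ ≤ 3 * q ^ 4 * (557 * ((q + 1) * q ^ (n / 2 - 1))) := Nat.mul_le_mul_left _ (hB _ (by omega))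
        _ = 1671 * ((q + 1) * (q ^ (n / 2 - 1) * q ^ 4)) := by ring
        _ ≤ _ := by rw [hW]; gcongr
    have hd3 : ∀ d ∈ S, 3 ≤ d → q ^ 4 * (100 * ((d * d - 1) * BB q 1 (n / d))) ≤ 1114 * W := by
      intro d hd hd'
      have hdD : d ∣ D := (Nat.mem_divisors.1 (Finset.mem_filter.1 hd).1).1
      have hdq : d ≤ q + 1 := (Nat.le_of_dvd hDpos hdD).trans hDle
      have h2q : d * d - 1 ≤ 2 * q ^ 2 := by
        have : d * d ≤ (q + 1) * (q + 1) := Nat.mul_le_mul hdq hdq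
        have : 2 * q ≤ q * q := Nat.mul_le_mul_right _ hq
        rw [pow_two]
        nlinarith [Nat.sub_le (d * d) 1, Nat.sub_add_cancel (show 1 ≤ d * d by nlinarith)]
      have hn3 : n / d ≤ n / 3 := Nat.div_le_div_left hd' (by norm_num)
      have hnd : 1 ≤ n / d := (Nat.one_le_div_iff (by omega)).2 (Nat.le_of_dvd (by omega) (hdD.trans hDn))
      have hpow : q ^ 2 * q ^ (n / d - 1) * q ^ 4 ≤ q ^ (n - 1) := by
        rw [← pow_add, ← pow_add]; exact Nat.pow_le_pow_right (by omega) (by omega)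
      calc q ^ 4 * (100 * ((d * d - 1) * BB q 1 (n / d))) = (d * d - 1) * q ^ 4 * (100 * BB q 1 (n / d)) := by ring
        _ ≤ (2 * q ^ 2) * q ^ 4 * (557 * ((q + 1) * q ^ (n / d - 1))) :=
          Nat.mul_le_mul (Nat.mul_le_mul_right _ h2q) (hB _ hnd)
        _ = 1114 * ((q + 1) * (q ^ 2 * q ^ (n / d - 1) * q ^ 4)) := by ring
        _ ≤ _ := by rw [hW]; gcongr
    have hcard : S.card ≤ q + 1 := ((Finset.card_filter_le _ _).trans (Nat.card_divisors_le_self D)).trans hDle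
    have hsum : q ^ 4 * (100 * ∑ d ∈ S, (d * d - 1) * BB q 1 (n / d)) ≤
        (if 2 ∈ S then 1671 * W else 0) + (q + 1) * (1114 * W) := by
      rw [Finset.mul_sum, Finset.mul_sum]
      refine (Finset.sum_le_sum (g := fun d => (if d = 2 then 1671 * W else 0) + 1114 * W) fun d hd => ?_).trans ?_
      · by_cases h : d = 2
        · rw [if_pos h]; exact (hd2 d hd h).trans (Nat.le_add_right _ _)
        · rw [if_neg h, zero_add]
          exact hd3 d hd (by have := (Finset.mem_filter.1 hd).2; omega)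
      · rw [Finset.sum_add_distrib, Finset.sum_const, smul_eq_mul, Finset.sum_ite_eq']
        exact Nat.add_le_add_left (Nat.mul_le_mul_right _ hcard) _
    have h2S : 2 ∈ S → 3 ≤ q := by
      intro h
      have := (Nat.mem_divisors.1 (Finset.mem_filter.1 h).1).1.trans hDq
      omega
    have hfin : (if 2 ∈ S then 1671 * W else 0) + (q + 1) * (1114 * W) ≤ q ^ 4 * (269 * W) := by
      have hc3 : (q + 1) * 1114 + (if 2 ∈ S then 1671 else 0) ≤ q ^ 4 * 269 := by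
        split_ifs with h
        · have := h2S h
          have h27 : 27 * q ≤ q ^ 4 := by
            calc 27 * q ≤ q ^ 3 * q := Nat.mul_le_mul_right _ (le_trans (by norm_num) (Nat.pow_le_pow_left this 3))
              _ = q ^ 4 := by ring
          omega
        · have h8 : 8 * q ≤ q ^ 4 := by
            calc 8 * q ≤ q ^ 3 * q := Nat.mul_le_mul_right _ (le_trans (by norm_num) (Nat.pow_le_pow_left hq 3))
              _ = q ^ 4 := by ring
          rcases Nat.lt_or_ge q 3 with h3 | h3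
          · obtain rfl : q = 2 := by omega
            norm_num
          · omega
      have := Nat.mul_le_mul_right W hc3
      split_ifs at this ⊢ <;> linarith
    have hkey : 100 * ∑ d ∈ S, (d * d - 1) * BB q 1 (n / d) ≤ 269 * W :=
      Nat.le_of_mul_le_mul_left (hsum.trans hfin) (Nat.pow_pos (by omega))
    unfold suBound
    rw [← hS]
    omega
  have v2 : (2 : ℕ).divisors = {1, 2} := by decide
  have v3 : (3 : ℕ).divisors = {1, 3} := by decide
  have v4 : (4 : ℕ).divisors = {1, 2, 4} := by decide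
  have v5 : (5 : ℕ).divisors = {1, 5} := by decide
  have v6 : (6 : ℕ).divisors = {1, 2, 3, 6} := by decide
  have v7 : (7 : ℕ).divisors = {1, 7} := by decide
  have v8 : (8 : ℕ).divisors = {1, 2, 4, 8} := by decide
  have h3 := hB 3 (by norm_num)
  have h4 := hB 4 (by norm_num)
  by_cases hD1 : D = 1
  · subst hD1
    have e1 : suBound q n 1 = BB q 1 n := by simp [suBound, Finset.sum_filter]
    rw [e1]
    omega
  have hcases : (n = 2 ∧ D = 2) ∨ (n = 3 ∧ D = 3) ∨ (n = 4 ∧ (D = 2 ∨ D = 4)) ∨ (n = 5 ∧ D = 5) ∨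
      (n = 6 ∧ (D = 2 ∨ D = 3 ∨ D = 6)) ∨ (n = 7 ∧ D = 7) ∨ (n = 8 ∧ (D = 2 ∨ D = 4 ∨ D = 8)) := by
    have : n < 9 := by omega
    have := Nat.le_of_dvd (by omega) hDn
    interval_cases n <;> interval_cases D <;> first | omega | norm_num at hDn
  rcases hcases with ⟨rfl, rfl⟩ | ⟨rfl, rfl⟩ | ⟨rfl, rfl | rfl⟩ | ⟨rfl, rfl⟩ | ⟨rfl, rfl | rfl | rfl⟩ | ⟨rfl, rfl⟩ |
      ⟨rfl, rfl | rfl | rfl⟩ <;>
    simp [suBound, Finset.sum_filter, v2, v3, v4, v5, v6, v7, v8, b1, b2] at hn1 ⊢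
  · obtain ⟨m, rfl⟩ : ∃ m, q = m + 3 := ⟨q - 3, by omega⟩
    ring_nf at *
    nlinarith [Nat.zero_le (m ^ 2), Nat.zero_le (m ^ 3), Nat.zero_le (m ^ 4), Nat.zero_le (m ^ 5), Nat.zero_le (m ^ 6),
      Nat.zero_le (m ^ 7), Nat.zero_le (m ^ 8)]
  · obtain ⟨m, rfl⟩ : ∃ m, q = m + 2 := ⟨q - 2, by omega⟩
    ring_nf at *
    nlinarith [Nat.zero_le (m ^ 2), Nat.zero_le (m ^ 3), Nat.zero_le (m ^ 4), Nat.zero_le (m ^ 5), Nat.zero_le (m ^ 6),
      Nat.zero_le (m ^ 7), Nat.zero_le (m ^ 8)]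
  · obtain ⟨m, rfl⟩ : ∃ m, q = m + 3 := ⟨q - 3, by omega⟩
    ring_nf at *
    nlinarith [Nat.zero_le (m ^ 2), Nat.zero_le (m ^ 3), Nat.zero_le (m ^ 4), Nat.zero_le (m ^ 5), Nat.zero_le (m ^ 6),
      Nat.zero_le (m ^ 7), Nat.zero_le (m ^ 8)]
  · obtain ⟨m, rfl⟩ : ∃ m, q = m + 3 := ⟨q - 3, by omega⟩
    ring_nf at *
    nlinarith [Nat.zero_le (m ^ 2), Nat.zero_le (m ^ 3), Nat.zero_le (m ^ 4), Nat.zero_le (m ^ 5), Nat.zero_le (m ^ 6),
      Nat.zero_le (m ^ 7), Nat.zero_le (m ^ 8)]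
  · obtain ⟨m, rfl⟩ : ∃ m, q = m + 4 := ⟨q - 4, by omega⟩
    ring_nf at *
    nlinarith [Nat.zero_le (m ^ 2), Nat.zero_le (m ^ 3), Nat.zero_le (m ^ 4), Nat.zero_le (m ^ 5), Nat.zero_le (m ^ 6),
      Nat.zero_le (m ^ 7), Nat.zero_le (m ^ 8)]
  · obtain ⟨m, rfl⟩ : ∃ m, q = m + 3 := ⟨q - 3, by omega⟩
    ring_nf at *
    nlinarith [Nat.zero_le (m ^ 2), Nat.zero_le (m ^ 3), Nat.zero_le (m ^ 4), Nat.zero_le (m ^ 5), Nat.zero_le (m ^ 6),
      Nat.zero_le (m ^ 7), Nat.zero_le (m ^ 8)]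
  · obtain ⟨m, rfl⟩ : ∃ m, q = m + 2 := ⟨q - 2, by omega⟩
    ring_nf at *
    nlinarith [Nat.zero_le (m ^ 2), Nat.zero_le (m ^ 3), Nat.zero_le (m ^ 4), Nat.zero_le (m ^ 5), Nat.zero_le (m ^ 6),
      Nat.zero_le (m ^ 7), Nat.zero_le (m ^ 8)]
  · obtain ⟨m, rfl⟩ : ∃ m, q = m + 5 := ⟨q - 5, by omega⟩
    ring_nf at *
    nlinarith [Nat.zero_le (m ^ 2), Nat.zero_le (m ^ 3), Nat.zero_le (m ^ 4), Nat.zero_le (m ^ 5), Nat.zero_le (m ^ 6),
      Nat.zero_le (m ^ 7), Nat.zero_le (m ^ 8)]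
  · obtain ⟨m, rfl⟩ : ∃ m, q = m + 6 := ⟨q - 6, by omega⟩
    ring_nf at *
    nlinarith [Nat.zero_le (m ^ 2), Nat.zero_le (m ^ 3), Nat.zero_le (m ^ 4), Nat.zero_le (m ^ 5), Nat.zero_le (m ^ 6),
      Nat.zero_le (m ^ 7), Nat.zero_le (m ^ 8)]
  · obtain ⟨m, rfl⟩ : ∃ m, q = m + 3 := ⟨q - 3, by omega⟩
    ring_nf at *
    nlinarith [Nat.zero_le (m ^ 2), Nat.zero_le (m ^ 3), Nat.zero_le (m ^ 4), Nat.zero_le (m ^ 5), Nat.zero_le (m ^ 6),
      Nat.zero_le (m ^ 7), Nat.zero_le (m ^ 8)]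
  · obtain ⟨m, rfl⟩ : ∃ m, q = m + 3 := ⟨q - 3, by omega⟩
    ring_nf at *
    nlinarith [Nat.zero_le (m ^ 2), Nat.zero_le (m ^ 3), Nat.zero_le (m ^ 4), Nat.zero_le (m ^ 5), Nat.zero_le (m ^ 6),
      Nat.zero_le (m ^ 7), Nat.zero_le (m ^ 8)]
  · obtain ⟨m, rfl⟩ : ∃ m, q = m + 7 := ⟨q - 7, by omega⟩
    ring_nf at *
    nlinarith [Nat.zero_le (m ^ 2), Nat.zero_le (m ^ 3), Nat.zero_le (m ^ 4), Nat.zero_le (m ^ 5), Nat.zero_le (m ^ 6),
      Nat.zero_le (m ^ 7), Nat.zero_le (m ^ 8)]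

end Cfsg.Agent.USeq
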