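import Cfsg.Agent.MatModule.SeqCount
import Cfsg.Agent.MatModule.Semisimple

/-!
# Invariants of a linear map read off from its polynomial sequence

Characteristic polynomial, determinants in the commutant, and uniqueness via kernels of polynomials.
-/

set_option autoImplicit false

namespace Cfsg.Agent.ClassSeq

open Polynomial Cfsg.Agent.ClassNumberGL Cfsg.Agent.SeqCount Cfsg.Agent.MatModule UniqueFactorizationMonoid

universe u v

variable {F : Type u} [Field F]
variable {V : Type v} [AddCommGroup V] [Module F V] [FiniteDimensional F V]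
variable {n : ℕ} {φ : Module.End F V} {g : Fin n → F[X]}

theorem charpoly_eq (h : HasSeq φ n g) : φ.charpoly = ∏ j, g j ^ (j.val + 1) := by
  classical
  obtain ⟨ι, hι, p, e, hp, he, ⟨A⟩, hg⟩ := h
  let s : {i // 0 < e i} → F[X] := fun i => normalize (p i.1) ^ e i.1
  have hs : ∀ i, (s i).Monic := fun i => (monic_normalize (hp i.1).ne_zero).pow _
  haveI : ∀ i, Module.Finite F (AdjoinRoot (s i)) := fun i => finite_adjoinRoot (s i) (hs i)
  let T : V ≃ₗ[F] ∀ i, AdjoinRoot (s i) := (Module.AEval'.of φ).trans (A.restrictScalars F)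
  have hT : T.conj φ = rootMul s := by
    refine LinearMap.ext fun w => ?_
    obtain ⟨v, rfl⟩ := T.surjective w
    rw [LinearEquiv.conj_apply_apply, LinearEquiv.symm_apply_apply]
    funext i
    show A (Module.AEval'.of φ (φ v)) i = Ideal.Quotient.mk (Ideal.span {s i}) X * A (Module.AEval'.of φ v) i
    rw [MatModule.of_apply, map_smul, Pi.smul_apply]
    obtain ⟨r, hr⟩ := Ideal.Quotient.mk_surjective (A (Module.AEval'.of φ v) i)
    rw [← hr]
    rfl
  rw [← T.charpoly_conj, hT, charpoly_rootMul s hs]
  symm
  calc ∏ j : Fin n, g j ^ (j.val + 1)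
      = ∏ j : Fin n, ∏ i ∈ Finset.univ.filter (fun i => e i = j.val + 1), normalize (p i) ^ e i := by
        refine Finset.prod_congr rfl fun j _ => ?_
        rw [hg, ← Finset.prod_pow]
        exact Finset.prod_congr rfl fun i hi => by rw [(Finset.mem_filter.1 hi).2]
    _ = ∏ i, (if 0 < e i then normalize (p i) ^ e i else 1) := by
        simp only [Finset.prod_filter]
        rw [Finset.prod_comm]
        refine Finset.prod_congr rfl fun i _ => ?_
        split_ifs with h
        · rw [Finset.prod_eq_single (⟨e i - 1, by have := he i; omega⟩ : Fin n)]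
          · exact if_pos (by simp only; omega)
          · exact fun j _ hj => if_neg fun h2 => hj (Fin.ext (by simp only; omega))
          · exact fun h2 => absurd (Finset.mem_univ _) h2
        · exact Finset.prod_eq_one fun j _ => if_neg (by omega)
    _ = ∏ i : {i // 0 < e i}, s i := by
        rw [← Finset.prod_filter]
        exact Finset.prod_subtype _ (by simp) _

theorem det_eq (h : HasSeq φ n g) (hg : ∀ j, (g j).Monic) : LinearMap.det φ = sdet g := by
  have hc := charpoly_eq h
  have hm : ∀ j : Fin n, (g j ^ (j.val + 1)).Monic := fun j => (hg j).pow _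
  rw [LinearMap.det_eq_sign_charpoly_coeff, ← LinearMap.charpoly_natDegree φ, hc,
    natDegree_prod_of_monic _ _ fun j _ => hm j, ← Finset.prod_pow_eq_pow_sum, coeff_zero_prod,
    ← Finset.prod_mul_distrib, sdet]
  refine Finset.prod_congr rfl fun j _ => ?_
  rw [natDegree_pow, mul_pow, ← pow_mul, mul_comm (g j).natDegree, coeff_zero_eq_eval_zero, eval_pow,
    ← coeff_zero_eq_eval_zero]

/-- Multiplication by a polynomial on a module. -/
noncomputable abbrev smulMap (q : F[X]) (M : Type*) [AddCommGroup M] [Module F[X] M] [Module F M]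
    [IsScalarTower F F[X] M] : M →ₗ[F] M := (LinearMap.lsmul F[X] M q).restrictScalars F

open Classical in
theorem finrank_ker_smul {f h : F[X]} (hf : f.Monic) (hfi : Irreducible f) (hh : h.Monic) (hhi : Irreducible h)
    (e k : ℕ) : Module.finrank F (LinearMap.ker (smulMap (f ^ k) (F[X] ⧸ Ideal.span {h ^ e}))) =
      if h = f then f.natDegree * min e k else 0 := by
  split_ifs with hfh
  · subst hfh
    set m := min e k with hm
    have hle : Ideal.span {h ^ m} ≤ LinearMap.ker
        ((Submodule.mkQ (Ideal.span {h ^ e})).comp (LinearMap.lsmul F[X] F[X] (h ^ (e - m)))) := by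
      rw [Ideal.span_le, Set.singleton_subset_iff]
      show Ideal.Quotient.mk (Ideal.span {h ^ e}) (h ^ (e - m) * h ^ m) = 0
      rw [← pow_add, Nat.sub_add_cancel (min_le_left e k), Ideal.Quotient.eq_zero_iff_mem]
      exact Ideal.mem_span_singleton_self _
    set ψ := (Submodule.liftQ (Ideal.span {h ^ m}) _ hle).restrictScalars F with hψ
    have hinj : Function.Injective ψ := by
      rw [injective_iff_map_eq_zero]
      intro x hx
      obtain ⟨r, rfl⟩ := Ideal.Quotient.mk_surjective x
      have hx' : Ideal.Quotient.mk (Ideal.span {h ^ e}) (h ^ (e - m) * r) = 0 := hx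
      rw [Ideal.Quotient.eq_zero_iff_mem, Ideal.mem_span_singleton] at hx' ⊢
      rw [show h ^ e = h ^ (e - m) * h ^ m by rw [← pow_add, Nat.sub_add_cancel (min_le_left e k)]] at hx'
      exact (mul_dvd_mul_iff_left (pow_ne_zero _ hh.ne_zero)).1 hx'
    have hrange : LinearMap.range ψ = LinearMap.ker (smulMap (h ^ k) (F[X] ⧸ Ideal.span {h ^ e})) := by
      ext x
      constructor
      · rintro ⟨y, rfl⟩
        obtain ⟨r, rfl⟩ := Ideal.Quotient.mk_surjective y
        show Ideal.Quotient.mk (Ideal.span {h ^ e}) (h ^ k * (h ^ (e - m) * r)) = 0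
        rw [Ideal.Quotient.eq_zero_iff_mem, Ideal.mem_span_singleton, ← mul_assoc, ← pow_add]
        exact dvd_mul_of_dvd_left (pow_dvd_pow _ (by omega)) _
      · intro hx
        obtain ⟨r, rfl⟩ := Ideal.Quotient.mk_surjective x
        have hx' : Ideal.Quotient.mk (Ideal.span {h ^ e}) (h ^ k * r) = 0 := hx
        rw [Ideal.Quotient.eq_zero_iff_mem, Ideal.mem_span_singleton] at hx'
        have hd : h ^ (e - m) ∣ r := by
          rcases le_total e k with hek | hek
          · rw [hm, min_eq_left hek, Nat.sub_self, pow_zero]; exact one_dvd _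
          · rw [hm, min_eq_right hek]
            rw [show h ^ e = h ^ k * h ^ (e - k) by rw [← pow_add, Nat.add_sub_cancel' hek]] at hx'
            exact (mul_dvd_mul_iff_left (pow_ne_zero _ hh.ne_zero)).1 hx'
        obtain ⟨w, rfl⟩ := hd
        exact ⟨Ideal.Quotient.mk _ w, rfl⟩
    rw [← hrange, LinearMap.finrank_range_of_inj hinj, finrank_quotient_span_eq_natDegree, natDegree_pow, mul_comm]
  · have hcop : IsCoprime (h ^ e) (f ^ k) := by
      refine (IsCoprime.pow ?_)
      refine hhi.coprime_iff_not_dvd.2 fun hd => hfh ?_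
      exact eq_of_monic_of_associated hh hf (hhi.associated_of_dvd hfi hd)
    haveI : Module.Finite F (F[X] ⧸ Ideal.span {h ^ e}) := (hh.pow e).finite_quotient
    rw [Submodule.finrank_eq_zero, LinearMap.ker_eq_bot']
    intro x hx
    obtain ⟨r, rfl⟩ := Ideal.Quotient.mk_surjective x
    have hx' : Ideal.Quotient.mk (Ideal.span {h ^ e}) (f ^ k * r) = 0 := hx
    rw [Ideal.Quotient.eq_zero_iff_mem, Ideal.mem_span_singleton] at hx' ⊢
    exact hcop.dvd_of_dvd_mul_left hx'

open Classical in
/-- The kernels of powers of an irreducible polynomial in terms of the sequence. -/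
theorem finrank_ker (h : HasSeq φ n g) {f : F[X]} (hf : f.Monic) (hfi : Irreducible f) (k : ℕ) :
    Module.finrank F (LinearMap.ker (aeval φ (f ^ k))) =
      f.natDegree * ∑ j : Fin n, min (j.val + 1) k * (normalizedFactors (g j)).count f := by
  obtain ⟨ι, hι, p, e, hp, he, ⟨A⟩, hg⟩ := h
  let s : {i // 0 < e i} → F[X] := fun i => normalize (p i.1) ^ e i.1
  haveI : ∀ i, Module.Finite F (F[X] ⧸ Ideal.span {s i}) := fun i =>
    ((monic_normalize (hp i.1).ne_zero).pow _).finite_quotient
  let T : V ≃ₗ[F] ∀ i, F[X] ⧸ Ideal.span {s i} := (Module.AEval'.of φ).trans (A.restrictScalars F)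
  have hT : ∀ v i, T (aeval φ (f ^ k) v) i = (f ^ k) • T v i := by
    intro v i
    show A (Module.AEval'.of φ (aeval φ (f ^ k) v)) i = (f ^ k) • A (Module.AEval'.of φ v) i
    rw [← Pi.smul_apply, ← map_smul, ← Module.AEval.of_aeval_smul]
    rfl
  let K := fun i => LinearMap.ker (smulMap (f ^ k) (F[X] ⧸ Ideal.span {s i}))
  let E : LinearMap.ker (aeval φ (f ^ k)) ≃ₗ[F] ∀ i, K i :=
    { toFun := fun v i => ⟨T v.1 i, by
        show (f ^ k) • T v.1 i = 0
        rw [← hT, LinearMap.mem_ker.1 v.2, map_zero]
        rfl⟩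
      map_add' := fun a b => by funext i; apply Subtype.ext; simp
      map_smul' := fun r a => by funext i; apply Subtype.ext; simp
      invFun := fun w => ⟨T.symm fun i => (w i).1, by
        rw [LinearMap.mem_ker]
        apply T.injective
        rw [map_zero]
        funext i
        rw [hT, LinearEquiv.apply_symm_apply]
        exact (w i).2⟩
      left_inv := fun v => Subtype.ext (T.symm_apply_apply _)
      right_inv := fun w => funext fun i => Subtype.ext (congrFun (T.apply_symm_apply _) i) }
  rw [E.finrank_eq, Module.finrank_pi_fintype]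
  rw [Finset.sum_congr rfl fun i _ => finrank_ker_smul hf hfi (monic_normalize (hp i.1).ne_zero)
    ((normalize_associated (p i.1)).irreducible_iff.2 (hp i.1)) (e i.1) k]
  rw [← Finset.sum_subtype (Finset.univ.filter fun i => 0 < e i) (by simp)
    (fun i => if normalize (p i) = f then f.natDegree * min (e i) k else 0), Finset.sum_filter, Finset.mul_sum]
  have hcnt : ∀ j : Fin n, (normalizedFactors (g j)).count f =
      ∑ i, if e i = j.val + 1 ∧ normalize (p i) = f then 1 else 0 := by
    intro j
    rw [hg, Finset.prod_eq_multiset_prod, normalizedFactors_prod_eq _ (fun a ha => by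
      obtain ⟨i, -, rfl⟩ := Multiset.mem_map.1 ha
      exact (normalize_associated (p i)).irreducible_iff.2 (hp i)), Multiset.map_map]
    simp only [Function.comp_def, normalize_idem]
    rw [Multiset.count_map, ← Finset.filter_val, Finset.card_val, Finset.filter_filter, Finset.card_filter]
    exact Finset.sum_congr rfl fun i _ => by simp [eq_comm]
  simp only [hcnt, Finset.mul_sum]
  rw [Finset.sum_comm]
  refine Finset.sum_congr rfl fun i _ => ?_
  split_ifs with h0 hpf
  · rw [Finset.sum_eq_single (⟨e i - 1, by have := he i; omega⟩ : Fin n)]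
    · have e1 : e i - 1 + 1 = e i := Nat.sub_add_cancel h0
      simp [e1, hpf]
    · intro j _ hj
      rw [if_neg (fun h2 => hj (Fin.ext (by simp only; omega))), mul_zero, mul_zero]
    · exact fun h2 => absurd (Finset.mem_univ _) h2
  · exact (Finset.sum_eq_zero fun j _ => by rw [if_neg (fun h => hpf h.2), mul_zero, mul_zero]).symm
  · exact (Finset.sum_eq_zero fun j _ => by
      rw [if_neg (fun h => by have := h.1; omega), mul_zero, mul_zero]).symm

/-- A weighting by `min` determines the multiplicities. -/
theorem eq_of_min_sum {a b : Fin n → ℕ}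
    (h : ∀ k, ∑ j : Fin n, min (j.val + 1) k * a j = ∑ j : Fin n, min (j.val + 1) k * b j) : a = b := by
  have hstep : ∀ (c : Fin n → ℕ) k, ∑ j : Fin n, min (j.val + 1) (k + 1) * c j =
      ∑ j : Fin n, min (j.val + 1) k * c j + ∑ j : Fin n, (if k ≤ j.val then c j else 0) := by
    intro c k
    rw [← Finset.sum_add_distrib]
    refine Finset.sum_congr rfl fun j _ => ?_
    split_ifs with hk
    · rw [min_eq_right (by omega), min_eq_right (by omega), add_one_mul]
    · rw [min_eq_left (by omega), min_eq_left (by omega), add_zero]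
  have htail : ∀ k, ∑ j : Fin n, (if k ≤ j.val then a j else 0) = ∑ j : Fin n, if k ≤ j.val then b j else 0 := by
    intro k
    have h1 := hstep a k
    have h2 := hstep b k
    have := h k
    have := h (k + 1)
    omega
  have hsplit : ∀ (c : Fin n → ℕ) (k : Fin n), ∑ j : Fin n, (if k.val ≤ j.val then c j else 0) =
      c k + ∑ j : Fin n, (if k.val + 1 ≤ j.val then c j else 0) := by
    intro c k
    rw [show c k = ∑ j : Fin n, (if j = k then c j else 0) by simp, ← Finset.sum_add_distrib]
    refine Finset.sum_congr rfl fun j _ => ?_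
    rcases lt_trichotomy j.val k.val with h' | h' | h'
    · rw [if_neg (by omega), if_neg (fun e => by rw [e] at h'; omega), if_neg (by omega)]
    · rw [if_pos (by omega), if_pos (Fin.ext h'), if_neg (by omega), add_zero]
    · rw [if_pos (by omega), if_neg (fun e => by rw [e] at h'; omega), if_pos (by omega), zero_add]
  funext k
  have h1 := hsplit a k
  have h2 := hsplit b k
  have h3 := htail k.val
  have h4 := htail (k.val + 1)
  omega

omit [FiniteDimensional F V] in
theorem aeval_smul_scaleRoots (φ : Module.End F V) (c : F) (f : F[X]) :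
    aeval (c • φ) (f.scaleRoots c) = c ^ f.natDegree • aeval φ f := by
  rw [Algebra.smul_def, Algebra.smul_def, map_pow]
  exact scaleRoots_eval₂_mul_of_commute (algebraMap F (Module.End F V)) φ c (Algebra.commutes c φ)
    (fun a b => Algebra.commutes a _)

omit [FiniteDimensional F V] in
theorem irreducible_scaleRoots (c : Fˣ) {f : F[X]} (hf : Irreducible f) : Irreducible (f.scaleRoots (c : F)) := by
  have hback : ∀ a : F[X], (a.scaleRoots (c : F)).scaleRoots ((c⁻¹ : Fˣ) : F) = a := fun a => by
    rw [← scaleRoots_mul, ← Units.val_mul, mul_inv_cancel, Units.val_one, scaleRoots_one]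
  refine ⟨fun h => hf.not_isUnit ?_, fun a b hab => ?_⟩
  · rw [Polynomial.isUnit_iff_degree_eq_zero] at h ⊢
    rwa [degree_scaleRoots] at h
  · have h := congrArg (fun p : F[X] => p.scaleRoots ((c⁻¹ : Fˣ) : F)) hab
    simp only [hback, mul_scaleRoots_of_noZeroDivisors] at h
    rcases hf.isUnit_or_isUnit h with h1 | h1
    · exact Or.inl (by rw [Polynomial.isUnit_iff_degree_eq_zero] at h1 ⊢; rwa [degree_scaleRoots] at h1)
    · exact Or.inr (by rw [Polynomial.isUnit_iff_degree_eq_zero] at h1 ⊢; rwa [degree_scaleRoots] at h1)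

/-- If `φ` is conjugate to `c • φ`, the sequence is fixed by `c`. -/
theorem inv_of_conj (h : HasSeq φ n g) (hg : ∀ j, (g j).Monic) (c : Fˣ) (Θ : V ≃ₗ[F] V)
    (hΘ : ∀ v, Θ (φ v) = (c : F) • φ (Θ v)) : Inv c g := by
  classical
  let σ : F[X] → F[X] := fun f => f.scaleRoots (c : F)
  let τ : F[X] → F[X] := fun f => f.scaleRoots ((c⁻¹ : Fˣ) : F)
  have hτσ : ∀ a, τ (σ a) = a := fun a => by
    show (a.scaleRoots (c : F)).scaleRoots ((c⁻¹ : Fˣ) : F) = a
    rw [← scaleRoots_mul, ← Units.val_mul, mul_inv_cancel, Units.val_one, scaleRoots_one]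
  have hστ : ∀ a, σ (τ a) = a := fun a => by
    show (a.scaleRoots ((c⁻¹ : Fˣ) : F)).scaleRoots (c : F) = a
    rw [← scaleRoots_mul, ← Units.val_mul, inv_mul_cancel, Units.val_one, scaleRoots_one]
  have key : ∀ f : F[X], f.Monic → Irreducible f → ∀ j : Fin n,
      (normalizedFactors (g j)).count (σ f) = (normalizedFactors (g j)).count f := by
    intro f hf hfi
    refine congrFun (eq_of_min_sum fun k => ?_)
    have hconj : ∀ (q : F[X]) (v : V), Θ (aeval φ q v) = aeval ((c : F) • φ) q (Θ v) := by
      intro q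
      induction q using Polynomial.induction_on' with
      | add a b ha hb => intro v; simp [map_add, ha v, hb v]
      | monomial m a =>
        have hp : ∀ (m : ℕ) (v : V), Θ ((φ ^ m) v) = (((c : F) • φ) ^ m) (Θ v) := by
          intro m
          induction m with
          | zero => intro v; simp
          | succ m ih =>
            intro v
            rw [pow_succ, pow_succ, Module.End.mul_apply, Module.End.mul_apply, ih, hΘ, LinearMap.smul_apply]
        intro v
        rw [aeval_monomial, aeval_monomial, Module.End.mul_apply, Module.End.mul_apply, Module.algebraMap_end_apply,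
          Module.algebraMap_end_apply, map_smul, hp]
    have h1 : Module.finrank F (LinearMap.ker (aeval φ ((σ f) ^ k))) =
        Module.finrank F (LinearMap.ker (aeval φ (f ^ k))) := by
      have hk : aeval ((c : F) • φ) ((σ f) ^ k) = ((c : F) ^ f.natDegree) ^ k • aeval φ (f ^ k) := by
        rw [map_pow, aeval_smul_scaleRoots, _root_.smul_pow, ← map_pow]
      have hmap : (LinearMap.ker (aeval φ ((σ f) ^ k))).map (Θ : V →ₗ[F] V) = LinearMap.ker (aeval φ (f ^ k)) := by
        rw [Submodule.map_equiv_eq_comap_symm]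
        ext w
        rw [Submodule.mem_comap, LinearMap.mem_ker, LinearMap.mem_ker]
        show aeval φ ((σ f) ^ k) (Θ.symm w) = 0 ↔ _
        rw [← Θ.map_eq_zero_iff, hconj, LinearEquiv.apply_symm_apply, hk, LinearMap.smul_apply,
          smul_eq_zero_iff_right (pow_ne_zero _ (pow_ne_zero _ (Units.ne_zero c)))]
      rw [← hmap, LinearEquiv.finrank_map_eq]
    rw [finrank_ker h ((monic_scaleRoots_iff _).2 hf) (irreducible_scaleRoots c hfi) k,
      finrank_ker h hf hfi k, natDegree_scaleRoots] at h1
    exact Nat.eq_of_mul_eq_mul_left hfi.natDegree_pos h1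
  intro j
  have hprod : ∀ M : Multiset F[X], σ M.prod = (M.map σ).prod := by
    intro M
    induction M using Multiset.induction with
    | empty => simp [σ]
    | cons a M ih =>
      rw [Multiset.prod_cons, Multiset.map_cons, Multiset.prod_cons, ← ih]
      exact mul_scaleRoots_of_noZeroDivisors _ _ _
  have hN : (normalizedFactors (g j)).prod = g j := by
    rw [prod_normalizedFactors_eq (hg j).ne_zero, (hg j).normalize_eq_self]
  show σ (g j) = g j
  rw [← hN, hprod]
  congr 1
  have hσinj : Function.Injective σ := Function.LeftInverse.injective hτσ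
  ext f
  conv_lhs => rw [← hστ f, Multiset.count_map_eq_count' σ _ hσinj]
  by_cases hmem : f.Monic ∧ Irreducible f
  · have h1 := key (τ f) ((monic_scaleRoots_iff _).2 hmem.1) (irreducible_scaleRoots _ hmem.2) j
    rw [hστ] at h1
    exact h1.symm
  · rw [Multiset.count_eq_zero.2 fun h' => hmem ⟨?_, irreducible_of_normalized_factor f h'⟩,
      Multiset.count_eq_zero.2 fun h' => hmem ⟨?_, ?_⟩]
    · have hm : (τ f).Monic := by
        rw [← normalize_normalized_factor _ h']
        exact monic_normalize (irreducible_of_normalized_factor _ h').ne_zero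
      exact (monic_scaleRoots_iff _).1 hm
    · have hi := irreducible_scaleRoots c (irreducible_of_normalized_factor _ h')
      rwa [show (τ f).scaleRoots (c : F) = f from hστ f] at hi
    · rw [← normalize_normalized_factor _ h']
      exact monic_normalize (irreducible_of_normalized_factor _ h').ne_zero

variable [Fintype F]

/-- For every occurring exponent `e`, the commutant takes every `e`-th power as a determinant. -/
theorem exists_commute_det (h : HasSeq φ n g) {j : Fin n} (hj : (g j).natDegree ≠ 0) {ν : F} (hν : ν ≠ 0) :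
    ∃ C : Module.End F V, C * φ = φ * C ∧ LinearMap.det C = ν ^ (j.val + 1) := by
  classical
  obtain ⟨ι, hι, p, e, hp, he, ⟨A⟩, hg⟩ := h
  obtain ⟨i₀, hi₀⟩ : ∃ i, e i = j.val + 1 := by
    by_contra hc
    refine hj ?_
    rw [hg, Finset.prod_eq_one (fun i hi => absurd ⟨i, (Finset.mem_filter.1 hi).2⟩ hc), natDegree_one]
  have hi : 0 < e i₀ := by omega
  set P := normalize (p i₀) with hP
  have hPm : P.Monic := monic_normalize (hp i₀).ne_zero
  have hPi : Irreducible P := (normalize_associated (p i₀)).irreducible_iff.2 (hp i₀)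
  have hPem : (P ^ e i₀).Monic := hPm.pow _
  haveI : Fact (Irreducible P) := ⟨hPi⟩
  haveI : Module.Finite F (AdjoinRoot P) := finite_adjoinRoot P hPm
  haveI : Module.Finite F (AdjoinRoot (P ^ e i₀)) := finite_adjoinRoot _ hPem
  haveI : Finite (AdjoinRoot P) := Module.finite_of_finite F
  -- a root of `P` in the quotient by its power
  have hexp : ∀ a : ℕ, ∀ x : AdjoinRoot (P ^ e i₀), aeval (x ^ Fintype.card F ^ a) P =
      aeval x (P ^ Fintype.card F ^ a) := by
    intro a
    induction a with
    | zero => intro x; simp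
    | succ a ih =>
      intro x
      rw [pow_succ', pow_mul, ih (x ^ Fintype.card F), ← expand_aeval, FiniteField.expand_card, ← pow_mul,
        mul_comm (Fintype.card F ^ a)]
  have hroot : aeval (AdjoinRoot.root (P ^ e i₀) ^ Fintype.card F ^ e i₀) P = 0 := by
    rw [hexp, AdjoinRoot.aeval_eq, AdjoinRoot.mk_eq_zero]
    exact pow_dvd_pow _ (Nat.lt_pow_self Fintype.one_lt_card).le
  let L : AdjoinRoot P →ₐ[F] AdjoinRoot (P ^ e i₀) :=
    AdjoinRoot.liftAlgHom P (Algebra.ofId F _) (AdjoinRoot.root (P ^ e i₀) ^ Fintype.card F ^ e i₀) hroot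
  obtain ⟨x, hx⟩ := FiniteField.norm_surjective F (AdjoinRoot P) ν
  have hnorm : Algebra.norm F (L x) = ν ^ (j.val + 1) := by
    letI := L.toRingHom.toAlgebra
    haveI : IsScalarTower F (AdjoinRoot P) (AdjoinRoot (P ^ e i₀)) :=
      IsScalarTower.of_algebraMap_eq' L.comp_algebraMap.symm
    haveI : Module.Finite (AdjoinRoot P) (AdjoinRoot (P ^ e i₀)) := Module.Finite.of_restrictScalars_finite F _ _
    have hd := Module.finrank_mul_finrank F (AdjoinRoot P) (AdjoinRoot (P ^ e i₀))
    rw [(AdjoinRoot.powerBasis hPm.ne_zero).finrank, (AdjoinRoot.powerBasis hPem.ne_zero).finrank,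
      AdjoinRoot.powerBasis_dim, AdjoinRoot.powerBasis_dim, natDegree_pow, mul_comm (e i₀)] at hd
    have hd' := Nat.eq_of_mul_eq_mul_left hPi.natDegree_pos hd
    have h1 : L x = algebraMap (AdjoinRoot P) (AdjoinRoot (P ^ e i₀)) x := rfl
    rw [h1, ← Algebra.norm_norm (S := AdjoinRoot P), Algebra.norm_algebraMap, map_pow, hx, hd', hi₀]
  -- the retract
  let i : {i // 0 < e i} := ⟨i₀, hi⟩
  set π : Module.AEval' φ →ₗ[F[X]] F[X] ⧸ Ideal.span {P ^ e i₀} :=
    (LinearMap.proj i).comp A.toLinearMap with hπdef
  set s : (F[X] ⧸ Ideal.span {P ^ e i₀}) →ₗ[F[X]] Module.AEval' φ :=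
    A.symm.toLinearMap.comp (LinearMap.single F[X] (fun k : {i // 0 < e i} => F[X] ⧸ Ideal.span {normalize (p k.1) ^ e k.1}) i)
    with hsdef
  have hs : ∀ w, π (s w) = w := by
    intro w
    show A (A.symm (Pi.single i w)) i = w
    rw [LinearEquiv.apply_symm_apply, Pi.single_eq_same]
  set πF : V →ₗ[F] F[X] ⧸ Ideal.span {P ^ e i₀} :=
    (π.restrictScalars F).comp (Module.AEval'.of φ).toLinearMap with hπF
  set sF : (F[X] ⧸ Ideal.span {P ^ e i₀}) →ₗ[F] V :=
    (Module.AEval'.of φ).symm.toLinearMap.comp (s.restrictScalars F) with hsF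
  have hsF' : ∀ w, πF (sF w) = w := by
    intro w
    show π (Module.AEval'.of φ ((Module.AEval'.of φ).symm (s w))) = w
    rw [LinearEquiv.apply_symm_apply, hs]
  haveI : FiniteDimensional F (F[X] ⧸ Ideal.span {P ^ e i₀}) :=
    Module.Finite.of_surjective πF fun w => ⟨sF w, hsF' w⟩
  let u : F[X] ⧸ Ideal.span {P ^ e i₀} := L x
  refine ⟨LinearMap.id + sF.comp ((Algebra.lmul F _ u - LinearMap.id).comp πF), ?_, ?_⟩
  · ext v
    show φ v + sF (u * πF (φ v) - πF (φ v)) = φ (v + sF (u * πF v - πF v))
    have h1 : πF (φ v) = (X : F[X]) • πF v := by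
      show π (Module.AEval'.of φ (φ v)) = _
      rw [MatModule.of_apply, map_smul]
      rfl
    have h2 : ∀ w, sF ((X : F[X]) • w) = φ (sF w) := by
      intro w
      apply (Module.AEval'.of φ).injective
      rw [MatModule.of_apply]
      show Module.AEval'.of φ ((Module.AEval'.of φ).symm (s ((X : F[X]) • w))) =
        (X : F[X]) • Module.AEval'.of φ ((Module.AEval'.of φ).symm (s w))
      rw [LinearEquiv.apply_symm_apply, LinearEquiv.apply_symm_apply, map_smul]
    rw [h1, mul_smul_comm, ← smul_sub, h2, map_add]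
  · rw [det_of_retract πF sF hsF', ← Algebra.norm_apply]
    exact hnorm

end Cfsg.Agent.ClassSeq
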