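import Cfsg.Agent.MatModule.UnipotentFormCount
import Cfsg.Agent.MatModule.SympConj
import Cfsg.Agent.Classical.QuadBasis

/-!
# Forms on the layers of a unipotent isometry

For a unipotent isometry `φ` of a form `B` with `B y x = c * B x y`, the pairing `B ((φ - 1) ^ (e - 1) u) v` on
the kernel of `(φ - 1) ^ e` has discriminant classes which, together with the Jordan type, determine `B` up to
the centraliser of `φ`.
-/

set_option autoImplicit false

namespace Cfsg.Agent.FormClass

open Module Polynomial Cfsg.Agent.MatModule Cfsg.Agent.SympConj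

universe u v

variable {F : Type u} [Field F] {V : Type v} [AddCommGroup V] [Module F V]

/-- The pairing of a layer. -/
noncomputable def pform (B : LinearMap.BilinForm F V) (φ : Module.End F V) (e : ℕ) : LinearMap.BilinForm F V :=
  B.compLeft ((φ - 1) ^ (e - 1))

theorem pform_apply (B : LinearMap.BilinForm F V) (φ : Module.End F V) (e : ℕ) (u v : V) :
    pform B φ e u v = B (((φ - 1) ^ (e - 1)) u) v := rfl

/-- The Gram matrix of a family for the pairing of a layer. -/
noncomputable def pgram (B : LinearMap.BilinForm F V) (φ : Module.End F V) (e : ℕ) {ι : Type*} (x : ι → V) :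
    Matrix ι ι F :=
  Matrix.of fun i j => pform B φ e (x i) (x j)

theorem pgram_apply (B : LinearMap.BilinForm F V) (φ : Module.End F V) (e : ℕ) {ι : Type*} (x : ι → V) (i j : ι) :
    pgram B φ e x i j = pform B φ e (x i) (x j) := rfl

/-- The discriminant of the nondegenerate part of the pairing of a layer is a square. -/
def DiscSq (B : LinearMap.BilinForm F V) (φ : Module.End F V) (e : ℕ) : Prop :=
  ∃ (k : ℕ) (v : Fin k → V), (∀ i, ((φ - 1) ^ e) (v i) = 0) ∧ (pgram B φ e v).det ≠ 0 ∧
    IsSquare (pgram B φ e v).det ∧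
    ∀ (l : ℕ) (w : Fin l → V), (∀ i, ((φ - 1) ^ e) (w i) = 0) → (pgram B φ e w).det ≠ 0 → l ≤ k

/-! ## Generators -/

/-- Generators of a unipotent map, with their heights. -/
structure Gens (φ : Module.End F V) {ι : Type*} [Fintype ι] (h : ι → ℕ) (x : ι → V) : Prop where
  height : ∀ i, ((φ - 1) ^ h i) (x i) = 0
  extend : ∀ y : ι → V, (∀ i, ((φ - 1) ^ h i) (y i) = 0) → ∃ c : Module.End F V, Commute c φ ∧ ∀ i, c (x i) = y i
  span : ∀ e z, ((φ - 1) ^ e) z = 0 → ∃ (a : ι → F) (p q : V), (∀ i, h i ≠ e → a i = 0) ∧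
    ((φ - 1) ^ (e - 1)) p = 0 ∧ ((φ - 1) ^ (e + 1)) q = 0 ∧ z = (∑ i, a i • x i) + p + (φ - 1) q
  indep : ∀ e, 1 ≤ e → ∀ (a : ι → F) (p q : V), (∀ i, h i ≠ e → a i = 0) →
    ((φ - 1) ^ (e - 1)) p = 0 → (∑ i, a i • x i) + p + (φ - 1) q = 0 → a = 0
  scale : ∀ (i : ι) (t : F), ∃ g : Module.End F V, Commute g φ ∧ g (x i) = t • x i ∧
    (∀ j, j ≠ i → g (x j) = x j) ∧ LinearMap.det g = t ^ h i

theorem eval_one_of_lin_dvd {f : F[X]} (h : (lin : F[X]) ∣ f) : f.eval 1 = 0 := by
  obtain ⟨g, rfl⟩ := h
  simp [lin]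

theorem exists_gens {φ : Module.End F V} {m : Multiset ℕ} (hm : HasType φ m) :
    ∃ (ι : Type u) (_ : Fintype ι) (h : ι → ℕ) (x : ι → V), Gens φ h x ∧ Finset.univ.val.map h = m := by
  classical
  obtain ⟨ι, hι, e, he, Φ, hΦ⟩ := hm
  refine ⟨ι, hι, e, fun i => Φ.symm (Pi.single i 1), ?_, he⟩
  set x : ι → V := fun i => Φ.symm (Pi.single i 1) with hx
  have hN := sub_one_pow_apply e Φ hΦ
  have hN1 : ∀ v i, Φ ((φ - 1) v) i = AdjoinRoot.mk _ (lin : F[X]) * Φ v i := fun v i => by
    have := hN 1 v i
    rwa [pow_one, pow_one] at this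
  have hcoord : ∀ (a : ι → F) i, Φ (∑ j, a j • x j) i = AdjoinRoot.mk _ (C (a i)) := by
    intro a i
    rw [map_sum, Finset.sum_apply, Finset.sum_eq_single i]
    · rw [map_smul, Pi.smul_apply, hx, LinearEquiv.apply_symm_apply, Pi.single_eq_same, Algebra.smul_def,
        mul_one, AdjoinRoot.algebraMap_eq]
      rfl
    · intro j _ hj
      rw [map_smul, Pi.smul_apply, hx, LinearEquiv.apply_symm_apply, Pi.single_eq_of_ne hj.symm, smul_zero]
    · exact fun h' => absurd (Finset.mem_univ _) h'
  have hzero : ∀ (j : ℕ) (v : V), (∀ i, e i ≤ j ∨ Φ v i = 0) → ((φ - 1) ^ j) v = 0 := by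
    intro j v hv
    apply Φ.injective
    rw [map_zero]
    funext i
    rw [hN]
    rcases hv i with h | h
    · rw [AdjoinRoot.mk_eq_zero.2 (pow_dvd_pow _ h), zero_mul, Pi.zero_apply]
    · rw [h, mul_zero, Pi.zero_apply]
  refine ⟨fun i => hzero _ _ fun j => ?_, fun y hy => ?_, fun d z hz => ?_, fun d hd a p q ha hp hq => ?_,
    fun i t => ?_⟩
  · by_cases hj : j = i
    · exact Or.inl (hj ▸ le_rfl)
    · exact Or.inr (by rw [LinearEquiv.apply_symm_apply, Pi.single_eq_of_ne hj])
  · -- the map fixed by the images of the generators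
    have hex : ∀ i, ∃ L : AdjoinRoot ((lin : F[X]) ^ e i) →ₗ[F] V,
        ∀ f, L (AdjoinRoot.mk _ f) = aeval φ f (y i) := by
      intro i
      let L0 : F[X] →ₗ[F] V := (LinearMap.applyₗ (y i)).comp (aeval φ).toLinearMap
      have hle : (Ideal.span {(lin : F[X]) ^ e i}).restrictScalars F ≤ LinearMap.ker L0 := by
        intro f hf
        obtain ⟨g, rfl⟩ := Ideal.mem_span_singleton.1 hf
        show aeval φ (lin ^ e i * g) (y i) = 0
        rw [mul_comm, map_mul, Module.End.mul_apply, map_pow,
          show aeval φ (lin : F[X]) = φ - 1 by simp [lin], hy i, map_zero]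
      refine ⟨(Submodule.liftQ _ L0 hle).comp
        (Submodule.Quotient.restrictScalarsEquiv F (Ideal.span {(lin : F[X]) ^ e i})).symm.toLinearMap,
        fun f => ?_⟩
      rfl
    choose L hL using hex
    let c : Module.End F V := ∑ i, (L i).comp ((LinearMap.proj i).comp Φ.toLinearMap)
    have hc : ∀ v, c v = ∑ i, L i (Φ v i) := fun v => by simp [c]
    refine ⟨c, LinearMap.ext fun v => ?_, fun i => ?_⟩
    · rw [Module.End.mul_apply, Module.End.mul_apply, hc, hc, map_sum]
      refine Finset.sum_congr rfl fun i _ => ?_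
      rw [hΦ, rootMul_apply]
      obtain ⟨f, hf⟩ := AdjoinRoot.mk_surjective (Φ v i)
      rw [← hf, ← AdjoinRoot.mk_X, ← map_mul, hL, hL, map_mul, aeval_X, Module.End.mul_apply]
    · rw [hc, Finset.sum_eq_single i]
      · rw [LinearEquiv.apply_symm_apply, Pi.single_eq_same, ← map_one (AdjoinRoot.mk _), hL, map_one,
          Module.End.one_apply]
      · intro j _ hj
        rw [LinearEquiv.apply_symm_apply, Pi.single_eq_of_ne hj, map_zero]
      · exact fun h' => absurd (Finset.mem_univ _) h'
  · choose f hf using fun i => AdjoinRoot.mk_surjective (Φ z i)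
    have hdvd : ∀ i, (lin : F[X]) ^ e i ∣ lin ^ d * f i := fun i => by
      rw [← AdjoinRoot.mk_eq_zero, map_mul, hf, ← hN, hz, map_zero, Pi.zero_apply]
    have hg : ∀ i, ∃ g : F[X], f i = C ((f i).eval 1) + lin * g := fun i => by
      obtain ⟨g, hg⟩ := X_sub_C_dvd_sub_C_eval (a := (1 : F)) (p := f i)
      exact ⟨g, by rw [show (lin : F[X]) = X - C 1 from rfl, ← hg]; ring⟩
    choose g hg using hg
    let a : ι → F := fun i => if e i = d then (f i).eval 1 else 0
    let pc : ∀ i, AdjoinRoot ((lin : F[X]) ^ e i) := fun i => if e i < d then AdjoinRoot.mk _ (f i) else 0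
    let qc : ∀ i, AdjoinRoot ((lin : F[X]) ^ e i) := fun i => if e i < d then 0 else AdjoinRoot.mk _ (g i)
    refine ⟨a, Φ.symm pc, Φ.symm qc, fun i hi => if_neg hi, hzero _ _ fun i => ?_, ?_, Φ.injective ?_⟩
    · rw [LinearEquiv.apply_symm_apply]
      by_cases h : e i < d
      · exact Or.inl (by omega)
      · exact Or.inr (if_neg h)
    · apply Φ.injective
      rw [map_zero]
      funext i
      rw [hN, LinearEquiv.apply_symm_apply, Pi.zero_apply]
      simp only [qc]
      split_ifs with h
      · rw [mul_zero]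
      · rw [← map_mul, AdjoinRoot.mk_eq_zero]
        rcases (Nat.le_of_not_lt h).lt_or_eq with h1 | h1
        · have h0 : (f i).eval 1 = 0 := by
            refine eval_one_of_lin_dvd ?_
            have h2 := hdvd i
            rw [show e i = d + (e i - d) by omega, pow_add] at h2
            exact ((dvd_pow_self _ (by omega)).trans
              ((mul_dvd_mul_iff_left (pow_ne_zero _ (X_sub_C_ne_zero 1))).1 h2))
          have h3 := hdvd i
          rwa [hg i, h0, map_zero, zero_add, ← mul_assoc, ← pow_succ] at h3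
        · exact dvd_mul_of_dvd_left (pow_dvd_pow _ (by omega)) _
    · funext i
      rw [map_add, map_add, Pi.add_apply, Pi.add_apply, hcoord, hN1, LinearEquiv.apply_symm_apply,
        LinearEquiv.apply_symm_apply, ← hf i]
      simp only [a, pc, qc]
      rcases lt_trichotomy (e i) d with h | h | h
      · rw [if_neg h.ne, if_pos h, if_pos h, map_zero, map_zero, zero_add, mul_zero, add_zero]
      · rw [if_pos h, if_neg (by omega : ¬ e i < d), if_neg (by omega : ¬ e i < d), add_zero, ← map_mul, ← map_add,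
          ← hg i]
      · rw [if_neg h.ne', if_neg (by omega : ¬ e i < d), if_neg (by omega : ¬ e i < d), map_zero, map_zero, zero_add,
          zero_add, ← map_mul]
        congr 1
        have h0 : (f i).eval 1 = 0 := by
          refine eval_one_of_lin_dvd ?_
          have h2 := hdvd i
          rw [show e i = d + (e i - d) by omega, pow_add] at h2
          exact ((dvd_pow_self _ (by omega)).trans
            ((mul_dvd_mul_iff_left (pow_ne_zero _ (X_sub_C_ne_zero 1))).1 h2))
        conv_lhs => rw [hg i, h0, map_zero, zero_add]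
  · funext i
    by_cases hi : e i = d
    swap
    · exact ha i hi
    have h1 := congrFun (congrArg Φ hq) i
    obtain ⟨pp, hpp⟩ := AdjoinRoot.mk_surjective (Φ p i)
    obtain ⟨qq, hqq⟩ := AdjoinRoot.mk_surjective (Φ q i)
    rw [map_add, map_add, Pi.add_apply, Pi.add_apply, hcoord, hN1, ← hpp, ← hqq, ← map_mul, ← map_add, ← map_add,
      map_zero, Pi.zero_apply, AdjoinRoot.mk_eq_zero, hi] at h1
    have h2 : Φ (((φ - 1) ^ (d - 1)) p) i = 0 := by rw [hp, map_zero]; rfl
    rw [hN, ← hpp, ← map_mul, AdjoinRoot.mk_eq_zero] at h2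
    rw [show (lin : F[X]) ^ e i = lin ^ (d - 1) * lin by rw [← pow_succ]; congr 1; omega] at h2
    have h3 : pp.eval 1 = 0 :=
      eval_one_of_lin_dvd ((mul_dvd_mul_iff_left (pow_ne_zero _ (X_sub_C_ne_zero 1))).1 h2)
    have h4 : (C (a i) + pp + lin * qq).eval 1 = 0 :=
      eval_one_of_lin_dvd ((dvd_pow_self _ (by omega)).trans h1)
    simpa [lin, h3] using h4
  · haveI : ∀ k, Module.Finite F (AdjoinRoot ((lin : F[X]) ^ e k)) :=
      fun k => finite_adjoinRoot _ ((monic_X_sub_C 1).pow _)
    let w : ι → F := Function.update (fun _ => 1) i t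
    let D : (∀ k, AdjoinRoot ((lin : F[X]) ^ e k)) →ₗ[F] ∀ k, AdjoinRoot ((lin : F[X]) ^ e k) :=
      LinearMap.pi fun k => w k • LinearMap.proj k
    refine ⟨Φ.symm.conj D, LinearMap.ext fun v => Φ.injective (funext fun k => ?_), ?_, fun j hj => ?_, ?_⟩
    · simp only [Module.End.mul_apply, LinearEquiv.conj_apply_apply, LinearEquiv.symm_symm,
        LinearEquiv.apply_symm_apply, hΦ, rootMul_apply, D, LinearMap.pi_apply, LinearMap.smul_apply,
        LinearMap.proj_apply, mul_smul_comm]
    · refine Φ.injective (funext fun k => ?_)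
      simp only [LinearEquiv.conj_apply_apply, LinearEquiv.symm_symm, LinearEquiv.apply_symm_apply, map_smul, D, x,
        LinearMap.pi_apply, LinearMap.smul_apply, LinearMap.proj_apply, Pi.smul_apply]
      by_cases hk : k = i
      · subst hk; simp [w]
      · simp [hk]
    · refine Φ.injective (funext fun k => ?_)
      simp only [LinearEquiv.conj_apply_apply, LinearEquiv.symm_symm, LinearEquiv.apply_symm_apply, D, x,
        LinearMap.pi_apply, LinearMap.smul_apply, LinearMap.proj_apply]
      by_cases hk : k = j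
      · subst hk; simp [w, hj]
      · simp [hk]
    · let b := Pi.basis fun k => Module.finBasis F (AdjoinRoot ((lin : F[X]) ^ e k))
      have hmat : LinearMap.toMatrix b b D = Matrix.diagonal fun kl : (k : ι) × Fin _ => w kl.1 := by
        have hb : ∀ kl, D (b kl) = w kl.1 • b kl := fun ⟨k, l⟩ => funext fun k' => by
          by_cases hk : k' = k
          · subst hk; simp [D, b, Pi.basis_apply]
          · simp [D, b, Pi.basis_apply, hk]
        ext a c
        rw [LinearMap.toMatrix_apply, hb, map_smul, Finsupp.smul_apply, b.repr_self, smul_eq_mul,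
          Matrix.diagonal_apply, Finsupp.single_apply]
        by_cases hac : a = c
        · subst hac; simp
        · simp [hac, Ne.symm hac]
      rw [LinearEquiv.conj_apply, LinearMap.comp_assoc, LinearMap.det_conj, ← LinearMap.det_toMatrix b, hmat,
        Matrix.det_diagonal, Fintype.prod_sigma, Finset.prod_eq_single i]
      · simp [w, Finset.prod_const, (AdjoinRoot.powerBasis (pow_ne_zero _ (X_sub_C_ne_zero (1 : F)))).finrank,
          show (X - 1 : F[X]).natDegree = 1 by rw [← map_one C]; exact natDegree_X_sub_C 1]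
      · intro k _ hk
        simp [w, hk]
      · exact fun h' => absurd (Finset.mem_univ _) h'

/-! ## The pairing of a layer -/

variable [FiniteDimensional F V]
variable {B B' : LinearMap.BilinForm F V} {φ : Module.End F V} {c : F} {d : ℕ}

omit [FiniteDimensional F V] in
theorem ctx_of_signed (hc : c * c = 1) (hB : Signed c B φ) : UniForm.Ctx B φ :=
  ⟨fun x y h => by rw [hB.flip, h, mul_zero], hB.sep, hB.pres⟩

section Layer

variable (hc : c * c = 1) (hB : Signed c B φ) (hd : (φ - 1) ^ d = 0) {e : ℕ}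

omit [FiniteDimensional F V] in
include hc hB hd in
theorem pform_flip {u v : V} (hv : ((φ - 1) ^ e) v = 0) :
    pform B φ e u v = (-1) ^ (e - 1) * c * pform B φ e v u := by
  obtain ⟨w, hw, hwN, hadj⟩ := UniForm.exists_adj (ctx_of_signed hc hB) hd
  rw [pform_apply, pform_apply, hadj, hB.flip _ u, mul_assoc]
  congr 2
  rcases Nat.eq_zero_or_pos e with rfl | he
  · simp
  set z := ((φ - 1) ^ (e - 1)) v
  have hNz : (φ - 1) z = 0 := by
    rw [← Module.End.mul_apply, ← pow_succ', Nat.sub_add_cancel he]; exact hv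
  have hwz : w z = z := by
    have h := LinearMap.congr_fun hwN z
    rw [Module.End.mul_apply, hNz, map_zero, LinearMap.sub_apply, Module.End.one_apply] at h
    exact (sub_eq_zero.1 h.symm).symm
  have hwk : ∀ k : ℕ, (w ^ k) z = z := by
    intro k
    induction k with
    | zero => rfl
    | succ k ih => rw [pow_succ', Module.End.mul_apply, ih, hwz]
  rw [Module.End.mul_apply, hwk]

omit [FiniteDimensional F V] in
include hc hB hd in
theorem pform_low {p u : V} (hp : ((φ - 1) ^ (e - 1)) p = 0) (hu : ((φ - 1) ^ e) u = 0) :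
    pform B φ e p u = 0 ∧ pform B φ e u p = 0 := by
  have h : pform B φ e p u = 0 := by rw [pform_apply, hp, map_zero, LinearMap.zero_apply]
  refine ⟨h, ?_⟩
  have hp' : ((φ - 1) ^ e) p = 0 := by
    rcases Nat.eq_zero_or_pos e with rfl | he
    · simpa using hp
    · rw [show e = 1 + (e - 1) by omega, pow_add, Module.End.mul_apply, hp, map_zero]
  rw [pform_flip hc hB hd hp', h, mul_zero]

omit [FiniteDimensional F V] in
include hc hB hd in
theorem pform_shift {q u : V} (hq : ((φ - 1) ^ (e + 1)) q = 0) (hu : ((φ - 1) ^ e) u = 0) :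
    pform B φ e ((φ - 1) q) u = 0 ∧ pform B φ e u ((φ - 1) q) = 0 := by
  have hq' : ((φ - 1) ^ e) ((φ - 1) q) = 0 := by rw [← Module.End.mul_apply, ← pow_succ]; exact hq
  have h : pform B φ e ((φ - 1) q) u = 0 := by
    rcases Nat.eq_zero_or_pos e with rfl | he
    · rw [show u = 0 by simpa using hu, map_zero]
    rw [pform_apply, ← Module.End.mul_apply, ← pow_succ, Nat.sub_add_cancel he]
    obtain ⟨w, hw, -, hadj⟩ := UniForm.exists_adj (ctx_of_signed hc hB) hd
    rw [hadj, Module.End.mul_apply, hu, map_zero, map_zero, mul_zero]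
  exact ⟨h, by rw [pform_flip hc hB hd hq', h, mul_zero]⟩

variable {ι : Type*} [Fintype ι] {h : ι → ℕ} {x : ι → V} (hx : Gens φ h x)

omit [FiniteDimensional F V] in
include hc hB hd hx in
theorem exists_coef {z : V} (hz : ((φ - 1) ^ e) z = 0) :
    ∃ a : {i // h i = e} → F, ∀ u, ((φ - 1) ^ e) u = 0 →
      pform B φ e z u = ∑ i, a i * pform B φ e (x i.1) u ∧
      pform B φ e u z = ∑ i, a i * pform B φ e u (x i.1) := by
  classical
  obtain ⟨a, p, q, ha, hp, hq, rfl⟩ := hx.span e z hz
  refine ⟨fun i => a i.1, fun u hu => ?_⟩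
  have hsum : ∀ G : ι → F, ∑ i, a i * G i = ∑ i : {i // h i = e}, a i.1 * G i.1 := fun G => by
    rw [← Finset.sum_subtype (Finset.univ.filter fun i => h i = e) (by simp) (fun i => a i * G i),
      Finset.sum_filter]
    exact Finset.sum_congr rfl fun i _ => by
      split_ifs with hi
      · rfl
      · rw [ha i hi, zero_mul]
  have h1 := pform_low hc hB hd hp hu
  have h2 := pform_shift hc hB hd hq hu
  constructor
  · rw [map_add, map_add, LinearMap.add_apply, LinearMap.add_apply, h1.1, h2.1, add_zero, add_zero, map_sum,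
      LinearMap.sum_apply, ← hsum fun i => pform B φ e (x i) u]
    exact Finset.sum_congr rfl fun i _ => by rw [map_smul, LinearMap.smul_apply, smul_eq_mul]
  · rw [map_add, map_add, h1.2, h2.2, add_zero, add_zero, map_sum, ← hsum fun i => pform B φ e u (x i)]
    exact Finset.sum_congr rfl fun i _ => by rw [map_smul, smul_eq_mul]

include hc hB hd hx in
theorem coef_eq_zero (he : 1 ≤ e) (a : {i // h i = e} → F)
    (ha : ∀ j : {i // h i = e}, ∑ i, a i * pform B φ e (x i.1) (x j.1) = 0) : a = 0 := by
  classical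
  let b : ι → F := fun i => if hi : h i = e then a ⟨i, hi⟩ else 0
  set z := ∑ i, b i • x i with hzdef
  have hzK : ((φ - 1) ^ e) z = 0 := by
    rw [hzdef, map_sum]
    refine Finset.sum_eq_zero fun i _ => ?_
    rw [map_smul]
    by_cases hi : h i = e
    · rw [← hi, hx.height, smul_zero]
    · simp only [b, dif_neg hi, zero_smul]
  have hzb : ∀ u, pform B φ e z u = ∑ i : {i // h i = e}, a i * pform B φ e (x i.1) u := fun u => by
    rw [hzdef, map_sum, LinearMap.sum_apply]
    rw [← Finset.sum_subset (Finset.subset_univ (Finset.univ.filter fun i => h i = e)) (fun i _ hi => by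
      simp only [Finset.mem_filter, Finset.mem_univ, true_and] at hi
      simp only [b, dif_neg hi, zero_smul, map_zero, LinearMap.zero_apply])]
    rw [Finset.sum_subtype (p := fun i => h i = e) _ (by simp)]
    exact Finset.sum_congr rfl fun i _ => by
      simp only [b, dif_pos i.2, map_smul, LinearMap.smul_apply, smul_eq_mul]
  have hz0 : ∀ u, ((φ - 1) ^ e) u = 0 → pform B φ e z u = 0 := by
    intro u hu
    obtain ⟨a', ha'⟩ := exists_coef hc hB hd hx hu
    rw [(ha' z hzK).2]
    exact Finset.sum_eq_zero fun j _ => by rw [hzb, ha, mul_zero]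
  have hmem : ((φ - 1) ^ (e - 1)) z ∈ B.orthogonal (LinearMap.ker ((φ - 1) ^ e)) := fun u hu => by
    rw [hB.flip, ← pform_apply, hz0 u (LinearMap.mem_ker.1 hu), mul_zero]
  rw [UniForm.range_pow_eq (ctx_of_signed hc hB) hd] at hmem
  obtain ⟨w, hw⟩ := hmem
  have hp : ((φ - 1) ^ (e - 1)) (z - (φ - 1) w) = 0 := by
    rw [map_sub, ← Module.End.mul_apply _ (φ - 1), ← pow_succ, Nat.sub_add_cancel he, hw, sub_self]
  have hb := hx.indep e he b (-(z - (φ - 1) w)) (-w) (fun i hi => dif_neg hi) (by rw [map_neg, hp, neg_zero])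
    (by rw [← hzdef, map_neg]; abel)
  funext i
  have := congrFun hb i.1
  simpa [b, i.2] using this

include hc hB hd hx in
theorem det_gens_ne_zero (he : 1 ≤ e) [DecidableEq {i // h i = e}] :
    (pgram B φ e fun i : {i // h i = e} => x i.1).det ≠ 0 := by
  intro h0
  obtain ⟨a, ha0, ha⟩ := Matrix.exists_vecMul_eq_zero_iff.2 h0
  exact ha0 (coef_eq_zero hc hB hd hx he a fun j => congrFun ha j)

omit [FiniteDimensional F V] in
include hc hB hd hx in
theorem exists_gram_eq {l : ℕ} (w : Fin l → V) (hw : ∀ j, ((φ - 1) ^ e) (w j) = 0) :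
    ∃ A : Matrix (Fin l) {i // h i = e} F,
      pgram B φ e w = A * (pgram B φ e fun i : {i // h i = e} => x i.1) * A.transpose := by
  choose A hA using fun j => exists_coef hc hB hd hx (hw j)
  refine ⟨Matrix.of A, Matrix.ext fun i j => ?_⟩
  have hxK : ∀ i : {i // h i = e}, ((φ - 1) ^ e) (x i.1) = 0 := fun i => by
    have := hx.height i.1; rwa [i.2] at this
  rw [pgram_apply, (hA i (w j) (hw j)).1, Matrix.mul_apply]
  simp only [Matrix.mul_apply, Matrix.of_apply, Matrix.transpose_apply, pgram_apply]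
  rw [Finset.sum_congr rfl fun k _ => by rw [(hA j (x k.1) (hxK k)).2, Finset.mul_sum]]
  rw [Finset.sum_comm]
  refine Finset.sum_congr rfl fun k _ => ?_
  rw [Finset.sum_mul]
  exact Finset.sum_congr rfl fun m _ => by ring

include hc hB hd hx in
theorem discSq_iff (he : 1 ≤ e) [DecidableEq {i // h i = e}] :
    DiscSq B φ e ↔ IsSquare (pgram B φ e fun i : {i // h i = e} => x i.1).det := by
  classical
  set M := pgram B φ e fun i : {i // h i = e} => x i.1 with hM
  set k := Fintype.card {i // h i = e}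
  let σ : Fin k ≃ {i // h i = e} := (Fintype.equivFin _).symm
  have hM0 := det_gens_ne_zero hc hB hd hx he
  have hxK : ∀ i : Fin k, ((φ - 1) ^ e) (x (σ i).1) = 0 := fun i => by
    have := hx.height (σ i).1; rwa [(σ i).2] at this
  have hdet : (pgram B φ e fun i => x (σ i).1).det = M.det := by
    rw [show (pgram B φ e fun i => x (σ i).1) = M.submatrix σ σ from rfl, Matrix.det_submatrix_equiv_self]
  have hle : ∀ (l : ℕ) (w : Fin l → V), (∀ j, ((φ - 1) ^ e) (w j) = 0) → (pgram B φ e w).det ≠ 0 → l ≤ k := by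
    intro l w hw h0
    obtain ⟨A, hA⟩ := exists_gram_eq hc hB hd hx w hw
    have hr := Matrix.rank_of_isUnit _ ((Matrix.isUnit_iff_isUnit_det _).2 (Ne.isUnit h0))
    rw [hA, Fintype.card_fin] at hr
    calc l = (A * M * A.transpose).rank := hr.symm
      _ ≤ (A * M).rank := Matrix.rank_mul_le_left _ _
      _ ≤ M.rank := Matrix.rank_mul_le_right _ _
      _ ≤ k := Matrix.rank_le_card_width _
  constructor
  · rintro ⟨l, w, hw, h0, hsq, hmax⟩
    obtain rfl : l = k := le_antisymm (hle l w hw h0) (hmax k (fun i => x (σ i).1) hxK (by rw [hdet]; exact hM0))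
    obtain ⟨A, hA⟩ := exists_gram_eq hc hB hd hx w hw
    have e1 : pgram B φ e w =
        A.submatrix id σ * (pgram B φ e fun i => x (σ i).1) * (A.submatrix id σ).transpose := by
      rw [show (pgram B φ e fun i => x (σ i).1) = M.submatrix σ σ from rfl, Matrix.transpose_submatrix,
        Matrix.submatrix_mul_equiv, Matrix.submatrix_mul_equiv, Matrix.submatrix_id_id, ← hA]
    rw [e1, Matrix.det_mul, Matrix.det_mul, Matrix.det_transpose, hdet] at hsq h0
    obtain ⟨t, ht⟩ := hsq
    have ha : (A.submatrix id σ).det ≠ 0 := right_ne_zero_of_mul h0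
    exact ⟨t / (A.submatrix id σ).det, by field_simp; linear_combination ht⟩
  · intro hsq
    exact ⟨k, _, hxK, by rw [hdet]; exact hM0, by rw [hdet]; exact hsq, hle⟩

end Layer

/-! ## Congruence of matrices -/

theorem exists_congr_symm [Finite F] (h2 : (2 : F) ≠ 0) {k : ℕ} (M M' : Matrix (Fin k) (Fin k) F)
    (hM : M.transpose = M) (hM' : M'.transpose = M') (h0 : M.det ≠ 0) (h0' : M'.det ≠ 0)
    (hsq : IsSquare (M.det * M'.det)) : ∃ P : Matrix (Fin k) (Fin k) F, P.transpose * M * P = M' := by
  let Q : Matrix (Fin k) (Fin k) F → QuadraticForm F (Fin k → F) := fun N =>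
    (Matrix.toBilin' N : LinearMap.BilinForm F (Fin k → F)).toQuadraticMap
  have hpol : ∀ N : Matrix (Fin k) (Fin k) F, N.transpose = N →
      QuadraticMap.polarBilin (Q N) = (2 : F) • Matrix.toBilin' N := by
    intro N hN
    refine LinearMap.ext₂ fun x y => ?_
    simp only [Q, QuadraticMap.polarBilin_apply_apply, LinearMap.BilinMap.polar_toQuadraticMap, LinearMap.smul_apply,
      smul_eq_mul, Matrix.toBilin'_apply']
    have e : dotProduct y (N.mulVec x) = dotProduct x (N.mulVec y) := by
      rw [Matrix.dotProduct_mulVec, ← Matrix.mulVec_transpose, hN, dotProduct_comm]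
    rw [e]; ring
  have hnd : ∀ N : Matrix (Fin k) (Fin k) F, N.transpose = N → N.det ≠ 0 →
      (QuadraticMap.polarBilin (Q N)).Nondegenerate := by
    intro N hN hN0
    rw [hpol N hN, ← map_smul]
    refine LinearMap.BilinForm.nondegenerate_toBilin'_of_det_ne_zero' _ ?_
    rw [Matrix.det_smul]
    exact mul_ne_zero (pow_ne_zero _ h2) hN0
  have hof : ∀ N : Matrix (Fin k) (Fin k) F, N.transpose = N →
      (Matrix.of fun i j : Fin k => QuadraticMap.polar (Q N) (Pi.single i 1) (Pi.single j 1)) = (2 : F) • N := by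
    intro N hN
    ext i j
    rw [Matrix.of_apply, ← QuadraticMap.polarBilin_apply_apply, hpol N hN]
    simp [Matrix.toBilin'_single]
  obtain ⟨g, hg⟩ := (Classical.Quad.isometric_iff_disc h2 (Q M') (Q M) (hnd M' hM' h0') (hnd M hM h0)).2 (by
    rw [hof M' hM', hof M hM, Matrix.det_smul, Matrix.det_smul]
    obtain ⟨t, ht⟩ := hsq
    exact ⟨(2 : F) ^ Fintype.card (Fin k) * t, by linear_combination ((2 : F) ^ Fintype.card (Fin k)) ^ 2 * ht⟩)
  refine ⟨LinearMap.toMatrix' g.toLinearMap, Matrix.toBilin'.injective ?_⟩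
  rw [← Matrix.toBilin'_comp, Matrix.toLin'_toMatrix']
  refine LinearMap.ext₂ fun x y => ?_
  refine mul_left_cancel₀ h2 ?_
  have h1 : QuadraticMap.polar (Q M) (g x) (g y) = QuadraticMap.polar (Q M') x y := by
    simp only [QuadraticMap.polar, ← map_add, hg]
  rw [← QuadraticMap.polarBilin_apply_apply, ← QuadraticMap.polarBilin_apply_apply, hpol M hM, hpol M' hM'] at h1
  simpa using h1

theorem exists_congr [Finite F] (h2 : (2 : F) ≠ 0) {n : Type*} [Fintype n] [DecidableEq n] (M M' : Matrix n n F)
    (s : F) (hs : s = 1 ∨ s = -1) (hM : M.transpose = s • M) (hM' : M'.transpose = s • M') (h0 : M.det ≠ 0)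
    (h0' : M'.det ≠ 0) (hsq : s = 1 → IsSquare (M.det * M'.det)) :
    ∃ P : Matrix n n F, P.transpose * M * P = M' := by
  rcases hs with rfl | rfl
  · rw [one_smul] at hM hM'
    set σ : Fin (Fintype.card n) ≃ n := (Fintype.equivFin n).symm
    obtain ⟨P, hP⟩ := exists_congr_symm h2 (M.submatrix σ σ) (M'.submatrix σ σ)
      (by rw [Matrix.transpose_submatrix, hM]) (by rw [Matrix.transpose_submatrix, hM'])
      (by rwa [Matrix.det_submatrix_equiv_self]) (by rwa [Matrix.det_submatrix_equiv_self])
      (by rw [Matrix.det_submatrix_equiv_self, Matrix.det_submatrix_equiv_self]; exact hsq rfl)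
    refine ⟨P.submatrix σ.symm σ.symm, ?_⟩
    have h := congrArg (fun N : Matrix (Fin (Fintype.card n)) (Fin (Fintype.card n)) F =>
      N.submatrix σ.symm σ.symm) hP
    simp only [Matrix.submatrix_submatrix, Equiv.self_comp_symm, Matrix.submatrix_id_id] at h
    rw [← h, ← Matrix.submatrix_mul_equiv _ _ σ.symm σ.symm σ.symm,
      ← Matrix.submatrix_mul_equiv _ _ σ.symm σ.symm σ.symm, Matrix.submatrix_submatrix, Equiv.self_comp_symm,
      Matrix.submatrix_id_id, Matrix.transpose_submatrix]
  · have halt : ∀ N : Matrix n n F, N.transpose = (-1 : F) • N →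
        (Matrix.toBilin' N : LinearMap.BilinForm F (n → F)).IsAlt := by
      intro N hN x
      have e : dotProduct x (N.mulVec x) = -dotProduct x (N.mulVec x) := by
        conv_lhs => rw [Matrix.dotProduct_mulVec, ← Matrix.mulVec_transpose, hN, neg_one_smul, Matrix.neg_mulVec,
          neg_dotProduct, dotProduct_comm]
      rw [Matrix.toBilin'_apply']
      refine mul_left_cancel₀ h2 ?_
      linear_combination e
    obtain ⟨y, hy⟩ := exists_isometry (halt M hM)
      (LinearMap.BilinForm.nondegenerate_toBilin'_of_det_ne_zero' _ h0).1 (halt M' hM')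
      (LinearMap.BilinForm.nondegenerate_toBilin'_of_det_ne_zero' _ h0').1
    refine ⟨LinearMap.toMatrix' y, Matrix.toBilin'.injective ?_⟩
    rw [← Matrix.toBilin'_comp, Matrix.toLin'_toMatrix']
    exact LinearMap.ext₂ fun x z => hy x z

theorem isSquare_mul_of_iff [Finite F] {a b : F} (ha : a ≠ 0) (hb : b ≠ 0) (h : IsSquare a ↔ IsSquare b) :
    IsSquare (a * b) := by
  classical
  have : Fintype F := Fintype.ofFinite F
  rw [← quadraticChar_one_iff_isSquare (mul_ne_zero ha hb), map_mul]
  rcases quadraticChar_dichotomy ha with e | e <;> rcases quadraticChar_dichotomy hb with e' | e' <;> rw [e, e']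
  · norm_num
  · exact absurd (h.1 ((quadraticChar_one_iff_isSquare ha).1 e)) (quadraticChar_neg_one_iff_not_isSquare.1 e')
  · exact absurd (h.2 ((quadraticChar_one_iff_isSquare hb).1 e')) (quadraticChar_neg_one_iff_not_isSquare.1 e)
  · norm_num

/-! ## The layers determine the form -/

omit [FiniteDimensional F V] in
theorem isNilpotent_of_layers {u : Module.End F V} (hu : Commute u (φ - 1)) (hd : (φ - 1) ^ d = 0)
    (h : ∀ e, 1 ≤ e → ∀ z, ((φ - 1) ^ e) z = 0 →
      ∃ p q, ((φ - 1) ^ (e - 1)) p = 0 ∧ ((φ - 1) ^ (e + 1)) q = 0 ∧ u z = p + (φ - 1) q) :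
    IsNilpotent u := by
  have key : ∀ w e k, e + (d - k) ≤ w → ∀ z, ((φ - 1) ^ (e + k)) z = 0 → (u ^ w) (((φ - 1) ^ k) z) = 0 := by
    intro w
    induction w with
    | zero =>
      intro e k hle z hz
      rw [show k = d + (k - d) by omega, pow_add, hd, zero_mul]
      simp
    | succ w ih =>
      intro e k hle z hz
      rcases Nat.eq_zero_or_pos e with rfl | he
      · rw [zero_add] at hz; rw [hz, map_zero]
      rcases le_or_gt d k with hk | hk
      · rw [show ((φ - 1) ^ k) z = 0 by rw [show k = d + (k - d) by omega, pow_add, hd, zero_mul]; rfl, map_zero]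
      obtain ⟨p, q, hp, hq, hpq⟩ := h (e + k) (by omega) z hz
      rw [pow_succ, Module.End.mul_apply, ← Module.End.mul_apply u, (hu.pow_right k).eq, Module.End.mul_apply, hpq,
        map_add, map_add, ih (e - 1) k (by omega) p (by rwa [show e - 1 + k = e + k - 1 by omega]),
        ← Module.End.mul_apply _ (φ - 1), ← pow_succ,
        ih e (k + 1) (by omega) q (by rwa [show e + (k + 1) = e + k + 1 by omega]), add_zero]
  refine ⟨d + d, LinearMap.ext fun z => ?_⟩
  have := key (d + d) d 0 (by omega) z (by rw [add_zero, hd]; rfl)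
  simpa using this

variable [Finite F]

theorem exists_equiv_unipotent (h2 : (2 : F) ≠ 0) (hc : c * c = 1) (hB : Signed c B φ) (hB' : Signed c B' φ)
    (hd : (φ - 1) ^ d = 0)
    (hdisc : ∀ e, 1 ≤ e → (-1) ^ (e - 1) * c = 1 → (DiscSq B φ e ↔ DiscSq B' φ e)) :
    ∃ y : Module.End F V, Commute y φ ∧ ∀ a b, B (y a) (y b) = B' a b := by
  classical
  obtain ⟨m, -, hm⟩ := exists_hasType φ hd
  obtain ⟨ι, hι, h, x, hx, -⟩ := exists_gens hm
  have hxK : ∀ e, ∀ i : {i // h i = e}, ((φ - 1) ^ e) (x i.1) = 0 := fun e i => by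
    have := hx.height i.1; rwa [i.2] at this
  -- congruences on the layers
  have hP : ∀ e, ∃ P : Matrix {i // h i = e} {i // h i = e} F, 1 ≤ e →
      P.transpose * pgram B φ e (fun i : {i // h i = e} => x i.1) * P =
        pgram B' φ e (fun i : {i // h i = e} => x i.1) := by
    intro e
    by_cases he : 1 ≤ e
    swap
    · exact ⟨0, fun h => absurd h he⟩
    have h0 := det_gens_ne_zero hc hB hd hx he
    have h0' := det_gens_ne_zero hc hB' hd hx he
    obtain ⟨P, hP⟩ := exists_congr h2 (pgram B φ e fun i : {i // h i = e} => x i.1)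
      (pgram B' φ e fun i : {i // h i = e} => x i.1) ((-1) ^ (e - 1) * c)
      (by
        refine mul_self_eq_one_iff.1 ?_
        rw [mul_mul_mul_comm, hc, ← mul_pow, neg_one_mul, neg_neg, one_pow, mul_one])
      (Matrix.ext fun i j => by
        rw [Matrix.transpose_apply, Matrix.smul_apply, smul_eq_mul, pgram_apply, pgram_apply,
          pform_flip hc hB hd (hxK e i)])
      (Matrix.ext fun i j => by
        rw [Matrix.transpose_apply, Matrix.smul_apply, smul_eq_mul, pgram_apply, pgram_apply,
          pform_flip hc hB' hd (hxK e i)])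
      h0 h0' (fun hs => isSquare_mul_of_iff h0 h0' (by
        rw [← discSq_iff hc hB hd hx he, ← discSq_iff hc hB' hd hx he]; exact hdisc e he hs))
    exact ⟨P, fun _ => hP⟩
  choose P hP using hP
  -- a map in the centraliser matching the layers
  let yv : ι → V := fun i => ∑ k : {k // h k = h i}, P (h i) k ⟨i, rfl⟩ • x k.1
  have hyK : ∀ i, ((φ - 1) ^ h i) (yv i) = 0 := fun i => by
    rw [map_sum]
    exact Finset.sum_eq_zero fun k _ => by rw [map_smul, hxK _ k, smul_zero]
  obtain ⟨g, hgc, hg⟩ := hx.extend yv hyK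
  have hgi : ∀ e (i : {i // h i = e}), g (x i.1) = ∑ k : {k // h k = e}, P e k i • x k.1 := by
    rintro e ⟨i, rfl⟩; exact hg i
  have hgN : ∀ (k : ℕ) (v : V), g (((φ - 1) ^ k) v) = ((φ - 1) ^ k) (g v) := fun k v => by
    rw [← Module.End.mul_apply, ((hgc.sub_right (Commute.one_right g)).pow_right k).eq, Module.End.mul_apply]
  let C : LinearMap.BilinForm F V := B.comp g g
  have hlayer : ∀ e, 1 ≤ e → ∀ z, ((φ - 1) ^ e) z = 0 → ∀ u, ((φ - 1) ^ e) u = 0 →
      C (((φ - 1) ^ (e - 1)) z) u = pform B' φ e z u := by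
    intro e he z hz u hu
    show B (g (((φ - 1) ^ (e - 1)) z)) (g u) = _
    rw [hgN, ← pform_apply]
    have hgz : ((φ - 1) ^ e) (g z) = 0 := by rw [← hgN, hz, map_zero]
    have hgu : ((φ - 1) ^ e) (g u) = 0 := by rw [← hgN, hu, map_zero]
    have hgx : ∀ i : {i // h i = e}, ((φ - 1) ^ e) (g (x i.1)) = 0 := fun i => by rw [← hgN, hxK e i, map_zero]
    obtain ⟨a, p, q, ha, hp, hq, rfl⟩ := hx.span e z hz
    obtain ⟨b, p', q', hb, hp', hq', rfl⟩ := hx.span e u hu
    have hgN1 : ∀ v, g ((φ - 1) v) = (φ - 1) (g v) := fun v => by simpa using hgN 1 v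
    have hp2 : ((φ - 1) ^ (e - 1)) (g p) = 0 := by rw [← hgN, hp, map_zero]
    have hp2' : ((φ - 1) ^ (e - 1)) (g p') = 0 := by rw [← hgN, hp', map_zero]
    have hq2 : ((φ - 1) ^ (e + 1)) (g q) = 0 := by rw [← hgN, hq, map_zero]
    have hq2' : ((φ - 1) ^ (e + 1)) (g q') = 0 := by rw [← hgN, hq', map_zero]
    set za := ∑ i, a i • x i
    set ub := ∑ i, b i • x i
    have hsumK : ∀ (a : ι → F), (∀ i, h i ≠ e → a i = 0) → ((φ - 1) ^ e) (∑ i, a i • x i) = 0 := by
      intro a ha
      rw [map_sum]
      refine Finset.sum_eq_zero fun i _ => ?_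
      rw [map_smul]
      by_cases hi : h i = e
      · rw [← hi, hx.height, smul_zero]
      · rw [ha i hi, zero_smul]
    have hzaK : ((φ - 1) ^ e) za = 0 := hsumK a ha
    have hubK : ((φ - 1) ^ e) ub = 0 := hsumK b hb
    have l1 := pform_low hc hB hd hp2 hgu
    have s1 := pform_shift hc hB hd hq2 hgu
    have hgza : ((φ - 1) ^ e) (g za) = 0 := by rw [← hgN, hzaK, map_zero]
    have l2 := pform_low hc hB hd hp2' hgza
    have s2 := pform_shift hc hB hd hq2' hgza
    have l1' := pform_low hc hB' hd hp hu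
    have s1' := pform_shift hc hB' hd hq hu
    have l2' := pform_low hc hB' hd hp' hzaK
    have s2' := pform_shift hc hB' hd hq' hzaK
    calc pform B φ e (g (za + p + (φ - 1) q)) (g (ub + p' + (φ - 1) q'))
        = pform B φ e (g za) (g (ub + p' + (φ - 1) q')) := by
          rw [map_add g (za + p), map_add g za, hgN1, map_add, map_add, LinearMap.add_apply, LinearMap.add_apply,
            l1.1, s1.1, add_zero, add_zero]
      _ = pform B φ e (g za) (g ub) := by
          rw [map_add g (ub + p'), map_add g ub, hgN1, map_add, map_add, l2.2, s2.2, add_zero, add_zero]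
      _ = pform B' φ e za ub := by
          simp only [za, ub, map_sum, map_smul, LinearMap.sum_apply, LinearMap.smul_apply, smul_eq_mul, Finset.mul_sum]
          refine Finset.sum_congr rfl fun j _ => Finset.sum_congr rfl fun i _ => ?_
          by_cases hi : h i = e
          swap
          · rw [ha i hi]; ring
          by_cases hj : h j = e
          swap
          · rw [hb j hj]; ring
          have key : pform B φ e (g (x i)) (g (x j)) = pform B' φ e (x i) (x j) := by
            have hM := congrFun (congrFun (hP e he) ⟨i, hi⟩) ⟨j, hj⟩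
            rw [pgram_apply] at hM
            rw [← hM, hgi e ⟨i, hi⟩, hgi e ⟨j, hj⟩, map_sum, map_sum, Matrix.mul_apply]
            simp only [LinearMap.sum_apply, map_smul, LinearMap.smul_apply, smul_eq_mul, Matrix.mul_apply,
              Matrix.transpose_apply, pgram_apply, Finset.sum_mul, Finset.mul_sum]
            refine Finset.sum_congr rfl fun k _ => Finset.sum_congr rfl fun l _ => ?_
            ring
          rw [key]
      _ = pform B' φ e (za + p + (φ - 1) q) (ub + p' + (φ - 1) q') := by
          symm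
          rw [map_add (pform B' φ e), map_add (pform B' φ e), LinearMap.add_apply, LinearMap.add_apply, l1'.1,
            s1'.1, add_zero, add_zero, map_add, map_add, l2'.2, s2'.2, add_zero, add_zero]
  let G : Module.End F V := LinearMap.BilinForm.symmCompOfNondegenerate C B' hB'.nondeg
  have hG : ∀ a b, B' (G a) b = C a b := fun a b => C.symmCompOfNondegenerate_left_apply hB'.nondeg b a
  have huniq : ∀ f f' : Module.End F V, (∀ a b, B' (f a) b = B' (f' a) b) → f = f' := fun f f' e =>
    LinearMap.ext fun a => sub_eq_zero.1 (hB'.sep _ fun b => by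
      rw [map_sub, LinearMap.sub_apply, e, sub_self])
  have hφ : Function.Surjective φ := LinearMap.injective_iff_surjective.1 hB'.injective
  have hgφ : ∀ a, g (φ a) = φ (g a) := fun a => LinearMap.congr_fun hgc.eq a
  have hGφ : Commute G φ := huniq _ _ fun a b => by
    obtain ⟨b, rfl⟩ := hφ b
    rw [Module.End.mul_apply, Module.End.mul_apply, hG, hB'.pres, hG]
    show B (g (φ a)) (g (φ b)) = B (g a) (g b)
    rw [hgφ, hgφ, hB.pres]
  have hGN : Commute (G - 1) (φ - 1) :=
    (hGφ.sub_right (Commute.one_right _)).sub_left (Commute.one_left _)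
  have hnil : IsNilpotent (G - 1) := by
    refine isNilpotent_of_layers hGN hd fun e he z hz => ?_
    have hGz : ((φ - 1) ^ e) ((G - 1) z) = 0 := by
      rw [← Module.End.mul_apply, ← (hGN.pow_right e).eq, Module.End.mul_apply, hz, map_zero]
    have hrad : ∀ u, ((φ - 1) ^ e) u = 0 → pform B' φ e ((G - 1) z) u = 0 := by
      intro u hu
      rw [pform_apply, ← Module.End.mul_apply _ (G - 1), ← (hGN.pow_right (e - 1)).eq, Module.End.mul_apply,
        LinearMap.sub_apply, Module.End.one_apply, map_sub, LinearMap.sub_apply, hG, hlayer e he z hz u hu,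
        pform_apply, sub_self]
    obtain ⟨a, p, q, ha, hp, hq, hpq⟩ := hx.span e _ hGz
    refine ⟨p, q, hp, hq, ?_⟩
    suffices h' : (fun i : {i // h i = e} => a i.1) = 0 by
      rw [hpq, Finset.sum_eq_zero fun i _ => ?_, zero_add]
      by_cases hi : h i = e
      · rw [show a i = 0 from congrFun h' ⟨i, hi⟩, zero_smul]
      · rw [ha i hi, zero_smul]
    refine coef_eq_zero hc hB' hd hx he _ fun j => ?_
    have h1 := hrad (x j.1) (hxK e j)
    have l := pform_low hc hB' hd hp (hxK e j)
    have s := pform_shift hc hB' hd hq (hxK e j)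
    rw [hpq, map_add, map_add, LinearMap.add_apply, LinearMap.add_apply, l.1, s.1, add_zero, add_zero, map_sum,
      LinearMap.sum_apply, ← Finset.sum_subset (Finset.subset_univ (Finset.univ.filter fun i => h i = e))
        (fun i _ hi => by
          simp only [Finset.mem_filter, Finset.mem_univ, true_and] at hi
          simp [ha i hi]), Finset.sum_subtype (p := fun i => h i = e) _ (by simp)] at h1
    simpa using h1
  -- a self-adjoint square root
  let T : Subalgebra F (Module.End F V) := Algebra.adjoin F {G}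
  have hcomm : ∀ a b : T, a * b = b * a := by
    have hT : IsMulCommutative T := Algebra.isMulCommutative_adjoin F (by
      rintro a rfl b rfl; rfl)
    exact fun a b => hT.is_comm.comm a b
  letI : CommRing T := { (inferInstance : Ring T) with mul_comm := hcomm }
  let GT : T := ⟨G, Algebra.subset_adjoin rfl⟩
  have hnilT : IsNilpotent (GT - 1) := by
    obtain ⟨k, hk⟩ := hnil
    exact ⟨k, Subtype.ext hk⟩
  obtain ⟨U, hU⟩ : IsUnit GT := by
    have := hnilT.isUnit_one_add
    rwa [add_sub_cancel] at this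
  have h2T : (2 : T) = algebraMap F T 2 := (map_ofNat _ 2).symm
  obtain ⟨k, hk⟩ : IsNilpotent ((1 : T) - ↑U⁻¹) := by
    have e : (1 : T) - ↑U⁻¹ = ↑U⁻¹ * (GT - 1) := by rw [mul_sub, ← hU, Units.inv_mul, mul_one]
    rw [e]
    exact (Commute.all _ _).isNilpotent_mul_left hnilT
  obtain ⟨r, hr⟩ := NormLift.exists_norm_of_nilpotent (RingHom.id T) (fun _ => rfl)
    (z := algebraMap F T (1 / 2)) (t := U)
    (by rw [RingHom.id_apply, ← map_add, show (1 / 2 : F) + 1 / 2 = 1 by field_simp; ring, map_one]) rfl k 1 (1 - ↑U⁻¹)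
    (by rw [map_one, one_mul, sub_sub_cancel, Units.mul_inv])
    (pow_eq_zero_of_le (Nat.lt_two_pow_self (n := k)).le hk)
  rw [RingHom.id_apply, hU] at hr
  obtain ⟨R, hR⟩ : IsUnit r := isUnit_of_mul_isUnit_left (hr ▸ hU ▸ U.isUnit)
  have hsymm : ∀ a b, B' a (G b) = B' (G a) b := fun a b => by
    rw [hB'.flip (G b) a, hG, hG]
    show c * B (g b) (g a) = B (g a) (g b)
    rw [hB.flip (g a) (g b), ← mul_assoc, hc, one_mul]
  have hself : ∀ f ∈ T, ∀ a b, B' a (f b) = B' (f a) b := by
    intro f hf
    suffices H : Commute f G ∧ ∀ a b, B' a (f b) = B' (f a) b from H.2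
    induction hf using Algebra.adjoin_induction with
    | mem f hf => rw [Set.mem_singleton_iff.1 hf]; exact ⟨Commute.refl _, hsymm⟩
    | algebraMap k =>
      exact ⟨Algebra.commute_algebraMap_left k G, fun a b => by simp [Module.algebraMap_end_apply]⟩
    | add f f' _ _ hf hf' =>
      exact ⟨hf.1.add_left hf'.1, fun a b => by simp [hf.2, hf'.2]⟩
    | mul f f' hfm hfm' hf hf' =>
      refine ⟨hf.1.mul_left hf'.1, fun a b => ?_⟩
      rw [Module.End.mul_apply, hf.2, hf'.2, ← Module.End.mul_apply,
        show f' * f = f * f' from congrArg Subtype.val (hcomm ⟨f', hfm'⟩ ⟨f, hfm⟩)]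
  have hTφ : ∀ f ∈ T, Commute f φ := by
    intro f hf
    induction hf using Algebra.adjoin_induction with
    | mem f hf => rw [Set.mem_singleton_iff.1 hf]; exact hGφ
    | algebraMap k => exact Algebra.commute_algebraMap_left k φ
    | add f f' _ _ hf hf' => exact hf.add_left hf'
    | mul f f' _ _ hf hf' => exact hf.mul_left hf'
  refine ⟨g * (↑R⁻¹ : T).1, hgc.mul_left (hTφ _ (Subtype.mem _)), fun a b => ?_⟩
  set a' := (↑R⁻¹ : T).1 a
  set b' := (↑R⁻¹ : T).1 b
  show C a' b' = B' a b
  have hRR : ∀ v, r.1 ((↑R⁻¹ : T).1 v) = v := fun v => by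
    rw [← hR, ← Module.End.mul_apply]
    exact LinearMap.congr_fun (congrArg Subtype.val R.mul_inv) v
  rw [← hG, show G = r.1 * r.1 from (congrArg Subtype.val hr).symm, Module.End.mul_apply,
    ← hself _ r.2, hRR, hRR]

end Cfsg.Agent.FormClass
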