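import Cfsg.Agent.MatModule.FormPieces

/-!
# Invariant forms with prescribed layers
-/

set_option autoImplicit false

namespace Cfsg.Agent.FormClass

open Module Cfsg.Agent.MatModule Cfsg.Agent.SympConj

universe u v

variable {F : Type u} [Field F] {V : Type v} [AddCommGroup V] [Module F V] [FiniteDimensional F V]
variable {B C : LinearMap.BilinForm F V} {φ : Module.End F V} {c : F} {d : ℕ}
variable {ι : Type*} [Fintype ι] {h : ι → ℕ} {x : ι → V}

omit [FiniteDimensional F V] in
/-- An invariant form is nondegenerate if all its layers are. -/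
theorem sep_of_layers (hd : (φ - 1) ^ d = 0) (hx : Gens φ h x) (hflip : ∀ a b, C b a = c * C a b)
    (hpres : ∀ a b, C (φ a) (φ b) = C a b)
    (hlow : ∀ e u p q, ((φ - 1) ^ e) u = 0 → ((φ - 1) ^ (e - 1)) p = 0 → ((φ - 1) ^ (e + 1)) q = 0 →
      pform C φ e p u = 0 ∧ pform C φ e ((φ - 1) q) u = 0)
    (hlayer : ∀ e, 1 ≤ e → ∀ a : {i // h i = e} → F,
      (∀ j : {i // h i = e}, ∑ i, a i * pform C φ e (x i.1) (x j.1) = 0) → a = 0) :
    ∀ z, (∀ u, C z u = 0) → z = 0 := by
  classical
  intro z hz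
  by_contra hz0
  have hstab : ∀ k : ℕ, ∀ u, C (((φ - 1) ^ k) z) u = 0 := by
    intro k
    induction k with
    | zero => exact hz
    | succ k ih =>
      intro u
      rw [pow_succ', Module.End.mul_apply, LinearMap.sub_apply, Module.End.one_apply, map_sub, LinearMap.sub_apply,
        ih, sub_zero]
      obtain ⟨W, hW⟩ := UniForm.isUnit_phi hd
      have hu : φ ((↑W⁻¹ : Module.End F V) u) = u := by
        rw [← hW, ← Module.End.mul_apply, W.mul_inv, Module.End.one_apply]
      rw [← hu, hpres, ih]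
  have hex : ∃ k : ℕ, ((φ - 1) ^ k) z = 0 := ⟨d, by rw [hd]; rfl⟩
  obtain ⟨k, hk⟩ : ∃ k, Nat.find hex = k + 1 := by
    refine ⟨Nat.find hex - 1, (Nat.sub_add_cancel (Nat.one_le_iff_ne_zero.2 fun h0 => hz0 ?_)).symm⟩
    simpa [h0] using Nat.find_spec hex
  have hkz := Nat.find_min hex (show k < Nat.find hex by omega)
  set t := ((φ - 1) ^ k) z with ht
  have hNt : (φ - 1) t = 0 := by
    rw [ht, ← Module.End.mul_apply, ← pow_succ', ← hk]; exact Nat.find_spec hex
  -- `t` in the image of the largest possible power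
  have hP : ∃ e : ℕ, ¬ ∃ w, ((φ - 1) ^ e) w = t := ⟨d, fun ⟨w, hw⟩ => hkz (by rw [← hw, hd]; rfl)⟩
  obtain ⟨e, he⟩ : ∃ e, Nat.find hP = e := ⟨_, rfl⟩
  have he0 : 1 ≤ e := by
    rw [← he]
    by_contra h0
    rw [not_le, Nat.lt_one_iff] at h0
    have := Nat.find_spec hP
    rw [h0] at this
    exact this ⟨t, rfl⟩
  obtain ⟨w, hw⟩ := not_not.1 (Nat.find_min hP (show e - 1 < Nat.find hP by omega))
  have hwK : ((φ - 1) ^ e) w = 0 := by
    rw [show e = 1 + (e - 1) by omega, pow_add, Module.End.mul_apply, hw, pow_one, hNt]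
  obtain ⟨a, p, q, ha, hp, hq, hwd⟩ := hx.span e w hwK
  have hzero : (fun i : {i // h i = e} => a i.1) = 0 := by
    refine hlayer e he0 _ fun j => ?_
    have hjK : ((φ - 1) ^ e) (x j.1) = 0 := by
      have := hx.height j.1; rwa [j.2] at this
    have h1 : pform C φ e w (x j.1) = 0 := by rw [pform_apply, hw]; exact hstab k _
    obtain ⟨l1, l2⟩ := hlow e (x j.1) p q hjK hp hq
    rw [hwd, map_add, map_add, LinearMap.add_apply, LinearMap.add_apply, l1, l2, add_zero, add_zero, map_sum,
      LinearMap.sum_apply, ← Finset.sum_subset (Finset.subset_univ (Finset.univ.filter fun i => h i = e))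
        (fun i _ hi => by
          simp only [Finset.mem_filter, Finset.mem_univ, true_and] at hi
          simp [ha i hi]), Finset.sum_subtype (p := fun i => h i = e) _ (by simp)] at h1
    simpa using h1
  refine Nat.find_spec hP ⟨q, ?_⟩
  rw [he, ← hw, hwd, Finset.sum_eq_zero fun i _ => ?_, zero_add, map_add, hp, zero_add, ← Module.End.mul_apply _ (φ - 1),
    ← pow_succ, Nat.sub_add_cancel he0]
  by_cases hi : h i = e
  · rw [show a i = 0 from congrFun hzero ⟨i, hi⟩, zero_smul]
  · rw [ha i hi, zero_smul]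

/-- Any nondegenerate Gram matrices of the right symmetry are those of an invariant form. -/
theorem exists_form_with_layers (h2 : (2 : F) ≠ 0) (hc : c * c = 1) (hB : Signed c B φ) (hd : (φ - 1) ^ d = 0)
    (hx : Gens φ h x) (M : ∀ e, Matrix {i // h i = e} {i // h i = e} F)
    (hM : ∀ e, 1 ≤ e → (M e).transpose = ((-1) ^ (e - 1) * c) • M e)
    (hM0 : ∀ e, 1 ≤ e → ∀ a : {i // h i = e} → F, Matrix.vecMul a (M e) = 0 → a = 0) :
    ∃ B' : LinearMap.BilinForm F V, Signed c B' φ ∧
      ∀ e, 1 ≤ e → pgram B' φ e (fun i : {i // h i = e} => x i.1) = M e := by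
  classical
  set σ : ℕ → F := fun e => (-1) ^ (e - 1) * c with hσ
  have hxK : ∀ e, ∀ i : {i // h i = e}, ((φ - 1) ^ e) (x i.1) = 0 := fun e i => by
    have := hx.height i.1; rwa [i.2] at this
  set G : ∀ e, Matrix {i // h i = e} {i // h i = e} F := fun e =>
    pgram B φ e fun i : {i // h i = e} => x i.1 with hG
  let A : ∀ e, Matrix {i // h i = e} {i // h i = e} F := fun e => (G e)⁻¹ * ((2 : F)⁻¹ • M e)
  have hGA : ∀ e, 1 ≤ e → G e * A e = (2 : F)⁻¹ • M e := fun e he => by
    rw [← Matrix.mul_assoc, Matrix.mul_nonsing_inv _ (Ne.isUnit (det_gens_ne_zero hc hB hd hx he)), Matrix.one_mul]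
  have hσσ : ∀ e, σ e * σ e = 1 := fun e => by
    rw [hσ, mul_mul_mul_comm, hc, ← mul_pow, neg_one_mul, neg_neg, one_pow, mul_one]
  have hGT : ∀ e, 1 ≤ e → (G e).transpose = σ e • G e := fun e _ => Matrix.ext fun i j => by
    show pform B φ e (x j.1) (x i.1) = σ e * pform B φ e (x i.1) (x j.1)
    rw [pform_flip hc hB hd (hxK e i)]
  have hAG : ∀ e, 1 ≤ e → (A e).transpose * G e = (2 : F)⁻¹ • M e := fun e he => by
    have h1 : ((G e).transpose * A e).transpose = (A e).transpose * G e := by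
      rw [Matrix.transpose_mul, Matrix.transpose_transpose]
    rw [← h1, hGT e he, Matrix.smul_mul, hGA e he, Matrix.transpose_smul, Matrix.transpose_smul, hM e he,
      smul_comm (2 : F)⁻¹, smul_smul, hσσ, one_smul]
  let yv : ι → V := fun i => ∑ k : {k // h k = h i}, A (h i) k ⟨i, rfl⟩ • x k.1
  have hyK : ∀ i, ((φ - 1) ^ h i) (yv i) = 0 := fun i => by
    rw [map_sum]
    exact Finset.sum_eq_zero fun k _ => by rw [map_smul, hxK _ k, smul_zero]
  obtain ⟨g, hgc, hg⟩ := hx.extend yv hyK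
  have hgi : ∀ e (i : {i // h i = e}), g (x i.1) = ∑ k : {k // h k = e}, A e k i • x k.1 := by
    rintro e ⟨i, rfl⟩; exact hg i
  let C : LinearMap.BilinForm F V := B.compLeft g + B.compRight g
  have hC : ∀ a b, C a b = B (g a) b + B a (g b) := fun a b => rfl
  have hgφ : ∀ a, g (φ a) = φ (g a) := fun a => LinearMap.congr_fun hgc.eq a
  have hflip : ∀ a b, C b a = c * C a b := fun a b => by
    rw [hC, hC, hB.flip a (g b), hB.flip (g a) b]; ring
  have hpres : ∀ a b, C (φ a) (φ b) = C a b := fun a b => by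
    rw [hC, hC, hgφ, hgφ, hB.pres, hB.pres]
  have hgN : ∀ (k : ℕ) (v : V), g (((φ - 1) ^ k) v) = ((φ - 1) ^ k) (g v) := fun k v => by
    rw [← Module.End.mul_apply, ((hgc.sub_right (Commute.one_right g)).pow_right k).eq, Module.End.mul_apply]
  have hCf : ∀ e a b, pform C φ e a b = pform B φ e (g a) b + pform B φ e a (g b) := fun e a b => by
    rw [pform_apply, hC, hgN]; rfl
  have hgram : ∀ e, 1 ≤ e → pgram C φ e (fun i : {i // h i = e} => x i.1) = M e := by
    intro e he
    ext i j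
    have e1 : pform B φ e (g (x i.1)) (x j.1) = ((A e).transpose * G e) i j := by
      rw [hgi, map_sum, LinearMap.sum_apply, Matrix.mul_apply]
      exact Finset.sum_congr rfl fun k _ => by
        rw [map_smul, LinearMap.smul_apply, smul_eq_mul, Matrix.transpose_apply]; rfl
    have e2 : pform B φ e (x i.1) (g (x j.1)) = (G e * A e) i j := by
      rw [hgi, map_sum, Matrix.mul_apply]
      exact Finset.sum_congr rfl fun k _ => by rw [map_smul, smul_eq_mul, mul_comm]; rfl
    rw [pgram_apply, hCf, e1, e2, hAG e he, hGA e he, Matrix.smul_apply, smul_eq_mul, ← two_mul,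
      mul_inv_cancel_left₀ h2]
  have hlow : ∀ e u p q, ((φ - 1) ^ e) u = 0 → ((φ - 1) ^ (e - 1)) p = 0 → ((φ - 1) ^ (e + 1)) q = 0 →
      pform C φ e p u = 0 ∧ pform C φ e ((φ - 1) q) u = 0 := by
    intro e u p q hu hp hq
    have hgu : ((φ - 1) ^ e) (g u) = 0 := by rw [← hgN, hu, map_zero]
    have hgp : ((φ - 1) ^ (e - 1)) (g p) = 0 := by rw [← hgN, hp, map_zero]
    have hgq : ((φ - 1) ^ (e + 1)) (g q) = 0 := by rw [← hgN, hq, map_zero]
    have hg1 : g ((φ - 1) q) = (φ - 1) (g q) := by simpa using hgN 1 q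
    constructor
    · rw [hCf, (pform_low hc hB hd hgp hu).1, (pform_low hc hB hd hp hgu).1, add_zero]
    · rw [hCf, hg1, (pform_shift hc hB hd hgq hu).1, (pform_shift hc hB hd hq hgu).1, add_zero]
  refine ⟨C, ⟨hflip, sep_of_layers hd hx hflip hpres hlow ?_, hpres⟩, hgram⟩
  intro e he a ha
  refine hM0 e he a (funext fun j => ?_)
  rw [← hgram e he]
  exact ha j

end Cfsg.Agent.FormClass
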