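import Cfsg.Agent.MatModule.FormPieces
import Cfsg.Agent.MatModule.ClassSeq

/-!
# Invariant forms of an arbitrary isometry

Splitting off the generalised eigenspaces of `1` and `-1`: two invariant forms are equivalent under the centraliser
as soon as the discriminant classes of their layers at these eigenvalues agree.
-/

set_option autoImplicit false

namespace Cfsg.Agent.FormClass

open Module Polynomial Cfsg.Agent.MatModule Cfsg.Agent.SympConj

universe u v w

variable {F : Type u} [Field F] {V : Type v} [AddCommGroup V] [Module F V]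
variable {B B' : LinearMap.BilinForm F V} {a : Module.End F V} {c : F}

theorem pow_intertwine {W : Type w} [AddCommGroup W] [Module F W] (ι : W →ₗ[F] V) {f : Module.End F W}
    {g : Module.End F V} (h : ∀ x, ι (f x) = g (ι x)) (k : ℕ) : ∀ x, ι ((f ^ k) x) = (g ^ k) (ι x) := by
  induction k with
  | zero => intro x; rfl
  | succ k ih =>
    intro x
    rw [pow_succ', Module.End.mul_apply, h, ih, pow_succ', Module.End.mul_apply]

/-- Discriminant classes of layers along an embedding containing the layer. -/
theorem discSq_map {W : Type w} [AddCommGroup W] [Module F W] (ι : W →ₗ[F] V) (hι : Function.Injective ι)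
    (C : LinearMap.BilinForm F W) (hC : ∀ x y, C x y = B (ι x) (ι y)) {f : Module.End F W} {φ : Module.End F V}
    (hf : ∀ x, ι (f x) = φ (ι x)) {e : ℕ} (hker : LinearMap.ker ((φ - 1) ^ e) ≤ LinearMap.range ι) :
    DiscSq C f e ↔ DiscSq B φ e := by
  have hN : ∀ x, ι ((f - 1) x) = (φ - 1) (ι x) := fun x => by
    simp only [LinearMap.sub_apply, Module.End.one_apply, map_sub, hf]
  have hpow := pow_intertwine ι hN
  have hG : ∀ {k : ℕ} (v : Fin k → W), pgram C f e v = pgram B φ e fun i => ι (v i) := fun v => by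
    ext i j
    rw [pgram_apply, pgram_apply, pform_apply, pform_apply, hC, hpow]
  have hmem : ∀ {k : ℕ} (v : Fin k → W), (∀ i, ((f - 1) ^ e) (v i) = 0) ↔ ∀ i, ((φ - 1) ^ e) (ι (v i)) = 0 :=
    fun v => forall_congr' fun i => by rw [← hpow]; exact ((map_eq_zero_iff ι hι).symm)
  have hlift : ∀ {k : ℕ} (v : Fin k → V), (∀ i, ((φ - 1) ^ e) (v i) = 0) →
      ∃ u : Fin k → W, (∀ i, ι (u i) = v i) := fun v hv => by
    choose u hu using fun i => hker (LinearMap.mem_ker.2 (hv i))
    exact ⟨u, hu⟩
  constructor
  · rintro ⟨k, v, hv, h0, hsq, hmax⟩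
    refine ⟨k, fun i => ι (v i), (hmem v).1 hv, hG v ▸ h0, hG v ▸ hsq, fun l w hw hw0 => ?_⟩
    obtain ⟨u, hu⟩ := hlift w hw
    obtain rfl : w = fun i => ι (u i) := funext fun i => (hu i).symm
    exact hmax l u ((hmem u).2 hw) ((hG u).symm ▸ hw0)
  · rintro ⟨k, v, hv, h0, hsq, hmax⟩
    obtain ⟨u, hu⟩ := hlift v hv
    obtain rfl : v = fun i => ι (u i) := funext fun i => (hu i).symm
    exact ⟨k, u, (hmem u).2 hv, (hG u).symm ▸ h0, (hG u).symm ▸ hsq,
      fun l w hw hw0 => hmax l (fun i => ι (w i)) ((hmem w).1 hw) (hG w ▸ hw0)⟩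

variable [FiniteDimensional F V]

omit [FiniteDimensional F V] in
theorem signed_smul {s : F} (hs : s * s = 1) (hB : Signed c B a) : Signed c B (s • a) :=
  ⟨hB.flip, hB.sep, fun x y => by
    simp only [LinearMap.smul_apply, map_smul, smul_eq_mul, hB.pres]
    rw [← mul_assoc, hs, one_mul]⟩

omit [FiniteDimensional F V] in
theorem smul_sub_one (a : Module.End F V) {ε : F} (hε : ε * ε = 1) :
    ε • a - 1 = ε • (a - ε • (1 : Module.End F V)) := by
  rw [smul_sub, smul_smul, hε, one_smul]

omit [FiniteDimensional F V] in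
theorem pow_smul_apply_eq_zero_iff (f : Module.End F V) {ε : F} (hε : ε * ε = 1) (k : ℕ) (x : V) :
    ((ε • f) ^ k) x = 0 ↔ (f ^ k) x = 0 := by
  rw [_root_.smul_pow, LinearMap.smul_apply, smul_eq_zero_iff_right]
  exact pow_ne_zero _ (left_ne_zero_of_mul_eq_one hε)

/-- The pieces of the decomposition along an eigenvalue of square one. -/
structure Split (ε : F) (a : Module.End F V) (K P : Submodule F V) : Prop where
  compl : IsCompl K P
  invK : ∀ x ∈ K, a x ∈ K
  invP : ∀ x ∈ P, a x ∈ P
  big : ∀ k, LinearMap.ker ((a - ε • (1 : Module.End F V)) ^ k) ≤ K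
  ex : ∃ d, K = LinearMap.ker ((a - ε • (1 : Module.End F V)) ^ d) ∧
    P = LinearMap.range ((a - ε • (1 : Module.End F V)) ^ d)
  inj : ∀ x ∈ P, a x = ε • x → x = 0

theorem exists_decomp (a : Module.End F V) (ε : F) : ∃ K P : Submodule F V, Split ε a K P := by
  set f : Module.End F V := a - ε • 1 with hf
  obtain ⟨n, hn⟩ := Filter.eventually_atTop.1 (LinearMap.eventually_isCompl_ker_pow_range_pow f)
  set d := n + (finrank F V + 1) with hd
  have hfa : ∀ x, (f ^ d) (a x) = a ((f ^ d) x) := fun x => by
    rw [← Module.End.mul_apply, ((Commute.refl a).sub_left ((Commute.one_left a).smul_left ε)).pow_left d,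
      Module.End.mul_apply]
  refine ⟨LinearMap.ker (f ^ d), LinearMap.range (f ^ d), hn d (by omega), fun x hx => ?_, ?_, fun k x hx => ?_,
    ⟨d, rfl, rfl⟩, fun x hx h => ?_⟩
  · rw [LinearMap.mem_ker, hfa, LinearMap.mem_ker.1 hx, map_zero]
  · rintro _ ⟨w, rfl⟩
    exact ⟨a w, hfa w⟩
  · have h1 := Module.End.ker_pow_le_ker_pow_finrank f k hx
    rw [LinearMap.mem_ker] at h1 ⊢
    rw [show d = (n + 1) + finrank F V by omega, pow_add, Module.End.mul_apply, h1, map_zero]
  · refine Submodule.disjoint_def.1 (hn d (by omega)).disjoint x ?_ hx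
    rw [LinearMap.mem_ker, show d = (d - 1) + 1 by omega, pow_succ, Module.End.mul_apply,
      show f x = 0 by simp [hf, h], map_zero]

theorem Split.nilpotent {ε : F} (hε : ε * ε = 1) {K P : Submodule F V} (h : Split ε a K P) :
    ∃ d, (ε • (a.restrict h.invK) - 1 : Module.End F K) ^ d = 0 := by
  obtain ⟨d, hK, -⟩ := h.ex
  refine ⟨d, LinearMap.ext fun x => Subtype.ext ?_⟩
  have hi : ∀ y : K, K.subtype ((ε • (a.restrict h.invK) - 1 : Module.End F K) y) = (ε • a - 1) (K.subtype y) :=
    fun y => by simp
  have h2 := pow_intertwine K.subtype hi d x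
  rw [Submodule.subtype_apply, smul_sub_one a hε, Submodule.subtype_apply] at h2
  rw [h2, LinearMap.zero_apply, Submodule.coe_zero, pow_smul_apply_eq_zero_iff _ hε]
  exact LinearMap.mem_ker.1 (hK.le x.2)

omit [FiniteDimensional F V] in
theorem Split.orth {ε : F} (hε : ε * ε = 1) {K P : Submodule F V} (h : Split ε a K P) (hc : c * c = 1)
    (hB : Signed c B a) : ∀ x ∈ K, ∀ z ∈ P, B x z = 0 ∧ B z x = 0 := by
  obtain ⟨d, rfl, rfl⟩ := h.ex
  set f : Module.End F V := a - ε • 1 with hf
  have key : ∀ (k : ℕ) (x : V), (f ^ k) x = 0 → ∀ w, B x ((f ^ k) w) = 0 := by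
    intro k
    induction k with
    | zero => intro x hx w; rw [show x = 0 by simpa using hx, map_zero, LinearMap.zero_apply]
    | succ k ih =>
      intro x hx w
      set u := (f ^ k) w
      have e1 : a x = f x + ε • x := by simp [hf]
      have e2 : (f ^ (k + 1)) w = a u - ε • u := by
        rw [pow_succ', Module.End.mul_apply]; simp [hf, u]
      have e3 : a u = (f ^ k) (a w) := by
        show a ((f ^ k) w) = _
        rw [← Module.End.mul_apply, ← ((Commute.refl a).sub_left ((Commute.one_left a).smul_left ε)).pow_left k,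
          Module.End.mul_apply]
      have h0 : B (f x) (a u) = 0 := by
        rw [e3]; exact ih (f x) (by rwa [← Module.End.mul_apply, ← pow_succ]) _
      have h1 : B (a x) (a u) = B x u := hB.pres x u
      rw [e1, map_add, LinearMap.add_apply, h0, zero_add, map_smul, LinearMap.smul_apply, smul_eq_mul] at h1
      rw [e2, map_sub, map_smul, smul_eq_mul, ← h1, ← mul_assoc, hε, one_mul, sub_self]
  rintro x hx _ ⟨w, rfl⟩
  exact ⟨key d x (LinearMap.mem_ker.1 hx) w, by rw [hB.flip, key d x (LinearMap.mem_ker.1 hx) w, mul_zero]⟩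

omit [FiniteDimensional F V] in
theorem Split.signed {ε : F} (hε : ε * ε = 1) {K P : Submodule F V} (h : Split ε a K P) (hc : c * c = 1)
    (hB : Signed c B a) : Signed c (B.restrict K) (a.restrict h.invK) ∧ Signed c (B.restrict P) (a.restrict h.invP) := by
  refine ⟨⟨fun x y => hB.flip _ _, fun x hx => Subtype.ext (hB.sep _ fun v => ?_), fun x y => hB.pres _ _⟩,
    ⟨fun x y => hB.flip _ _, fun x hx => Subtype.ext (hB.sep _ fun v => ?_), fun x y => hB.pres _ _⟩⟩ <;>
  obtain ⟨u, hu, p, hp, rfl⟩ := Submodule.mem_sup.1 (h.compl.sup_eq_top.symm ▸ Submodule.mem_top (x := v))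
  · rw [map_add, (h.orth hε hc hB x x.2 p hp).1, add_zero]
    exact hx ⟨u, hu⟩
  · rw [map_add, (h.orth hε hc hB u hu x x.2).2, zero_add]
    exact hx ⟨p, hp⟩

omit [FiniteDimensional F V] in
theorem Split.combine {ε : F} (hε : ε * ε = 1) {K P : Submodule F V} (h : Split ε a K P) (hc : c * c = 1)
    (hB : Signed c B a) (hB' : Signed c B' a)
    {yK : Module.End F K} (hKc : Commute yK (a.restrict h.invK))
    (hK : ∀ x z, (B.restrict K) (yK x) (yK z) = (B'.restrict K) x z)
    {yP : Module.End F P} (hPc : Commute yP (a.restrict h.invP))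
    (hP : ∀ x z, (B.restrict P) (yP x) (yP z) = (B'.restrict P) x z) :
    ∃ y : Module.End F V, Commute y a ∧ ∀ x z, B (y x) (y z) = B' x z := by
  set y : Module.End F V := (K.subtype ∘ₗ yK ∘ₗ K.projectionOnto P h.compl) +
    (P.subtype ∘ₗ yP ∘ₗ P.projectionOnto K h.compl.symm) with hy
  have key : ∀ (u : K) (p : P), y ((u : V) + (p : V)) = (yK u : V) + (yP p : V) := by
    intro u p
    simp [hy, Submodule.projectionOnto_apply_left, Submodule.projectionOnto_apply_right]
  have hall : ∀ v : V, ∃ (u : K) (p : P), (u : V) + (p : V) = v := by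
    intro v
    obtain ⟨u, hu, p, hp, rfl⟩ := Submodule.mem_sup.1 (h.compl.sup_eq_top.symm ▸ Submodule.mem_top (x := v))
    exact ⟨⟨u, hu⟩, ⟨p, hp⟩, rfl⟩
  refine ⟨y, LinearMap.ext fun v => ?_, fun v v' => ?_⟩
  · obtain ⟨u, p, rfl⟩ := hall v
    change y (a ((u : V) + p)) = a (y ((u : V) + p))
    rw [map_add a, show (a u : V) = ((a.restrict h.invK) u : V) from rfl,
      show (a p : V) = ((a.restrict h.invP) p : V) from rfl, key, key, map_add a]
    exact congr (congrArg _ (congrArg Subtype.val (LinearMap.congr_fun hKc.eq u)))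
      (congrArg Subtype.val (LinearMap.congr_fun hPc.eq p))
  · obtain ⟨u, p, rfl⟩ := hall v
    obtain ⟨u', p', rfl⟩ := hall v'
    simp only [key, map_add, LinearMap.add_apply, (h.orth hε hc hB _ (yK u).2 _ (yP p').2).1,
      (h.orth hε hc hB _ (yK u').2 _ (yP p).2).2, (h.orth hε hc hB' _ u.2 _ p'.2).1,
      (h.orth hε hc hB' _ u'.2 _ p.2).2, zero_add, add_zero]
    exact congr (congrArg _ (hK u u')) (hP p p')

variable [Finite F]

/-- The generalised eigenspace of an eigenvalue of square one. -/
theorem Split.kerCase {ε : F} (hε : ε * ε = 1) {K P : Submodule F V} (h : Split ε a K P) (h2 : (2 : F) ≠ 0)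
    (hc : c * c = 1) (hB : Signed c B a) (hB' : Signed c B' a)
    (hdisc : ∀ e, 1 ≤ e → (-1) ^ (e - 1) * c = 1 → (DiscSq B (ε • a) e ↔ DiscSq B' (ε • a) e)) :
    ∃ y : Module.End F K, Commute y (a.restrict h.invK) ∧
      ∀ x z, (B.restrict K) (y x) (y z) = (B'.restrict K) x z := by
  obtain ⟨d, hd⟩ := h.nilpotent hε
  have hker : ∀ e, LinearMap.ker ((ε • a - 1) ^ e) ≤ LinearMap.range K.subtype := by
    intro e x hx
    rw [Submodule.range_subtype]
    refine h.big e ?_
    rw [LinearMap.mem_ker] at hx ⊢
    rwa [smul_sub_one a hε, pow_smul_apply_eq_zero_iff _ hε] at hx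
  obtain ⟨y, hyc, hy⟩ := exists_equiv_unipotent h2 hc (signed_smul hε (h.signed hε hc hB).1)
    (signed_smul hε (h.signed hε hc hB').1) hd (fun e he hs => by
      rw [discSq_map (B := B) K.subtype Subtype.val_injective (B.restrict K) (fun _ _ => rfl)
          (φ := ε • a) (fun x => by simp) (hker e),
        discSq_map (B := B') K.subtype Subtype.val_injective (B'.restrict K) (fun _ _ => rfl)
          (φ := ε • a) (fun x => by simp) (hker e)]
      exact hdisc e he hs)
  refine ⟨y, ?_, hy⟩
  have h1 := hyc.smul_right ε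
  rwa [smul_smul, hε, one_smul] at h1

/-- Invariant forms with the same layer discriminants are equivalent under the centraliser. -/
theorem exists_equiv (h2 : (2 : F) ≠ 0) (hc : c * c = 1) (hB : Signed c B a) (hB' : Signed c B' a)
    (hdisc : ∀ s : F, s * s = 1 → ∀ e, 1 ≤ e → (-1) ^ (e - 1) * c = 1 →
      (DiscSq B (s • a) e ↔ DiscSq B' (s • a) e)) :
    ∃ y : Module.End F V, Commute y a ∧ ∀ x z, B (y x) (y z) = B' x z := by
  have h1 : (1 : F) * 1 = 1 := one_mul 1
  have hm : (-1 : F) * (-1) = 1 := by ring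
  obtain ⟨K, P, h⟩ := exists_decomp a (1 : F)
  obtain ⟨yK, hKc, hK⟩ := h.kerCase h1 h2 hc hB hB' (fun e => hdisc 1 h1 e)
  obtain ⟨-, hBP⟩ := h.signed h1 hc hB
  obtain ⟨-, hBP'⟩ := h.signed h1 hc hB'
  obtain ⟨K', P', h'⟩ := exists_decomp (a.restrict h.invP) (-1 : F)
  -- the layers at `-1` lie in the complement
  have hker : ∀ e, LinearMap.ker (((-1 : F) • a - 1) ^ e) ≤ LinearMap.range P.subtype := by
    intro e x hx
    rw [Submodule.range_subtype]
    obtain ⟨d, -, hP⟩ := h.ex
    rw [hP]
    have hcop : IsCoprime ((X - C (1 : F)) ^ d) ((X - C (-1 : F)) ^ e) :=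
      (isCoprime_X_sub_C_of_isUnit_sub (Ne.isUnit (by rw [sub_neg_eq_add, one_add_one_eq_two]; exact h2))).pow
    obtain ⟨p, q, hpq⟩ := hcop
    refine ⟨aeval a p x, ?_⟩
    have h3 := LinearMap.congr_fun (congrArg (aeval a) hpq) x
    rw [map_add, map_mul, map_mul, LinearMap.add_apply, Module.End.mul_apply, Module.End.mul_apply,
      map_one (aeval a), Module.End.one_apply, map_pow, map_pow] at h3
    have e1 : aeval a (X - C (-1 : F)) = a - (-1 : F) • 1 := by simp [Algebra.algebraMap_eq_smul_one]
    have e2 : aeval a (X - C (1 : F)) = a - (1 : F) • 1 := by simp [Algebra.algebraMap_eq_smul_one]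
    have hx' : ((a - (-1 : F) • (1 : Module.End F V)) ^ e) x = 0 := by
      rw [LinearMap.mem_ker, smul_sub_one a hm] at hx
      exact (pow_smul_apply_eq_zero_iff _ hm _ _).1 hx
    rw [e1, hx', map_zero, add_zero] at h3
    rw [← e2, ← Module.End.mul_apply, ← map_pow, ← map_mul, mul_comm, map_mul, map_pow, Module.End.mul_apply]
    exact h3
  obtain ⟨yK', hKc', hK'⟩ := h'.kerCase hm h2 hc hBP hBP' (fun e he hs => by
    rw [discSq_map (B := B) P.subtype Subtype.val_injective (B.restrict P) (fun _ _ => rfl)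
        (φ := (-1 : F) • a) (fun x => by simp) (hker e),
      discSq_map (B := B') P.subtype Subtype.val_injective (B'.restrict P) (fun _ _ => rfl)
        (φ := (-1 : F) • a) (fun x => by simp) (hker e)]
    exact hdisc (-1) hm e he hs)
  obtain ⟨yP', hPc', hP'⟩ := exists_of_injective hc (h'.signed hm hc hBP).2 (h'.signed hm hc hBP').2
    (by
      refine (injective_iff_map_eq_zero _).2 fun z hz => ?_
      refine Subtype.ext (Subtype.ext (h.inj _ (z : P).2 ?_))
      rw [LinearMap.sub_apply, Module.End.one_apply, sub_eq_zero] at hz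
      rw [one_smul]
      exact congrArg (fun w : P' => ((w : P) : V)) hz)
    (by
      refine (injective_iff_map_eq_zero _).2 fun z hz => ?_
      refine Subtype.ext (h'.inj _ z.2 ?_)
      rw [LinearMap.add_apply, Module.End.one_apply, add_eq_zero_iff_eq_neg] at hz
      rw [neg_one_smul]
      exact congrArg Subtype.val hz)
  obtain ⟨yP, hPc, hP⟩ := h'.combine hm hc hBP hBP' hKc' hK' hPc' hP'
  exact h.combine h1 hc hB hB' hKc hK hPc hP

omit [FiniteDimensional F V] [Finite F] in
/-- A map preserving a form to a nondegenerate one is injective. -/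
theorem injective_of_comp (hB' : Signed c B' a) {y : Module.End F V} (h : ∀ x z, B (y x) (y z) = B' x z) :
    Function.Injective y :=
  (injective_iff_map_eq_zero _).2 fun x hx => hB'.sep x fun z => by
    rw [← h, hx, map_zero, LinearMap.zero_apply]

/-! ## Multiplicities -/

open _root_.Classical in
omit [Finite F] in
/-- The number of layers of a given height, and when the discriminant class is trivial. -/
theorem layer_facts (h2 : (2 : F) ≠ 0) (hc : c * c = 1) (hB : Signed c B a) {n : ℕ} {g : Fin n → F[X]}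
    (hg : ClassNumberGL.HasSeq a n g) {s : F} (hs : s * s = 1) (j : Fin n) :
    ((-1) ^ j.val * c = -1 → Even ((UniqueFactorizationMonoid.normalizedFactors (g j)).count (X - C s))) ∧
      ((UniqueFactorizationMonoid.normalizedFactors (g j)).count (X - C s) = 0 →
        DiscSq B (s • a) (j.val + 1)) := by
  classical
  obtain ⟨K, P, h⟩ := exists_decomp a s
  obtain ⟨d, hd⟩ := h.nilpotent hs
  obtain ⟨hBK, -⟩ := h.signed hs hc hB
  have hBK' := signed_smul hs hBK
  obtain ⟨m, -, hm⟩ := exists_hasType _ hd
  set N : Module.End F K := s • a.restrict h.invK - 1 with hN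
  have hker : ∀ e, LinearMap.ker ((s • a - 1) ^ e) ≤ LinearMap.range K.subtype := by
    intro e x hx
    rw [Submodule.range_subtype]
    refine h.big e ?_
    rw [LinearMap.mem_ker] at hx ⊢
    rwa [smul_sub_one a hs, pow_smul_apply_eq_zero_iff _ hs] at hx
  have hdim : ∀ k, finrank F (LinearMap.ker (N ^ k)) =
      ∑ i : Fin n, min (i.val + 1) k * (UniqueFactorizationMonoid.normalizedFactors (g i)).count (X - C s) := by
    intro k
    have hmap : (LinearMap.ker (N ^ k)).map K.subtype = LinearMap.ker (aeval a ((X - C s) ^ k)) := by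
      have e1 : aeval a ((X - C s) ^ k) = (a - s • (1 : Module.End F V)) ^ k := by
        simp [Algebra.algebraMap_eq_smul_one]
      have hi := pow_intertwine K.subtype (f := N) (g := s • a - 1) (fun x => by simp [hN]) k
      ext x
      rw [e1, Submodule.mem_map, LinearMap.mem_ker]
      constructor
      · rintro ⟨y, hy, rfl⟩
        rw [← pow_smul_apply_eq_zero_iff _ hs, ← smul_sub_one a hs, ← hi, LinearMap.mem_ker.1 hy, map_zero]
      · intro hx
        have hxK : x ∈ K := h.big k (LinearMap.mem_ker.2 hx)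
        refine ⟨⟨x, hxK⟩, LinearMap.mem_ker.2 (Subtype.val_injective ?_), rfl⟩
        show K.subtype ((N ^ k) ⟨x, hxK⟩) = 0
        rw [hi, smul_sub_one a hs, pow_smul_apply_eq_zero_iff _ hs]
        exact hx
    rw [← Submodule.finrank_map_subtype_eq K (LinearMap.ker (N ^ k)), hmap,
      ClassSeq.finrank_ker hg (monic_X_sub_C s) (irreducible_X_sub_C s), natDegree_X_sub_C, one_mul]
  have hcount : m.count (j.val + 1) =
      (UniqueFactorizationMonoid.normalizedFactors (g j)).count (X - C s) := by
    have hr : ∀ k, (m.map fun e => e - k).sum + finrank F (LinearMap.ker (N ^ k)) = finrank F K := fun k => by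
      rw [← finrank_range_sub_one_pow hm k]
      exact (N ^ k).finrank_range_add_finrank_ker
    have r0 := hr j.val
    have r1 := hr (j.val + 1)
    have r2 := hr (j.val + 2)
    have h3 := count_succ_add m j.val
    have h4 : 2 * ∑ i : Fin n, min (i.val + 1) (j.val + 1) *
        (UniqueFactorizationMonoid.normalizedFactors (g i)).count (X - C s) =
        ∑ i : Fin n, min (i.val + 1) j.val * (UniqueFactorizationMonoid.normalizedFactors (g i)).count (X - C s) +
        ∑ i : Fin n, min (i.val + 1) (j.val + 2) *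
          (UniqueFactorizationMonoid.normalizedFactors (g i)).count (X - C s) +
        ∑ i : Fin n, if i = j then (UniqueFactorizationMonoid.normalizedFactors (g i)).count (X - C s) else 0 := by
      rw [Finset.mul_sum, ← Finset.sum_add_distrib, ← Finset.sum_add_distrib]
      refine Finset.sum_congr rfl fun i _ => ?_
      rcases lt_trichotomy i.val j.val with h' | h' | h'
      · rw [if_neg (fun e => by rw [e] at h'; omega), min_eq_left (by omega), min_eq_left (by omega),
          min_eq_left (by omega)]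
        ring
      · rw [if_pos (Fin.ext h'), min_eq_left (by omega), min_eq_right (by omega), min_eq_left (by omega), h']
        ring
      · rw [if_neg (fun e => by rw [e] at h'; omega), min_eq_right (by omega), min_eq_right (by omega),
          min_eq_right (by omega)]
        ring
    rw [Finset.sum_ite_eq' Finset.univ j, if_pos (Finset.mem_univ _), ← hdim, ← hdim, ← hdim] at h4
    omega
  constructor
  · intro hpar
    rw [← hcount]
    refine UniForm.even_mult (ctx_of_signed hc hBK') hd hm j.val fun x hx => ?_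
    have h5 := pform_flip hc hBK' hd (e := j.val + 1) (u := x) (v := x) hx
    rw [Nat.add_sub_cancel, hpar, neg_one_mul, pform_apply, Nat.add_sub_cancel] at h5
    exact (mul_eq_zero.1 (show (2 : F) * _ = 0 by linear_combination h5)).resolve_left h2
  · intro h0
    obtain ⟨ι, hι, ht, x, hx, hmap⟩ := exists_gens hm
    rw [← discSq_map (B := B) K.subtype Subtype.val_injective (B.restrict K) (fun _ _ => rfl)
      (f := s • a.restrict h.invK) (φ := s • a) (fun x => by simp) (hker _), discSq_iff hc hBK' hd hx (by omega)]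
    haveI : IsEmpty {i // ht i = j.val + 1} := ⟨fun i => by
      have : j.val + 1 ∈ m := hmap ▸ Multiset.mem_map.2 ⟨i.1, Finset.mem_univ_val _, i.2⟩
      exact Multiset.count_ne_zero.2 this (hcount.trans h0)⟩
    rw [Matrix.det_isEmpty]
    exact IsSquare.one

end Cfsg.Agent.FormClass
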