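import Cfsg.Agent.MatModule.FormRealise
import Cfsg.Agent.MatModule.FormSplit

/-!
# Discriminants of invariant symmetric forms

Changing the mark of one layer changes the discriminant class of the form.
-/

set_option autoImplicit false

namespace Cfsg.Agent.FormClass

open Module Cfsg.Agent.MatModule Cfsg.Agent.SympConj

universe u v

variable {F : Type u} [Field F] {V : Type v} [AddCommGroup V] [Module F V] [FiniteDimensional F V]

/-- The determinant of a form in some fixed basis. -/
noncomputable def ddet (B : LinearMap.BilinForm F V) : F :=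
  (LinearMap.BilinForm.toMatrix (Module.finBasis F V) B).det

theorem ddet_comp (B : LinearMap.BilinForm F V) (f g : Module.End F V) :
    ddet (B.comp f g) = LinearMap.det f * LinearMap.det g * ddet B := by
  rw [ddet, LinearMap.BilinForm.toMatrix_comp (Module.finBasis F V), Matrix.det_mul, Matrix.det_mul,
    Matrix.det_transpose, LinearMap.det_toMatrix, LinearMap.det_toMatrix, ddet]
  ring

theorem ddet_ne_zero {c : F} {B : LinearMap.BilinForm F V} {a : Module.End F V} (hB : Signed c B a) : ddet B ≠ 0 :=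
  (LinearMap.BilinForm.nondegenerate_iff_det_ne_zero _).1 hB.nondeg

variable [Finite F]

theorem det_one_add_nilpotent {u : Module.End F V} (hu : IsNilpotent u) : LinearMap.det (1 + u) = 1 := by
  obtain ⟨p, hp⟩ := CharP.exists F
  haveI := hp
  haveI : Fact p.Prime := ⟨CharP.char_is_prime F p⟩
  obtain ⟨k, hk⟩ := hu
  rcases subsingleton_or_nontrivial V with hV | hV
  · rw [show (1 + u : Module.End F V) = 1 from Subsingleton.elim _ _, map_one]
  haveI : CharP (Module.End F V) p := charP_of_injective_algebraMap (FaithfulSMul.algebraMap_injective F _) p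
  have h1 : (1 + u) ^ p ^ k = 1 := by
    rw [add_pow_char_pow_of_commute _ _ (Commute.one_left u), one_pow,
      pow_eq_zero_of_le (Nat.lt_pow_self (Fact.out : p.Prime).one_lt).le hk, add_zero]
  have h2 : (LinearMap.det (1 + u) - 1) ^ p ^ k = 0 := by
    rw [sub_pow_char_pow, one_pow, ← map_pow, h1, map_one, sub_self]
  exact sub_eq_zero.1 (IsNilpotent.eq_zero ⟨_, h2⟩)

theorem isSquare_of_mul {a b : F} (ha : a ≠ 0) (h : IsSquare (a * b)) (hs : IsSquare a) : IsSquare b := by
  obtain ⟨r, hr⟩ := hs
  obtain ⟨t, ht⟩ := h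
  have hr0 : r ≠ 0 := fun h0 => ha (by rw [hr, h0, mul_zero])
  refine ⟨t / r, ?_⟩
  field_simp
  linear_combination ht - b * hr

variable {B B' : LinearMap.BilinForm F V} {φ a : Module.End F V} {d : ℕ}

theorem unipotent_flip (h2 : (2 : F) ≠ 0) (hB : Signed 1 B φ) (hd : (φ - 1) ^ d = 0) {m : Multiset ℕ}
    (hm : HasType φ m) {e0 : ℕ} (he0 : Odd e0) (hmem : e0 ∈ m) :
    ∃ f : Module.End F V, Signed 1 (B.compLeft f) φ ∧ Commute f φ ∧ ¬ IsSquare (LinearMap.det f) ∧
      (DiscSq (B.compLeft f) φ e0 ↔ ¬ DiscSq B φ e0) ∧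
      ∀ e, 1 ≤ e → e ≠ e0 → (DiscSq (B.compLeft f) φ e ↔ DiscSq B φ e) := by
  classical
  have : Fintype F := Fintype.ofFinite F
  have hc : (1 : F) * 1 = 1 := one_mul 1
  obtain ⟨α, hα⟩ := FiniteField.exists_nonsquare (F := F) fun hch => h2 (by
    haveI := ringChar.eq_iff.1 hch; exact CharTwo.two_eq_zero)
  have hα0 : α ≠ 0 := fun e => hα (e ▸ IsSquare.zero)
  obtain ⟨ι, hι, h, x, hx, hmap⟩ := exists_gens hm
  obtain ⟨i0, hi0⟩ : ∃ i, h i = e0 := by
    rw [← hmap] at hmem
    obtain ⟨i, -, hi⟩ := Multiset.mem_map.1 hmem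
    exact ⟨i, hi⟩
  subst hi0
  have he1 : 1 ≤ h i0 := by obtain ⟨r, hr⟩ := he0; omega
  have hsign : (-1 : F) ^ (h i0 - 1) * 1 = 1 := by
    obtain ⟨r, hr⟩ := he0
    rw [hr, Nat.add_sub_cancel, pow_mul, neg_one_sq, one_pow, one_mul]
  have hxK : ∀ e, ∀ i : {i // h i = e}, ((φ - 1) ^ e) (x i.1) = 0 := fun e i => by
    have := hx.height i.1; rwa [i.2] at this
  set Gr : ∀ e, Matrix {i // h i = e} {i // h i = e} F := fun e =>
    pgram B φ e fun i : {i // h i = e} => x i.1 with hGr
  have hsym : ∀ e, 1 ≤ e → (Gr e).transpose = ((-1 : F) ^ (e - 1) * 1) • Gr e := fun e _ => Matrix.ext fun i j => by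
    show pform B φ e (x j.1) (x i.1) = (-1) ^ (e - 1) * 1 * pform B φ e (x i.1) (x j.1)
    rw [pform_flip hc hB hd (hxK e i)]
  -- the layer at `e0` made diagonal
  let δ : F := if IsSquare (Gr (h i0)).det then 1 else α
  have hδ0 : δ ≠ 0 := by simp only [δ]; split_ifs <;> [exact one_ne_zero; exact hα0]
  let w : F → ∀ e, Matrix {i // h i = e} {i // h i = e} F := fun t e =>
    if e = h i0 then Matrix.diagonal (fun i => if i.1 = i0 then t else 1) else Gr e
  have hwT : ∀ t e, 1 ≤ e → (w t e).transpose = ((-1 : F) ^ (e - 1) * 1) • w t e := fun t e he => by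
    simp only [w]
    split_ifs with h'
    · subst h'; rw [Matrix.diagonal_transpose, hsign, one_smul]
    · exact hsym e he
  have hwdet : ∀ t, (w t (h i0)).det = t := fun t => by
    simp only [w, if_pos rfl, Matrix.det_diagonal]
    refine (Fintype.prod_eq_single (f := fun i : {i // h i = h i0} => if i.1 = i0 then t else 1) ⟨i0, rfl⟩
      fun j hj => if_neg fun h' => hj (Subtype.ext h')).trans (if_pos rfl)
  have hw0 : ∀ t, t ≠ 0 → ∀ e, 1 ≤ e → (w t e).det ≠ 0 := fun t ht e he => by
    by_cases h' : e = h i0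
    · subst h'; rw [hwdet]; exact ht
    · simp only [w, if_neg h']; exact det_gens_ne_zero hc hB hd hx he
  have hker : ∀ t, t ≠ 0 → ∀ e, 1 ≤ e → ∀ a : {i // h i = e} → F, Matrix.vecMul a (w t e) = 0 → a = 0 :=
    fun t ht e he a ha => by
      by_contra hne
      exact hw0 t ht e he (Matrix.exists_vecMul_eq_zero_iff.1 ⟨a, hne, ha⟩)
  obtain ⟨D, hD, hDg⟩ := exists_form_with_layers h2 hc hB hd hx (w δ) (hwT δ) (hker δ hδ0)
  obtain ⟨C, hC, hCg⟩ := exists_form_with_layers h2 hc hB hd hx (w (δ * α)) (hwT _) (hker _ (mul_ne_zero hδ0 hα0))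
  have hmark : DiscSq B φ (h i0) ↔ IsSquare δ := by
    rw [discSq_iff hc hB hd hx he1]
    simp only [δ]
    split_ifs with h'
    · exact iff_of_true h' IsSquare.one
    · exact iff_of_false h' hα
  have hmarkC : DiscSq C φ (h i0) ↔ ¬ DiscSq B φ (h i0) := by
    rw [discSq_iff hc hC hd hx he1, hCg _ he1, hwdet, hmark]
    simp only [δ]
    split_ifs with h'
    · rw [one_mul]; exact iff_of_false hα (not_not.2 IsSquare.one)
    · exact iff_of_true (IsSquare.mul_self α) hα
  have hmarkD : ∀ e, 1 ≤ e → (DiscSq B φ e ↔ DiscSq D φ e) := fun e he => by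
    by_cases h' : e = h i0
    · subst h'; rw [discSq_iff hc hD hd hx he1, hDg _ he1, hwdet, hmark]
    · rw [discSq_iff hc hB hd hx he, discSq_iff hc hD hd hx he, hDg e he]
      simp only [w, if_neg h', Gr]
  obtain ⟨y, -, hy⟩ := exists_equiv_unipotent h2 hc hB hD hd (fun e he _ => hmarkD e he)
  let H : Module.End F V := LinearMap.BilinForm.symmCompOfNondegenerate C D hD.nondeg
  have hH : ∀ a b, D (H a) b = C a b := fun a b => C.symmCompOfNondegenerate_left_apply hD.nondeg b a
  let f : Module.End F V := LinearMap.BilinForm.symmCompOfNondegenerate C B hB.nondeg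
  have hf : ∀ a b, B (f a) b = C a b := fun a b => C.symmCompOfNondegenerate_left_apply hB.nondeg b a
  have hCf : B.compLeft f = C := LinearMap.ext₂ hf
  have hcomm : ∀ (A : LinearMap.BilinForm F V), Signed 1 A φ → ∀ K : Module.End F V,
      (∀ a b, A (K a) b = C a b) → Commute K φ := by
    intro A hA K hK
    refine LinearMap.ext fun a => sub_eq_zero.1 (hA.sep _ fun b => ?_)
    obtain ⟨b, rfl⟩ := LinearMap.injective_iff_surjective.1 hA.injective b
    rw [map_sub, LinearMap.sub_apply, Module.End.mul_apply, Module.End.mul_apply, hK, hA.pres, hK, hC.pres, sub_self]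
  have hHφ := hcomm D hD H hH
  -- compare with the scaling of one generator
  obtain ⟨g, hgc, hgi, hgj, hgdet⟩ := hx.scale i0 α
  obtain ⟨W, hW⟩ : IsUnit g := LinearMap.isUnit_iff_isUnit_det _ |>.2 (by
    rw [hgdet]; exact Ne.isUnit (pow_ne_zero _ hα0))
  have hgN : Commute g (φ - 1) := hgc.sub_right (Commute.one_right g)
  have hWN : Commute (↑W⁻¹ : Module.End F V) (φ - 1) := (hW.symm ▸ hgN).units_inv_left
  have hHN : Commute H (φ - 1) := hHφ.sub_right (Commute.one_right H)
  have happ : ∀ {T : Module.End F V}, Commute T (φ - 1) → ∀ (k : ℕ) (v : V),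
      ((φ - 1) ^ k) (T v) = T (((φ - 1) ^ k) v) := fun hT k v => by
    rw [← Module.End.mul_apply, ← (hT.pow_right k).eq, Module.End.mul_apply]
  have hnil : IsNilpotent ((↑W⁻¹ : Module.End F V) * H - 1) := by
    refine isNilpotent_of_layers ((hWN.mul_left hHN).sub_left (Commute.one_left _)) hd fun e he z hz => ?_
    have hzH : ((φ - 1) ^ e) (H z) = 0 := by rw [happ hHN, hz, map_zero]
    have hzg : ((φ - 1) ^ e) (g z) = 0 := by rw [happ hgN, hz, map_zero]
    have hrad : ∀ j : {i // h i = e}, pform D φ e (H z - g z) (x j.1) = 0 := by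
      intro j
      have hj := hxK e j
      obtain ⟨c', p, q, hc', hp, hq, rfl⟩ := hx.span e z hz
      have hgp : ((φ - 1) ^ (e - 1)) (g p) = 0 := by rw [happ hgN, hp, map_zero]
      have hgq : ((φ - 1) ^ (e + 1)) (g q) = 0 := by rw [happ hgN, hq, map_zero]
      have hg1 : g ((φ - 1) q) = (φ - 1) (g q) := LinearMap.congr_fun hgN.eq q
      have e1 : ∀ v, pform D φ e (H v) (x j.1) = pform C φ e v (x j.1) := fun v => by
        rw [pform_apply, pform_apply, happ hHN, hH]
      rw [map_sub, LinearMap.sub_apply, e1, map_add g, map_add g, hg1, map_add (pform D φ e), map_add (pform D φ e),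
        map_add (pform C φ e), map_add (pform C φ e), LinearMap.add_apply, LinearMap.add_apply, LinearMap.add_apply,
        LinearMap.add_apply, (pform_low hc hC hd hp hj).1, (pform_shift hc hC hd hq hj).1,
        (pform_low hc hD hd hgp hj).1, (pform_shift hc hD hd hgq hj).1, add_zero, add_zero, add_zero, add_zero,
        map_sum g, map_sum, map_sum, LinearMap.sum_apply, LinearMap.sum_apply, ← Finset.sum_sub_distrib]
      refine Finset.sum_eq_zero fun i _ => ?_
      by_cases hi : h i = e
      swap
      · rw [hc' i hi]; simp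
      have hCm := congrFun (congrFun (hCg e he) ⟨i, hi⟩) j
      have hDm := congrFun (congrFun (hDg e he) ⟨i, hi⟩) j
      rw [pgram_apply] at hCm hDm
      simp only [map_smul, LinearMap.smul_apply, smul_eq_mul, hCm]
      by_cases hii : i = i0
      · subst hii
        rw [hgi, map_smul, LinearMap.smul_apply, smul_eq_mul, hDm]
        simp only [w, if_pos hi.symm, Matrix.diagonal_apply]
        split_ifs <;> ring
      · rw [hgj i hii, hDm]
        simp only [w]
        split_ifs with h'
        · simp [Matrix.diagonal_apply, hii]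
        · simp
    obtain ⟨c', p, q, hc', hp, hq, hpq⟩ := hx.span e (H z - g z) (by rw [map_sub, hzH, hzg, sub_zero])
    have hc0 : (fun i : {i // h i = e} => c' i.1) = 0 := by
      refine coef_eq_zero hc hD hd hx he _ fun j => ?_
      have h1 := hrad j
      rw [hpq, map_add, map_add, LinearMap.add_apply, LinearMap.add_apply, (pform_low hc hD hd hp (hxK e j)).1,
        (pform_shift hc hD hd hq (hxK e j)).1, add_zero, add_zero, map_sum,
        LinearMap.sum_apply, ← Finset.sum_subset (Finset.subset_univ (Finset.univ.filter fun i => h i = e))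
          (fun i _ hi => by
            simp only [Finset.mem_filter, Finset.mem_univ, true_and] at hi
            simp [hc' i hi]), Finset.sum_subtype (p := fun i => h i = e) _ (by simp)] at h1
      simpa using h1
    refine ⟨(↑W⁻¹ : Module.End F V) p, (↑W⁻¹ : Module.End F V) q, by rw [happ hWN, hp, map_zero],
      by rw [happ hWN, hq, map_zero], ?_⟩
    have hzz : (↑W⁻¹ : Module.End F V) (g z) = z := by
      rw [← hW, ← Module.End.mul_apply, W.inv_mul, Module.End.one_apply]
    rw [LinearMap.sub_apply, Module.End.one_apply, Module.End.mul_apply]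
    conv_lhs => rw [← sub_add_cancel (H z) (g z), map_add, hzz, add_sub_cancel_right, hpq]
    rw [Finset.sum_eq_zero fun i _ => ?_, zero_add, map_add, ← Module.End.mul_apply _ (φ - 1), hWN.eq,
      Module.End.mul_apply]
    by_cases hi : h i = e
    · rw [show c' i = 0 from congrFun hc0 ⟨i, hi⟩, zero_smul]
    · rw [hc' i hi, zero_smul]
  have hdetH : LinearMap.det H = α ^ h i0 := by
    have h1 := det_one_add_nilpotent hnil
    rw [add_sub_cancel, map_mul] at h1
    have h3 : LinearMap.det (↑W⁻¹ : Module.End F V) * LinearMap.det g = 1 := by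
      rw [← map_mul, ← hW, W.inv_mul, map_one]
    have h4 : LinearMap.det (↑W⁻¹ : Module.End F V) ≠ 0 := left_ne_zero_of_mul_eq_one h3
    rw [← hgdet]
    exact mul_left_cancel₀ h4 (h1.trans h3.symm)
  refine ⟨f, hCf.symm ▸ hC, hcomm B hB f hf, ?_, hCf.symm ▸ hmarkC, fun e he hne => ?_⟩
  · intro hsq
    have e1 : ddet C = LinearMap.det f * 1 * ddet B := by
      rw [← map_one (LinearMap.det : Module.End F V →* F), ← ddet_comp]
      exact congrArg ddet (LinearMap.ext₂ fun a b => (hf a b).symm)
    have e2 : ddet D = LinearMap.det y * LinearMap.det y * ddet B := by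
      rw [← ddet_comp]; exact congrArg ddet (LinearMap.ext₂ fun a b => (hy a b).symm)
    have e3 : ddet C = LinearMap.det H * 1 * ddet D := by
      rw [← map_one (LinearMap.det : Module.End F V →* F), ← ddet_comp]
      exact congrArg ddet (LinearMap.ext₂ fun a b => (hH a b).symm)
    have e4 : LinearMap.det f = α ^ h i0 * (LinearMap.det y * LinearMap.det y) :=
      mul_right_cancel₀ (ddet_ne_zero hB) (by linear_combination e3 - e1 + (LinearMap.det H) * e2 +
        (LinearMap.det y * LinearMap.det y * ddet B) * hdetH)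
    have hy0 : LinearMap.det y ≠ 0 := fun h0 => ddet_ne_zero hD (by rw [e2, h0]; ring)
    rw [e4, mul_comm] at hsq
    have h5 := isSquare_of_mul (mul_ne_zero hy0 hy0) hsq (IsSquare.mul_self _)
    obtain ⟨r, hr⟩ := he0
    rw [hr, pow_succ, pow_mul'] at h5
    exact hα (isSquare_of_mul (pow_ne_zero _ (pow_ne_zero _ hα0)) h5 (IsSquare.sq _))
  · rw [hCf, discSq_iff hc hC hd hx he, hCg e he, discSq_iff hc hB hd hx he]
    simp only [w, if_neg hne, Gr]

/-- Two invariant symmetric forms differing in exactly one mark have different discriminants. -/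
theorem flip_disc (h2 : (2 : F) ≠ 0) (hB : Signed 1 B a) (hB' : Signed 1 B' a) {s0 : F} (hs0 : s0 * s0 = 1)
    {e0 : ℕ} (he0 : Odd e0) (hdiff : ¬ (DiscSq B' (s0 • a) e0 ↔ DiscSq B (s0 • a) e0))
    (hsame : ∀ s : F, s * s = 1 → ∀ e, Odd e → (s ≠ s0 ∨ e ≠ e0) → (DiscSq B' (s • a) e ↔ DiscSq B (s • a) e)) :
    ¬ IsSquare (ddet B * ddet B') := by
  classical
  have hc : (1 : F) * 1 = 1 := one_mul 1
  obtain ⟨K, P, h⟩ := exists_decomp a s0
  obtain ⟨d, hd⟩ := h.nilpotent hs0
  obtain ⟨hBK, hBP⟩ := h.signed hs0 hc hB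
  obtain ⟨hBK', -⟩ := h.signed hs0 hc hB'
  obtain ⟨m, -, hm⟩ := exists_hasType _ hd
  have hkerK : ∀ e, LinearMap.ker ((s0 • a - 1) ^ e) ≤ LinearMap.range K.subtype := by
    intro e x hx
    rw [Submodule.range_subtype]
    refine h.big e ?_
    rw [LinearMap.mem_ker] at hx ⊢
    rwa [smul_sub_one a hs0, pow_smul_apply_eq_zero_iff _ hs0] at hx
  have hres : ∀ (A : LinearMap.BilinForm F V) e,
      DiscSq (A.restrict K) (s0 • a.restrict h.invK) e ↔ DiscSq A (s0 • a) e := fun A e =>
    discSq_map (B := A) K.subtype Subtype.val_injective (A.restrict K) (fun _ _ => rfl) (φ := s0 • a)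
      (fun x => by simp) (hkerK e)
  have he1 : 1 ≤ e0 := by obtain ⟨r, hr⟩ := he0; omega
  have hmem : e0 ∈ m := by
    by_contra hm0
    obtain ⟨ι, hι, ht, x, hx, hmap⟩ := exists_gens hm
    haveI : IsEmpty {i // ht i = e0} :=
      ⟨fun i => hm0 (hmap ▸ Multiset.mem_map.2 ⟨i.1, Finset.mem_univ_val _, i.2⟩)⟩
    refine hdiff ?_
    rw [← hres B' e0, ← hres B e0, discSq_iff hc (signed_smul hs0 hBK') hd hx he1,
      discSq_iff hc (signed_smul hs0 hBK) hd hx he1, Matrix.det_isEmpty, Matrix.det_isEmpty]
  obtain ⟨f, hf, hfc, hfdet, hflip, hrest⟩ := unipotent_flip h2 (signed_smul hs0 hBK) hd hm he0 hmem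
  set πK := K.projectionOnto P h.compl
  set πP := P.projectionOnto K h.compl.symm
  let G : Module.End F V := (K.subtype ∘ₗ f ∘ₗ πK) + (P.subtype ∘ₗ πP)
  have key : ∀ (u : K) (p : P), G ((u : V) + (p : V)) = (f u : V) + (p : V) := by
    intro u p
    simp [G, πK, πP, Submodule.projectionOnto_apply_left, Submodule.projectionOnto_apply_right]
  have hall : ∀ v : V, ∃ (u : K) (p : P), (u : V) + (p : V) = v := by
    intro v
    obtain ⟨u, hu, p, hp, rfl⟩ := Submodule.mem_sup.1 (h.compl.sup_eq_top.symm ▸ Submodule.mem_top (x := v))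
    exact ⟨⟨u, hu⟩, ⟨p, hp⟩, rfl⟩
  let C : LinearMap.BilinForm F V := B.compLeft G
  have ho := h.orth hs0 hc hB
  have hCval : ∀ (u u' : K) (p p' : P), C ((u : V) + p) ((u' : V) + p') = B (f u : V) (u' : V) + B (p : V) (p' : V) := by
    intro u u' p p'
    show B (G _) _ = _
    rw [key, map_add B, LinearMap.add_apply, map_add, map_add, (ho _ (f u).2 _ p'.2).1, (ho _ u'.2 _ p.2).2,
      add_zero, zero_add]
  have hfc' : Commute f (a.restrict h.invK) := by
    have h1 := hfc.smul_right s0
    rwa [smul_smul, hs0, one_smul] at h1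
  have hC : Signed 1 C a := by
    refine ⟨fun v v' => ?_, fun v hv => ?_, fun v v' => ?_⟩
    · obtain ⟨u, p, rfl⟩ := hall v
      obtain ⟨u', p', rfl⟩ := hall v'
      rw [hCval, hCval, one_mul, hB.flip (p : V) (p' : V), one_mul]
      have := hf.flip u u'
      rw [one_mul] at this
      exact congrArg (· + _) this
    · obtain ⟨u, p, rfl⟩ := hall v
      have hu : u = 0 := hf.sep u fun u' => by
        have := hv ((u' : V) + ((0 : P) : V))
        rw [hCval, Submodule.coe_zero, map_zero, add_zero] at this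
        exact this
      have hp : p = 0 := hBP.sep p fun p' => by
        have := hv (((0 : K) : V) + (p' : V))
        rw [hCval, Submodule.coe_zero, map_zero, zero_add] at this
        exact this
      simp [hu, hp]
    · obtain ⟨u, p, rfl⟩ := hall v
      obtain ⟨u', p', rfl⟩ := hall v'
      have e1 : ∀ (u : K) (p : P), a ((u : V) + p) = ((a.restrict h.invK u : K) : V) + ((a.restrict h.invP p : P) : V) :=
        fun u p => by simp
      rw [e1, e1, hCval, hCval,
        show f (a.restrict h.invK u) = a.restrict h.invK (f u) from LinearMap.congr_fun hfc'.eq u]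
      exact congr (congrArg _ (hB.pres _ _)) (hB.pres _ _)
  have hCrK : C.restrict K = (B.restrict K).compLeft f := LinearMap.ext₂ fun u u' => by
    have := hCval u u' 0 0
    simpa using this
  have hdetG : LinearMap.det G = LinearMap.det f := by
    let E := Submodule.prodEquivOfIsCompl K P h.compl
    have hE : G = E.toLinearMap ∘ₗ (f.prodMap LinearMap.id) ∘ₗ E.symm.toLinearMap := by
      refine LinearMap.ext fun v => ?_
      obtain ⟨u, p, rfl⟩ := hall v
      have e1 : E.symm ((u : V) + p) = (u, p) := E.symm_apply_eq.2 (by simp [E, Submodule.coe_prodEquivOfIsCompl'])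
      rw [key, LinearMap.comp_apply, LinearMap.comp_apply, LinearEquiv.coe_coe, LinearEquiv.coe_coe, e1]
      simp [E, Submodule.coe_prodEquivOfIsCompl']
    rw [hE, LinearMap.det_conj, LinearMap.det_prodMap, LinearMap.det_id, mul_one]
  have hmarks : ∀ s : F, s * s = 1 → ∀ e, 1 ≤ e → (-1) ^ (e - 1) * 1 = (1 : F) →
      (DiscSq C (s • a) e ↔ DiscSq B' (s • a) e) := by
    intro s hs e he hpar
    have hodd : Odd e := by
      rcases Nat.even_or_odd e with ⟨r, hr⟩ | ho'
      · rw [show e - 1 = 2 * (r - 1) + 1 by omega, pow_succ, pow_mul, neg_one_sq, one_pow, one_mul, mul_one] at hpar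
        exact absurd (by linear_combination -hpar : (2 : F) = 0) h2
      · exact ho'
    by_cases hs' : s = s0
    · subst hs'
      rw [← hres C e, hCrK]
      by_cases he' : e = e0
      · subst he'
        rw [hflip, hres B e]
        tauto
      · rw [hrest e he he', hres B e]
        exact (hsame s hs e hodd (Or.inr he')).symm
    · have hkerP : LinearMap.ker ((s • a - 1) ^ e) ≤ LinearMap.range P.subtype := by
        intro x hx
        rw [Submodule.range_subtype]
        obtain ⟨k, -, hP⟩ := h.ex
        rw [hP]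
        obtain ⟨p, q, hpq⟩ : IsCoprime ((Polynomial.X - Polynomial.C s0) ^ k) ((Polynomial.X - Polynomial.C s) ^ e) :=
          (Polynomial.isCoprime_X_sub_C_of_isUnit_sub (Ne.isUnit (sub_ne_zero.2 (Ne.symm hs')))).pow
        refine ⟨Polynomial.aeval a p x, ?_⟩
        have h3 := LinearMap.congr_fun (congrArg (Polynomial.aeval a) hpq) x
        rw [map_add, map_mul, map_mul, LinearMap.add_apply, Module.End.mul_apply, Module.End.mul_apply,
          map_one (Polynomial.aeval a), Module.End.one_apply, map_pow, map_pow] at h3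
        have e1 : Polynomial.aeval a (Polynomial.X - Polynomial.C s) = a - s • 1 := by
          simp [Algebra.algebraMap_eq_smul_one]
        have e2 : Polynomial.aeval a (Polynomial.X - Polynomial.C s0) = a - s0 • 1 := by
          simp [Algebra.algebraMap_eq_smul_one]
        have hx' : ((a - s • (1 : Module.End F V)) ^ e) x = 0 := by
          rw [LinearMap.mem_ker, smul_sub_one a hs] at hx
          exact (pow_smul_apply_eq_zero_iff _ hs _ _).1 hx
        rw [e1, hx', map_zero, add_zero] at h3
        rw [← e2, ← Module.End.mul_apply, ← map_pow, ← map_mul, mul_comm, map_mul, map_pow, Module.End.mul_apply]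
        exact h3
      have hCrP : C.restrict P = B.restrict P := LinearMap.ext₂ fun p p' => by
        have := hCval 0 0 p p'
        simpa using this
      rw [← discSq_map (B := C) P.subtype Subtype.val_injective (C.restrict P) (fun _ _ => rfl)
        (f := s • a.restrict h.invP) (φ := s • a) (fun x => by simp) hkerP, hCrP,
        discSq_map (B := B) P.subtype Subtype.val_injective (B.restrict P) (fun _ _ => rfl)
        (f := s • a.restrict h.invP) (φ := s • a) (fun x => by simp) hkerP]
      exact (hsame s hs e hodd (Or.inl hs')).symm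
  obtain ⟨y, -, hy⟩ := exists_equiv h2 hc hC hB' hmarks
  intro hsq
  have e1 : ddet C = LinearMap.det G * 1 * ddet B := by
    rw [← map_one (LinearMap.det : Module.End F V →* F), ← ddet_comp]
    rfl
  have e2 : ddet B' = LinearMap.det y * LinearMap.det y * ddet C := by
    rw [← ddet_comp]; exact congrArg ddet (LinearMap.ext₂ fun u v => (hy u v).symm)
  rw [e2, e1, hdetG,
    show ddet B * (LinearMap.det y * LinearMap.det y * (LinearMap.det f * 1 * ddet B)) =
      (LinearMap.det y * ddet B) * (LinearMap.det y * ddet B) * LinearMap.det f by ring] at hsq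
  refine hfdet (isSquare_of_mul ?_ hsq (IsSquare.mul_self _))
  have hy0 : LinearMap.det y ≠ 0 := fun h0 => ddet_ne_zero hB' (by rw [e2, h0]; ring)
  exact mul_self_ne_zero.2 (mul_ne_zero hy0 (ddet_ne_zero hB))

end Cfsg.Agent.FormClass
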