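import Cfsg.Agent.MatModule.OrthSeqBound

/-!
# Weighted sequence numbers for orthogonal groups of odd dimension
-/

set_option autoImplicit false

namespace Cfsg.Agent.FormClass

/-- Self-reciprocal polynomials without the roots `1`, `-1`. -/
def f0c (q j : ℕ) : ℕ :=
  if Even j then (if j = 0 then 1 else if j = 2 then q - 2 else (q - 1) ^ 2 * q ^ (j / 2 - 2)) else 0

/-- First layers with at most simple roots `1`, `-1`, with marks. -/
def pBad (q j : ℕ) : ℕ :=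
  f0c q j + (if 1 ≤ j then 4 * f0c q (j - 1) else 0) + (if 2 ≤ j then 4 * f0c q (j - 2) else 0)

/-- Coefficients with the restricted first layer. -/
def cBad (q m j : ℕ) : ℕ := if m = 1 then pBad q j else cAll q m j

theorem cBad_zero (q m : ℕ) : cBad q m 0 = 1 := by
  unfold cBad
  split_ifs
  · simp [pBad, f0c]
  · exact cAll_zero q m

theorem Wt_congr (c d : ℕ → ℕ → ℕ) (hc : ∀ m, c m 0 = 1) (hd : ∀ m, d m 0 = 1) :
    ∀ k m N, 1 ≤ m → N < m + k → (∀ m', m ≤ m' → ∀ j, c m' j = d m' j) → Wt c m N = Wt d m N := by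
  intro k
  induction k with
  | zero =>
    intro m N _ hN _
    rcases Nat.eq_zero_or_pos N with rfl | h
    · simp [Wt_zero]
    · rw [Wt_lt c h.ne' (by omega), Wt_lt d h.ne' (by omega)]
  | succ k ih =>
    intro m N hm hN h
    rw [Wt_sum c hc hm, Wt_sum d hd hm]
    refine Finset.sum_congr rfl fun j _ => ?_
    rw [h m le_rfl j, ih (m + 1) _ (by omega) (by omega) fun m' hm' => h m' (by omega)]

theorem bin4_even (q k : ℕ) : bin q 4 (2 * (k + 2)) = q ^ (k + 2) + 6 * q ^ (k + 1) + q ^ k := by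
  rw [show 2 * (k + 2) = 2 * k + 4 by ring]
  simp [bin, hh, Finset.sum_range_succ, Nat.choose,
    show (2 * k + 4) / 2 = k + 2 by omega, show (2 * k + 4 - 2) / 2 = k + 1 by omega, parity_simps]

theorem bin4_odd (q k : ℕ) : bin q 4 (2 * (k + 1) + 1) = 4 * q ^ (k + 1) + 4 * q ^ k := by
  have hev : ∀ i, hh q (2 * i) = q ^ i := fun i => by simp [hh]
  have hod : ∀ i, hh q (2 * i + 1) = 0 := fun i => by simp [hh, parity_simps]
  rcases k with _ | k
  · simp [bin, hh, Finset.sum_range_succ, Nat.choose, parity_simps]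
  · simp only [bin, Finset.sum_range_succ, Finset.sum_range_zero, zero_add]
    rw [if_pos (by omega), if_pos (by omega), if_pos (by omega), if_pos (by omega), if_pos (by omega),
      show 2 * (k + 1 + 1) + 1 - 0 = 2 * (k + 2) + 1 by omega, show 2 * (k + 1 + 1) + 1 - 1 = 2 * (k + 2) by omega,
      show 2 * (k + 1 + 1) + 1 - 2 = 2 * (k + 1) + 1 by omega, show 2 * (k + 1 + 1) + 1 - 3 = 2 * (k + 1) by omega,
      show 2 * (k + 1 + 1) + 1 - 4 = 2 * k + 1 by omega, hev, hev, hod, hod, hod]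
    simp [Nat.choose]

/-! ## Five elements or more -/

theorem mul_pow_mono {q i d : ℕ} (hq : 5 ≤ q) (h : i ≤ d) : q ^ i * 5 ^ d ≤ 5 ^ i * q ^ d := by
  obtain ⟨e, rfl⟩ := Nat.exists_eq_add_of_le h
  calc q ^ i * 5 ^ (i + e) = q ^ i * 5 ^ i * 5 ^ e := by ring
    _ ≤ q ^ i * 5 ^ i * q ^ e := Nat.mul_le_mul_left _ (Nat.pow_le_pow_left hq e)
    _ = 5 ^ i * q ^ (i + e) := by ring

theorem cAll_mono {q : ℕ} (hq : 5 ≤ q) (m j : ℕ) :
    cAll q m j * 5 ^ (j / 2) ≤ cAll 5 m j * q ^ (j / 2) := by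
  have hh' : ∀ i, i ≤ j → hh q i * 5 ^ (j / 2) ≤ hh 5 i * q ^ (j / 2) := fun i hi => by
    unfold hh
    split_ifs
    · exact mul_pow_mono hq (Nat.div_le_div_right hi)
    · simp
  unfold cAll
  split_ifs
  · simp only [bin, Finset.sum_mul]
    refine Finset.sum_le_sum fun a _ => ?_
    split_ifs
    · rw [mul_assoc, mul_assoc]
      exact Nat.mul_le_mul_left _ (hh' _ (Nat.sub_le j a))
    · simp
  · exact hh' j le_rfl

theorem Wt_mono {q : ℕ} (hq : 5 ≤ q) :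
    ∀ k m N, 1 ≤ m → N < m + k → Wt (cAll q) m N * 5 ^ (N / 2) ≤ Wt (cAll 5) m N * q ^ (N / 2) := by
  intro k
  induction k with
  | zero =>
    intro m N _ hN
    rcases Nat.eq_zero_or_pos N with rfl | h
    · simp [Wt_zero]
    · rw [Wt_lt _ h.ne' (by omega), Wt_lt _ h.ne' (by omega)]
      simp
  | succ k ih =>
    intro m N hm hN
    rw [Wt_sum _ (cAll_zero q) hm, Wt_sum _ (cAll_zero 5) hm, Finset.sum_mul, Finset.sum_mul]
    refine Finset.sum_le_sum fun j hj => ?_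
    rw [Finset.mem_range, Nat.lt_succ_iff, Nat.le_div_iff_mul_le (by omega), mul_comm] at hj
    set M := N - m * j with hM
    obtain ⟨e, he⟩ : ∃ e, N / 2 = j / 2 + M / 2 + e := Nat.exists_eq_add_of_le (by
      have : j ≤ m * j := Nat.le_mul_of_pos_left j (by omega)
      omega)
    rw [he, pow_add, pow_add, pow_add, pow_add]
    calc cAll q m j * Wt (cAll q) (m + 1) M * (5 ^ (j / 2) * 5 ^ (M / 2) * 5 ^ e)
        = cAll q m j * 5 ^ (j / 2) * (Wt (cAll q) (m + 1) M * 5 ^ (M / 2)) * 5 ^ e := by ring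
      _ ≤ cAll 5 m j * q ^ (j / 2) * (Wt (cAll 5) (m + 1) M * q ^ (M / 2)) * q ^ e :=
          Nat.mul_le_mul (Nat.mul_le_mul (cAll_mono hq m j) (ih (m + 1) M (by omega) (by omega)))
            (Nat.pow_le_pow_left hq e)
      _ = _ := by ring

/-- The upper estimate for `1 / √5`. -/
noncomputable abbrev rho5 : ℝ := 44722 / 100000

theorem sum_part_le5 {r : ℝ} (h : Scale 5 r) (hle : r ≤ rho5) {m : ℕ} (hm : 2 ≤ m) (a M : ℕ) :
    ∑ j ∈ Finset.range M, (if a ≤ j then (hh 5 (j - a) : ℝ) * r ^ (m * j) else 0) ≤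
      rho5 ^ (m * a) * (1 / (1 - rho5 ^ (2 * m - 2))) := by
  have h1 : rho5 ^ (2 * m - 2) < 1 := pow_lt_one₀ (by norm_num [rho5]) (by norm_num [rho5]) (by omega)
  refine (sum_hh_le' 5 a M (fun j => r ^ (m * j)) (fun j => pow_nonneg h.pos _)).trans ?_
  refine le_trans (le_of_eq (Finset.sum_congr rfl (g := fun i => r ^ (m * a) * (r ^ (2 * m - 2)) ^ i) fun i _ => ?_)) ?_
  · rw [show m * (a + 2 * i) = m * a + (2 * i + (2 * m - 2) * i) by
      rw [← Nat.add_mul, Nat.add_sub_cancel' (by omega : 2 ≤ 2 * m)]; ring, pow_add, pow_add, pow_mul r 2,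
      pow_mul r (2 * m - 2)]
    have e : ((5 : ℕ) : ℝ) ^ i * (r ^ 2) ^ i = 1 := by rw [← mul_pow, h.sq, one_pow]
    linear_combination (r ^ (m * a) * (r ^ (2 * m - 2)) ^ i) * e
  · rw [← Finset.mul_sum]
    exact mul_le_mul (pow_le_pow_left₀ h.pos hle _)
      (sum_geom_le' (pow_nonneg h.pos _) (pow_le_pow_left₀ h.pos hle _) h1 M)
      (Finset.sum_nonneg fun i _ => pow_nonneg (pow_nonneg h.pos _) _) (by norm_num [rho5])

theorem weight_hh5 {r : ℝ} (h : Scale 5 r) (hle : r ≤ rho5) {m : ℕ} (hm : 2 ≤ m) (M : ℕ) :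
    ∑ j ∈ Finset.range M, (hh 5 j : ℝ) * r ^ (m * j) ≤ 1 / (1 - rho5 ^ (2 * m - 2)) := by
  have := sum_part_le5 h hle hm 0 M
  simpa using this

theorem weight_bin5 {r : ℝ} (h : Scale 5 r) (hle : r ≤ rho5) {m : ℕ} (hm : 2 ≤ m) (M : ℕ) :
    ∑ j ∈ Finset.range M, (bin 5 4 j : ℝ) * r ^ (m * j) ≤ (1 + rho5 ^ m) ^ 4 / (1 - rho5 ^ (2 * m - 2)) := by
  calc ∑ j ∈ Finset.range M, (bin 5 4 j : ℝ) * r ^ (m * j)
      = ∑ a ∈ Finset.range 5, ((Nat.choose 4 a : ℕ) : ℝ) * ∑ j ∈ Finset.range M,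
          (if a ≤ j then (hh 5 (j - a) : ℝ) * r ^ (m * j) else 0) := by
        simp only [Finset.mul_sum]
        rw [Finset.sum_comm]
        refine Finset.sum_congr rfl fun j _ => ?_
        rw [bin, Nat.cast_sum, Finset.sum_mul]
        refine Finset.sum_congr rfl fun a _ => ?_
        split_ifs
        · push_cast; ring
        · simp
    _ ≤ ∑ a ∈ Finset.range 5, ((Nat.choose 4 a : ℕ) : ℝ) * (rho5 ^ (m * a) * (1 / (1 - rho5 ^ (2 * m - 2)))) :=
        Finset.sum_le_sum fun a _ => mul_le_mul_of_nonneg_left (sum_part_le5 h hle hm a M) (Nat.cast_nonneg _)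
    _ = _ := by
        rw [add_comm (1 : ℝ), add_pow, Finset.sum_div]
        exact Finset.sum_congr rfl fun a _ => by rw [pow_mul]; ring

theorem exists_scale5 : ∃ r, Scale 5 r ∧ r ≤ rho5 ∧ 4472 / 10000 ≤ r := by
  have h2 : (Real.sqrt 5)⁻¹ ^ 2 = (5 : ℝ)⁻¹ := by rw [inv_pow, Real.sq_sqrt (by norm_num)]
  refine ⟨(Real.sqrt 5)⁻¹, ⟨by positivity, ?_, ?_⟩, ?_, ?_⟩
  · rw [h2]; norm_num
  all_goals
    refine (sq_le_sq₀ (by first | positivity | norm_num [rho, rho5]) (by first | positivity | norm_num [rho, rho5])).1 ?_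
    rw [h2]
    norm_num [rho, rho5]

theorem TW_all_two5 {r : ℝ} (h : Scale 5 r) (hle : r ≤ rho5) (L : ℕ) : TW (cAll 5) r 2 L ≤ 276 / 100 := by
  have a1 : TW (cAll 5) r 2 L ≤ 1 / (1 - rho5 ^ 2) * TW (cAll 5) r 3 L :=
    TW_step _ (cAll_zero 5) h.pos (by norm_num) L fun M => by
      simpa [cAll, show ¬ Odd 2 by decide] using weight_hh5 h hle (le_refl 2) M
  have b1 : TW (cAll 5) r 3 L ≤ (1 + rho5 ^ 3) ^ 4 / (1 - rho5 ^ 4) * TW (cAll 5) r 4 L :=
    TW_step _ (cAll_zero 5) h.pos (by norm_num) L fun M => by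
      simpa [cAll, show Odd 3 by decide] using weight_bin5 h hle (show 2 ≤ 3 by norm_num) M
  have a2 : TW (cAll 5) r 4 L ≤ 1 / (1 - rho5 ^ 6) * TW (cAll 5) r 5 L :=
    TW_step _ (cAll_zero 5) h.pos (by norm_num) L fun M => by
      simpa [cAll, show ¬ Odd 4 by decide] using weight_hh5 h hle (show 2 ≤ 4 by norm_num) M
  obtain ⟨-, b2⟩ := step_all h 2 L (by omega)
  obtain ⟨a3, b3⟩ := step_all h 3 L (by omega)
  obtain ⟨a4, b4⟩ := step_all h 4 L (by omega)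
  obtain ⟨a5, b5⟩ := step_all h 5 L (by omega)
  obtain ⟨a6, b6⟩ := step_all h 6 L (by omega)
  have h14 := tail_all h L L 7 le_rfl (by omega)
  norm_num [rho, rho5] at a1 a2 a3 a4 a5 a6 b1 b2 b3 b4 b5 b6 h14
  linarith

theorem bin5_le {r : ℝ} (h : Scale 5 r) (hle : r ≤ rho5) (j : ℕ) : (bin 5 4 j : ℝ) * r ^ j ≤ 225 / 100 := by
  have hi : ∀ i : ℕ, (5 : ℝ) ^ i * r ^ (2 * i) = 1 := fun i => by
    rw [pow_mul, ← mul_pow, show (5 : ℝ) * r ^ 2 = 1 by exact_mod_cast h.sq, one_pow]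
  have h5 : r ^ 2 = 1 / 5 := by
    have : (5 : ℝ) * r ^ 2 = 1 := by exact_mod_cast h.sq
    linarith
  norm_num [rho5] at hle
  rcases Nat.even_or_odd' j with ⟨k, rfl | rfl⟩
  · rcases k with _ | _ | k
    · simp [bin, hh]; norm_num
    · simp [bin, hh, Finset.sum_range_succ, Nat.choose]
      rw [h5]; norm_num
    · rw [bin4_even]
      push_cast
      rw [show (r : ℝ) ^ (2 * (k + 1 + 1)) = r ^ (2 * k) * (r ^ 2 * r ^ 2) by ring, h5]
      linear_combination (36 / 25 + 20 / 25 : ℝ) * hi k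
  · rcases k with _ | k
    · simp [bin, hh, Finset.sum_range_succ, Nat.choose]
      linarith
    · rw [bin4_odd]
      push_cast
      rw [show (r : ℝ) ^ (2 * (k + 1) + 1) = r ^ (2 * k) * (r ^ 2 * r) by ring, h5]
      calc _ = (24 / 5 : ℝ) * r * ((5 : ℝ) ^ k * r ^ (2 * k)) := by ring
        _ ≤ _ := by rw [hi]; linarith

theorem Wt_odd_bound5 {q : ℕ} (hq : 5 ≤ q) (n : ℕ) :
    10 * Wt (cAll q) 1 (2 * n + 1) ≤ 146 * q ^ n := by
  obtain ⟨r, h, hle, hlow⟩ := exists_scale5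
  have hW := Wt_one_le (cAll 5) (cAll_zero 5) h.pos (K := 225 / 100)
    (fun j => by simpa [cAll] using bin5_le h hle j) (2 * n + 1)
  have hT := TW_all_two5 h hle (2 * n + 1 + 1)
  have hi : (5 : ℝ) ^ n * r ^ (2 * n) = 1 := by
    rw [pow_mul, ← mul_pow, show (5 : ℝ) * r ^ 2 = 1 by exact_mod_cast h.sq, one_pow]
  have h0 : (0 : ℝ) ≤ Wt (cAll 5) 1 (2 * n + 1) := Nat.cast_nonneg _
  have h1 : (Wt (cAll 5) 1 (2 * n + 1) : ℝ) * r ^ (2 * n + 1) ≤ 6.21 := by linarith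
  have h2 : (Wt (cAll 5) 1 (2 * n + 1) : ℝ) * r ≤ 6.21 * (5 : ℝ) ^ n := by
    have := mul_le_mul_of_nonneg_right h1 (show (0 : ℝ) ≤ (5 : ℝ) ^ n by positivity)
    calc _ = (Wt (cAll 5) 1 (2 * n + 1) : ℝ) * r * ((5 : ℝ) ^ n * r ^ (2 * n)) := by rw [hi, mul_one]
      _ = _ := by ring
      _ ≤ _ := this
  have h3 : 10 * (Wt (cAll 5) 1 (2 * n + 1) : ℝ) ≤ 146 * (5 : ℝ) ^ n := by
    nlinarith [mul_le_mul_of_nonneg_left hlow h0, pow_pos (show (0 : ℝ) < 5 by norm_num) n]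
  have h4 : 10 * Wt (cAll 5) 1 (2 * n + 1) ≤ 146 * 5 ^ n := by exact_mod_cast h3
  have h6 := Wt_mono hq (2 * n + 2) 1 (2 * n + 1) le_rfl (by omega)
  rw [show (2 * n + 1) / 2 = n by omega] at h6
  refine Nat.le_of_mul_le_mul_right ?_ (show 0 < 5 ^ n by positivity)
  calc 10 * Wt (cAll q) 1 (2 * n + 1) * 5 ^ n = 10 * (Wt (cAll q) 1 (2 * n + 1) * 5 ^ n) := by ring
    _ ≤ 10 * (Wt (cAll 5) 1 (2 * n + 1) * q ^ n) := Nat.mul_le_mul_left _ h6
    _ = 10 * Wt (cAll 5) 1 (2 * n + 1) * q ^ n := by ring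
    _ ≤ 146 * 5 ^ n * q ^ n := Nat.mul_le_mul_right _ h4
    _ = _ := by ring

/-! ## Three elements -/

theorem f0c_even (q k : ℕ) : f0c q (2 * (k + 2)) = (q - 1) ^ 2 * q ^ k := by
  simp [f0c, show 2 * (k + 2) ≠ 2 by omega, show 2 * (k + 2) / 2 - 2 = k by omega]

theorem f0c_odd (q k : ℕ) : f0c q (2 * k + 1) = 0 := by simp [f0c, parity_simps]

/-- The combined first layer. -/
def cMix (j : ℕ) : ℕ := bin 3 4 j + 3 * pBad 3 j

theorem cMix_even (k : ℕ) : cMix (2 * (k + 3)) = 168 * 3 ^ k := by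
  have e1 : bin 3 4 (2 * (k + 3)) = 84 * 3 ^ k := by
    rw [show k + 3 = k + 1 + 2 by ring, bin4_even]; ring
  have e2 : pBad 3 (2 * (k + 3)) = 28 * 3 ^ k := by
    rw [pBad, if_pos (by omega), if_pos (by omega), show 2 * (k + 3) - 1 = 2 * (k + 2) + 1 by omega,
      show 2 * (k + 3) - 2 = 2 * (k + 2) by omega, f0c_odd, show 2 * (k + 3) = 2 * (k + 1 + 2) by ring,
      f0c_even, f0c_even]
    ring
  rw [cMix, e1, e2]; ring

theorem cMix_odd (k : ℕ) : cMix (2 * (k + 2) + 1) = 96 * 3 ^ k := by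
  have e1 : bin 3 4 (2 * (k + 2) + 1) = 48 * 3 ^ k := by
    rw [show k + 2 = k + 1 + 1 by ring, bin4_odd]; ring
  have e2 : pBad 3 (2 * (k + 2) + 1) = 16 * 3 ^ k := by
    rw [pBad, if_pos (by omega), if_pos (by omega), show 2 * (k + 2) + 1 - 1 = 2 * (k + 2) by omega,
      show 2 * (k + 2) + 1 - 2 = 2 * (k + 1) + 1 by omega, f0c_odd, f0c_odd, f0c_even]
    ring
  rw [cMix, e1, e2]; ring

theorem cMix_le {r : ℝ} (h : Scale 3 r) (j : ℕ) :
    (cMix j : ℝ) * r ^ j ≤ 6223 / 1000 + (if j = 1 then 3016 / 1000 else 0) + (if j = 2 then 1778 / 1000 else 0) := by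
  have hs : (3 : ℝ) * r ^ 2 = 1 := by exact_mod_cast h.sq
  have h3 : r ^ 2 = 1 / 3 := by linarith
  have hi : ∀ i : ℕ, (3 : ℝ) ^ i * r ^ (2 * i) = 1 := fun i => by rw [pow_mul, ← mul_pow, hs, one_pow]
  have hle := h.le
  norm_num [rho] at hle
  rcases Nat.even_or_odd' j with ⟨k, rfl | rfl⟩
  · rcases k with _ | _ | _ | k
    · simp [cMix, bin, hh, pBad, f0c]; norm_num
    · norm_num [cMix, bin, hh, pBad, f0c, Finset.sum_range_succ, Nat.choose, parity_simps]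
      rw [h3]; norm_num
    · norm_num [cMix, bin, hh, pBad, f0c, Finset.sum_range_succ, Nat.choose, parity_simps]
      rw [show r ^ 4 = r ^ 2 * r ^ 2 by ring, h3]; norm_num
    · rw [if_neg (by omega), if_neg (by omega), cMix_even]
      push_cast
      rw [show r ^ (2 * (k + 1 + 1 + 1)) = r ^ (2 * k) * (r ^ 2 * r ^ 2 * r ^ 2) by ring, h3]
      calc _ = (168 / 27 : ℝ) * ((3 : ℝ) ^ k * r ^ (2 * k)) := by ring
        _ ≤ _ := by rw [hi]; norm_num
  · rcases k with _ | _ | k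
    · norm_num [cMix, bin, hh, pBad, f0c, Finset.sum_range_succ, Nat.choose, parity_simps]
      linarith
    · norm_num [cMix, bin, hh, pBad, f0c, Finset.sum_range_succ, Nat.choose, parity_simps]
      rw [show r ^ 3 = r ^ 2 * r by ring, h3]; linarith
    · rw [if_neg (by omega), if_neg (by omega), cMix_odd]
      push_cast
      rw [show r ^ (2 * (k + 1 + 1) + 1) = r ^ (2 * k) * (r ^ 2 * r ^ 2 * r) by ring, h3]
      calc _ = (96 / 9 : ℝ) * r * ((3 : ℝ) ^ k * r ^ (2 * k)) := by ring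
        _ ≤ _ := by rw [hi]; linarith

theorem Wt_shift (M : ℕ) : 3 * Wt (cAll 3) 2 M ≤ Wt (cAll 3) 2 (M + 4) := by
  rw [Wt_sum _ (cAll_zero 3) (by norm_num : 1 ≤ 2), Wt_sum _ (cAll_zero 3) (by norm_num : 1 ≤ 2),
    show (M + 4) / 2 + 1 = 2 + (M / 2 + 1) by omega, Finset.sum_range_add _ 2 (M / 2 + 1), Finset.mul_sum]
  refine le_trans (le_of_eq (Finset.sum_congr rfl fun j hj => ?_)) (Nat.le_add_left _ _)
  rw [show M + 4 - 2 * (2 + j) = M - 2 * j by omega, ← mul_assoc]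
  congr 1
  have hn : ¬ Odd 2 := by decide
  simp only [cAll, if_neg hn, hh]
  rcases Nat.even_or_odd j with he | ho
  · rw [if_pos he, if_pos (even_two.add he), show (2 + j) / 2 = j / 2 + 1 by omega, pow_succ, mul_comm]
  · rw [if_neg (Nat.not_even_iff_odd.2 ho), if_neg (Nat.not_even_iff_odd.2 (even_two.add_odd ho)), mul_zero]

theorem Wt_odd_bound3 {n : ℕ} (hn : 1 ≤ n) :
    10 * (Wt (cAll 3) 1 (2 * n + 1) + 3 * Wt (cBad 3) 1 (2 * n + 1)) ≤ 584 * 3 ^ n := by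
  obtain ⟨r, h⟩ := exists_scale (le_refl 3)
  have hs : (3 : ℝ) * r ^ 2 = 1 := by exact_mod_cast h.sq
  have h3 : r ^ 2 = 1 / 3 := by linarith
  have hlow : (577 / 1000 : ℝ) ≤ r := by nlinarith [h.pos]
  set N := 2 * n + 1 with hN
  set t : ℕ → ℝ := fun M => (Wt (cAll 3) 2 M : ℝ) * r ^ M with ht
  have ht0 : ∀ M, 0 ≤ t M := fun M => mul_nonneg (Nat.cast_nonneg _) (pow_nonneg h.pos _)
  have hshift : ∀ M, 1 / 3 * t M ≤ t (M + 4) := fun M => by
    have e : (3 : ℝ) * Wt (cAll 3) 2 M ≤ Wt (cAll 3) 2 (M + 4) := by exact_mod_cast Wt_shift M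
    calc 1 / 3 * t M = (3 * Wt (cAll 3) 2 M : ℝ) * (r ^ 2 * r ^ 2) * r ^ M := by rw [h3]; simp only [ht]; ring
      _ ≤ (Wt (cAll 3) 2 (M + 4) : ℝ) * (r ^ 2 * r ^ 2) * r ^ M :=
          mul_le_mul_of_nonneg_right (mul_le_mul_of_nonneg_right e (by positivity)) (pow_nonneg h.pos _)
      _ = t (M + 4) := by simp only [ht]; ring
  have hsum : ((Wt (cAll 3) 1 N + 3 * Wt (cBad 3) 1 N : ℕ) : ℝ) * r ^ N =
      ∑ j ∈ Finset.range (N + 1), (cMix j : ℝ) * r ^ j * t (N - j) := by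
    rw [Wt_sum _ (cAll_zero 3) le_rfl, Wt_sum _ (cBad_zero 3) le_rfl, Finset.mul_sum, ← Finset.sum_add_distrib,
      Nat.cast_sum, Finset.sum_mul, Nat.div_one]
    refine Finset.sum_congr rfl fun j hj => ?_
    have hj' : j ≤ N := by rw [Finset.mem_range] at hj; omega
    rw [one_mul, show 1 + 1 = 2 from rfl, Wt_congr (cBad 3) (cAll 3) (cBad_zero 3) (cAll_zero 3) (N + 1) 2 (N - j)
      (by norm_num) (by omega) fun m' hm' i => if_neg (by omega)]
    have e : r ^ N = r ^ j * r ^ (N - j) := by rw [← pow_add, Nat.add_sub_cancel' hj']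
    simp only [ht, cMix, cAll, cBad, if_pos odd_one, if_true, e]
    push_cast
    ring
  have hbound : ∑ j ∈ Finset.range (N + 1), (cMix j : ℝ) * r ^ j * t (N - j) ≤
      6223 / 1000 * ∑ M ∈ Finset.range (N + 1), t M + 3016 / 1000 * t (N - 1) + 1778 / 1000 * t (N - 2) := by
    refine (Finset.sum_le_sum fun j _ => mul_le_mul_of_nonneg_right (cMix_le h j) (ht0 _)).trans (le_of_eq ?_)
    simp only [add_mul, ite_mul, zero_mul, Finset.sum_add_distrib, Finset.sum_ite_eq']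
    rw [if_pos (Finset.mem_range.2 (by omega)), if_pos (Finset.mem_range.2 (by omega)), ← Finset.mul_sum]
    congr 3
    rw [← Finset.sum_range_reflect t (N + 1)]
    exact Finset.sum_congr rfl fun j _ => by rw [show N + 1 - 1 - j = N - j by omega]
  have htail : ∑ M ∈ Finset.range (N + 1), t M + 40 / 81 * (t (N - 1) + t (N - 2)) ≤
      TW (cAll 3) r 2 (N + 1 + 15) := by
    rw [show TW (cAll 3) r 2 (N + 1 + 15) = ∑ M ∈ Finset.range (N + 1 + 15), t M from rfl, Finset.sum_range_add t (N + 1) 15]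
    rw [add_le_add_iff_left]
    simp only [Finset.sum_range_succ, Finset.sum_range_zero, zero_add]
    have g : ∀ M A B, A = M → B = M + 4 → 1 / 3 * t A ≤ t B := fun M A B a b => a ▸ b ▸ hshift M
    have a1 := g (N - 2) (N - 2) (N + 1 + 1) rfl (by omega)
    have a2 := g (N + 2) (N + 1 + 1) (N + 1 + 5) rfl (by omega)
    have a3 := g (N + 6) (N + 1 + 5) (N + 1 + 9) (by omega) (by omega)
    have a4 := g (N + 10) (N + 1 + 9) (N + 1 + 13) (by omega) (by omega)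
    have b1 := g (N - 1) (N - 1) (N + 1 + 2) rfl (by omega)
    have b2 := g (N + 3) (N + 1 + 2) (N + 1 + 6) rfl (by omega)
    have b3 := g (N + 7) (N + 1 + 6) (N + 1 + 10) (by omega) (by omega)
    have b4 := g (N + 11) (N + 1 + 10) (N + 1 + 14) (by omega) (by omega)
    nlinarith [ht0 (N + 1 + 0), ht0 (N + 1 + 3), ht0 (N + 1 + 4), ht0 (N + 1 + 7), ht0 (N + 1 + 8), ht0 (N + 1 + 11),
      ht0 (N + 1 + 12)]
  have hT := TW_all_two h (N + 1 + 15)
  have h1 : ((Wt (cAll 3) 1 N + 3 * Wt (cBad 3) 1 N : ℕ) : ℝ) * r ^ N ≤ 32.92 := by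
    rw [hsum]; linarith [ht0 (N - 1), ht0 (N - 2)]
  set W : ℝ := ((Wt (cAll 3) 1 N + 3 * Wt (cBad 3) 1 N : ℕ) : ℝ) with hW
  have hi : (3 : ℝ) ^ n * r ^ (2 * n) = 1 := by rw [pow_mul, ← mul_pow, hs, one_pow]
  have h2 : W * r ≤ 32.92 * (3 : ℝ) ^ n := by
    have := mul_le_mul_of_nonneg_right h1 (show (0 : ℝ) ≤ (3 : ℝ) ^ n by positivity)
    calc _ = W * r * ((3 : ℝ) ^ n * r ^ (2 * n)) := by rw [hi, mul_one]
      _ = W * r ^ N * (3 : ℝ) ^ n := by rw [hN]; ring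
      _ ≤ _ := this
  have h5 : 10 * W ≤ 584 * (3 : ℝ) ^ n := by
    nlinarith [mul_le_mul_of_nonneg_left hlow (show (0 : ℝ) ≤ W from Nat.cast_nonneg _),
      pow_pos (show (0 : ℝ) < 3 by norm_num) n]
  rw [hW] at h5
  exact_mod_cast h5

end Cfsg.Agent.FormClass
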