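import Cfsg.Agent.MatModule.ClassNumberOrthOdd
import Cfsg.Agent.MatModule.OrthOddBound
import Cfsg.Agent.Classical.OrthIndex

/-!
# Isometries whose commutant in the special group may lack spinor norm `-1`
-/

set_option autoImplicit false

namespace Cfsg.Agent.FormClass

open Module Polynomial UniqueFactorizationMonoid
open Cfsg.Agent.ClassNumberGL Cfsg.Agent.SympConj

variable {F : Type*} [Field F]

/-- At weight one the roots `1` and `-1` are simple. -/
def SimpleRoots (F : Type*) [Field F] (w : ℕ) (f : F[X]) : Prop :=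
  w = 1 → ∀ s : F, s * s = 1 → ¬ (X - C s) * (X - C s) ∣ f

/-- Self-reciprocal polynomials without the roots `1` and `-1`. -/
abbrev F0 (F : Type*) [Field F] (j : ℕ) := {f : RecPolyOne F j // f.1.1.eval 1 ≠ 0 ∧ f.1.1.eval (-1) ≠ 0}

theorem card_f0_le [Fintype F] (h2 : (2 : F) ≠ 0) (j : ℕ) : Nat.card (F0 F j) ≤ f0c (Fintype.card F) j := by
  classical
  by_cases hj : Even j
  swap
  · haveI : IsEmpty (F0 F j) := ⟨fun f => hj f.1.2.2⟩
    simp
  rw [f0c, if_pos hj]
  obtain ⟨i, rfl⟩ := hj.exists_two_nsmul _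
  simp only [smul_eq_mul]
  have hle : Nat.card (F0 F (2 * i)) ≤ Nat.card (RecPolyOne F (2 * i)) := Nat.card_le_card_of_injective _ Subtype.val_injective
  rcases i with _ | _ | k
  · refine hle.trans ((card_recPolyOne_le _).trans ?_)
    simp [hh]
  · have hev : ∀ (f : RecPolyOne F 2) (s : F), s * s = 1 → f.1.1.eval s = 2 + f.1.1.coeff 1 * s := fun f s hs => by
      have h0 := coeff_rec f.1.2.1 (i := 0) (Nat.zero_le _)
      rw [Nat.sub_zero, f.2.1, one_mul, f.1.2.2] at h0
      rw [eval_eq_sum_range, f.1.2.2]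
      simp only [Finset.sum_range_succ, Finset.sum_range_zero, zero_add, pow_zero, mul_one, pow_one, h0, sq, hs]
      rw [f.2.1]
      ring
    let Φ : F0 F (2 * 1) → {x : F // x ≠ 2 ∧ x ≠ -2} := fun f => ⟨f.1.1.1.coeff 1,
      fun h => f.2.2 (by rw [hev f.1 (-1) (by ring), h]; ring), fun h => f.2.1 (by rw [hev f.1 1 (one_mul 1), h]; ring)⟩
    refine (Nat.card_le_card_of_injective Φ fun f g h => ?_).trans ?_
    · refine Subtype.ext (Subtype.ext (Subtype.ext (eq_of_low f.1.1.2.1 g.1.1.2.1 (f.1.1.2.2.trans g.1.1.2.2.symm)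
        fun l hl => ?_)))
      rw [f.1.1.2.2] at hl
      interval_cases l
      · rw [f.1.2.1, g.1.2.1]
      · exact congrArg Subtype.val h
    · rw [if_neg (by norm_num), if_pos (by norm_num), Nat.card_eq_fintype_card, Fintype.card_subtype]
      rw [show (Finset.univ.filter fun x : F => x ≠ 2 ∧ x ≠ -2) = Finset.univ \ ({2, -2} : Finset F) by
        ext x; simp [not_or]]
      rw [Finset.card_sdiff_of_subset (Finset.subset_univ _), Finset.card_univ, Finset.card_pair]
      intro h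
      exact (mul_ne_zero h2 h2) (by linear_combination h)
  rw [if_neg (by omega), if_neg (by omega), show 2 * (k + 2) / 2 - 2 = k by omega]
  let Φ : F0 F (2 * (k + 2)) → (Fin k → F) × {x : F // x ≠ 0} × {x : F // x ≠ 0} := fun f =>
    (fun l => f.1.1.1.coeff (l.val + 1), ⟨_, f.2.1⟩, ⟨_, f.2.2⟩)
  refine (Nat.card_le_card_of_injective Φ ?_).trans ?_
  · intro f g h
    obtain ⟨⟨⟨f, hf, hfd⟩, hf0, _⟩, _⟩ := f
    obtain ⟨⟨⟨g, hg, hgd⟩, hg0, _⟩, _⟩ := g
    simp only [Φ, Prod.mk.injEq, Subtype.mk.injEq] at h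
    obtain ⟨hlow, he1, hem⟩ := h
    refine Subtype.ext (Subtype.ext (Subtype.ext ?_))
    show f = g
    set a : F := f.coeff (k + 1) - g.coeff (k + 1) with ha
    set b : F := f.coeff (k + 2) - g.coeff (k + 2) with hb
    have hlo : ∀ l, l ≤ k → f.coeff l = g.coeff l := fun l hl => by
      rcases l with _ | l
      · exact hf0.trans hg0.symm
      · exact congrFun hlow ⟨l, by omega⟩
    have hsym : ∀ (p : F[X]), SelfRec p → p.coeff 0 = 1 → p.natDegree = 2 * (k + 2) → ∀ l, l ≤ 2 * (k + 2) →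
        p.coeff (2 * (k + 2) - l) = p.coeff l := fun p hp h0 hd l hl => by
      rw [← hd]
      rw [coeff_rec hp (hd ▸ hl), h0, one_mul]
    have heq : f - g = C a * (X ^ (k + 1) + X ^ (k + 3)) + C b * X ^ (k + 2) := by
      ext l
      simp only [coeff_sub, coeff_add, coeff_C_mul, coeff_X_pow]
      rcases lt_trichotomy l (k + 2) with hl | hl | hl
      · rcases Nat.lt_succ_iff_lt_or_eq.1 hl with hl' | rfl
        · rw [hlo l (by omega), if_neg (by omega), if_neg (by omega), if_neg (by omega)]; ring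
        · rw [if_pos rfl, if_neg (by omega), if_neg (by omega)]; ring
      · subst hl
        rw [if_neg (by omega), if_neg (by omega), if_pos rfl]; ring
      · rcases le_or_gt l (2 * (k + 2)) with hle' | hgt
        · rw [← Nat.sub_sub_self hle', hsym f hf hf0 hfd _ (Nat.sub_le _ _), hsym g hg hg0 hgd _ (Nat.sub_le _ _),
            Nat.sub_sub_self hle']
          rcases eq_or_ne l (k + 3) with rfl | hne
          · rw [show 2 * (k + 2) - (k + 3) = k + 1 by omega, if_neg (by omega), if_pos rfl, if_neg (by omega)]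
            ring
          · rw [hlo _ (by omega), if_neg (by omega), if_neg hne, if_neg (by omega)]; ring
        · rw [coeff_eq_zero_of_natDegree_lt (hfd ▸ hgt), coeff_eq_zero_of_natDegree_lt (hgd ▸ hgt),
            if_neg (by omega), if_neg (by omega), if_neg (by omega)]
          ring
    have h1 := congrArg (eval (1 : F)) heq
    have hm := congrArg (eval (-1 : F)) heq
    simp only [eval_sub, eval_add, eval_mul, eval_C, eval_X, eval_pow, one_pow, he1, hem, sub_self, pow_succ] at h1 hm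
    set σ : F := (-1) ^ k with hσ
    have hσ0 : σ ≠ 0 := pow_ne_zero _ (neg_ne_zero.2 one_ne_zero)
    have hm' : b - 2 * a = 0 := (mul_eq_zero.1 (show σ * (b - 2 * a) = 0 by linear_combination -hm)).resolve_left hσ0
    have hb0 : b = 0 := (mul_eq_zero.1 (show (2 : F) * b = 0 by linear_combination hm' - h1)).resolve_left h2
    have ha0 : a = 0 := (mul_eq_zero.1 (show (2 : F) * a = 0 by linear_combination -h1 - hb0)).resolve_left h2
    rw [ha0, hb0, map_zero, zero_mul, zero_mul, add_zero] at heq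
    exact sub_eq_zero.1 heq
  · rw [Nat.card_prod, Nat.card_prod, Nat.card_fun, Nat.card_eq_fintype_card (α := F), Nat.card_fin,
      Nat.card_eq_fintype_card, Fintype.card_subtype_compl, Fintype.card_subtype_eq]
    exact le_of_eq (by ring)

open _root_.Classical in
theorem omem_simple_card [Fintype F] (h2 : (2 : F) ≠ 0) (w j : ℕ) :
    Finite {p : F[X] × (Bool × Bool) // (OMem F w p ∧ SimpleRoots F w p.1) ∧ p.1.natDegree = j} ∧
      Nat.card {p : F[X] × (Bool × Bool) // (OMem F w p ∧ SimpleRoots F w p.1) ∧ p.1.natDegree = j} ≤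
        cBad (Fintype.card F) w j := by
  obtain ⟨hfin, hall⟩ := omem_card (F := F) h2 w j
  haveI := hfin
  let e : {p : F[X] × (Bool × Bool) // (OMem F w p ∧ SimpleRoots F w p.1) ∧ p.1.natDegree = j} →
      {p : F[X] × (Bool × Bool) // OMem F w p ∧ p.1.natDegree = j} := fun p => ⟨p.1, p.2.1.1, p.2.2⟩
  have he : Function.Injective e := fun a b h =>
    Subtype.ext (congrArg (fun x : {p : F[X] × (Bool × Bool) // OMem F w p ∧ p.1.natDegree = j} => x.1) h)
  refine ⟨Finite.of_injective e he, ?_⟩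
  by_cases hw : w = 1
  swap
  · rw [cBad, if_neg hw]
    exact (Nat.card_le_card_of_injective e he).trans hall
  subst hw
  rw [cBad, if_pos rfl]
  -- splitting off the simple roots
  let U : Bool → F := fun b => if b then 1 else -1
  have hU : ∀ b, U b * U b = 1 := fun b => by cases b <;> simp [U]
  have hUne : U true ≠ U false := fun h => h2 (by
    simp only [U] at h
    norm_num at h
    linear_combination h)
  let T := F0 F j ⊕ ({p : Bool × Bool × F0 F (j - 1) // 1 ≤ j} ⊕ {p : Bool × Bool × F0 F (j - 2) // 2 ≤ j})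
  have key : ∀ p : {p : F[X] × (Bool × Bool) // (OMem F 1 p ∧ SimpleRoots F 1 p.1) ∧ p.1.natDegree = j},
      (∃ f : F0 F j, p.1 = (f.1.1.1, false, false)) ∨
      (∃ (s : Bool) (m : Bool) (f : F0 F (j - 1)), 1 ≤ j ∧
        p.1 = ((X - C (U s)) * f.1.1.1, (s && m), (!s && m))) ∨
      (∃ (m m' : Bool) (f : F0 F (j - 2)), 2 ≤ j ∧
        p.1 = ((X - C (U true)) * ((X - C (U false)) * f.1.1.1), m, m')) := by
    rintro ⟨⟨f, m, m'⟩, ⟨⟨hf, -, hm1, hm2⟩, hsimp⟩, hd⟩
    simp only at hd hm1 hm2 hsimp hf ⊢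
    have hno : ∀ s : F, s * s = 1 → f.eval s = 0 → ∀ g, f = (X - C s) * g → g.eval s ≠ 0 := by
      intro s hs _ g hg h0
      obtain ⟨k, rfl⟩ := dvd_iff_isRoot.2 h0
      exact hsimp rfl s hs ⟨k, by rw [hg, mul_assoc]⟩
    have hmk : ∀ g : F[X], SelfRec g → g.eval 1 ≠ 0 → g.eval (-1) ≠ 0 → ∀ l, g.natDegree = l →
        ∃ g0 : F0 F l, g0.1.1.1 = g := by
      intro g hg h1 hm l hl
      obtain ⟨e0, e1⟩ := even_selfRec h2 hg
        (by rw [Multiset.count_eq_zero.2 fun h => h1 (dvd_iff_isRoot.1 (dvd_of_mem_normalizedFactors h))]; exact Even.zero)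
        (by rw [Multiset.count_eq_zero.2 fun h => hm (dvd_iff_isRoot.1 (dvd_of_mem_normalizedFactors h))]; exact Even.zero)
      exact ⟨⟨⟨⟨g, hg, hl⟩, e0, hl ▸ e1⟩, h1, hm⟩, rfl⟩
    have hoff : ∀ {s : F} {g : F[X]}, g.eval s ≠ 0 → ¬ X - C s ∣ g := fun h hd => h (dvd_iff_isRoot.1 hd)
    have hsplit : ∀ {s : F}, s * s = 1 → f.eval s = 0 →
        ∃ g, f = (X - C s) * g ∧ SelfRec g ∧ g.natDegree + 1 = j ∧ g.eval s ≠ 0 := by
      intro s hs h0
      obtain ⟨g, rfl⟩ := dvd_iff_isRoot.2 h0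
      have hg := selfRec_div (selfRec_linear hs) hf
      rw [natDegree_mul (X_sub_C_ne_zero s) hg.1.ne_zero, natDegree_X_sub_C, add_comm] at hd
      exact ⟨g, rfl, hg, hd, hno s hs h0 g rfl⟩
    have hU1 : U true = 1 := rfl
    have hU2 : U false = -1 := rfl
    by_cases h1 : f.eval 1 = 0 <;> by_cases hm : f.eval (-1) = 0
    · obtain ⟨g, rfl, hg, hgd, hg1⟩ := hsplit (one_mul 1) h1
      have hgm : g.eval (-1) = 0 := by
        simp only [eval_mul, eval_sub, eval_X, eval_C] at hm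
        exact (mul_eq_zero.1 hm).resolve_left fun h => h2 (by linear_combination -h)
      obtain ⟨k, rfl⟩ := dvd_iff_isRoot.2 hgm
      have hk := selfRec_div (selfRec_linear (show (-1 : F) * -1 = 1 by ring)) hg
      have hkm : k.eval (-1) ≠ 0 := hno (-1) (by ring) hm ((X - C 1) * k) (by ring) |> fun h h0 => h (by simp [h0])
      have hk1 : k.eval 1 ≠ 0 := fun h0 => hg1 (by simp [h0])
      obtain ⟨g0, hg0⟩ := hmk k hk hk1 hkm (j - 2) (by
        rw [natDegree_mul (X_sub_C_ne_zero _) hk.1.ne_zero, natDegree_X_sub_C] at hgd; omega)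
      refine Or.inr (Or.inr ⟨m, m', g0, ?_, by rw [hg0, hU1, hU2]⟩)
      rw [natDegree_mul (X_sub_C_ne_zero _) hk.1.ne_zero, natDegree_X_sub_C] at hgd
      omega
    · obtain ⟨g, rfl, hg, hgd, hg1⟩ := hsplit (one_mul 1) h1
      obtain ⟨g0, hg0⟩ := hmk g hg hg1 (fun h => hm (by simp [h])) (j - 1) (by omega)
      have hm' : m' = false := Bool.eq_false_iff.2 fun h => hoff hm (hm2 h).2
      exact Or.inr (Or.inl ⟨true, m, g0, by omega, by rw [hg0, hU1, hm']; simp⟩)
    · obtain ⟨g, rfl, hg, hgd, hg1⟩ := hsplit (show (-1 : F) * -1 = 1 by ring) hm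
      obtain ⟨g0, hg0⟩ := hmk g hg (fun h => h1 (by simp [h])) hg1 (j - 1) (by omega)
      have hm' : m = false := Bool.eq_false_iff.2 fun h => hoff h1 (hm1 h).2
      exact Or.inr (Or.inl ⟨false, m', g0, by omega, by rw [hg0, hU2, hm']; simp⟩)
    · obtain ⟨g0, hg0⟩ := hmk f hf h1 hm j hd
      refine Or.inl ⟨g0, ?_⟩
      rw [hg0, Bool.eq_false_iff.2 fun h : m = true => hoff h1 (hm1 h).2,
        Bool.eq_false_iff.2 fun h : m' = true => hoff hm (hm2 h).2]
  let dec : T → F[X] × (Bool × Bool) := Sum.elim (fun f => (f.1.1.1, false, false))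
    (Sum.elim (fun p => ((X - C (U p.1.1)) * p.1.2.2.1.1.1, (p.1.1 && p.1.2.1), (!p.1.1 && p.1.2.1)))
      (fun p => ((X - C (U true)) * ((X - C (U false)) * p.1.2.2.1.1.1), p.1.1, p.1.2.1)))
  have hex : ∀ p : {p : F[X] × (Bool × Bool) // (OMem F 1 p ∧ SimpleRoots F 1 p.1) ∧ p.1.natDegree = j},
      ∃ t, dec t = p.1 := fun p => by
    rcases key p with ⟨f, h⟩ | ⟨s, m, f, hj, h⟩ | ⟨m, m', f, hj, h⟩
    · exact ⟨Sum.inl f, h.symm⟩
    · exact ⟨Sum.inr (Sum.inl ⟨(s, m, f), hj⟩), h.symm⟩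
    · exact ⟨Sum.inr (Sum.inr ⟨(m, m', f), hj⟩), h.symm⟩
  choose t ht using hex
  refine (Nat.card_le_card_of_injective t fun p p' h => Subtype.ext (by rw [← ht p, h, ht p'])).trans ?_
  rw [Nat.card_sum, Nat.card_sum, pBad, add_assoc]
  refine Nat.add_le_add (card_f0_le h2 j) (Nat.add_le_add ?_ ?_)
  all_goals
    split_ifs with hj
    · refine (Nat.card_le_card_of_injective _ Subtype.val_injective).trans ?_
      rw [Nat.card_prod, Nat.card_prod, Nat.card_eq_fintype_card (α := Bool), Fintype.card_bool, ← mul_assoc]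
      exact Nat.mul_le_mul_left 4 (card_f0_le h2 _)
    · rw [Nat.card_eq_zero.2 (Or.inl ⟨fun p => hj p.2⟩)]

end Cfsg.Agent.FormClass
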