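import Cfsg.Agent.MatModule.OrthOddBad

/-!
# Two simple Jordan blocks at a root `±1` give a nondegenerate plane
-/

set_option autoImplicit false

namespace Cfsg.Agent.FormClass

open Module Polynomial UniqueFactorizationMonoid
open Cfsg.Agent.ClassNumberGL
open QuadraticMap Cfsg.Agent.Classical.Quad

universe v

variable {F : Type*} [Field F] {V : Type v} [AddCommGroup V] [Module F V] [FiniteDimensional F V]

/-- No eigenvectors for a common eigenvalue `±1` with square and non-square values. -/
def Bad (Q : QuadraticForm F V) (A : oG Q) : Prop :=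
  ¬ ∃ (s : F) (u v : V), s * s = 1 ∧ A.1 u = s • u ∧ A.1 v = s • v ∧ Q u ≠ 0 ∧ Q v ≠ 0 ∧
    IsSquare (Q u) ∧ ¬ IsSquare (Q v)

theorem simpleRoots_of_bad [Finite F] (h2 : (2 : F) ≠ 0) {Q : QuadraticForm F V}
    (hQ : (polarBilin Q).Nondegenerate) (A : oG Q) {N : ℕ} (g : Fin N → F[X]) (hg : HasSeq A.1.toLinearMap N g)
    (hbad : Bad Q A) (j : Fin N) : SimpleRoots F (1 + j.val) (g j) := by
  classical
  intro hj s hs hdvd
  have hj0 : j.val = 0 := by omega
  set φ : Module.End F V := A.1.toLinearMap with hφ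
  set f : Module.End F V := φ - s • 1 with hf
  have hfa : ∀ x, f x = A.1 x - s • x := fun x => by simp [f, φ]
  have hae : ∀ k, aeval φ ((X - C s) ^ k) = f ^ k := fun k => by simp [f, Algebra.algebraMap_eq_smul_one]
  have hk : ∀ k, finrank F (LinearMap.ker (f ^ k)) =
      ∑ i : Fin N, min (i.val + 1) k * (normalizedFactors (g i)).count (X - C s) := fun k => by
    have := ClassSeq.finrank_ker hg (monic_X_sub_C s) (irreducible_X_sub_C s) k
    rwa [hae, natDegree_X_sub_C, one_mul] at this
  set cnt : Fin N → ℕ := fun i => (normalizedFactors (g i)).count (X - C s) with hcnt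
  have hK : finrank F (LinearMap.ker f) = ∑ i, cnt i := by
    have := hk 1
    rw [pow_one] at this
    rw [this]
    exact Finset.sum_congr rfl fun i _ => by rw [min_eq_right (by omega), one_mul]
  have hK2 : finrank F (LinearMap.ker (f ^ 2)) + cnt j = 2 * ∑ i, cnt i := by
    rw [hk 2, Finset.mul_sum, show cnt j = ∑ i, if i = j then cnt i else 0 by simp, ← Finset.sum_add_distrib]
    refine Finset.sum_congr rfl fun i _ => ?_
    by_cases h : i = j
    · subst h
      rw [if_pos rfl, hj0]
      simp only [hcnt]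
      ring_nf
      simp [mul_comm]
      ring
    · have : i.val ≠ 0 := fun h' => h (Fin.ext (h'.trans hj0.symm))
      rw [if_neg h, min_eq_right (by omega), add_zero]
  have hc2 : 2 ≤ cnt j := by
    have hg0 : g j ≠ 0 := by
      obtain ⟨ι', _, p, e, hp, -, -, hgeq⟩ := hg
      rw [hgeq]
      exact Finset.prod_ne_zero_iff.2 fun i _ => (monic_normalize (hp i).ne_zero).ne_zero
    have hp : Irreducible (X - C s) := irreducible_X_sub_C s
    have h' := (dvd_iff_normalizedFactors_le_normalizedFactors (mul_ne_zero hp.ne_zero hp.ne_zero) hg0).1 hdvd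
    rw [normalizedFactors_mul hp.ne_zero hp.ne_zero, normalizedFactors_irreducible hp,
      (monic_X_sub_C s).normalize_eq_self] at h'
    have := Multiset.count_le_of_le (X - C s) h'
    simpa [hcnt] using this
  set K0 := LinearMap.ker f with hK0
  set R := K0 ⊓ LinearMap.range f with hR
  set L := LinearMap.ker (f ^ 2) with hL
  have hKL : K0 ≤ L := fun x hx => by
    rw [hL, LinearMap.mem_ker, pow_two, Module.End.mul_apply, LinearMap.mem_ker.1 hx, map_zero]
  have hRdim : finrank F R + finrank F K0 = finrank F L := by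
    have h1 := (f.domRestrict L).finrank_range_add_finrank_ker
    have e1 : LinearMap.range (f.domRestrict L) = R := by
      ext x
      constructor
      · rintro ⟨⟨y, hy⟩, rfl⟩
        refine ⟨?_, ⟨y, rfl⟩⟩
        show f (f y) = 0
        rw [← Module.End.mul_apply, ← pow_two]
        exact LinearMap.mem_ker.1 hy
      · rintro ⟨hx, y, rfl⟩
        refine ⟨⟨y, ?_⟩, rfl⟩
        rw [hL, LinearMap.mem_ker, pow_two, Module.End.mul_apply]
        exact LinearMap.mem_ker.1 hx
    have e2 : LinearMap.ker (f.domRestrict L) = K0.comap L.subtype := by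
      ext x; rfl
    rw [e1, e2, (Submodule.comapSubtypeEquivOfLe hKL).finrank_eq] at h1
    exact h1
  obtain ⟨U0, hU0⟩ := Submodule.exists_isCompl R
  set U := K0 ⊓ U0 with hU
  have hRK : R ≤ K0 := inf_le_left
  have hsup : R ⊔ U = K0 := by
    rw [hU, inf_comm, ← sup_inf_assoc_of_le U0 hRK, hU0.sup_eq_top, top_inf_eq]
  have hdis : R ⊓ U = ⊥ := le_bot_iff.1 ((inf_le_inf_left R inf_le_right).trans hU0.inf_eq_bot.le)
  have hUdim : 2 ≤ finrank F U := by
    have := Submodule.finrank_sup_add_finrank_inf_eq R U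
    rw [hsup, hdis, finrank_bot] at this
    omega
  have hperp : LinearMap.BilinForm.orthogonal (polarBilin Q) K0 = LinearMap.range f := by
    symm
    refine Submodule.eq_of_le_of_finrank_eq ?_ ?_
    · rintro _ ⟨w, rfl⟩ x hx
      have hxs : A.1 x = s • x := sub_eq_zero.1 ((hfa x).symm.trans (LinearMap.mem_ker.1 hx))
      have e := polar_oG A x w
      rw [hxs, polar_smul_left, smul_eq_mul] at e
      show polar Q x (f w) = 0
      rw [hfa, polar_sub_right, polar_smul_right, smul_eq_mul]
      linear_combination s * e - polar Q x (A.1 w) * hs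
    · rw [LinearMap.BilinForm.finrank_orthogonal hQ]
      have : finrank F (LinearMap.range f) + finrank F K0 = finrank F V := f.finrank_range_add_finrank_ker
      have e : finrank F (↥K0) = finrank F (↥(LinearMap.ker f)) := rfl
      omega
  set QU : QuadraticForm F U := Q.comp U.subtype with hQU
  have hpolU : ∀ x y : U, polarBilin QU x y = polar Q x.1 y.1 := fun x y => by
    simp [QU, polar, polarBilin]
  have hker : ∀ x : U, (∀ y : U, polar Q x.1 y.1 = 0) → x = 0 := by
    intro x hx
    have h1 : ∀ z ∈ K0, polar Q x.1 z = 0 := by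
      intro z hz
      rw [← hsup] at hz
      obtain ⟨a, ha, b, hb, rfl⟩ := Submodule.mem_sup.1 hz
      rw [polar_add_right, hx ⟨b, hb⟩, add_zero]
      have h3 : a ∈ LinearMap.BilinForm.orthogonal (polarBilin Q) K0 := hperp ▸ ha.2
      exact h3 x.1 x.2.1
    have h2' : x.1 ∈ LinearMap.BilinForm.orthogonal (polarBilin Q) K0 := fun z hz => by
      show polar Q z x.1 = 0
      rw [polar_comm]; exact h1 z hz
    rw [hperp] at h2'
    have : x.1 ∈ R ⊓ U := ⟨⟨x.2.1, h2'⟩, x.2⟩
    rw [hdis] at this
    exact Subtype.ext ((Submodule.mem_bot F).1 this)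
  have hQUnd : (polarBilin QU).Nondegenerate :=
    ⟨fun x hx => hker x fun y => (hpolU x y).symm.trans (hx y),
      fun x hx => hker x fun y => by rw [polar_comm]; exact (hpolU y x).symm.trans (hx y)⟩
  obtain ⟨a, b, ha, hb, hsa, hsb⟩ := exists_rO_square hQUnd h2 hUdim
  have hev : ∀ x : U, A.1 x.1 = s • x.1 := fun x =>
    sub_eq_zero.1 ((hfa x.1).symm.trans (LinearMap.mem_ker.1 x.2.1))
  exact hbad ⟨s, a.1, b.1, hs, hev a, hev b, ha, hb, hsa, hsb⟩

/-- A witness of two eigenvectors gives a commuting special element of spinor norm `-1`. -/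
theorem exists_of_not_bad [Finite F] (h2 : (2 : F) ≠ 0) {Q : QuadraticForm F V} [Finite V]
    (hQ : (polarBilin Q).Nondegenerate) (hex : Nat.card F ≠ 2 ∨ finrank F V ≠ 4) (A : oG Q) (h : ¬ Bad Q A) :
    ∃ y : oG Q, Commute A y ∧ dickson hQ hex y = 1 ∧ spin Q y = -1 := by
  classical
  obtain ⟨s, u, v, hs, hu, hv, hu0, hv0, hsu, hsv⟩ := not_not.1 h
  have hs0 : s ≠ 0 := left_ne_zero_of_mul_eq_one hs
  refine ⟨rO hu0 * rO hv0, ?_, ?_, ?_⟩
  · have key : ∀ {w : V} (hw : Q w ≠ 0), A.1 w = s • w → Commute A (rO hw) := by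
      intro w hw he
      have h1 := conj_rO A hw
      have hq : Q (s • w) ≠ 0 := by rw [map_smul', hs, one_mul]; exact hw
      rw [rO_congr _ hq he, rO_smul hw hs0 hq] at h1
      exact mul_inv_eq_iff_eq_mul.1 h1
    exact (key hu0 hu).mul_right (key hv0 hv)
  · rw [map_mul, dickson_rO, dickson_rO]; rfl
  · rw [map_mul, spin_rO h2, spin_rO h2, if_pos hsu, if_neg hsv]; rfl

end Cfsg.Agent.FormClass
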