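import Cfsg.Agent.MatModule.OrthSemisimpleLower
import Cfsg.Agent.MatModule.OrthOddPlane
import Cfsg.Agent.Classical.OrthMat

/-!
# The classes of `Ω` in odd dimension
-/

set_option autoImplicit false

namespace Cfsg.Agent.FormClass

open Module Polynomial
open QuadraticMap Cfsg.Agent.Classical.Quad Cfsg.Agent.IndexTwo Cfsg.Agent.USeq Cfsg.Agent.SympConj

variable {F : Type*} [Field F] [Fintype F] {ι : Type} [Fintype ι] [DecidableEq ι]

instance finite_oG (Q : QuadraticForm F (ι → F)) : Finite (oG Q) :=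
  Finite.of_injective (fun g : oG Q => fun x => g.1 x) fun _ _ h => ext_oG fun x => congrFun h x

/-- A diagonal one-dimensional piece. -/
theorem occurs_linear {s : F} (hs : s * s = 1) {δ : F} (hδ : δ ≠ 0) : Occurs (X - C s) δ := by
  refine ⟨Fin 1, inferInstance, inferInstance, Matrix.diagonal fun _ => δ, Matrix.diagonal fun _ => s,
    Matrix.diagonal_transpose _, ?_, ?_, ?_, δ, ?_⟩
  · simp [Matrix.det_diagonal, hδ]
  · rw [Matrix.diagonal_transpose, Matrix.diagonal_mul_diagonal, Matrix.diagonal_mul_diagonal]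
    congr 1
    funext i
    rw [mul_comm s, mul_assoc, hs, mul_one]
  · simp [Matrix.charpoly_diagonal]
  · simp [Matrix.det_diagonal]

open _root_.Classical in
/-- An orthogonal group in dimension `2 n + 1` has at least `2 q ^ n` classes. -/
theorem two_mul_pow_le_card_odd (h2 : (2 : F) ≠ 0) (Q : QuadraticForm F (ι → F)) (hQ : (polarBilin Q).Nondegenerate)
    {n : ℕ} (hn : 1 ≤ n) (hι : Fintype.card ι = 2 * n + 1) :
    2 * Fintype.card F ^ n ≤ Nat.card (ConjClasses (oG Q)) := by
  set B : LinearMap.BilinForm F (ι → F) := polarBilin Q with hBdef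
  set MQ := LinearMap.BilinForm.toMatrix' B with hMQdef
  have hMQ0 : MQ.det ≠ 0 := Matrix.nondegenerate_iff_det_ne_zero.1 (LinearMap.BilinForm.Nondegenerate.toMatrix' hQ)
  have hMQT : MQ.transpose = MQ := by
    ext i j
    simp [hMQdef, LinearMap.BilinForm.toMatrix'_apply, B, polar_comm]
  obtain ⟨α, hα⟩ := FiniteField.exists_nonsquare (F := F) fun hch => h2 (by
    haveI := ringChar.eq_iff.1 hch; exact CharTwo.two_eq_zero)
  have hα0 : α ≠ 0 := fun e => hα (e ▸ IsSquare.zero)
  -- self-reciprocal polynomials from their low coefficients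
  let P : (Fin (n - 1) → F) × F → F[X] := fun c => X ^ (2 * n) + 1 +
    (∑ i : Fin (n - 1), C (c.1 i) * (X ^ (i.val + 1) + X ^ (2 * n - (i.val + 1)))) + C c.2 * X ^ n
  have hcoef : ∀ c i, (P c).coeff i = (if i = 2 * n then 1 else 0) + (if i = 0 then 1 else 0) +
      (∑ j : Fin (n - 1), c.1 j * ((if i = j.val + 1 then 1 else 0) + if i = 2 * n - (j.val + 1) then 1 else 0)) +
      c.2 * (if i = n then 1 else 0) := fun c i => by
    simp [P, coeff_X_pow, coeff_one]
  have hlow : ∀ c (j : Fin (n - 1)), (P c).coeff (j.val + 1) = c.1 j := fun c j => by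
    have := j.2
    rw [hcoef, if_neg (by omega), if_neg (by omega), Finset.sum_eq_single j, if_pos rfl, if_neg (by omega),
      if_neg (by omega)]
    · ring
    · intro i _ hi
      have := i.2
      rw [if_neg (fun e => hi (Fin.ext (by omega))), if_neg (by omega)]; ring
    · exact fun h => absurd (Finset.mem_univ _) h
  have hmid : ∀ c, (P c).coeff n = c.2 := fun c => by
    rw [hcoef, if_neg (by omega), if_neg (by omega), if_pos rfl, Finset.sum_eq_zero fun i _ => ?_]
    · ring
    · have := i.2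
      rw [if_neg (by omega), if_neg (by omega)]; ring
  have hzero : ∀ c, (P c).coeff 0 = 1 := fun c => by
    rw [hcoef, if_neg (by omega), if_pos rfl, if_neg (by omega), Finset.sum_eq_zero fun i _ => ?_]
    · ring
    · have := i.2
      rw [if_neg (by omega), if_neg (by omega)]; ring
  have htop : ∀ c, (P c).coeff (2 * n) = 1 := fun c => by
    rw [hcoef, if_pos rfl, if_neg (by omega), if_neg (show ¬ 2 * n = n by omega), Finset.sum_eq_zero fun i _ => ?_]
    · ring
    · have := i.2
      rw [if_neg (by omega), if_neg (by omega)]; ring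
  have hdle : ∀ c, (P c).natDegree ≤ 2 * n := fun c => natDegree_le_iff_coeff_eq_zero.2 fun i hi => by
    rw [hcoef, if_neg (by omega), if_neg (by omega), if_neg (show ¬ i = n by omega), Finset.sum_eq_zero fun j _ => ?_]
    · ring
    · have := j.2
      rw [if_neg (by omega), if_neg (by omega)]; ring
  have hdeg : ∀ c, (P c).natDegree = 2 * n := fun c => natDegree_eq_of_le_of_coeff_ne_zero (hdle c) (by
    rw [htop]; exact one_ne_zero)
  have hsym : ∀ c i, i ≤ 2 * n → (P c).coeff (2 * n - i) = (P c).coeff i := fun c i hi => by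
    rw [hcoef, hcoef]
    simp only [show (2 * n - i = 2 * n) ↔ i = 0 by omega, show (2 * n - i = 0) ↔ i = 2 * n by omega,
      show (2 * n - i = n) ↔ i = n by omega]
    rw [Finset.sum_congr rfl fun j _ => ?_, add_comm (if i = 0 then (1 : F) else 0)]
    have := j.2
    simp only [show (2 * n - i = j.val + 1) ↔ i = 2 * n - (j.val + 1) by omega,
      show (2 * n - i = 2 * n - (j.val + 1)) ↔ i = j.val + 1 by omega]
    rw [add_comm (if i = j.val + 1 then (1 : F) else 0)]
  have hSR : ∀ c, SelfRec (P c) := fun c => by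
    have hm : (P c).Monic := by rw [Monic, leadingCoeff, hdeg, htop]
    have h0 : (P c).coeff 0 ≠ 0 := by rw [hzero]; exact one_ne_zero
    refine ⟨hm, h0, Polynomial.ext fun i => ?_⟩
    rcases le_or_gt i (2 * n) with hi | hi
    · rw [coeff_dualP _ (by rwa [hdeg]), hdeg, RingHom.id_apply, RingHom.id_apply, hzero, inv_one, one_mul, hsym c i hi]
    · rw [coeff_eq_zero_of_natDegree_lt (by rwa [natDegree_dualP h0, hdeg]),
        coeff_eq_zero_of_natDegree_lt (by rwa [hdeg])]
  have hPinj : Function.Injective P := fun c c' h =>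
    Prod.ext (funext fun j => by rw [← hlow c, h, hlow]) (by rw [← hmid c, h, hmid])
  let sg : Bool → F := fun b => if b then 1 else -1
  have hsg : ∀ b, sg b * sg b = 1 := fun b => by cases b <;> simp [sg]
  have hreal : ∀ (b : Bool) c, ∃ g : oG Q, (LinearMap.toMatrix' g.1.toLinearMap).charpoly = (X - C (sg b)) * P c := by
    intro b c
    set δ : F := if (P c).eval 1 ≠ 0 ∧ (P c).eval (-1) ≠ 0 then (P c).eval 1 * (P c).eval (-1) else 1 with hδ
    have hδ0 : δ ≠ 0 := by
      rw [hδ]; split_ifs with h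
      · exact mul_ne_zero h.1 h.2
      · exact one_ne_zero
    have ho : Occurs (P c) δ := by
      refine occurs_of h2 _ rfl (hSR c) (hzero c) (by rw [hdeg]; exact even_two_mul n) δ hδ0 ?_
      rw [hδ]
      by_cases h : (P c).eval 1 ≠ 0 ∧ (P c).eval (-1) ≠ 0
      · exact Or.inr (Or.inr (by rw [if_pos h]; exact IsSquare.mul_self _))
      · rcases not_and_or.1 h with h' | h'
        · exact Or.inl (not_not.1 h')
        · exact Or.inr (Or.inl (not_not.1 h'))
    obtain ⟨κ, i1, i2, M, A, hM, hM0, hMA, hAf, hsq0⟩ := occurs_add (occurs_linear (hsg b) (mul_ne_zero hMQ0 hδ0)) ho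
    have hsq : IsSquare (M.det * MQ.det) := by
      obtain ⟨t, ht⟩ := hsq0
      refine ⟨t / δ, ?_⟩
      field_simp
      linear_combination ht
    have hcardκ : Fintype.card κ = Fintype.card ι := by
      rw [← Matrix.charpoly_natDegree_eq_dim A, hAf, natDegree_mul (X_sub_C_ne_zero _) (hSR c).1.ne_zero, natDegree_X_sub_C, hdeg, hι, add_comm]
    let e : κ ≃ ι := Fintype.equivOfCardEq hcardκ
    obtain ⟨S, hS⟩ := exists_congr h2 MQ (Matrix.reindex e e M) 1 (Or.inl rfl) (by rw [hMQT, one_smul])
      (by rw [Matrix.transpose_reindex, hM, one_smul]) hMQ0 (by rwa [Matrix.det_reindex_self])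
      (fun _ => by rw [Matrix.det_reindex_self, mul_comm]; exact hsq)
    set A' := Matrix.reindex e e A with hA'def
    have hA' : A'.transpose * Matrix.reindex e e M * A' = Matrix.reindex e e M := by
      simp only [hA'def, Matrix.reindex_apply, Matrix.transpose_submatrix, Matrix.submatrix_mul_equiv, hMA]
    have hSd : S.det ≠ 0 := fun h0 => by
      have := congrArg Matrix.det hS
      rw [Matrix.det_mul, h0, mul_zero, Matrix.det_reindex_self] at this
      exact hM0 this.symm
    obtain ⟨W, hW⟩ : IsUnit S := (Matrix.isUnit_iff_isUnit_det _).2 (Ne.isUnit hSd)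
    set T := W.1 * A' * (↑W⁻¹ : Matrix ι ι F) with hT
    have hTM : T.transpose * MQ * T = MQ := by
      have h3 : (↑W⁻¹ : Matrix ι ι F).transpose * Matrix.reindex e e M * (↑W⁻¹ : Matrix ι ι F) = MQ := by
        rw [← hS, ← hW]
        simp only [mul_assoc, Units.mul_inv, mul_one]
        rw [← mul_assoc, ← Matrix.transpose_mul, Units.mul_inv, Matrix.transpose_one, one_mul]
      have h4 : W.1.transpose * MQ * W.1 = Matrix.reindex e e M := by rw [hW]; exact hS
      calc T.transpose * MQ * T
          = (↑W⁻¹ : Matrix ι ι F).transpose * (A'.transpose * (W.1.transpose * MQ * W.1) * A') *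
              (↑W⁻¹ : Matrix ι ι F) := by rw [hT, Matrix.transpose_mul, Matrix.transpose_mul]; simp only [mul_assoc]
        _ = MQ := by rw [h4, hA', h3]
    have hTB : ∀ x y, B (Matrix.toLin' T x) (Matrix.toLin' T y) = B x y := by
      have h5 : B.comp (Matrix.toLin' T) (Matrix.toLin' T) = B :=
        LinearMap.BilinForm.toMatrix'.injective (by
          rw [LinearMap.BilinForm.toMatrix'_comp, LinearMap.toMatrix'_toLin']; exact hTM)
      exact fun x y => LinearMap.congr_fun (LinearMap.congr_fun h5 x) y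
    have hTi : Function.Injective (Matrix.toLin' T) := (injective_iff_map_eq_zero _).2 fun x hx =>
      hQ.1 x fun y => by
        show B x y = 0
        rw [← hTB, hx, map_zero, LinearMap.zero_apply]
    refine ⟨⟨LinearEquiv.ofBijective _ ⟨hTi, LinearMap.injective_iff_surjective.1 hTi⟩, fun x => ?_⟩, ?_⟩
    · have h6 := hTB x x
      simp only [B, polarBilin_apply_apply, polar_self', smul_eq_mul] at h6
      exact mul_left_cancel₀ h2 h6
    · show (LinearMap.toMatrix' (Matrix.toLin' T)).charpoly = (X - C (sg b)) * P c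
      rw [LinearMap.toMatrix'_toLin', hT, Matrix.coe_units_inv, Matrix.charpoly_units_conj, hA'def,
        Matrix.charpoly_reindex, hAf]
  choose rep hrep using fun x : Bool × ((Fin (n - 1) → F) × F) => hreal x.1 x.2
  have hinjC : Function.Injective fun x => ConjClasses.mk (rep x) := by
    intro x y h
    obtain ⟨U, hU⟩ := isConj_iff.1 (ConjClasses.mk_eq_mk_iff_isConj.1 h)
    have hW : ∀ (a b : oG Q), LinearMap.toMatrix' (a * b).1.toLinearMap =
        LinearMap.toMatrix' a.1.toLinearMap * LinearMap.toMatrix' b.1.toLinearMap := fun a b =>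
      LinearMap.toMatrix'_comp _ _
    have heq : (X - C (sg x.1)) * P x.2 = (X - C (sg y.1)) * P y.2 := by
      rw [← hrep, ← hrep, ← hU]
      rw [hW, hW, Matrix.charpoly_mul_comm, ← mul_assoc, ← hW, inv_mul_cancel]
      have h1 : LinearMap.toMatrix' (1 : oG Q).1.toLinearMap = 1 := LinearMap.toMatrix'_id
      rw [h1, one_mul]
    have h0 := congrArg (fun f : F[X] => f.coeff 0) heq
    simp only [mul_coeff_zero, coeff_sub, coeff_X_zero, coeff_C_zero, hzero, mul_one, zero_sub, neg_inj] at h0
    have hb : x.1 = y.1 := by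
      revert h0
      cases x.1 <;> cases y.1 <;> intro h0 <;> first | rfl | (simp only [sg] at h0; norm_num at h0; exact absurd (by linear_combination h0) h2) | (simp only [sg] at h0; norm_num at h0; exact absurd (by linear_combination -h0) h2)
    rw [hb] at heq
    exact Prod.ext hb (hPinj (mul_left_cancel₀ (X_sub_C_ne_zero _) heq))
  refine le_trans (le_of_eq ?_) (Nat.card_le_card_of_injective _ hinjC)
  rw [Nat.card_prod, Nat.card_prod, Nat.card_fun, Nat.card_eq_fintype_card (α := Bool), Fintype.card_bool,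
    Nat.card_eq_fintype_card (α := F), Nat.card_fin, ← pow_succ, show n - 1 + 1 = n by omega]

/-- The negation in an orthogonal group. -/
def negO (Q : QuadraticForm F (ι → F)) : oG Q := ⟨LinearEquiv.neg F, fun x => QuadraticMap.map_neg Q x⟩

open _root_.Classical in
/-- The class numbers of `Ω` in odd dimension. -/
theorem omega_odd_bounds (h2 : (2 : F) ≠ 0) (Q : QuadraticForm F (ι → F)) (hQ : (polarBilin Q).Nondegenerate)
    {n : ℕ} (hn : 1 ≤ n) (hι : Fintype.card ι = 2 * n + 1) :
    Fintype.card F ^ n ≤ 2 * Nat.card (ConjClasses (Cfsg.Omega F ⇑Q)) ∧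
    2 * Nat.card (ConjClasses (Cfsg.Omega F ⇑Q)) ≤ Wt (cAll (Fintype.card F)) 1 (2 * n + 1) ∧
    8 * Nat.card (ConjClasses (Cfsg.Omega F ⇑Q)) ≤
      Wt (cAll (Fintype.card F)) 1 (2 * n + 1) + 3 * Wt (cBad (Fintype.card F)) 1 (2 * n + 1) := by
  have hfr : finrank F (ι → F) = 2 * n + 1 := by rw [Module.finrank_fintype_fun_eq_card, hι]
  have hfr2 : 2 ≤ finrank F (ι → F) := by omega
  have hex := hex_of_two h2 (finrank F (ι → F))
  let D := dickson hQ hex
  let z : oG Q := negO Q
  have hzc : ∀ g, Commute z g := fun g => ext_oG fun x => (map_neg g.1 x).symm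
  have hDz : D z = -1 := by
    have hfix : fixSub z = ⊥ := eq_bot_iff.2 fun x hx => by
      have h : -x = x := hx
      rw [Submodule.mem_bot]
      exact (smul_eq_zero.1 (show (2 : F) • x = 0 by rw [two_smul]; nth_rw 1 [← h]; exact neg_add_cancel x)).resolve_left h2
    show dsign z = -1
    rw [dsign, hfix, finrank_bot, hfr, add_zero, Odd.neg_one_pow (odd_two_mul_add_one n)]
  let σ : D.ker →* ℤˣ := (spin Q).comp D.ker.subtype
  have hiso : Nat.card (ConjClasses σ.ker) = Nat.card (ConjClasses (Cfsg.Omega F ⇑Q)) := by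
    let e : Cfsg.Omega F ⇑Q ≃* σ.ker :=
      { toFun := fun g => ⟨⟨oEquiv Q g.1, ((mem_commutator_iff hQ h2 hfr2 _).1 ((mem_omega_iff g.1).1 g.2)).1⟩,
          ((mem_commutator_iff hQ h2 hfr2 _).1 ((mem_omega_iff g.1).1 g.2)).2⟩
        invFun := fun g => ⟨(oEquiv Q).symm g.1.1, (mem_omega_iff _).2 (by
          rw [MulEquiv.apply_symm_apply]
          exact (mem_commutator_iff hQ h2 hfr2 _).2 ⟨g.1.2, g.2⟩)⟩
        left_inv := fun g => Subtype.ext ((oEquiv Q).symm_apply_apply g.1)
        right_inv := fun g => Subtype.ext (Subtype.ext ((oEquiv Q).apply_symm_apply g.1.1))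
        map_mul' := fun a b => Subtype.ext (Subtype.ext (map_mul (oEquiv Q) a.1 b.1)) }
    let f : ConjClasses (Cfsg.Omega F ⇑Q) → ConjClasses σ.ker := ConjClasses.map e.toMonoidHom
    let f' : ConjClasses σ.ker → ConjClasses (Cfsg.Omega F ⇑Q) := ConjClasses.map e.symm.toMonoidHom
    refine (Nat.card_congr ⟨f, f', fun C => ?_, fun C => ?_⟩).symm
    · obtain ⟨x, rfl⟩ := ConjClasses.mk_surjective C
      exact congrArg ConjClasses.mk (e.symm_apply_apply x)
    · obtain ⟨x, rfl⟩ := ConjClasses.mk_surjective C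
      exact congrArg ConjClasses.mk (e.apply_symm_apply x)
  obtain ⟨h1, h3, h4⟩ := ker_bounds σ (fun x => Bad Q x.1) fun x _ hb => by
    obtain ⟨y, hy1, hy2, hy3⟩ := exists_of_not_bad h2 hQ hex x.1 hb
    exact ⟨⟨y, hy2⟩, Subtype.ext hy1, hy3⟩
  have hneg : ∀ g : oG Q, Bad Q g → Bad Q (z * g) := by
    rintro g hg ⟨s, u, v, hs, hu, hv, rest⟩
    refine hg ⟨-s, u, v, by rw [neg_mul_neg, hs], ?_, ?_, rest⟩
    · rw [neg_smul, ← hu]; exact (neg_neg _).symm
    · rw [neg_smul, ← hv]; exact (neg_neg _).symm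
  have hall : Nat.card (PClasses fun _ : oG Q => True) = Nat.card (ConjClasses (oG Q)) :=
    Nat.card_congr (Equiv.subtypeUnivEquiv fun C => let ⟨x, hx⟩ := ConjClasses.mk_surjective C; ⟨x, hx, trivial⟩)
  have hallN : Nat.card (PClasses fun _ : D.ker => True) = Nat.card (ConjClasses D.ker) :=
    Nat.card_congr (Equiv.subtypeUnivEquiv fun C => let ⟨x, hx⟩ := ConjClasses.mk_surjective C; ⟨x, hx, trivial⟩)
  have hdbl := two_mul_pclasses_ker_le D hzc hDz (fun _ => True) fun _ _ => trivial
  rw [hall, hallN] at hdbl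
  have hdblBad := two_mul_pclasses_ker_le D hzc hDz (Bad Q) hneg
  have hle := card_le_two_mul_ker D hzc hDz
  have hW : 2 * Nat.card (ConjClasses (oG Q)) ≤ Wt (cAll (Fintype.card F)) 1 (2 * n + 1) := by
    rw [← hall]
    refine two_mul_pclasses_odd_le h2 Q hQ hι _ (fun _ _ => True) (fun _ _ _ _ _ => trivial) _ (cAll_zero _) fun w j => ?_
    simpa only [and_true] using omem_card h2 w j
  have hWB : 2 * Nat.card (PClasses (Bad Q)) ≤ Wt (cBad (Fintype.card F)) 1 (2 * n + 1) :=
    two_mul_pclasses_odd_le h2 Q hQ hι _ (SimpleRoots F) (fun A f hf hb j => simpleRoots_of_bad h2 hQ A f hf hb j) _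
      (cBad_zero _) fun w j => omem_simple_card h2 w j
  have hlow := two_mul_pow_le_card_odd h2 Q hQ hn hι
  rw [hiso] at h1 h3 h4
  exact ⟨by omega, by omega, by omega⟩

end Cfsg.Agent.FormClass
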