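import Cfsg.Agent.MatModule.ClassNumberSp
import Cfsg.Agent.MatModule.SympPoly
import Cfsg.Agent.MatModule.FormPieces
import Cfsg.Agent.Classical.QuadMat

/-!
# Characteristic polynomials of orthogonal maps in even dimension, odd characteristic

At least half of the self-reciprocal polynomials occur in each orthogonal group.
-/

set_option autoImplicit false

namespace Cfsg.Agent.FormClass

open Module Polynomial Matrix Cfsg.Agent.USeq

variable {F : Type*} [Field F]

/-- A polynomial occurring for an isometry of some symmetric form with given discriminant class. -/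
def Occurs (f : F[X]) (δ : F) : Prop :=
  ∃ (κ : Type) (_ : Fintype κ) (_ : DecidableEq κ) (M A : Matrix κ κ F),
    M.transpose = M ∧ M.det ≠ 0 ∧ A.transpose * M * A = M ∧ A.charpoly = f ∧ IsSquare (M.det * δ)

theorem occurs_add {f g : F[X]} {δ δ' : F} (hf : Occurs f δ) (hg : Occurs g δ') : Occurs (f * g) (δ * δ') := by
  obtain ⟨κ, _, _, M, A, h1, h2, h3, h4, ⟨t, ht⟩⟩ := hf
  obtain ⟨μ, _, _, M', A', h1', h2', h3', h4', ⟨t', ht'⟩⟩ := hg
  refine ⟨κ ⊕ μ, inferInstance, inferInstance, Matrix.fromBlocks M 0 0 M', Matrix.fromBlocks A 0 0 A', ?_, ?_, ?_, ?_,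
    t * t', ?_⟩
  · rw [Matrix.fromBlocks_transpose, h1, h1', Matrix.transpose_zero, Matrix.transpose_zero]
  · rw [Matrix.det_fromBlocks_zero₁₂]; exact mul_ne_zero h2 h2'
  · rw [Matrix.fromBlocks_transpose, Matrix.fromBlocks_multiply, Matrix.fromBlocks_multiply]
    simp [h3, h3']
  · rw [Matrix.charpoly_fromBlocks_zero₁₂, h4, h4']
  · rw [Matrix.det_fromBlocks_zero₁₂]
    linear_combination (M'.det * δ') * ht + (t * t) * ht'

theorem occurs_scalar {s : F} (hs : s * s = 1) {δ : F} (hδ : δ ≠ 0) : Occurs ((X - C s) * (X - C s)) δ := by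
  refine ⟨Fin 2, inferInstance, inferInstance, Matrix.diagonal ![δ, 1], Matrix.diagonal fun _ => s,
    Matrix.diagonal_transpose _, ?_, ?_, ?_, δ, ?_⟩
  · simp [Matrix.det_diagonal, Fin.prod_univ_two, hδ]
  · rw [Matrix.diagonal_transpose, Matrix.diagonal_mul_diagonal, Matrix.diagonal_mul_diagonal]
    congr 1
    funext i
    rw [mul_comm s, mul_assoc, hs, mul_one]
  · rw [Matrix.charpoly_diagonal, Fin.prod_univ_two]
  · simp [Matrix.det_diagonal, Fin.prod_univ_two]

theorem eval_rec {f : F[X]} (hf : SelfRec f) {s : F} (hs : s * s = 1) :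
    f.coeff 0 * f.eval s = f.eval s * s ^ f.natDegree := by
  let u : Fˣ := ⟨s, s, hs, hs⟩
  have h := aeval_dualP (σ := RingHom.id F) u f
  rw [hf.2.2, Polynomial.map_id, RingHom.id_apply, Units.val_inv_eq_inv_val, show (u : F) = s from rfl,
    inv_eq_of_mul_eq_one_right hs] at h
  simp only [Algebra.algebraMap_self, RingHom.id_apply, coe_aeval_eq_eval] at h
  conv_lhs => rw [h]
  rw [mul_inv_cancel_left₀ hf.2.1]

/-- Without eigenvalues `1`, `-1` the discriminant is forced. -/
theorem isSquare_disc (h2 : (2 : F) ≠ 0) {κ : Type} [Fintype κ] [DecidableEq κ] (M A : Matrix κ κ F)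
    (hM : M.transpose = M) (hM0 : M.det ≠ 0) (hA : A.transpose * M * A = M) (hdet : A.det = 1)
    (hev : Even (Fintype.card κ)) (h1 : A.charpoly.eval 1 ≠ 0) (hm : A.charpoly.eval (-1) ≠ 0) :
    IsSquare (M.det * (A.charpoly.eval 1 * A.charpoly.eval (-1))) := by
  obtain ⟨r, hr⟩ := hev
  have hsign : ((-1 : F)) ^ Fintype.card κ = 1 := by rw [hr, ← two_mul, pow_mul, neg_one_sq, one_pow]
  have e1 : (A - 1).det = A.charpoly.eval 1 := by
    rw [Matrix.eval_charpoly, map_one, ← neg_sub 1 A, Matrix.det_neg, hsign, one_mul]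
  have e2 : (A + 1).det = A.charpoly.eval (-1) := by
    rw [Matrix.eval_charpoly, map_neg, map_one, ← neg_add', Matrix.det_neg, hsign, one_mul, add_comm]
  have hinv : A * A⁻¹ = 1 := Matrix.mul_nonsing_inv _ (by rw [hdet]; exact isUnit_one)
  have hinv' : A⁻¹ * A = 1 := Matrix.nonsing_inv_mul _ (by rw [hdet]; exact isUnit_one)
  have hX : (A - A⁻¹).det = A.charpoly.eval 1 * A.charpoly.eval (-1) := by
    have h : A * (A - A⁻¹) = (A - 1) * (A + 1) := by
      rw [mul_sub, hinv, sub_mul, mul_add, mul_one, one_mul]; abel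
    have := congrArg Matrix.det h
    rwa [Matrix.det_mul, Matrix.det_mul, hdet, one_mul, e1, e2] at this
  have hAtM : A.transpose * M = M * A⁻¹ := by
    conv_rhs => rw [← hA, mul_assoc (A.transpose * M), hinv, mul_one]
  have hskew : (M * (A - A⁻¹)).transpose = (-1 : F) • (M * (A - A⁻¹)) := by
    have hMA : (M * A⁻¹).transpose = M * A := by
      rw [← hAtM, Matrix.transpose_mul, hM, Matrix.transpose_transpose]
    rw [mul_sub, Matrix.transpose_sub, hMA, Matrix.transpose_mul, hM, hAtM, neg_one_smul, neg_sub]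
  have halt : (Matrix.toBilin' (M * (A - A⁻¹)) : LinearMap.BilinForm F (κ → F)).IsAlt := by
    intro x
    have e : dotProduct x ((M * (A - A⁻¹)).mulVec x) = -dotProduct x ((M * (A - A⁻¹)).mulVec x) := by
      conv_lhs => rw [Matrix.dotProduct_mulVec, ← Matrix.mulVec_transpose, hskew, neg_one_smul, Matrix.neg_mulVec,
        neg_dotProduct, dotProduct_comm]
    rw [Matrix.toBilin'_apply']
    refine mul_left_cancel₀ h2 ?_
    linear_combination e
  have hne : (M * (A - A⁻¹)).det ≠ 0 := by
    rw [Matrix.det_mul, hX]; exact mul_ne_zero hM0 (mul_ne_zero h1 hm)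
  obtain ⟨σ⟩ : Nonempty ((Fin r ⊕ Fin r) ≃ κ) := ⟨Fintype.equivOfCardEq (by simp [hr])⟩
  have hJ : (Matrix.reindex σ σ (Matrix.J (Fin r) F)).transpose = (-1 : F) • Matrix.reindex σ σ (Matrix.J (Fin r) F) := by
    rw [Matrix.transpose_reindex, Matrix.J_transpose]
    ext i j
    simp
  have haltJ : (Matrix.toBilin' (Matrix.reindex σ σ (Matrix.J (Fin r) F)) : LinearMap.BilinForm F (κ → F)).IsAlt := by
    intro x
    have e : dotProduct x ((Matrix.reindex σ σ (Matrix.J (Fin r) F)).mulVec x) =
        -dotProduct x ((Matrix.reindex σ σ (Matrix.J (Fin r) F)).mulVec x) := by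
      conv_lhs => rw [Matrix.dotProduct_mulVec, ← Matrix.mulVec_transpose, hJ, neg_one_smul, Matrix.neg_mulVec,
        neg_dotProduct, dotProduct_comm]
    rw [Matrix.toBilin'_apply']
    refine mul_left_cancel₀ h2 ?_
    linear_combination e
  have hJ0 : (Matrix.reindex σ σ (Matrix.J (Fin r) F)).det ≠ 0 := by
    rw [Matrix.det_reindex_self]; exact (Matrix.isUnit_det_J (Fin r) F).ne_zero
  obtain ⟨y, hy⟩ := SympConj.exists_isometry haltJ
    (LinearMap.BilinForm.nondegenerate_toBilin'_of_det_ne_zero' _ hJ0).1 halt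
    (LinearMap.BilinForm.nondegenerate_toBilin'_of_det_ne_zero' _ hne).1
  have hP : (LinearMap.toMatrix' y).transpose * Matrix.reindex σ σ (Matrix.J (Fin r) F) * LinearMap.toMatrix' y =
      M * (A - A⁻¹) := by
    refine Matrix.toBilin'.injective ?_
    rw [← Matrix.toBilin'_comp, Matrix.toLin'_toMatrix']
    exact LinearMap.ext₂ fun x z => hy x z
  have hJd : (Matrix.J (Fin r) F).det = 1 := by
    have e : Matrix.J (Fin r) F = Matrix.fromBlocks 1 (-1) 0 1 * Matrix.fromBlocks 1 0 1 1 * Matrix.fromBlocks 1 (-1) 0 1 := by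
      simp [Matrix.J, Matrix.fromBlocks_multiply]
    simp [e]
  have := congrArg Matrix.det hP
  rw [Matrix.det_mul, Matrix.det_mul, Matrix.det_transpose, Matrix.det_reindex_self, hJd, Matrix.det_mul, hX] at this
  exact ⟨(LinearMap.toMatrix' y).det, by linear_combination -this⟩

theorem occurs_noroot (h2 : (2 : F) ≠ 0) {f : F[X]} (hf : SelfRec f) (h0 : f.coeff 0 = 1) (hev : Even f.natDegree)
    (h1 : f.eval 1 ≠ 0) (hm : f.eval (-1) ≠ 0) : Occurs f (f.eval 1 * f.eval (-1)) := by
  obtain ⟨d, hd⟩ := hev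
  rcases Nat.eq_zero_or_pos d with rfl | hd0
  · have : f = 1 := hf.1.natDegree_eq_zero.1 (by simpa using hd)
    subst this
    exact ⟨Fin 0, inferInstance, inferInstance, 1, 1, by simp, by simp, by simp, by simp, 1, by simp⟩
  obtain ⟨⟨A, hA⟩, hAf⟩ := SympConj.exists_charpoly hd0 f hf.1 (by omega) (fun l hl => by
    have := coeff_rec hf (i := l) (by omega)
    rw [h0, one_mul, hd, ← two_mul] at this
    exact this) h0
  have hAJ := (SymplecticGroup.mem_iff'.1 hA)
  have hdet : A.det = 1 := SympConj.det_eq_one ⟨A, hA⟩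
  have hinv : A * A⁻¹ = 1 := Matrix.mul_nonsing_inv _ (by rw [hdet]; exact isUnit_one)
  have hinv' : A⁻¹ * A = 1 := Matrix.nonsing_inv_mul _ (by rw [hdet]; exact isUnit_one)
  have hJA : A.transpose * Matrix.J (Fin d) F = Matrix.J (Fin d) F * A⁻¹ := by
    conv_rhs => rw [← hAJ, mul_assoc (A.transpose * _), hinv, mul_one]
  have hJA' : (A⁻¹).transpose * Matrix.J (Fin d) F = Matrix.J (Fin d) F * A := by
    have h := congrArg (fun N => (A⁻¹).transpose * N) hAJ
    simp only [← mul_assoc, ← Matrix.transpose_mul, hinv, Matrix.transpose_one, one_mul] at h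
    exact h.symm
  set M := Matrix.J (Fin d) F * (A⁻¹ - A) with hMdef
  have hMT : M.transpose = M := by
    rw [hMdef, Matrix.transpose_mul, Matrix.transpose_sub, Matrix.J_transpose, mul_neg, sub_mul, hJA, hJA',
      mul_sub, neg_sub]
  have hMA : A.transpose * M * A = M := by
    rw [hMdef, ← mul_assoc, hJA, mul_assoc, mul_assoc, sub_mul, hinv', mul_sub A⁻¹, mul_one, ← mul_assoc A⁻¹ A A,
      hinv', one_mul]
  have hev1 : A.charpoly.eval 1 ≠ 0 ∧ A.charpoly.eval (-1) ≠ 0 := by
    change A.charpoly = f at hAf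
    rw [hAf]; exact ⟨h1, hm⟩
  have hM0 : M.det ≠ 0 := by
    have h : (A⁻¹ - A) * A = -((A - 1) * (A + 1)) := by
      rw [sub_mul, hinv', sub_mul, mul_add, mul_one, one_mul]; abel
    have h' := congrArg Matrix.det h
    rw [Matrix.det_mul, hdet, mul_one, Matrix.det_neg, Matrix.det_mul] at h'
    rw [hMdef, Matrix.det_mul, h']
    refine mul_ne_zero (Matrix.isUnit_det_J (Fin d) F).ne_zero (mul_ne_zero (pow_ne_zero _ (by norm_num)) ?_)
    obtain ⟨e1, e2⟩ := hev1
    rw [Matrix.eval_charpoly, map_one, ← neg_sub A 1, Matrix.det_neg] at e1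
    rw [Matrix.eval_charpoly, map_neg, map_one, ← neg_add', Matrix.det_neg, add_comm] at e2
    exact mul_ne_zero (right_ne_zero_of_mul e1) (right_ne_zero_of_mul e2)
  refine ⟨_, inferInstance, inferInstance, M, A, hMT, hM0, hMA, hAf, ?_⟩
  have := isSquare_disc h2 M A hMT hM0 hMA hdet ⟨d, by simp⟩ hev1.1 hev1.2
  change A.charpoly = f at hAf
  rwa [hAf] at this

theorem isSquare_of_mul' {a b : F} (ha : a ≠ 0) (h : IsSquare (a * b)) (hs : IsSquare a) : IsSquare b := by
  obtain ⟨r, hr⟩ := hs
  obtain ⟨t, ht⟩ := h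
  have hr0 : r ≠ 0 := fun h0 => ha (by rw [hr, h0, mul_zero])
  refine ⟨t / r, ?_⟩
  field_simp
  linear_combination ht - b * hr

/-- Which polynomials occur for a given discriminant. -/
theorem occurs_of (h2 : (2 : F) ≠ 0) : ∀ (k : ℕ) {f : F[X]}, f.natDegree = k → SelfRec f → f.coeff 0 = 1 →
    Even f.natDegree → ∀ δ : F, δ ≠ 0 →
    (f.eval 1 = 0 ∨ f.eval (-1) = 0 ∨ IsSquare (δ * (f.eval 1 * f.eval (-1)))) → Occurs f δ := by
  intro k
  induction k using Nat.strong_induction_on with
  | _ k ih =>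
    intro f hk hf h0 hev δ hδ hcase
    by_cases hnr : f.eval 1 ≠ 0 ∧ f.eval (-1) ≠ 0
    · obtain ⟨κ, i1, i2, M, A, h1, h3, h4, h5, hsq⟩ := occurs_noroot h2 hf h0 hev hnr.1 hnr.2
      refine ⟨κ, i1, i2, M, A, h1, h3, h4, h5, ?_⟩
      obtain ⟨t, ht⟩ := hsq
      obtain ⟨u, hu⟩ := (hcase.resolve_left hnr.1).resolve_left hnr.2
      have hP : f.eval 1 * f.eval (-1) ≠ 0 := mul_ne_zero hnr.1 hnr.2
      refine ⟨t * u / (f.eval 1 * f.eval (-1)), ?_⟩
      rw [div_mul_div_comm, eq_div_iff (mul_ne_zero hP hP)]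
      linear_combination (δ * (f.eval 1 * f.eval (-1))) * ht + (t * t) * hu
    obtain ⟨s, hs, hfs⟩ : ∃ s : F, s * s = 1 ∧ f.eval s = 0 := by
      by_cases h1 : f.eval 1 = 0
      · exact ⟨1, one_mul 1, h1⟩
      · exact ⟨-1, by ring, by_contra fun h => hnr ⟨h1, h⟩⟩
    obtain ⟨g, hg⟩ := dvd_iff_isRoot.2 hfs
    have hX := selfRec_linear hs
    have hgr : SelfRec g := selfRec_div hX (hg ▸ hf)
    have hgdeg : f.natDegree = 1 + g.natDegree := by rw [hg, hX.1.natDegree_mul hgr.1, natDegree_X_sub_C]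
    have hg0 : g.coeff 0 = -s := by
      have e : -s * g.coeff 0 = 1 := by
        rw [← h0, hg, mul_coeff_zero]; simp
      linear_combination (-s) * e - g.coeff 0 * hs
    have hgs : g.eval s = 0 := by
      have h := eval_rec hgr hs
      have hodd : Odd g.natDegree := by
        rcases hev with ⟨r, hr⟩
        exact ⟨r - 1, by omega⟩
      obtain ⟨r, hr⟩ := hodd
      rw [hr, pow_succ, pow_mul, sq, hs, one_pow, one_mul, hg0] at h
      exact (mul_eq_zero.1 (show (2 * s) * g.eval s = 0 by linear_combination -h)).resolve_left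
        (mul_ne_zero h2 (left_ne_zero_of_mul_eq_one hs))
    obtain ⟨g', hg'⟩ := dvd_iff_isRoot.2 hgs
    have hgr' : SelfRec g' := selfRec_div hX (hg' ▸ hgr)
    have hdeg' : g.natDegree = 1 + g'.natDegree := by rw [hg', hX.1.natDegree_mul hgr'.1, natDegree_X_sub_C]
    have hg0' : g'.coeff 0 = 1 := by
      have e : -s * g'.coeff 0 = -s := by
        rw [hg', mul_coeff_zero, coeff_sub, coeff_X_zero, coeff_C_zero, zero_sub] at hg0
        exact hg0
      exact mul_left_cancel₀ (neg_ne_zero.2 (left_ne_zero_of_mul_eq_one hs)) (e.trans (mul_one _).symm)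
    have hev' : Even g'.natDegree := by
      rcases hev with ⟨r, hr⟩
      exact ⟨r - 1, by omega⟩
    have hff : f = ((X - C s) * (X - C s)) * g' := by rw [hg, hg', mul_assoc]
    classical
    set δ' : F := if g'.eval 1 ≠ 0 ∧ g'.eval (-1) ≠ 0 then g'.eval 1 * g'.eval (-1) else 1 with hδ'
    have hδ'0 : δ' ≠ 0 := by
      rw [hδ']; split_ifs with h
      · exact mul_ne_zero h.1 h.2
      · exact one_ne_zero
    have ho : Occurs g' δ' := by
      refine ih g'.natDegree (by omega) rfl hgr' hg0' hev' δ' hδ'0 ?_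
      rw [hδ']
      by_cases h : g'.eval 1 ≠ 0 ∧ g'.eval (-1) ≠ 0
      · exact Or.inr (Or.inr (by rw [if_pos h]; exact IsSquare.mul_self _))
      · rcases not_and_or.1 h with h' | h'
        · exact Or.inl (not_not.1 h')
        · exact Or.inr (Or.inl (not_not.1 h'))
    have := occurs_add (occurs_scalar hs (mul_ne_zero hδ hδ'0)) ho
    obtain ⟨κ, i1, i2, M, A, h1, h3, h4, h5, t, ht⟩ := this
    refine ⟨κ, i1, i2, M, A, h1, h3, h4, h5.trans hff.symm, t / δ', ?_⟩
    field_simp
    linear_combination ht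

variable [Fintype F]

open _root_.Classical QuadraticMap Cfsg.Agent.Classical.Quad in
/-- An orthogonal group in dimension `2 n ≥ 4` has at least `q ^ n / 2` classes. -/
theorem pow_le_two_mul_card_orth (h2 : (2 : F) ≠ 0) {ι : Type} [Fintype ι] [DecidableEq ι]
    (Q : QuadraticForm F (ι → F)) (hQ : (polarBilin Q).Nondegenerate) {n : ℕ} (hn : 2 ≤ n)
    (hι : Fintype.card ι = 2 * n) :
    Fintype.card F ^ n ≤ 2 * Nat.card (ConjClasses (Cfsg.isometryGroup F ⇑Q)) := by
  set B : LinearMap.BilinForm F (ι → F) := polarBilin Q with hBdef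
  set MQ := LinearMap.BilinForm.toMatrix' B with hMQdef
  have hMQ0 : MQ.det ≠ 0 := Matrix.nondegenerate_iff_det_ne_zero.1 (LinearMap.BilinForm.Nondegenerate.toMatrix' hQ)
  have hMQT : MQ.transpose = MQ := by
    ext i j
    simp [hMQdef, LinearMap.BilinForm.toMatrix'_apply, B, polar_comm]
  obtain ⟨α, hα⟩ := FiniteField.exists_nonsquare (F := F) fun hch => h2 (by
    haveI := ringChar.eq_iff.1 hch; exact CharTwo.two_eq_zero)
  have hα0 : α ≠ 0 := fun e => hα (e ▸ IsSquare.zero)
  obtain ⟨k, rfl⟩ : ∃ k, n = k + 2 := ⟨n - 2, by omega⟩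
  set n := k + 2 with hndef
  -- self-reciprocal polynomials from their low coefficients
  let P : (Fin (n - 1) → F) × F → F[X] := fun c => X ^ (2 * n) + 1 +
    (∑ i : Fin (n - 1), C (c.1 i) * (X ^ (i.val + 1) + X ^ (2 * n - (i.val + 1)))) + C c.2 * X ^ n
  have hcoef : ∀ c i, (P c).coeff i = (if i = 2 * n then 1 else 0) + (if i = 0 then 1 else 0) +
      (∑ j : Fin (n - 1), c.1 j * ((if i = j.val + 1 then 1 else 0) + if i = 2 * n - (j.val + 1) then 1 else 0)) +
      c.2 * (if i = n then 1 else 0) := fun c i => by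
    simp [P, coeff_X_pow, coeff_one]
  have hlow : ∀ c (j : Fin (n - 1)), (P c).coeff (j.val + 1) = c.1 j := fun c j => by
    have := j.2
    rw [hcoef, if_neg (by omega), if_neg (by omega), Finset.sum_eq_single j, if_pos rfl, if_neg (by omega),
      if_neg (by omega)]
    · ring
    · intro i _ hi
      have := i.2
      rw [if_neg (fun e => hi (Fin.ext (by omega))), if_neg (by omega)]; ring
    · exact fun h => absurd (Finset.mem_univ _) h
  have hmid : ∀ c, (P c).coeff n = c.2 := fun c => by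
    rw [hcoef, if_neg (by omega), if_neg (by omega), if_pos rfl, Finset.sum_eq_zero fun i _ => ?_]
    · ring
    · have := i.2
      rw [if_neg (by omega), if_neg (by omega)]; ring
  have hzero : ∀ c, (P c).coeff 0 = 1 := fun c => by
    rw [hcoef, if_neg (by omega), if_pos rfl, if_neg (by omega), Finset.sum_eq_zero fun i _ => ?_]
    · ring
    · have := i.2
      rw [if_neg (by omega), if_neg (by omega)]; ring
  have htop : ∀ c, (P c).coeff (2 * n) = 1 := fun c => by
    rw [hcoef, if_pos rfl, if_neg (by omega), if_neg (show ¬ 2 * n = n by omega), Finset.sum_eq_zero fun i _ => ?_]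
    · ring
    · have := i.2
      rw [if_neg (by omega), if_neg (by omega)]; ring
  have hdle : ∀ c, (P c).natDegree ≤ 2 * n := fun c => natDegree_le_iff_coeff_eq_zero.2 fun i hi => by
    rw [hcoef, if_neg (by omega), if_neg (by omega), if_neg (show ¬ i = n by omega), Finset.sum_eq_zero fun j _ => ?_]
    · ring
    · have := j.2
      rw [if_neg (by omega), if_neg (by omega)]; ring
  have hdeg : ∀ c, (P c).natDegree = 2 * n := fun c => natDegree_eq_of_le_of_coeff_ne_zero (hdle c) (by
    rw [htop]; exact one_ne_zero)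
  have hsym : ∀ c i, i ≤ 2 * n → (P c).coeff (2 * n - i) = (P c).coeff i := fun c i hi => by
    rw [hcoef, hcoef]
    simp only [show (2 * n - i = 2 * n) ↔ i = 0 by omega, show (2 * n - i = 0) ↔ i = 2 * n by omega,
      show (2 * n - i = n) ↔ i = n by omega]
    rw [Finset.sum_congr rfl fun j _ => ?_, add_comm (if i = 0 then (1 : F) else 0)]
    have := j.2
    simp only [show (2 * n - i = j.val + 1) ↔ i = 2 * n - (j.val + 1) by omega,
      show (2 * n - i = 2 * n - (j.val + 1)) ↔ i = j.val + 1 by omega]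
    rw [add_comm (if i = j.val + 1 then (1 : F) else 0)]
  have hSR : ∀ c, SelfRec (P c) := fun c => by
    have hm : (P c).Monic := by rw [Monic, leadingCoeff, hdeg, htop]
    have h0 : (P c).coeff 0 ≠ 0 := by rw [hzero]; exact one_ne_zero
    refine ⟨hm, h0, Polynomial.ext fun i => ?_⟩
    rcases le_or_gt i (2 * n) with hi | hi
    · rw [coeff_dualP _ (by rwa [hdeg]), hdeg, RingHom.id_apply, RingHom.id_apply, hzero, inv_one, one_mul, hsym c i hi]
    · rw [coeff_eq_zero_of_natDegree_lt (by rwa [natDegree_dualP h0, hdeg]),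
        coeff_eq_zero_of_natDegree_lt (by rwa [hdeg])]
  have hPinj : Function.Injective P := fun c c' h =>
    Prod.ext (funext fun j => by rw [← hlow c, h, hlow]) (by rw [← hmid c, h, hmid])
  -- moving the value at `-1` alone
  let j0 : Fin (n - 1) := ⟨k, by omega⟩
  let sh : F → (Fin (n - 1) → F) × F → (Fin (n - 1) → F) × F := fun u c =>
    (c.1 + Pi.single j0 u, c.2 - 2 * u)
  set σ : F := (-1) ^ n with hσ
  have hσσ : σ * σ = 1 := by rw [hσ, ← mul_pow, neg_one_mul, neg_neg, one_pow]
  have hev : ∀ (c : (Fin (n - 1) → F) × F) (u : F) (t : F), t * t = 1 →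
      (P (sh u c)).eval t = (P c).eval t + u * (t ^ (k + 1) + t ^ (k + 3) - 2 * t ^ n) := fun c u t ht => by
    simp only [P, sh, eval_add, eval_mul, eval_C, eval_X, eval_pow, eval_finsetSum, eval_one, Pi.add_apply]
    rw [show ∑ i : Fin (n - 1), (c.1 i + (Pi.single j0 u : Fin (n - 1) → F) i) * (t ^ (i.val + 1) + t ^ (2 * n - (i.val + 1))) =
      (∑ i : Fin (n - 1), c.1 i * (t ^ (i.val + 1) + t ^ (2 * n - (i.val + 1)))) + u * (t ^ (k + 1) + t ^ (k + 3)) by
      rw [Finset.sum_congr rfl fun i _ => add_mul _ _ _, Finset.sum_add_distrib]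
      congr 1
      rw [Finset.sum_eq_single j0 (fun i _ hi => by rw [Pi.single_eq_of_ne hi, zero_mul])
        (fun h => absurd (Finset.mem_univ _) h), Pi.single_eq_same]
      congr 3
      show 2 * n - (k + 1) = k + 3
      omega]
    ring
  have hev1 : ∀ c u, (P (sh u c)).eval 1 = (P c).eval 1 := fun c u => by
    rw [hev c u 1 (one_mul 1)]; ring
  have hevm : ∀ c u, (P (sh u c)).eval (-1) = (P c).eval (-1) - 4 * σ * u := fun c u => by
    rw [hev c u (-1) (by ring), hσ, hndef, pow_succ (-1 : F) (k + 1), pow_succ (-1 : F) (k + 2),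
      pow_succ (-1 : F) (k + 1)]
    ring
  -- good polynomials
  let good : (Fin (n - 1) → F) × F → Prop := fun c =>
    (P c).eval 1 = 0 ∨ (P c).eval (-1) = 0 ∨ IsSquare (MQ.det * ((P c).eval 1 * (P c).eval (-1)))
  have hreal : ∀ c, good c → ∃ g : oG Q, (LinearMap.toMatrix' g.1.toLinearMap).charpoly = P c := by
    intro c hc
    obtain ⟨κ, i1, i2, M, A, hM, hM0, hMA, hAf, hsq⟩ :=
      occurs_of h2 _ rfl (hSR c) (hzero c) (by rw [hdeg]; exact even_two_mul n) MQ.det hMQ0 hc
    have hcardκ : Fintype.card κ = Fintype.card ι := by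
      rw [← Matrix.charpoly_natDegree_eq_dim A, hAf, hdeg, hι]
    let e : κ ≃ ι := Fintype.equivOfCardEq hcardκ
    obtain ⟨S, hS⟩ := exists_congr h2 MQ (Matrix.reindex e e M) 1 (Or.inl rfl) (by rw [hMQT, one_smul])
      (by rw [Matrix.transpose_reindex, hM, one_smul]) hMQ0 (by rwa [Matrix.det_reindex_self])
      (fun _ => by rw [Matrix.det_reindex_self, mul_comm]; exact hsq)
    set A' := Matrix.reindex e e A with hA'def
    have hA' : A'.transpose * Matrix.reindex e e M * A' = Matrix.reindex e e M := by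
      simp only [hA'def, Matrix.reindex_apply, Matrix.transpose_submatrix, Matrix.submatrix_mul_equiv, hMA]
    have hSd : S.det ≠ 0 := fun h0 => by
      have := congrArg Matrix.det hS
      rw [Matrix.det_mul, h0, mul_zero, Matrix.det_reindex_self] at this
      exact hM0 this.symm
    obtain ⟨W, hW⟩ : IsUnit S := (Matrix.isUnit_iff_isUnit_det _).2 (Ne.isUnit hSd)
    set T := W.1 * A' * (↑W⁻¹ : Matrix ι ι F) with hT
    have hTM : T.transpose * MQ * T = MQ := by
      have h3 : (↑W⁻¹ : Matrix ι ι F).transpose * Matrix.reindex e e M * (↑W⁻¹ : Matrix ι ι F) = MQ := by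
        rw [← hS, ← hW]
        simp only [mul_assoc, Units.mul_inv, mul_one]
        rw [← mul_assoc, ← Matrix.transpose_mul, Units.mul_inv, Matrix.transpose_one, one_mul]
      have h4 : W.1.transpose * MQ * W.1 = Matrix.reindex e e M := by rw [hW]; exact hS
      calc T.transpose * MQ * T
          = (↑W⁻¹ : Matrix ι ι F).transpose * (A'.transpose * (W.1.transpose * MQ * W.1) * A') *
              (↑W⁻¹ : Matrix ι ι F) := by rw [hT, Matrix.transpose_mul, Matrix.transpose_mul]; simp only [mul_assoc]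
        _ = MQ := by rw [h4, hA', h3]
    have hTB : ∀ x y, B (Matrix.toLin' T x) (Matrix.toLin' T y) = B x y := by
      have h5 : B.comp (Matrix.toLin' T) (Matrix.toLin' T) = B :=
        LinearMap.BilinForm.toMatrix'.injective (by
          rw [LinearMap.BilinForm.toMatrix'_comp, LinearMap.toMatrix'_toLin']; exact hTM)
      exact fun x y => LinearMap.congr_fun (LinearMap.congr_fun h5 x) y
    have hTi : Function.Injective (Matrix.toLin' T) := (injective_iff_map_eq_zero _).2 fun x hx =>
      hQ.1 x fun y => by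
        show B x y = 0
        rw [← hTB, hx, map_zero, LinearMap.zero_apply]
    refine ⟨⟨LinearEquiv.ofBijective _ ⟨hTi, LinearMap.injective_iff_surjective.1 hTi⟩, fun x => ?_⟩, ?_⟩
    · have h6 := hTB x x
      simp only [B, polarBilin_apply_apply, polar_self', smul_eq_mul] at h6
      exact mul_left_cancel₀ h2 h6
    · show (LinearMap.toMatrix' (Matrix.toLin' T)).charpoly = P c
      rw [LinearMap.toMatrix'_toLin', hT, Matrix.coe_units_inv, Matrix.charpoly_units_conj, hA'def,
        Matrix.charpoly_reindex, hAf]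
  choose rep hrep using fun c : {c // good c} => hreal c.1 c.2
  have hinjC : Function.Injective fun c : {c // good c} => ConjClasses.mk ((oEquiv Q).symm (rep c)) := by
    intro c c' h
    obtain ⟨U, hU⟩ := isConj_iff.1 ((oEquiv Q).toMonoidHom.map_isConj (ConjClasses.mk_eq_mk_iff_isConj.1 h))
    simp only [MulEquiv.coe_toMonoidHom, MulEquiv.apply_symm_apply] at hU
    refine Subtype.ext (hPinj ?_)
    rw [← hrep, ← hrep, ← hU]
    have hW : ∀ (a b : oG Q), LinearMap.toMatrix' (a * b).1.toLinearMap =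
        LinearMap.toMatrix' a.1.toLinearMap * LinearMap.toMatrix' b.1.toLinearMap := fun a b =>
      LinearMap.toMatrix'_comp _ _
    rw [hW, hW, Matrix.charpoly_mul_comm, ← mul_assoc, ← hW, inv_mul_cancel]
    have h1 : LinearMap.toMatrix' (1 : oG Q).1.toLinearMap = 1 := LinearMap.toMatrix'_id
    rw [h1, one_mul]
  have hk : Nat.card {c // good c} ≤ Nat.card (ConjClasses (Cfsg.isometryGroup F ⇑Q)) :=
    Nat.card_le_card_of_injective _ hinjC
  -- bad polynomials inject into good ones
  have h4 : (4 : F) ≠ 0 := by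
    rw [show (4 : F) = 2 * 2 by norm_num]; exact mul_ne_zero h2 h2
  let flipc : {c // ¬ good c} → {c // good c} := fun c =>
    ⟨sh ((1 - α) * (P c.1).eval (-1) * σ / 4) c.1, by
      have hb := c.2
      simp only [good, not_or] at hb
      refine Or.inr (Or.inr ?_)
      rw [hev1, hevm, show (P c.1).eval (-1) - 4 * σ * ((1 - α) * (P c.1).eval (-1) * σ / 4) =
        α * (P c.1).eval (-1) by field_simp; linear_combination (-(1 - α) * (P c.1).eval (-1)) * hσσ,
        show MQ.det * ((P c.1).eval 1 * (α * (P c.1).eval (-1))) =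
          (MQ.det * ((P c.1).eval 1 * (P c.1).eval (-1))) * α by ring]
      exact isSquare_mul_of_iff (mul_ne_zero hMQ0 (mul_ne_zero hb.1 hb.2.1)) hα0 (iff_of_false hb.2.2 hα)⟩
  have hflip : Function.Injective flipc := by
    intro c c' h
    have h' := congrArg Subtype.val h
    simp only [flipc] at h'
    have e := congrArg (fun c => (P c).eval (-1)) h'
    simp only [hevm] at e
    have e' : α * (P c.1).eval (-1) = α * (P c'.1).eval (-1) := by
      field_simp at e
      linear_combination e + (1 - α) * ((P c.1).eval (-1) - (P c'.1).eval (-1)) * hσσ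
    have e'' := mul_left_cancel₀ hα0 e'
    rw [e''] at h'
    refine Subtype.ext (Prod.ext ?_ ?_)
    · exact add_right_cancel (congrArg Prod.fst h')
    · exact sub_left_injective (congrArg Prod.snd h')
  have hb := Nat.card_le_card_of_injective flipc hflip
  have htot : Nat.card {c // good c} + Nat.card {c // ¬ good c} = Fintype.card F ^ n := by
    rw [← Nat.card_sum, Nat.card_congr (Equiv.sumCompl good), Nat.card_prod, Nat.card_fun,
      Nat.card_eq_fintype_card (α := F), Nat.card_fin, ← pow_succ]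
    congr 1
  omega

end Cfsg.Agent.FormClass
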