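import Cfsg.Agent.MatModule.GLSemisimple
import Mathlib.FieldTheory.KummerExtension
import Mathlib.GroupTheory.GroupAction.Quotient

/-!
# Classes of elements of prime order r modulo scalars, when the scalars contain r-th roots of unity
-/

set_option autoImplicit false

namespace Cfsg.Agent.ProjPrime

open Polynomial

/-! ## Rotation orbits of non-constant multisets -/

section Orbits

variable {T : Type*} [Group T] {n : ℕ}

/-- Multisets of size `n` that are not constant. -/
abbrev NonConst (T : Type*) (n : ℕ) := {M : Sym T n // ¬ ∃ x, M = Sym.replicate n x}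

instance rotateAction : MulAction T (NonConst T n) where
  smul c M := ⟨M.1.map (c * ·), fun ⟨x, hx⟩ => M.2 ⟨c⁻¹ * x, by
    refine Sym.map_injective (mul_right_injective c) n (hx.trans (Subtype.ext ?_))
    show Multiset.replicate n x = (Multiset.replicate n (c⁻¹ * x)).map (c * ·)
    rw [Multiset.map_replicate, mul_inv_cancel_left]⟩⟩
  one_smul M := Subtype.ext (by
    show M.1.map (1 * ·) = M.1
    simp)
  mul_smul a b M := Subtype.ext (by
    show M.1.map (a * b * ·) = (M.1.map (b * ·)).map (a * ·)
    simp [Sym.map_map, Function.comp_def, mul_assoc])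

theorem coe_smul_val (c : T) (M : NonConst T n) :
    ((c • M).1 : Multiset T) = (M.1 : Multiset T).map (c * ·) := rfl

variable [Fintype T] {r : ℕ}

theorem card_orbits (hr : r.Prime) (hT : Fintype.card T = r) (hn : 0 < n) :
    Nat.card (MulAction.orbitRel.Quotient T (NonConst T n)) * r =
      (n + r - 1).choose (r - 1) - r + (r - 1) * (if r ∣ n then 1 else 0) := by
  classical
  haveI := Fact.mk hr
  have hcard : Fintype.card (NonConst T n) = (n + r - 1).choose (r - 1) - r := by
    rw [Fintype.card_subtype_compl, Sym.card_sym_eq_choose, hT]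
    congr 1
    · rw [add_comm r n, ← Nat.choose_symm (show n ≤ n + r - 1 by have := hr.two_le; omega)]
      congr 1
      omega
    · rw [← hT]
      symm
      refine Fintype.card_of_bijective (f := fun x : T => ⟨Sym.replicate n x, x, rfl⟩) ⟨?_, ?_⟩
      · intro a b h
        exact (Sym.replicate_right_inj hn.ne').1 (congrArg Subtype.val h)
      · rintro ⟨M, x, rfl⟩
        exact ⟨x, rfl⟩
  have hfix : ∀ c : T, c ≠ 1 →
      Fintype.card (MulAction.fixedBy (NonConst T n) c) = if r ∣ n then 1 else 0 := by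
    intro c hc
    have hord : orderOf c = r :=
      orderOf_eq_prime (by rw [← hT]; exact pow_card_eq_one) hc
    have hcount : ∀ M : NonConst T n, c • M = M → ∀ x y, (M.1 : Multiset T).count x =
        (M.1 : Multiset T).count y := by
      intro M hM
      have h1 : ∀ x, (M.1 : Multiset T).count (c * x) = (M.1 : Multiset T).count x := by
        intro x
        conv_lhs => rw [← hM, coe_smul_val]
        exact Multiset.count_map_eq_count' _ _ (mul_right_injective c) x
      have h2 : ∀ (i : ℕ) x, (M.1 : Multiset T).count (c ^ i * x) = (M.1 : Multiset T).count x := by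
        intro i
        induction i with
        | zero => intro x; rw [pow_zero, one_mul]
        | succ i ih => intro x; rw [pow_succ', mul_assoc, h1, ih]
      intro x y
      obtain ⟨i, hi⟩ : x * y⁻¹ ∈ Submonoid.powers c := by
        rw [mem_powers_iff_mem_zpowers, Subgroup.eq_top_of_card_eq _
          (show Nat.card (Subgroup.zpowers c) = Nat.card T by
            rw [Nat.card_zpowers, hord, Nat.card_eq_fintype_card, hT])]
        trivial
      have hi' : c ^ i = x * y⁻¹ := hi
      have h3 := h2 i y
      rwa [hi', inv_mul_cancel_right] at h3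
    have hsum : ∀ M : NonConst T n, c • M = M → ∀ x, r * (M.1 : Multiset T).count x = n := by
      intro M hM x
      have h := Multiset.sum_count_eq_card (s := Finset.univ) (m := (M.1 : Multiset T))
        (fun a _ => Finset.mem_univ a)
      rw [show Multiset.card (M.1 : Multiset T) = n from M.1.2, Finset.sum_congr rfl (fun y _ => hcount M hM y x), Finset.sum_const,
        Finset.card_univ, hT, smul_eq_mul] at h
      exact h
    have hsub : Subsingleton (MulAction.fixedBy (NonConst T n) c) := by
      refine ⟨fun a b => Subtype.ext (Subtype.ext (Subtype.ext (Multiset.ext.2 fun x => ?_)))⟩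
      exact Nat.eq_of_mul_eq_mul_left hr.pos ((hsum a.1 a.2 x).trans (hsum b.1 b.2 x).symm)
    by_cases hd : r ∣ n
    · rw [if_pos hd]
      obtain ⟨k, hk⟩ := hd
      have hk0 : 0 < k := by rcases Nat.eq_zero_or_pos k with h | h <;> simp_all
      let M : Sym T n := ⟨k • (Finset.univ : Finset T).val, by
        rw [Multiset.card_nsmul, Finset.card_val, Finset.card_univ, hT, hk, mul_comm]⟩
      have hMnc : ¬ ∃ x, M = Sym.replicate n x := by
        rintro ⟨x, hx⟩
        obtain ⟨y, hy⟩ : ∃ y : T, y ≠ x := Fintype.exists_ne_of_one_lt_card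
          (by rw [hT]; exact hr.one_lt) x
        have h := congrArg (fun N : Sym T n => (N : Multiset T).count y) hx
        simp only [M, Sym.coe_replicate, Multiset.count_replicate, if_neg hy.symm] at h
        change Multiset.count y (k • (Finset.univ : Finset T).val) = 0 at h
        rw [Multiset.count_nsmul, Multiset.count_eq_one_of_mem (Finset.univ : Finset T).nodup
          (Finset.mem_univ y), mul_one] at h
        omega
      haveI : Nonempty (MulAction.fixedBy (NonConst T n) c) := ⟨⟨⟨M, hMnc⟩, Subtype.ext (Subtype.ext (by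
        show (k • (Finset.univ : Finset T).val).map (c * ·) = k • (Finset.univ : Finset T).val
        rw [Multiset.map_nsmul]
        congr 1
        exact congrArg Finset.val (Finset.map_univ_equiv (Equiv.mulLeft c))))⟩⟩
      exact le_antisymm (Fintype.card_le_one_iff_subsingleton.2 hsub) Fintype.card_pos
    · rw [if_neg hd]
      refine Fintype.card_eq_zero_iff.2 ⟨fun a => hd ?_⟩
      exact ⟨_, (hsum a.1 a.2 1).symm⟩
  have hburn := MulAction.sum_card_fixedBy_eq_card_orbits_mul_card_group T (NonConst T n)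
  rw [hT, ← Nat.card_eq_fintype_card] at hburn
  change _ = Nat.card (MulAction.orbitRel.Quotient T (NonConst T n)) * r at hburn
  rw [← hburn, ← Finset.add_sum_erase _ _ (Finset.mem_univ (1 : T)),
    Finset.sum_congr rfl (fun c hc => hfix c (Finset.ne_of_mem_erase hc)), Finset.sum_const,
    Finset.card_erase_of_mem (Finset.mem_univ _), Finset.card_univ, hT, smul_eq_mul]
  congr 1
  rw [← hcard]
  exact Fintype.card_congr (Equiv.subtypeUnivEquiv fun M => one_smul T M)

end Orbits

/-! ## Monomial matrices -/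

section Mono

variable {F : Type*} [Field F] {n : ℕ}

/-- The monomial matrix of a permutation and nonzero weights. -/
def mono (w : Fin n → Fˣ) (π : Equiv.Perm (Fin n)) : Matrix (Fin n) (Fin n) F :=
  Matrix.of fun i l => if π i = l then (w i : F) else 0

theorem mono_mul (a b : Fin n → Fˣ) (σ τ : Equiv.Perm (Fin n)) :
    mono a σ * mono b τ = mono (fun i => a i * b (σ i)) (τ * σ) := by
  ext i l
  rw [Matrix.mul_apply, Finset.sum_eq_single (σ i)]
  · rw [show mono a σ i (σ i) = (a i : F) by simp [mono]]
    show (a i : F) * (if τ (σ i) = l then (b (σ i) : F) else 0) =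
      if (τ * σ) i = l then ((a i * b (σ i) : Fˣ) : F) else 0
    rw [mul_ite, mul_zero, Units.val_mul]
    rfl
  · intro m _ hm
    simp [mono, Ne.symm hm]
  · intro h
    exact absurd (Finset.mem_univ _) h

theorem mono_one (w : Fin n → Fˣ) : mono w 1 = Matrix.diagonal fun i => (w i : F) := by
  ext i l
  by_cases h : i = l
  · simp [mono, h]
  · simp [mono, h, Matrix.diagonal_apply_ne _ h]

theorem mono_pow (w : Fin n → Fˣ) (π : Equiv.Perm (Fin n)) (j : ℕ) :
    mono w π ^ j = mono (fun i => ∏ t ∈ Finset.range j, w ((π ^ t) i)) (π ^ j) := by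
  induction j with
  | zero => simp [mono_one, Matrix.diagonal_one]
  | succ j ih =>
    rw [pow_succ', ih, mono_mul]
    rw [← pow_succ]
    congr 1
    funext i
    rw [Finset.prod_range_succ', mul_comm]
    simp [pow_succ, Equiv.Perm.mul_apply]

theorem mono_mul_inv (w : Fin n → Fˣ) (π : Equiv.Perm (Fin n)) :
    mono w π * mono (fun i => (w (π.symm i))⁻¹) π.symm = 1 := by
  rw [mono_mul, show π.symm * π = 1 from inv_mul_cancel π, mono_one, ← Matrix.diagonal_one]
  congr 1
  funext i
  simp

end Mono

/-! ## The classes -/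

variable {F : Type*} [Field F] [Fintype F] {n r : ℕ}

theorem exists_factors {p : ℕ} [Fact p.Prime] [CharP F p] (x : GL (Fin n) F) (hx : (orderOf x).Coprime p)
    (P : F[X]) (hP : aeval (x : Matrix (Fin n) (Fin n) F) P = 0) :
    ∃ L : Multiset F[X], (∀ s ∈ L, s.Monic ∧ Irreducible s ∧ s ∣ P) ∧
      (x : Matrix (Fin n) (Fin n) F).charpoly = L.prod := by
  classical
  set φ := Matrix.toLin' (x : Matrix (Fin n) (Fin n) F) with hφ
  obtain ⟨q, hq, hxq⟩ := MatModule.exists_squarefree_aeval x hx
  obtain ⟨ι, _, s, hs, hsi, Φ, hΦ⟩ := MatModule.exists_rootMul φ hq hxq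
  haveI : ∀ i, Module.Finite F (AdjoinRoot (s i)) := fun i => MatModule.finite_adjoinRoot (s i) (hs i)
  haveI : Module.Finite F (∀ i, AdjoinRoot (s i)) := Module.Finite.pi
  have hc : (x : Matrix (Fin n) (Fin n) F).charpoly = ∏ i, s i := by
    rw [← Matrix.charpoly_toLin', ← MatModule.charpoly_rootMul s hs, ← Φ.charpoly_conj φ]
    congr 1
    refine LinearMap.ext fun v => ?_
    show Φ (φ (Φ.symm v)) = _
    rw [hΦ, LinearEquiv.apply_symm_apply]
  have hPφ : aeval φ P = 0 := by
    rw [hφ, show Matrix.toLin' (x : Matrix (Fin n) (Fin n) F) =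
      (Matrix.toLinAlgEquiv' : Matrix (Fin n) (Fin n) F ≃ₐ[F] _).toAlgHom x.1 from rfl,
      aeval_algHom_apply, hP, map_zero]
  have hev : ∀ (Q : F[X]) (v : Fin n → F) i, Φ (aeval φ Q v) i = AdjoinRoot.mk (s i) Q * Φ v i := by
    intro Q
    induction Q using Polynomial.induction_on' with
    | add a b ha hb => intro v i; simp [ha, hb, add_mul]
    | monomial k c =>
      induction k with
      | zero =>
        intro v i
        rw [monomial_zero_left, aeval_C, Module.algebraMap_end_apply, map_smul, Pi.smul_apply,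
          AdjoinRoot.mk_C, Algebra.smul_def, AdjoinRoot.algebraMap_eq]
      | succ k ih =>
        intro v i
        have e : (monomial (k + 1) c : F[X]) = monomial k c * X := by
          rw [monomial_mul_X]
        rw [e, map_mul, map_mul, aeval_X, Module.End.mul_apply, ih, hΦ, MatModule.rootMul_apply,
          AdjoinRoot.mk_X, mul_assoc]
  refine ⟨Finset.univ.val.map s, ?_, hc⟩
  intro a ha
  obtain ⟨i, -, rfl⟩ := Multiset.mem_map.1 ha
  refine ⟨hs i, hsi i, AdjoinRoot.mk_eq_zero.1 ?_⟩
  have h := hev P (Φ.symm 1) i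
  rw [hPφ, LinearMap.zero_apply, map_zero, Pi.zero_apply, LinearEquiv.apply_symm_apply, Pi.one_apply,
    mul_one] at h
  exact h.symm

/-- Classes of elements of order `r` modulo scalars, for a matrix group whose scalars contain
the `r`-th roots of unity and whose semisimple classes are those of the general linear group. -/
theorem card_classes {G : Type*} [Group G] (hn : 0 < n) (hr : r.Prime) (ι : G →* GL (Fin n) F)
    (hι : Function.Injective ι) (L : Subgroup Fˣ) (hL : ∀ c : Fˣ, c ^ r ∈ L → c ∈ L)
    (hrL : r ∣ Nat.card L)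
    (hcenter : ∀ g, g ∈ Subgroup.center G ↔ ∃ c ∈ L, (ι g).1 = Matrix.scalar (Fin n) (c : F))
    (hmono : ∀ w : Fin n → Fˣ, (∀ i, w i ∈ L) → ∀ π : Equiv.Perm (Fin n), ∃ g, (ι g).1 = mono w π)
    (hconj : ∀ g h : G, IsConj (ι g) (ι h) → IsConj g h) :
    Nat.card {C : ConjClasses (G ⧸ Subgroup.center G) //
        ∃ g : G ⧸ Subgroup.center G, ConjClasses.mk g = C ∧ orderOf g = r} =
      ((n + r - 1).choose (r - 1) - r - (if r ∣ n then 1 else 0)) / r +
        r * (if r ∣ n then 1 else 0) := by
  classical
  haveI := Fact.mk hr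
  obtain ⟨p, hpc⟩ := CharP.exists F
  obtain ⟨E, hpp, hE⟩ := FiniteField.card F p
  haveI := Fact.mk hpp
  have hLcop : (r * Nat.card L).Coprime p := by
    have h1 : Nat.card L ∣ p ^ (E : ℕ) - 1 := by
      have h := Subgroup.card_subgroup_dvd_card L
      rwa [Nat.card_units, Nat.card_eq_fintype_card (α := F), hE] at h
    have h2 : (p ^ (E : ℕ) - 1).Coprime p := by
      rw [Nat.coprime_comm, hpp.coprime_iff_not_dvd]
      intro hd
      have h3 := Nat.dvd_sub (dvd_pow_self p (PNat.ne_zero E)) hd
      rw [Nat.sub_sub_self (Nat.one_le_pow _ _ hpp.pos)] at h3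
      exact hpp.ne_one (Nat.dvd_one.1 h3)
    exact (h2.coprime_dvd_left (hrL.trans h1)).mul_left (h2.coprime_dvd_left h1)
  -- roots of unity
  set T := (powMonoidHom r : Fˣ →* Fˣ).ker with hTdef
  have hTmem : ∀ {x : Fˣ}, x ∈ T ↔ x ^ r = 1 := fun {x} => Iff.rfl
  have hTL : T ≤ L := fun x hx => hL x (by rw [hTmem.1 hx]; exact L.one_mem)
  have hTcard : Fintype.card T = r := by
    rw [← Nat.card_eq_fintype_card, hTdef, IsCyclic.card_powMonoidHom_ker]
    exact Nat.gcd_eq_right (hrL.trans (Subgroup.card_subgroup_dvd_card L))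
  set R := (powMonoidHom r : L →* L).range with hRdef
  have hRindex : Nat.card (L ⧸ R) = r := by
    rw [← Subgroup.index_eq_card, hRdef, IsCyclic.index_powMonoidHom_range]
    exact Nat.gcd_eq_right hrL
  obtain ⟨ζ, hζ⟩ := IsCyclic.exists_generator (α := T)
  have hζF : IsPrimitiveRoot ((ζ : Fˣ) : F) r := by
    have : orderOf ((ζ : Fˣ) : F) = r := by
      rw [orderOf_units, Subgroup.orderOf_coe, orderOf_eq_card_of_forall_mem_zpowers hζ,
        Nat.card_eq_fintype_card, hTcard]
    exact this ▸ IsPrimitiveRoot.orderOf _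
  -- scalars
  have hscal : ∀ c : L, ∃ g, (ι g).1 = Matrix.scalar (Fin n) ((c : Fˣ) : F) := fun c => by
    obtain ⟨g, hg⟩ := hmono (fun _ => c.1) (fun _ => c.2) 1
    exact ⟨g, by rw [hg, mono_one]; rfl⟩
  choose sc hsc using hscal
  have hscC : ∀ c, sc c ∈ Subgroup.center G := fun c => (hcenter _).2 ⟨c.1, c.2, hsc c⟩
  have hscalinj : ∀ a b : F, Matrix.scalar (Fin n) a = Matrix.scalar (Fin n) b → a = b := by
    haveI : Nonempty (Fin n) := ⟨⟨0, hn⟩⟩
    exact fun a b h => Matrix.scalar_inj.1 h
  have hZ : ∀ z ∈ Subgroup.center G, ∃ c, z = sc c := fun z hz => by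
    obtain ⟨c, hc, e⟩ := (hcenter z).1 hz
    exact ⟨⟨c, hc⟩, hι (Units.ext (e.trans (hsc ⟨c, hc⟩).symm))⟩
  have hscpow : ∀ (c : L) (j : ℕ), (ι (sc c ^ j)).1 = Matrix.scalar (Fin n) (((c : Fˣ) : F) ^ j) := by
    intro c j
    rw [map_pow, Units.val_pow_eq_pow_val, hsc, ← map_pow]
  have hscmul : ∀ (c : L) (g : G), (ι (sc c * g)).1 = ((c : Fˣ) : F) • (ι g).1 := by
    intro c g
    rw [map_mul, Units.val_mul, hsc, Matrix.scalar_apply, ← Matrix.smul_one_eq_diagonal, Matrix.smul_mul,
      one_mul]
  have hmk : ∀ g h : G, IsConj (QuotientGroup.mk g : G ⧸ Subgroup.center G) (QuotientGroup.mk h) ↔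
      ∃ c, IsConj g (sc c * h) := by
    intro g h
    constructor
    · intro hc
      obtain ⟨x, hx⟩ := isConj_iff.1 hc
      obtain ⟨y, rfl⟩ := QuotientGroup.mk_surjective x
      have h1 : h⁻¹ * (y * g * y⁻¹) ∈ Subgroup.center G := by
        rw [← QuotientGroup.eq, QuotientGroup.mk_mul, QuotientGroup.mk_mul, QuotientGroup.mk_inv]
        exact hx.symm
      obtain ⟨c, hc'⟩ := hZ _ h1
      refine ⟨c, isConj_iff.2 ⟨y, ?_⟩⟩
      rw [← Subgroup.mem_center_iff.1 (hscC c) h, ← hc', mul_inv_cancel_left]
    · rintro ⟨c, hc⟩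
      have h1 : (QuotientGroup.mk (sc c * h) : G ⧸ Subgroup.center G) = QuotientGroup.mk h := by
        rw [QuotientGroup.mk_mul, (QuotientGroup.eq_one_iff _).2 (hscC c), one_mul]
      rw [← h1]
      exact (QuotientGroup.mk' (Subgroup.center G)).map_isConj hc
  have hord : ∀ g : G, g ^ r ∈ Subgroup.center G → (orderOf (ι g)).Coprime p := by
    intro g hg
    obtain ⟨c, hc⟩ := hZ _ hg
    refine hLcop.coprime_dvd_left (orderOf_dvd_of_pow_eq_one (Units.ext ?_))
    rw [← map_pow, pow_mul, hc, hscpow, ← Units.val_pow_eq_pow_val, ← SubmonoidClass.coe_pow,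
      pow_card_eq_one', Subgroup.coe_one, Units.val_one, map_one]
    rfl
  have hcp : ∀ g h : G, g ^ r ∈ Subgroup.center G → h ^ r ∈ Subgroup.center G →
      (ι g).1.charpoly = (ι h).1.charpoly → IsConj g h := fun g h hg hh e =>
    hconj g h (isConj_iff.2 (MatModule.exists_conj_of_matrix_charpoly_eq (p := p) _ _ (hord g hg) (hord h hh) e))
  have hcharconj : ∀ g h : G, IsConj g h → (ι g).1.charpoly = (ι h).1.charpoly := by
    intro g h hc
    obtain ⟨x, rfl⟩ := isConj_iff.1 hc
    rw [map_mul, map_mul, map_inv, Units.val_mul, Units.val_mul, Matrix.charpoly_mul_comm, ← mul_assoc,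
      ← Units.val_mul, inv_mul_cancel, Units.val_one, one_mul]
  -- diagonal representatives
  have hvM : ∀ M : Sym T n, ∃ v : Fin n → T, Finset.univ.val.map v = (M : Multiset T) := by
    rintro ⟨M, hM⟩
    obtain ⟨l, rfl⟩ := Quotient.exists_rep M
    change l.length = n at hM
    refine ⟨fun i => l.get (i.cast hM.symm), ?_⟩
    rw [Fin.univ_val_map]
    subst hM
    simp
  choose v hv using hvM
  have hgd : ∀ M : Sym T n, ∃ g, (ι g).1 = Matrix.diagonal fun i => ((v M i : Fˣ) : F) := fun M => by
    obtain ⟨g, hg⟩ := hmono (fun i => (v M i : Fˣ)) (fun i => hTL (v M i).2) 1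
    exact ⟨g, by rw [hg, mono_one]⟩
  choose gd hgd using hgd
  have hgdr : ∀ M, gd M ^ r = 1 := by
    intro M
    refine hι (Units.ext ?_)
    rw [map_pow, Units.val_pow_eq_pow_val, hgd, Matrix.diagonal_pow, map_one, Units.val_one,
      ← Matrix.diagonal_one]
    congr 1
    funext i
    rw [Pi.pow_apply, ← Units.val_pow_eq_pow_val, hTmem.1 (v M i).2, Units.val_one]
  set val : T → F := fun x => ((x : Fˣ) : F) with hval
  have hvalinj : Function.Injective val := fun a b h => Subtype.ext (Units.ext h)
  have hgdcp : ∀ M, (ι (gd M)).1.charpoly =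
      (((M : Multiset T).map val).map fun a => X - Polynomial.C a).prod := by
    intro M
    rw [hgd, Matrix.charpoly_diagonal, ← hv M, Multiset.map_map, Multiset.map_map, Finset.prod_eq_multiset_prod]
    rfl
  have hscgdcp : ∀ (c : L) M, (ι (sc c * gd M)).1.charpoly =
      ((((M : Multiset T).map val).map (((c : Fˣ) : F) * ·)).map fun a => X - Polynomial.C a).prod := by
    intro c M
    rw [hscmul, hgd, ← Matrix.diagonal_smul, Matrix.charpoly_diagonal, ← hv M, Multiset.map_map,
      Multiset.map_map, Multiset.map_map, Finset.prod_eq_multiset_prod]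
    rfl
  -- non-power representatives
  have hgn : ∀ l : L, r ∣ n → ∃ g, g ^ r = sc l := by
    intro l hd
    obtain ⟨k, hk⟩ := hd
    haveI : NeZero r := ⟨hr.ne_zero⟩
    let e : Fin n ≃ Fin k × ZMod r := Fintype.equivOfCardEq (by
      rw [Fintype.card_prod, Fintype.card_fin, Fintype.card_fin, ZMod.card, hk, mul_comm])
    set π : Equiv.Perm (Fin n) :=
      e.trans (((Equiv.refl (Fin k)).prodCongr (Equiv.addRight (1 : ZMod r))).trans e.symm) with hπ
    have hπt : ∀ (t : ℕ) i, (π ^ t) i = e.symm ((e i).1, (e i).2 + (t : ZMod r)) := by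
      intro t
      induction t with
      | zero => intro i; simp
      | succ t ih =>
        intro i
        rw [pow_succ', Equiv.Perm.mul_apply, ih, hπ]
        simp [add_assoc]
    set w : Fin n → Fˣ := fun i => if (e i).2 = 0 then (l : Fˣ) else 1 with hw
    obtain ⟨g, hg⟩ := hmono w (fun i => by
      show (if (e i).2 = 0 then (l : Fˣ) else 1) ∈ L
      split_ifs
      exacts [l.2, L.one_mem]) π
    refine ⟨g, hι (Units.ext ?_)⟩
    rw [map_pow, Units.val_pow_eq_pow_val, hg, mono_pow, hsc]
    have h1 : π ^ r = 1 := Equiv.ext fun i => by simp [hπt]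
    have h2 : (fun i => ∏ t ∈ Finset.range r, w ((π ^ t) i)) = fun _ => (l : Fˣ) := by
      funext i
      rw [Finset.prod_eq_single (-(e i).2).val]
      · simp [hw, hπt]
      · intro t ht hne
        simp only [hw, hπt, Equiv.apply_symm_apply]
        rw [if_neg]
        intro h0
        apply hne
        rw [← eq_neg_of_add_eq_zero_right h0, ZMod.val_natCast, Nat.mod_eq_of_lt (Finset.mem_range.1 ht)]
      · intro h
        exact absurd (Finset.mem_range.2 (ZMod.val_lt _)) h
    rw [h1, h2, mono_one]
    rfl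
  choose gn hgn using hgn
  -- the parametrisation
  set Q := MulAction.orbitRel.Quotient T (NonConst T n)
  have hnotc : ∀ M : NonConst T n, gd M.1 ∉ Subgroup.center G := by
    intro M hM
    obtain ⟨c, hc, e⟩ := (hcenter _).1 hM
    rw [hgd, Matrix.scalar_apply] at e
    have e' : ∀ i, ((v M.1 i : Fˣ) : F) = (c : F) := fun i => congrFun (Matrix.diagonal_injective e) i
    refine M.2 ⟨v M.1 ⟨0, hn⟩, Sym.eq_replicate_iff.2 ?_⟩
    intro x hx
    rw [← Sym.mem_coe, ← hv M.1] at hx
    obtain ⟨i, -, rfl⟩ := Multiset.mem_map.1 hx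
    exact Subtype.ext (Units.ext ((e' i).trans (e' ⟨0, hn⟩).symm))
  have hnotn : ∀ (u : L ⧸ R) (hd : r ∣ n), u ≠ 1 → gn u.out hd ∉ Subgroup.center G := by
    intro u hd hu hM
    obtain ⟨c, hc⟩ := hZ _ hM
    apply hu
    rw [← QuotientGroup.out_eq' u, QuotientGroup.eq_one_iff]
    refine ⟨c, ?_⟩
    have h := congrArg (fun x => (ι (x ^ r)).1) hc
    simp only [hgn, hscpow, hsc] at h
    exact Subtype.ext (Units.ext (hscalinj _ _ h).symm)
  have hordmk : ∀ g : G, g ∉ Subgroup.center G → g ^ r ∈ Subgroup.center G →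
      orderOf (QuotientGroup.mk g : G ⧸ Subgroup.center G) = r := fun g hg hgr =>
    orderOf_eq_prime (by rw [← QuotientGroup.mk_pow]; exact (QuotientGroup.eq_one_iff _).2 hgr)
      fun h => hg ((QuotientGroup.eq_one_iff _).1 h)
  have hgdmk : ∀ a b : NonConst T n, (∃ t : T, t • b = a) →
      IsConj (QuotientGroup.mk (gd a.1) : G ⧸ Subgroup.center G) (QuotientGroup.mk (gd b.1)) := by
    rintro a b ⟨t, rfl⟩
    refine (hmk _ _).2 ⟨⟨t.1, hTL t.2⟩, hcp _ _ (by rw [hgdr]; exact one_mem _) ?_ ?_⟩
    · rw [(show Commute (sc ⟨t.1, hTL t.2⟩) (gd b.1) from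
        (Subgroup.mem_center_iff.1 (hscC _) _).symm).mul_pow, hgdr, mul_one]
      exact pow_mem (hscC _) _
    · rw [hgdcp, hscgdcp, coe_smul_val, Multiset.map_map, Multiset.map_map, Multiset.map_map,
        Multiset.map_map]
      rfl
  let Φ : Q ⊕ {u : L ⧸ R // u ≠ 1 ∧ r ∣ n} → {C : ConjClasses (G ⧸ Subgroup.center G) //
      ∃ g : G ⧸ Subgroup.center G, ConjClasses.mk g = C ∧ orderOf g = r} :=
    Sum.elim
      (Quotient.lift (fun M : NonConst T n => ⟨ConjClasses.mk (QuotientGroup.mk (gd M.1)), _, rfl,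
          hordmk _ (hnotc M) (by rw [hgdr]; exact one_mem _)⟩)
        (fun a b h => Subtype.ext (ConjClasses.mk_eq_mk_iff_isConj.2 (hgdmk a b
          (MulAction.mem_orbit_iff.1 (MulAction.orbitRel_apply.1 h))))))
      (fun u => ⟨ConjClasses.mk (QuotientGroup.mk (gn u.1.out u.2.2)), _, rfl,
        hordmk _ (hnotn u.1 u.2.2 u.2.1) (by rw [hgn]; exact hscC _)⟩)
  have hΦ : Function.Bijective Φ := by
    have hcross : ∀ (M : NonConst T n) (u : {u : L ⧸ R // u ≠ 1 ∧ r ∣ n}),
        ¬ IsConj (QuotientGroup.mk (gn u.1.out u.2.2) : G ⧸ Subgroup.center G) (QuotientGroup.mk (gd M.1)) := by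
      intro M u h
      obtain ⟨c, hc⟩ := (hmk _ _).1 h
      have h1 := hc.pow r
      rw [hgn, (show Commute (sc c) (gd M.1) from (Subgroup.mem_center_iff.1 (hscC c) _).symm).mul_pow,
        hgdr, mul_one] at h1
      obtain ⟨x, hx⟩ := isConj_iff.1 h1
      rw [Subgroup.mem_center_iff.1 (hscC _) x, mul_inv_cancel_right] at hx
      apply u.2.1
      rw [← QuotientGroup.out_eq' u.1, QuotientGroup.eq_one_iff]
      refine ⟨c, ?_⟩
      have h2 := congrArg (fun z => (ι z).1) hx
      simp only [hscpow, hsc] at h2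
      exact Subtype.ext (Units.ext (hscalinj _ _ h2).symm)
    constructor
    · intro a b h
      rcases a with a | a <;> rcases b with b | b
      · induction a using Quotient.inductionOn with | _ A => ?_
        induction b using Quotient.inductionOn with | _ B => ?_
        have h' : IsConj (QuotientGroup.mk (gd A.1) : G ⧸ Subgroup.center G) (QuotientGroup.mk (gd B.1)) :=
          ConjClasses.mk_eq_mk_iff_isConj.1 (congrArg Subtype.val h)
        obtain ⟨c, hc⟩ := (hmk _ _).1 h'
        have e := congrArg Polynomial.roots (hcharconj _ _ hc)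
        rw [hgdcp, hscgdcp, roots_multiset_prod_X_sub_C, roots_multiset_prod_X_sub_C, Multiset.map_map] at e
        obtain ⟨x, hx⟩ : ∃ x, x ∈ (A.1 : Multiset T) := Multiset.card_pos_iff_exists_mem.1 (by rw [show Multiset.card (A.1 : Multiset T) = n from A.1.2]; exact hn)
        have hx' := Multiset.mem_map_of_mem val hx
        rw [e] at hx'
        obtain ⟨y, -, hy⟩ := Multiset.mem_map.1 hx'
        have hyx : (c : Fˣ) * y.1 = x.1 := Units.ext hy
        have hcT : (c : Fˣ) ∈ T := by
          rw [eq_mul_inv_of_mul_eq hyx]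
          exact T.mul_mem x.2 (T.inv_mem y.2)
        refine congrArg Sum.inl (Quotient.sound (MulAction.orbitRel_apply.2
          (MulAction.mem_orbit_iff.2 ⟨⟨_, hcT⟩, Subtype.ext (Subtype.ext ?_)⟩)))
        apply Multiset.map_injective hvalinj
        show ((B.1 : Multiset T).map _).map val = (A.1 : Multiset T).map val
        rw [e, Multiset.map_map]
        rfl
      · induction a using Quotient.inductionOn with | _ A => ?_
        have h' : IsConj (QuotientGroup.mk (gd A.1) : G ⧸ Subgroup.center G)
            (QuotientGroup.mk (gn b.1.out b.2.2)) := ConjClasses.mk_eq_mk_iff_isConj.1 (congrArg Subtype.val h)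
        exact absurd h'.symm (hcross A b)
      · induction b using Quotient.inductionOn with | _ B => ?_
        have h' : IsConj (QuotientGroup.mk (gn a.1.out a.2.2) : G ⧸ Subgroup.center G)
            (QuotientGroup.mk (gd B.1)) := ConjClasses.mk_eq_mk_iff_isConj.1 (congrArg Subtype.val h)
        exact absurd h' (hcross B a)
      · have h' : IsConj (QuotientGroup.mk (gn a.1.out a.2.2) : G ⧸ Subgroup.center G)
            (QuotientGroup.mk (gn b.1.out b.2.2)) := ConjClasses.mk_eq_mk_iff_isConj.1 (congrArg Subtype.val h)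
        obtain ⟨c, hc⟩ := (hmk _ _).1 h'
        have h1 := hc.pow r
        rw [hgn, (show Commute (sc c) (gn b.1.out b.2.2) from
          (Subgroup.mem_center_iff.1 (hscC c) _).symm).mul_pow, hgn] at h1
        obtain ⟨x, hx⟩ := isConj_iff.1 h1
        rw [Subgroup.mem_center_iff.1 (hscC _) x, mul_inv_cancel_right] at hx
        have h2 := congrArg (fun z => (ι z).1) hx
        simp only [map_mul, Units.val_mul, hscpow, hsc] at h2
        rw [← map_mul] at h2
        refine congrArg Sum.inr (Subtype.ext ?_)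
        rw [← QuotientGroup.out_eq' a.1, ← QuotientGroup.out_eq' b.1, QuotientGroup.eq]
        refine ⟨c⁻¹, ?_⟩
        have h3 : a.1.out = c ^ r * b.1.out := Subtype.ext (Units.ext (hscalinj _ _ h2))
        rw [powMonoidHom_apply, h3, mul_inv_rev, inv_pow, mul_comm b.1.out⁻¹, mul_assoc,
          inv_mul_cancel, mul_one]
    · rintro ⟨C, x, rfl, hx⟩
      obtain ⟨g, rfl⟩ := QuotientGroup.mk_surjective x
      have hgr : g ^ r ∈ Subgroup.center G := by
        rw [← QuotientGroup.eq_one_iff, QuotientGroup.mk_pow, ← hx, pow_orderOf_eq_one]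
      have hgc : g ∉ Subgroup.center G := fun h => by
        rw [(QuotientGroup.eq_one_iff _).2 h, orderOf_one] at hx
        exact hr.ne_one hx.symm
      obtain ⟨l, hl⟩ := hZ _ hgr
      set u : L ⧸ R := QuotientGroup.mk l with hu
      -- normalise the power to the representative of its coset
      obtain ⟨c, hc⟩ : ∃ c : L, c ^ r = u.out⁻¹ * l := QuotientGroup.eq.1 (QuotientGroup.out_eq' u)
      by_cases hu1 : u = 1
      · obtain ⟨d, hd⟩ : ∃ d : L, d ^ r = l := (QuotientGroup.eq_one_iff l).1 hu1
        set g' := sc d⁻¹ * g with hg'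
        have hg'r : g' ^ r = 1 := by
          rw [hg', (show Commute (sc d⁻¹) g from (Subgroup.mem_center_iff.1 (hscC _) _).symm).mul_pow, hl]
          refine hι (Units.ext ?_)
          rw [map_mul, Units.val_mul, hscpow, hsc, ← map_mul, map_one, Units.val_one, ← hd]
          rw [show (((d⁻¹ : L) : Fˣ) : F) ^ r * (((d ^ r : L) : Fˣ) : F) = 1 by
            rw [← Units.val_pow_eq_pow_val, ← Units.val_mul, ← SubmonoidClass.coe_pow, ← Subgroup.coe_mul,
              inv_pow, inv_mul_cancel, Subgroup.coe_one, Units.val_one], map_one]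
        have hg'c : g' ∉ Subgroup.center G := fun h => hgc ((mul_mem_cancel_left (hscC _)).1 h)
        obtain ⟨Ls, hLs, hcp'⟩ := exists_factors (p := p) (ι g') (hord g' (by rw [hg'r]; exact one_mem _))
          (X ^ r - 1) (by rw [map_sub, map_pow, aeval_X, map_one, ← Units.val_pow_eq_pow_val, ← map_pow,
            hg'r, map_one, Units.val_one, sub_self])
        have hlin : ∀ s ∈ Ls, ∃ t : T, s = X - Polynomial.C (val t) := by
          intro s hs
          obtain ⟨hsm, hsi, hsd⟩ := hLs s hs
          rw [X_pow_sub_one_eq_prod hr.pos hζF] at hsd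
          obtain ⟨a, ha, hsa⟩ := hsi.prime.exists_mem_finset_dvd hsd
          rw [Polynomial.mem_nthRootsFinset hr.pos] at ha
          have ha0 : a ≠ 0 := by
            intro h0
            rw [h0, zero_pow hr.ne_zero] at ha
            exact zero_ne_one ha
          exact ⟨⟨Units.mk0 a ha0, Units.ext (by simpa using ha)⟩, eq_of_monic_of_associated hsm (monic_X_sub_C a)
            (hsi.associated_of_dvd (irreducible_X_sub_C a) hsa)⟩
        choose t ht using hlin
        set Mv : Multiset T := Ls.attach.map fun s => t s.1 s.2 with hMv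
        have hMvL : (Mv.map val).map (fun a => X - Polynomial.C a) = Ls := by
          rw [hMv, Multiset.map_map, Multiset.map_map]
          conv_rhs => rw [← Multiset.attach_map_val Ls]
          exact Multiset.map_congr rfl fun s _ => (ht s.1 s.2).symm
        have hMcard : Multiset.card Mv = n := by
          have h := congrArg Polynomial.natDegree hcp'
          rw [Matrix.charpoly_natDegree_eq_dim, Fintype.card_fin, ← hMvL,
            natDegree_multiset_prod_X_sub_C_eq_card, Multiset.card_map] at h
          exact h.symm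
        set M : Sym T n := ⟨Mv, hMcard⟩
        have hcg : IsConj g' (gd M) := hcp _ _ (by rw [hg'r]; exact one_mem _) (by rw [hgdr]; exact one_mem _)
          (by rw [hgdcp, hcp', ← hMvL]; rfl)
        have hMnc : ¬ ∃ x, M = Sym.replicate n x := by
          rintro ⟨y, hy⟩
          apply hg'c
          have h1 : gd M ∈ Subgroup.center G := by
            refine (hcenter _).2 ⟨y.1, hTL y.2, ?_⟩
            rw [hgd, Matrix.scalar_apply]
            congr 1
            funext i
            have hi : v M i ∈ (M : Multiset T) := by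
              rw [← hv M]
              exact Multiset.mem_map_of_mem _ (Finset.mem_univ i)
            have e : (M : Multiset T) = Multiset.replicate n y := by rw [hy]; rfl
            rw [Multiset.eq_of_mem_replicate ((congrArg (fun S => v M i ∈ S) e).mp hi)]
          obtain ⟨z, hz⟩ := isConj_iff.1 hcg.symm
          rw [← hz, Subgroup.mem_center_iff.1 h1 z, mul_inv_cancel_right]
          exact h1
        refine ⟨Sum.inl (Quotient.mk _ ⟨M, hMnc⟩), Subtype.ext (ConjClasses.mk_eq_mk_iff_isConj.2 ?_)⟩
        exact ((hmk _ _).2 ⟨d⁻¹, hcg.symm⟩)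
      · set g' := sc c⁻¹ * g with hg'
        have hg'r : g' ^ r = sc u.out := by
          rw [hg', (show Commute (sc c⁻¹) g from (Subgroup.mem_center_iff.1 (hscC _) _).symm).mul_pow, hl]
          refine hι (Units.ext ?_)
          rw [map_mul, Units.val_mul, hscpow, hsc, ← map_mul, hsc, ← Units.val_pow_eq_pow_val,
            ← Units.val_mul, ← SubmonoidClass.coe_pow, ← Subgroup.coe_mul, inv_pow, hc, mul_inv_rev,
            inv_inv, mul_comm l⁻¹, inv_mul_cancel_right]
        have hnp : ∀ b : F, b ^ r ≠ (((u.out : L) : Fˣ) : F) := by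
          intro b hb
          have hb0 : b ≠ 0 := by
            intro h0
            rw [h0, zero_pow hr.ne_zero] at hb
            exact Units.ne_zero _ hb.symm
          have hb' : Units.mk0 b hb0 ^ r = ((u.out : L) : Fˣ) := Units.ext (by simpa using hb)
          apply hu1
          rw [← QuotientGroup.out_eq' u, QuotientGroup.eq_one_iff]
          exact ⟨⟨Units.mk0 b hb0, hL _ (by rw [hb']; exact u.out.2)⟩, Subtype.ext hb'⟩
        have hirr := X_pow_sub_C_irreducible_of_prime hr hnp
        have hfac : ∀ g₁ : G, g₁ ^ r = sc u.out → ∃ k : ℕ, r * k = n ∧ (ι g₁).1.charpoly =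
            (X ^ r - Polynomial.C (((u.out : L) : Fˣ) : F)) ^ k := by
          intro g₁ h₁
          obtain ⟨Ls, hLs, hcp'⟩ := exists_factors (p := p) (ι g₁) (hord g₁ (by rw [h₁]; exact hscC _))
            (X ^ r - Polynomial.C (((u.out : L) : Fˣ) : F)) (by
              rw [map_sub, map_pow, aeval_X, aeval_C, ← Units.val_pow_eq_pow_val, ← map_pow, h₁, hsc,
                Matrix.algebraMap_eq_diagonal, Matrix.scalar_apply, sub_eq_zero]
              rfl)
          have hrep : Ls = Multiset.replicate (Multiset.card Ls)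
              (X ^ r - Polynomial.C (((u.out : L) : Fˣ) : F)) :=
            Multiset.eq_replicate_card.2 fun s hs => eq_of_monic_of_associated (hLs s hs).1
              (monic_X_pow_sub_C _ hr.ne_zero) ((hLs s hs).2.1.associated_of_dvd hirr (hLs s hs).2.2)
          rw [hrep, Multiset.prod_replicate] at hcp'
          refine ⟨Multiset.card Ls, ?_, hcp'⟩
          have h := congrArg Polynomial.natDegree hcp'
          rw [Matrix.charpoly_natDegree_eq_dim, Fintype.card_fin, natDegree_pow, natDegree_X_pow_sub_C] at h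
          rw [h, mul_comm]
        obtain ⟨k, hk, hcp1⟩ := hfac g' hg'r
        have hd : r ∣ n := ⟨k, hk.symm⟩
        obtain ⟨k', hk', hcp2⟩ := hfac (gn u.out hd) (hgn _ hd)
        obtain rfl : k' = k := Nat.eq_of_mul_eq_mul_left hr.pos (hk'.trans hk.symm)
        refine ⟨Sum.inr ⟨u, hu1, hd⟩, Subtype.ext (ConjClasses.mk_eq_mk_iff_isConj.2 ?_)⟩
        exact (hmk _ _).2 ⟨c⁻¹, hcp _ _ (by rw [hgn]; exact hscC _) (by rw [← hg', hg'r]; exact hscC _)
          (by rw [← hg', hcp1, hcp2])⟩
  rw [← Nat.card_eq_of_bijective Φ hΦ, Nat.card_sum]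
  have hQ := card_orbits (T := T) (n := n) hr hTcard hn
  have h2 : Nat.card {u : L ⧸ R // u ≠ 1 ∧ r ∣ n} = (r - 1) * (if r ∣ n then 1 else 0) := by
    by_cases hd : r ∣ n
    · rw [if_pos hd, mul_one, Nat.card_congr (Equiv.subtypeEquivRight (q := fun u : L ⧸ R => u ≠ 1)
        fun u => and_iff_left hd), Nat.card_eq_fintype_card, Fintype.card_subtype_compl,
        Fintype.card_subtype_eq, ← Nat.card_eq_fintype_card, hRindex]
    · rw [if_neg hd, mul_zero]
      haveI : IsEmpty {u : L ⧸ R // u ≠ 1 ∧ r ∣ n} := ⟨fun u => hd u.2.2⟩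
      exact Nat.card_of_isEmpty
  rw [h2]
  generalize (n + r - 1).choose (r - 1) - r = A at hQ ⊢
  change Nat.card Q * r = _ at hQ
  generalize Nat.card Q = m at hQ ⊢
  have hr2 := hr.two_le
  by_cases hd : r ∣ n
  · simp only [if_pos hd, mul_one] at hQ ⊢
    rcases Nat.eq_zero_or_pos m with h0 | h0
    · subst h0; rw [zero_mul] at hQ; omega
    · have h1 : A - 1 = (m - 1) * r := by
        rw [Nat.sub_mul, one_mul]
        omega
      rw [h1, Nat.mul_div_cancel _ hr.pos]
      omega
  · simp only [if_neg hd, mul_zero, add_zero, Nat.sub_zero] at hQ ⊢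
    rw [← hQ, Nat.mul_div_cancel _ hr.pos]

end Cfsg.Agent.ProjPrime
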