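import Mathlib

/-!
# The algebra of a regular unipotent element with its adjoint involution
-/

set_option autoImplicit false

namespace Cfsg.Agent.RegUnip

open Polynomial

/-- The minimal polynomial of a regular unipotent element in dimension `2m`. -/
noncomputable abbrev upoly (F : Type*) [Field F] (m : ℕ) : F[X] := (X - C 1) ^ (2 * m)

/-- The algebra generated by a regular unipotent element. -/
abbrev UR (F : Type*) [Field F] (m : ℕ) := AdjoinRoot (upoly F m)

variable (F : Type*) [Field F] (m : ℕ)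

/-- The generator. -/
noncomputable abbrev rt : UR F m := AdjoinRoot.root (upoly F m)

theorem upoly_monic : (upoly F m).Monic := (monic_X_sub_C 1).pow _

theorem finite_ur : Module.Finite F (UR F m) := (upoly_monic F m).finite_adjoinRoot

theorem finrank_ur : Module.finrank F (UR F m) = 2 * m := by
  rw [(AdjoinRoot.powerBasis (upoly_monic F m).ne_zero).finrank, AdjoinRoot.powerBasis_dim,
    natDegree_pow, natDegree_X_sub_C, mul_one]

theorem card_ur [Fintype F] : Nat.card (UR F m) = Fintype.card F ^ (2 * m) := by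
  haveI := finite_ur F m
  rw [Module.natCard_eq_pow_finrank (K := F) (V := UR F m), finrank_ur, Nat.card_eq_fintype_card]

theorem pow_eq_zero : (rt F m - 1) ^ (2 * m) = 0 := by
  have h := AdjoinRoot.eval₂_root (upoly F m)
  simp only [upoly, eval₂_pow, eval₂_sub, eval₂_X, eval₂_C] at h
  have e : AdjoinRoot.of (upoly F m) 1 = 1 := map_one _
  simp only [upoly] at e
  rw [e] at h
  exact h

theorem isNilpotent_sub : IsNilpotent (rt F m - 1) := ⟨2 * m, pow_eq_zero F m⟩

theorem isUnit_rt : IsUnit (rt F m) := by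
  have h := (isNilpotent_sub F m).isUnit_one_add
  rwa [add_sub_cancel] at h

/-- The inverse of the generator. -/
noncomputable def rti : UR F m := ((isUnit_rt F m).unit⁻¹ : (UR F m)ˣ).1

theorem rt_mul_rti : rt F m * rti F m = 1 := (isUnit_rt F m).mul_val_inv

theorem rti_sub_one : rti F m - 1 = -(rti F m * (rt F m - 1)) := by
  rw [mul_sub, mul_one, mul_comm, rt_mul_rti, neg_sub]

theorem rti_root : (upoly F m).eval₂ (algebraMap F (UR F m)) (rti F m) = 0 := by
  simp only [upoly, eval₂_pow, eval₂_sub, eval₂_X, eval₂_C]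
  rw [map_one]
  rw [rti_sub_one, neg_pow, mul_pow, pow_eq_zero, mul_zero, mul_zero]

/-- The adjoint involution. -/
noncomputable def adjo : UR F m →ₐ[F] UR F m :=
  AdjoinRoot.liftAlgHom (upoly F m) (Algebra.ofId F (UR F m)) (rti F m) (rti_root F m)

theorem adjo_rt : adjo F m (rt F m) = rti F m := AdjoinRoot.liftAlgHom_root _ _ _ _

theorem adjo_rti : adjo F m (rti F m) = rt F m := by
  have h := congrArg (adjo F m) (rt_mul_rti F m)
  rw [map_mul, adjo_rt, map_one] at h
  calc adjo F m (rti F m) = rt F m * rti F m * adjo F m (rti F m) := by rw [rt_mul_rti, one_mul]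
    _ = rt F m := by rw [mul_assoc, h, mul_one]

theorem adjo_adjo (z : UR F m) : adjo F m (adjo F m z) = z := by
  have h : (adjo F m).comp (adjo F m) = AlgHom.id F (UR F m) :=
    AdjoinRoot.algHom_ext (by
      show adjo F m (adjo F m (rt F m)) = rt F m
      rw [adjo_rt, adjo_rti])
  exact DFunLike.congr_fun h z

theorem adjo_comm (c : F) : adjo F m (algebraMap F (UR F m) c) = algebraMap F (UR F m) c :=
  (adjo F m).commutes c

variable {m}

theorem res_root (hm : 1 ≤ m) : (upoly F m).eval₂ (algebraMap F F) 1 = 0 := by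
  have : 2 * m ≠ 0 := by omega
  simp [upoly, zero_pow this]

/-- The residue map. -/
noncomputable def res (hm : 1 ≤ m) : UR F m →ₐ[F] F :=
  AdjoinRoot.liftAlgHom (upoly F m) (Algebra.ofId F F) 1 (res_root F hm)

theorem res_rt (hm : 1 ≤ m) : res F hm (rt F m) = 1 := AdjoinRoot.liftAlgHom_root _ _ _ _

theorem res_rti (hm : 1 ≤ m) : res F hm (rti F m) = 1 := by
  have h := congrArg (res F hm) (rt_mul_rti F m)
  rwa [map_mul, res_rt, map_one, one_mul] at h

theorem res_adjo (hm : 1 ≤ m) (z : UR F m) : res F hm (adjo F m z) = res F hm z := by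
  have h : (res F hm).comp (adjo F m) = res F hm :=
    AdjoinRoot.algHom_ext (by
      show res F hm (adjo F m (rt F m)) = res F hm (rt F m)
      rw [adjo_rt, res_rti, res_rt])
  exact DFunLike.congr_fun h z

theorem exists_eq_add (hm : 1 ≤ m) (z : UR F m) :
    ∃ w, z = algebraMap F (UR F m) (res F hm z) + (rt F m - 1) * w := by
  obtain ⟨f, rfl⟩ := AdjoinRoot.mk_surjective z
  obtain ⟨g, hg⟩ := X_sub_C_dvd_sub_C_eval (a := (1 : F)) (p := f)
  refine ⟨AdjoinRoot.mk _ g, ?_⟩
  have h1 : res F hm (AdjoinRoot.mk (upoly F m) f) = f.eval 1 := by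
    refine (AdjoinRoot.liftAlgHom_mk ..).trans ?_
    rfl
  rw [h1, AdjoinRoot.algebraMap_eq, ← AdjoinRoot.mk_C,
    show rt F m - 1 = AdjoinRoot.mk (upoly F m) (X - C 1) by rw [map_sub, AdjoinRoot.mk_X, map_one, map_one],
    ← map_mul, ← map_add, ← hg, add_sub_cancel]

theorem isUnit_iff (hm : 1 ≤ m) (z : UR F m) : IsUnit z ↔ res F hm z ≠ 0 := by
  constructor
  · exact fun h => (h.map (res F hm)).ne_zero
  · intro h
    obtain ⟨w, hw⟩ := exists_eq_add F hm z
    rw [hw]
    exact IsNilpotent.isUnit_add_left_of_commute ((Commute.all _ _).isNilpotent_mul_right (isNilpotent_sub F m))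
      ((isUnit_iff_ne_zero.2 h).map _) (Commute.all _ _)

/-- Every non-zero ideal contains the socle. -/
theorem exists_mul_eq_socle (hm : 1 ≤ m) {z : UR F m} (hz : z ≠ 0) :
    ∃ b, z * b = (rt F m - 1) ^ (2 * m - 1) := by
  suffices h : ∀ k, k ≤ 2 * m → ∀ z : UR F m, z ≠ 0 → (∃ w, z = (rt F m - 1) ^ (2 * m - k) * w) →
      ∃ b, z * b = (rt F m - 1) ^ (2 * m - 1) from
    h (2 * m) le_rfl z hz ⟨z, by rw [Nat.sub_self, pow_zero, one_mul]⟩
  intro k
  induction k with
  | zero =>
    rintro - z hz ⟨w, rfl⟩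
    exact absurd (by rw [Nat.sub_zero, pow_eq_zero, zero_mul]) hz
  | succ k ih =>
    rintro hk z hz ⟨w, rfl⟩
    by_cases hu : res F hm w = 0
    · obtain ⟨w', hw'⟩ := exists_eq_add F hm w
      rw [hu, map_zero, zero_add] at hw'
      refine ih (by omega) _ hz ⟨w', ?_⟩
      rw [hw', ← mul_assoc, ← pow_succ, show 2 * m - (k + 1) + 1 = 2 * m - k by omega]
    · obtain ⟨u, hu'⟩ := (isUnit_iff F hm w).2 hu
      refine ⟨(u⁻¹ : (UR F m)ˣ).1 * (rt F m - 1) ^ k, ?_⟩
      rw [← hu', mul_assoc, Units.mul_inv_cancel_left, ← pow_add,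
        show 2 * m - (k + 1) + k = 2 * m - 1 by omega]

theorem socle_ne_zero (hm : 1 ≤ m) : (rt F m - 1) ^ (2 * m - 1) ≠ 0 := by
  rw [show rt F m - 1 = AdjoinRoot.mk (upoly F m) (X - C 1) by rw [map_sub, AdjoinRoot.mk_X, map_one, map_one],
    ← map_pow, Ne, AdjoinRoot.mk_eq_zero, upoly, pow_dvd_pow_iff (X_sub_C_ne_zero 1) (irreducible_X_sub_C 1).not_isUnit]
  omega

/-! ## The fixed ring -/

/-- The even generator. -/
noncomputable def ygen (F : Type*) [Field F] (m : ℕ) : UR F m := rt F m + rti F m - 2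

/-- The odd generator. -/
noncomputable def sgen (F : Type*) [Field F] (m : ℕ) : UR F m := rt F m - rti F m

theorem adjo_ygen : adjo F m (ygen F m) = ygen F m := by
  rw [ygen, map_sub, map_add, adjo_rt, adjo_rti, map_ofNat, add_comm]

theorem adjo_sgen : adjo F m (sgen F m) = -sgen F m := by
  rw [sgen, map_sub, adjo_rt, adjo_rti, neg_sub]

/-- The parametrisation of the algebra by even and odd parts. -/
noncomputable def par (F : Type*) [Field F] (m : ℕ) : (Fin m → F) × (Fin m → F) →ₗ[F] UR F m where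
  toFun p := ∑ j, (p.1 j • ygen F m ^ (j : ℕ) + p.2 j • (sgen F m * ygen F m ^ (j : ℕ)))
  map_add' p p' := by
    simp only [Prod.fst_add, Prod.snd_add, Pi.add_apply, add_smul, ← Finset.sum_add_distrib]
    exact Finset.sum_congr rfl fun j _ => by abel
  map_smul' c p := by
    simp only [Prod.smul_fst, Prod.smul_snd, Pi.smul_apply, smul_eq_mul, RingHom.id_apply, Finset.smul_sum,
      smul_add, smul_smul]

theorem par_surjective (hm : 1 ≤ m) (h2 : (2 : F) ≠ 0) : Function.Surjective (par F m) := by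
  have hs : ∀ j : ℕ, j < m → ∀ a : F, a • ygen F m ^ j ∈ LinearMap.range (par F m) := by
    intro j hj a
    refine ⟨(Pi.single ⟨j, hj⟩ a, 0), ?_⟩
    simp only [par, LinearMap.coe_mk, AddHom.coe_mk]
    rw [Finset.sum_eq_single ⟨j, hj⟩]
    · simp
    · intro i _ hi; simp [Pi.single_eq_of_ne hi]
    · simp
  have hs' : ∀ j : ℕ, j < m → ∀ a : F, a • (sgen F m * ygen F m ^ j) ∈ LinearMap.range (par F m) := by
    intro j hj a
    refine ⟨(0, Pi.single ⟨j, hj⟩ a), ?_⟩
    simp only [par, LinearMap.coe_mk, AddHom.coe_mk]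
    rw [Finset.sum_eq_single ⟨j, hj⟩]
    · simp
    · intro i _ hi; simp [Pi.single_eq_of_ne hi]
    · simp
  have hy : (rt F m - 1) ^ 2 = rt F m * ygen F m := by
    rw [ygen]
    linear_combination -rt_mul_rti F m
  obtain ⟨v, hv⟩ : ∃ v : (UR F m)ˣ, (v : UR F m) = rti F m * (rt F m + 1) := by
    refine ⟨((isUnit_iff F hm _).2 ?_).unit, rfl⟩
    rw [map_mul, res_rti, one_mul, map_add, res_rt, map_one, one_add_one_eq_two]
    exact h2
  have hsv : sgen F m = (rt F m - 1) * v := by
    rw [hv, sgen]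
    linear_combination -(rt F m) * rt_mul_rti F m
  have key : ∀ k, k ≤ 2 * m → ∀ z, (rt F m - 1) ^ (2 * m - k) * z ∈ LinearMap.range (par F m) := by
    intro k
    induction k with
    | zero => intro _ z; rw [Nat.sub_zero, pow_eq_zero, zero_mul]; exact Submodule.zero_mem _
    | succ k ih =>
      intro hk z
      have hnext : ∀ w, (rt F m - 1) ^ (2 * m - (k + 1)) * ((rt F m - 1) * w) ∈ LinearMap.range (par F m) := by
        intro w
        rw [← mul_assoc, ← pow_succ, show 2 * m - (k + 1) + 1 = 2 * m - k by omega]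
        exact ih (by omega) w
      rcases Nat.even_or_odd' (2 * m - (k + 1)) with ⟨j, hj | hj⟩
      · obtain ⟨w, hw⟩ := exists_eq_add F hm (rt F m ^ j * z)
        obtain ⟨v', hv'⟩ := ((isUnit_rt F m).pow j)
        have e : (rt F m - 1) ^ (2 * m - (k + 1)) * z =
            res F hm (rt F m ^ j * z) • ygen F m ^ j +
              (rt F m - 1) ^ (2 * m - (k + 1)) * ((rt F m - 1) * ((v'⁻¹ : (UR F m)ˣ).1 * w)) := by
          have hp : (rt F m - 1) ^ (2 * m - (k + 1)) = rt F m ^ j * ygen F m ^ j := by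
            rw [hj, pow_mul, hy, mul_pow]
          rw [hp, Algebra.smul_def]
          have h1 : rt F m ^ j * (v'⁻¹ : (UR F m)ˣ).1 = 1 := by rw [← hv', Units.mul_inv]
          linear_combination ygen F m ^ j * hw - ygen F m ^ j * ((rt F m - 1) * w) * h1
        rw [e]
        exact Submodule.add_mem _ (hs j (by omega) _) (hnext _)
      · obtain ⟨w, hw⟩ := exists_eq_add F hm (rt F m ^ j * (v⁻¹ : (UR F m)ˣ).1 * z)
        obtain ⟨v', hv'⟩ := ((isUnit_rt F m).pow j)
        have e : (rt F m - 1) ^ (2 * m - (k + 1)) * z =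
            res F hm (rt F m ^ j * (v⁻¹ : (UR F m)ˣ).1 * z) • (sgen F m * ygen F m ^ j) +
              (rt F m - 1) ^ (2 * m - (k + 1)) * ((rt F m - 1) * ((v'⁻¹ : (UR F m)ˣ).1 * v.1 * w)) := by
          have hp : (rt F m - 1) ^ (2 * m - (k + 1)) = rt F m ^ j * ygen F m ^ j * (rt F m - 1) := by
            rw [hj, pow_succ, pow_mul, hy, mul_pow]
          rw [hp, Algebra.smul_def, hsv]
          have h1 : rt F m ^ j * (v'⁻¹ : (UR F m)ˣ).1 = 1 := by rw [← hv', Units.mul_inv]
          have h3 : v.1 * (v⁻¹ : (UR F m)ˣ).1 = 1 := Units.mul_inv v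
          linear_combination (ygen F m ^ j * (rt F m - 1) * v.1) * hw
            - (ygen F m ^ j * (rt F m - 1) * ((rt F m - 1) * v.1 * w)) * h1
            - (ygen F m ^ j * (rt F m - 1) * rt F m ^ j * z) * h3
        rw [e]
        exact Submodule.add_mem _ (hs' j (by omega) _) (hnext _)
  intro z
  have h := key (2 * m) le_rfl z
  rwa [Nat.sub_self, pow_zero, one_mul] at h

theorem adjo_par (p : (Fin m → F) × (Fin m → F)) : adjo F m (par F m p) = par F m (p.1, -p.2) := by
  simp only [par, LinearMap.coe_mk, AddHom.coe_mk]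
  rw [map_sum]
  refine Finset.sum_congr rfl fun j _ => ?_
  simp [adjo_ygen, adjo_sgen]

theorem res_par (hm : 1 ≤ m) (a : Fin m → F) : res F hm (par F m (a, 0)) = a ⟨0, hm⟩ := by
  simp only [par, LinearMap.coe_mk, AddHom.coe_mk]
  rw [map_sum, Finset.sum_eq_single ⟨0, hm⟩]
  · simp
  · intro j _ hj
    have : (j : ℕ) ≠ 0 := fun h => hj (Fin.ext h)
    simp [ygen, res_rt, res_rti, zero_pow this, one_add_one_eq_two, map_ofNat]
  · simp

variable [Fintype F]

theorem card_fixed_units (hm : 1 ≤ m) (h2 : (2 : F) ≠ 0) :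
    Nat.card {z : UR F m // adjo F m z = z ∧ res F hm z ≠ 0} =
      (Fintype.card F - 1) * Fintype.card F ^ (m - 1) := by
  classical
  haveI := finite_ur F m
  haveI : Finite (UR F m) := Module.finite_of_finite F
  have hbij : Function.Bijective (par F m) := ⟨(LinearMap.injective_iff_surjective_of_finrank_eq_finrank (by
    rw [Module.finrank_prod, Module.finrank_fin_fun, finrank_ur]; omega)).2 (par_surjective F hm h2),
    par_surjective F hm h2⟩
  let e : {a : Fin m → F // a ⟨0, hm⟩ ≠ 0} ≃ {z : UR F m // adjo F m z = z ∧ res F hm z ≠ 0} :=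
    Equiv.ofBijective (fun a => ⟨par F m (a.1, 0), by rw [adjo_par, neg_zero], by rw [res_par]; exact a.2⟩) ⟨by
      intro a b h
      exact Subtype.ext (congrArg Prod.fst (hbij.1 (congrArg Subtype.val h))), by
      rintro ⟨z, hz, hz'⟩
      obtain ⟨⟨a, b⟩, rfl⟩ := hbij.2 z
      rw [adjo_par] at hz
      have hb : b = 0 := by
        have h := congrArg Prod.snd (hbij.1 hz)
        funext j
        have hj := congrFun h j
        simp only [Pi.neg_apply] at hj
        have : (2 : F) * b j = 0 := by linear_combination -hj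
        exact (mul_eq_zero.1 this).resolve_left h2
      subst hb
      exact ⟨⟨a, by rwa [res_par] at hz'⟩, rfl⟩⟩
  rw [← Nat.card_congr e]
  obtain ⟨k, rfl⟩ : ∃ k, m = k + 1 := ⟨m - 1, by omega⟩
  rw [Nat.card_congr ((Fin.consEquiv (fun _ => F)).symm.subtypeEquiv (q := fun y => y.1 ≠ 0)
      (p := fun a : Fin (k + 1) → F => a ⟨0, hm⟩ ≠ 0) fun a => Iff.rfl),
    Nat.card_congr (Equiv.prodSubtypeFstEquivSubtypeProd (p := fun a : F => a ≠ 0)),
    Nat.card_prod, Nat.card_fun, ← Nat.card_congr unitsEquivNeZero, Nat.card_units,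
    Nat.card_eq_fintype_card (α := F), Nat.card_fin, Nat.add_sub_cancel]

theorem card_units_ur (hm : 1 ≤ m) :
    Nat.card {z : UR F m // res F hm z ≠ 0} = Fintype.card F ^ (2 * m) - Fintype.card F ^ (2 * m - 1) := by
  classical
  haveI := finite_ur F m
  haveI : Finite (UR F m) := Module.finite_of_finite F
  have hsurj : Function.Surjective (res F hm).toLinearMap := fun c => ⟨algebraMap F _ c, (res F hm).commutes c⟩
  have hker : Module.finrank F (LinearMap.ker (res F hm).toLinearMap) = 2 * m - 1 := by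
    have h := (res F hm).toLinearMap.finrank_range_add_finrank_ker
    rw [LinearMap.range_eq_top.2 hsurj, finrank_top, Module.finrank_self, finrank_ur] at h
    omega
  have hk : Nat.card {z : UR F m // res F hm z = 0} = Fintype.card F ^ (2 * m - 1) := by
    rw [show Nat.card {z : UR F m // res F hm z = 0} = Nat.card (LinearMap.ker (res F hm).toLinearMap) from rfl,
      Module.natCard_eq_pow_finrank (K := F) (V := LinearMap.ker (res F hm).toLinearMap), hker,
      Nat.card_eq_fintype_card]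
  letI := Fintype.ofFinite (UR F m)
  rw [Nat.card_eq_fintype_card, Fintype.card_subtype_compl, ← Nat.card_eq_fintype_card,
    ← Nat.card_eq_fintype_card, card_ur, hk]

theorem exists_sqrt_one (hm : 1 ≤ m) (h2 : (2 : F) ≠ 0) {z : UR F m} (hz : adjo F m z = z)
    (h1 : res F hm z = 1) : ∃ y, y * adjo F m y = z ∧ res F hm y ≠ 0 := by
  classical
  obtain ⟨p, hp⟩ := CharP.exists F
  obtain ⟨E, hpp, -⟩ := FiniteField.card F p
  haveI := Fact.mk hpp
  haveI : CharP (UR F m) p := by
    haveI : Nontrivial (UR F m) := ⟨⟨_, 0, socle_ne_zero F hm⟩⟩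
    exact charP_of_injective_algebraMap (algebraMap F (UR F m)).injective p
  obtain ⟨w, hw⟩ := exists_eq_add F hm z
  rw [h1, map_one] at hw
  have hnil : ((rt F m - 1) * w) ^ p ^ (2 * m) = 0 := by
    have h : 2 * m ≤ p ^ (2 * m) := (Nat.lt_pow_self hpp.one_lt).le
    rw [mul_pow, show p ^ (2 * m) = 2 * m + (p ^ (2 * m) - 2 * m) by omega, pow_add, pow_eq_zero,
      zero_mul, zero_mul]
  have hN : z ^ p ^ (2 * m) = 1 := by rw [hw, add_pow_char_pow, one_pow, hnil, add_zero]
  have hodd : Odd (p ^ (2 * m)) := (hpp.odd_of_ne_two fun h => h2 (by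
    have := CharP.cast_eq_zero F p
    rw [h] at this
    exact_mod_cast this)).pow
  obtain ⟨t, ht⟩ := hodd
  refine ⟨z ^ (t + 1), ?_, ?_⟩
  · rw [map_pow, hz, ← pow_add, show t + 1 + (t + 1) = p ^ (2 * m) + 1 by omega, pow_succ, hN, one_mul]
  · rw [map_pow, h1, one_pow]
    exact one_ne_zero

theorem norm_dichotomy (hm : 1 ≤ m) (h2 : (2 : F) ≠ 0) {ν : F} (hν : ¬ IsSquare ν) {z : UR F m}
    (hz : adjo F m z = z) (h0 : res F hm z ≠ 0) :
    (∃ y, y * adjo F m y = z ∧ res F hm y ≠ 0) ∨
      ∃ y, algebraMap F (UR F m) ν * (y * adjo F m y) = z ∧ res F hm y ≠ 0 := by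
  classical
  have hν0 : ν ≠ 0 := fun h => hν (h ▸ IsSquare.zero)
  obtain ⟨c, hc0, hc⟩ : ∃ c : F, c ≠ 0 ∧ (res F hm z = c * c ∨ res F hm z = ν * (c * c)) := by
    by_cases hs : IsSquare (res F hm z)
    · obtain ⟨c, hc⟩ := hs
      exact ⟨c, fun h => h0 (by rw [hc, h, mul_zero]), Or.inl hc⟩
    · have hrc : ringChar F ≠ 2 := fun h => h2 (by
        haveI := ringChar.charP F
        have := CharP.cast_eq_zero F (ringChar F)
        rw [h] at this
        exact_mod_cast this)
      have hq : quadraticChar F (res F hm z / ν) = 1 := by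
        rw [div_eq_mul_inv, map_mul, quadraticChar_neg_one_iff_not_isSquare.2 hs,
          quadraticChar_neg_one_iff_not_isSquare.2 (fun h => hν (by simpa using h.inv))]
        norm_num
      obtain ⟨c, hc⟩ := (quadraticChar_one_iff_isSquare (div_ne_zero h0 hν0)).1 hq
      refine ⟨c, fun h => div_ne_zero h0 hν0 (by rw [hc, h, mul_zero]), Or.inr ?_⟩
      rw [← hc, mul_div_cancel₀ _ hν0]
  have key : ∀ d : F, d ≠ 0 → res F hm z = d * (c * c) →
      ∃ y, algebraMap F (UR F m) d * (y * adjo F m y) = z ∧ res F hm y ≠ 0 := by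
    intro d hd he
    obtain ⟨y, hy, hy0⟩ := exists_sqrt_one F hm h2 (z := algebraMap F (UR F m) (d * (c * c))⁻¹ * z)
      (by rw [map_mul, adjo_comm, hz])
      (by rw [map_mul, AlgHom.commutes, Algebra.algebraMap_self_apply, he,
        inv_mul_cancel₀ (mul_ne_zero hd (mul_ne_zero hc0 hc0))])
    refine ⟨algebraMap F (UR F m) c * y, ?_, by
      rw [map_mul, AlgHom.commutes, Algebra.algebraMap_self_apply]; exact mul_ne_zero hc0 hy0⟩
    have he' : algebraMap F (UR F m) (d * (c * c)) * algebraMap F (UR F m) (d * (c * c))⁻¹ = 1 := by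
      rw [← map_mul, mul_inv_cancel₀ (mul_ne_zero hd (mul_ne_zero hc0 hc0)), map_one]
    rw [map_mul, map_mul] at he'
    rw [map_mul, adjo_comm]
    linear_combination (algebraMap F (UR F m) d * (algebraMap F (UR F m) c * algebraMap F (UR F m) c)) * hy + z * he'
  rcases hc with hc | hc
  · left
    obtain ⟨y, hy, hy0⟩ := key 1 one_ne_zero (by rw [one_mul, hc])
    exact ⟨y, by rw [map_one, one_mul] at hy; exact hy, hy0⟩
  · exact Or.inr (key ν hν0 hc)

theorem nonsquare_not_norm (hm : 1 ≤ m) {ν : F} (hν : ¬ IsSquare ν) (y : UR F m) :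
    y * adjo F m y ≠ algebraMap F (UR F m) ν := by
  intro h
  apply hν
  refine ⟨res F hm y, ?_⟩
  have h' := congrArg (res F hm) h
  rwa [map_mul, res_adjo, AlgHom.commutes, Algebra.algebraMap_self_apply, eq_comm] at h'

theorem card_norm_one (hm : 1 ≤ m) (h2 : (2 : F) ≠ 0) :
    Nat.card {y : UR F m // y * adjo F m y = 1} = 2 * Fintype.card F ^ m := by
  classical
  haveI := finite_ur F m
  haveI : Finite (UR F m) := Module.finite_of_finite F
  obtain ⟨ν, hν⟩ := FiniteField.exists_nonsquare (F := F) (fun h => h2 (by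
    haveI := ringChar.charP F
    have := CharP.cast_eq_zero F (ringChar F)
    rw [h] at this
    exact_mod_cast this))
  have hν0 : ν ≠ 0 := fun h => hν (h ▸ IsSquare.zero)
  set U := {y : UR F m // res F hm y ≠ 0}
  set W := {z : UR F m // ∃ y, y * adjo F m y = z ∧ res F hm y ≠ 0}
  set S := {z : UR F m // adjo F m z = z ∧ res F hm z ≠ 0}
  have hWS : Nat.card S = 2 * Nat.card W := by
    let Φ : W ⊕ W → S := Sum.elim
      (fun w => ⟨w.1, by
        obtain ⟨y, hy, hy0⟩ := w.2
        rw [← hy]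
        exact ⟨by rw [map_mul, adjo_adjo, mul_comm], by
          rw [map_mul, res_adjo]; exact mul_ne_zero hy0 hy0⟩⟩)
      (fun w => ⟨algebraMap F (UR F m) ν * w.1, by
        obtain ⟨y, hy, hy0⟩ := w.2
        rw [← hy]
        exact ⟨by rw [map_mul, map_mul, adjo_adjo, adjo_comm, mul_comm y], by
          rw [map_mul, map_mul, res_adjo, AlgHom.commutes, Algebra.algebraMap_self_apply]
          exact mul_ne_zero hν0 (mul_ne_zero hy0 hy0)⟩⟩)
    have hno : ∀ w w' : W, w.1 ≠ algebraMap F (UR F m) ν * w'.1 := by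
      intro w w' h
      obtain ⟨y, hy, hy0⟩ := w.2
      obtain ⟨y', hy', hy0'⟩ := w'.2
      rw [← hy, ← hy'] at h
      apply hν
      refine ⟨res F hm y / res F hm y', ?_⟩
      have h' := congrArg (res F hm) h
      rw [map_mul, map_mul, map_mul, res_adjo, res_adjo, AlgHom.commutes, Algebra.algebraMap_self_apply] at h'
      field_simp
      linear_combination -h'
    have hbij : Function.Bijective Φ := by
      constructor
      · rintro (a | a) (b | b) h <;> have h' := congrArg Subtype.val h <;> simp only [Φ, Sum.elim_inl, Sum.elim_inr] at h'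
        · exact congrArg Sum.inl (Subtype.ext h')
        · exact absurd h' (hno a b)
        · exact absurd h'.symm (hno b a)
        · exact congrArg Sum.inr (Subtype.ext (((isUnit_iff_ne_zero.2 hν0).map (algebraMap F (UR F m))).mul_left_cancel h'))
      · rintro ⟨z, hz, h0⟩
        rcases norm_dichotomy F hm h2 hν hz h0 with h | ⟨y, hy, hy0⟩
        · exact ⟨Sum.inl ⟨z, h⟩, rfl⟩
        · exact ⟨Sum.inr ⟨y * adjo F m y, y, rfl, hy0⟩, Subtype.ext hy⟩
    rw [← Nat.card_eq_of_bijective Φ hbij, Nat.card_sum, two_mul]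
  have hfib : Nat.card U = Nat.card W * Nat.card {y : UR F m // y * adjo F m y = 1} := by
    let N : U → W := fun y => ⟨y.1 * adjo F m y.1, y.1, rfl, y.2⟩
    rw [← Nat.card_congr (Equiv.sigmaFiberEquiv N)]
    letI := Fintype.ofFinite W
    rw [Nat.card_sigma, Finset.sum_congr rfl (g := fun _ => Nat.card {y : UR F m // y * adjo F m y = 1}) ?_,
      Finset.sum_const, Finset.card_univ, smul_eq_mul, ← Nat.card_eq_fintype_card]
    intro w _
    obtain ⟨y₀, hy₀, hy0⟩ := w.2
    obtain ⟨u, hu⟩ := (isUnit_iff F hm y₀).2 hy0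
    symm
    refine Nat.card_eq_of_bijective (fun k => ⟨⟨y₀ * k.1, ?_⟩, Subtype.ext ?_⟩) ⟨?_, ?_⟩
    · rw [map_mul]
      refine mul_ne_zero hy0 fun h => ?_
      have h' := congrArg (res F hm) k.2
      rw [map_mul, h, zero_mul, map_one] at h'
      exact zero_ne_one h'
    · show y₀ * k.1 * adjo F m (y₀ * k.1) = w.1
      rw [← hy₀, map_mul]
      linear_combination (y₀ * adjo F m y₀) * k.2
    · intro a b h
      have h' : y₀ * a.1 = y₀ * b.1 := congrArg (fun x => x.1.1) h
      exact Subtype.ext ((hu ▸ u.isUnit : IsUnit y₀).mul_left_cancel h')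
    · rintro ⟨⟨y, hy⟩, hw⟩
      have hw' : y * adjo F m y = w.1 := congrArg Subtype.val hw
      refine ⟨⟨(u⁻¹ : (UR F m)ˣ).1 * y, ?_⟩, Subtype.ext (Subtype.ext ?_)⟩
      · have h1 : u.1 * (u⁻¹ : (UR F m)ˣ).1 = 1 := Units.mul_inv u
        have h2' : adjo F m u.1 * adjo F m (u⁻¹ : (UR F m)ˣ).1 = 1 := by rw [← map_mul, h1, map_one]
        rw [map_mul]
        rw [← hy₀, ← hu] at hw'
        linear_combination ((u⁻¹ : (UR F m)ˣ).1 * adjo F m (u⁻¹ : (UR F m)ˣ).1) * hw' +
          (adjo F m u.1 * adjo F m (u⁻¹ : (UR F m)ˣ).1) * h1 + h2'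
      · show y₀ * ((u⁻¹ : (UR F m)ˣ).1 * y) = y
        rw [← hu, Units.mul_inv_cancel_left]
  rw [card_units_ur F hm] at hfib
  rw [card_fixed_units F hm h2] at hWS
  set q := Fintype.card F
  have hq : 2 ≤ q := Fintype.one_lt_card
  obtain ⟨k, rfl⟩ : ∃ k, m = k + 1 := ⟨m - 1, by omega⟩
  rw [Nat.add_sub_cancel] at hWS
  have e1 : q ^ (2 * (k + 1)) - q ^ (2 * (k + 1) - 1) = (q - 1) * q ^ k * q ^ (k + 1) := by
    rw [show 2 * (k + 1) - 1 = k + (k + 1) by omega, show 2 * (k + 1) = k + (k + 1) + 1 by omega, pow_succ,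
      mul_assoc, ← pow_add, Nat.sub_mul, one_mul, mul_comm q]
  rw [e1, hWS] at hfib
  have hW : 0 < Nat.card W := by
    rcases Nat.eq_zero_or_pos (Nat.card W) with h | h
    · rw [h, mul_zero] at hWS
      rcases mul_eq_zero.1 hWS with h' | h'
      · omega
      · exact absurd h' (pow_ne_zero _ (by omega))
    · exact h
  exact (Nat.eq_of_mul_eq_mul_left hW (by rw [← hfib]; ring)).symm

end Cfsg.Agent.RegUnip
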