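import Cfsg.Agent.MatModule.RegUnipRing
import Cfsg.Agent.MatModule.SympConj
import Cfsg.Agent.Classical.SympGroup

/-!
# Regular unipotent elements of the symplectic group in odd characteristic
-/

set_option autoImplicit false

namespace Cfsg.Agent.RegUnip

open Polynomial Cfsg.Agent.Classical

variable {F : Type*} [Field F] {m : ℕ}

/-- A skew non-degenerate functional. -/
def IsSkew (φ : UR F m →ₗ[F] F) : Prop :=
  (∀ z, φ (adjo F m z) = -φ z) ∧ ∀ z, z ≠ 0 → ∃ b, φ (z * b) ≠ 0

/-- A symplectic matrix is described by a functional. -/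
def HasDatum (u : Matrix.symplecticGroup (Fin m) F) (φ : UR F m →ₗ[F] F) : Prop :=
  IsSkew φ ∧ ∃ L : UR F m ≃ₗ[F] (Fin m ⊕ Fin m → F),
    (∀ a, L (rt F m * a) = Matrix.mulVec u.1 (L a)) ∧
    ∀ a b, sympB m F (L a) (L b) = φ (a * adjo F m b)

theorem adjo_socle (hm : 1 ≤ m) :
    adjo F m ((rt F m - 1) ^ (2 * m - 1)) = -(rt F m - 1) ^ (2 * m - 1) := by
  rw [map_pow, map_sub, adjo_rt, map_one, rti_sub_one, neg_pow, mul_pow,
    Odd.neg_one_pow ⟨m - 1, by omega⟩, neg_one_mul, neg_inj]
  have hx : rt F m * (rt F m - 1) ^ (2 * m - 1) = (rt F m - 1) ^ (2 * m - 1) := by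
    have h : (rt F m - 1) * (rt F m - 1) ^ (2 * m - 1) = 0 := by
      rw [← pow_succ', show 2 * m - 1 + 1 = 2 * m by omega, pow_eq_zero]
    linear_combination h
  have hx2 : rti F m * (rt F m - 1) ^ (2 * m - 1) = (rt F m - 1) ^ (2 * m - 1) := by
    conv_lhs => rw [← hx]
    rw [← mul_assoc, mul_comm (rti F m), rt_mul_rti, one_mul]
  generalize 2 * m - 1 = k at hx2 ⊢
  suffices h : ∀ j, rti F m ^ j * (rt F m - 1) ^ k = (rt F m - 1) ^ k from h k
  intro j
  induction j with
  | zero => rw [pow_zero, one_mul]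
  | succ j ih => rw [pow_succ, mul_assoc, hx2, ih]

theorem exists_skew (hm : 1 ≤ m) (h2 : (2 : F) ≠ 0) : ∃ φ : UR F m →ₗ[F] F, IsSkew φ := by
  obtain ⟨ψ, hψ⟩ : ∃ ψ : Module.Dual F (UR F m), ψ ((rt F m - 1) ^ (2 * m - 1)) ≠ 0 := by
    by_contra h
    push Not at h
    exact socle_ne_zero F hm ((Module.forall_dual_apply_eq_zero_iff F _).1 h)
  refine ⟨ψ - ψ.comp (adjo F m).toLinearMap, fun z => ?_, fun z hz => ?_⟩
  · simp [adjo_adjo]
  · obtain ⟨b, hb⟩ := exists_mul_eq_socle F hm hz
    refine ⟨b, ?_⟩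
    rw [hb, LinearMap.sub_apply, LinearMap.comp_apply, AlgHom.toLinearMap_apply, adjo_socle hm, map_neg,
      sub_neg_eq_add, ← two_mul]
    exact mul_ne_zero h2 hψ

theorem exists_twist [Fintype F] {φ φ' : UR F m →ₗ[F] F} (hφ : IsSkew φ) (hφ' : IsSkew φ') (hm : 1 ≤ m) :
    ∃ w, adjo F m w = w ∧ res F hm w ≠ 0 ∧ ∀ z, φ' z = φ (w * z) := by
  haveI := finite_ur F m
  let T : UR F m →ₗ[F] Module.Dual F (UR F m) :=
    LinearMap.mk₂ F (fun w z => φ (w * z)) (fun a b z => by rw [add_mul, map_add])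
      (fun c a z => by rw [smul_mul_assoc, map_smul]) (fun a b z => by rw [mul_add, map_add])
      (fun c a z => by rw [mul_smul_comm, map_smul])
  have hinj : Function.Injective T := by
    rw [injective_iff_map_eq_zero]
    intro w hw
    by_contra h
    obtain ⟨b, hb⟩ := hφ.2 w h
    exact hb (LinearMap.congr_fun hw b)
  obtain ⟨w, hw⟩ := (LinearMap.injective_iff_surjective_of_finrank_eq_finrank
    Subspace.dual_finrank_eq.symm).1 hinj φ'
  have hwz : ∀ z, φ' z = φ (w * z) := fun z => (LinearMap.congr_fun hw z).symm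
  have hfix : adjo F m w = w := by
    refine hinj (LinearMap.ext fun z => ?_)
    show φ (adjo F m w * z) = φ (w * z)
    have h := hφ.1 (w * adjo F m z)
    rw [map_mul, adjo_adjo, ← hwz, hφ'.1, neg_neg, hwz] at h
    exact h
  refine ⟨w, hfix, fun h0 => ?_, hwz⟩
  obtain ⟨v, hv⟩ := exists_eq_add F hm w
  rw [h0, map_zero, zero_add] at hv
  obtain ⟨b, hb⟩ := hφ'.2 ((rt F m - 1) ^ (2 * m - 1)) (socle_ne_zero F hm)
  rw [hwz, hv, mul_mul_mul_comm, ← pow_succ', show 2 * m - 1 + 1 = 2 * m by omega, pow_eq_zero, zero_mul,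
    map_zero] at hb
  exact hb rfl

theorem isSkew_smul {φ : UR F m →ₗ[F] F} (hφ : IsSkew φ) {ν : F} (hν : ν ≠ 0) : IsSkew (ν • φ) := by
  refine ⟨fun z => ?_, fun z hz => ?_⟩
  · simp [hφ.1 z]
  · obtain ⟨b, hb⟩ := hφ.2 z hz
    exact ⟨b, by simp [hν, hb]⟩

/-- Regular unipotent. -/
def IsRegUnip (u : Matrix.symplecticGroup (Fin m) F) : Prop :=
  (u.1 - 1) ^ (2 * m) = 0 ∧ (u.1 - 1).rank = 2 * m - 1

theorem exists_realization [Fintype F] (hm : 1 ≤ m) {φ : UR F m →ₗ[F] F} (hφ : IsSkew φ)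
    (h2 : (2 : F) ≠ 0) : ∃ u : Matrix.symplecticGroup (Fin m) F, HasDatum u φ ∧ IsRegUnip u := by
  classical
  haveI := finite_ur F m
  let T : LinearMap.BilinForm F (UR F m) :=
    LinearMap.mk₂ F (fun a b => φ (a * adjo F m b)) (fun a b z => by rw [add_mul, map_add])
      (fun c a z => by rw [smul_mul_assoc, map_smul]) (fun a b z => by rw [map_add, mul_add, map_add])
      (fun c a z => by rw [map_smul, mul_smul_comm, map_smul])
  have hT : ∀ a b, T a b = φ (a * adjo F m b) := fun a b => rfl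
  have hTalt : ∀ a, T a a = 0 := fun a => by
    have h := hφ.1 (a * adjo F m a)
    rw [map_mul, adjo_adjo, mul_comm] at h
    have h' : (2 : F) * φ (a * adjo F m a) = 0 := by linear_combination h
    exact (mul_eq_zero.1 h').resolve_left h2
  have hTsep : ∀ a, (∀ b, T a b = 0) → a = 0 := fun a ha => by
    by_contra h
    obtain ⟨b, hb⟩ := hφ.2 a h
    have h' := ha (adjo F m b)
    rw [hT, adjo_adjo] at h'
    exact hb h'
  let L₀ : UR F m ≃ₗ[F] (Fin m ⊕ Fin m → F) := LinearEquiv.ofFinrankEq _ _ (by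
    rw [finrank_ur, finrank_symp])
  obtain ⟨y, hy⟩ := SympConj.exists_isometry (B := sympB m F) (B' := T.comp L₀.symm.toLinearMap L₀.symm.toLinearMap)
    sympB_isAlt (fun x hx => sympB_nondeg.1 x hx) (fun x => hTalt (L₀.symm x))
    (fun x hx => L₀.symm.map_eq_zero_iff.1 (hTsep _ fun z => by
      have h2 := hx (L₀ z)
      simpa using h2))
  have hyT : ∀ a b, sympB m F (y (L₀ a)) (y (L₀ b)) = T a b := fun a b => by
    rw [hy]; simp
  have hinj : Function.Injective (fun a => y (L₀ a)) := by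
    intro a b hab
    refine sub_eq_zero.1 (hTsep _ fun z => ?_)
    rw [← hyT, map_sub, map_sub, show y (L₀ a) = y (L₀ b) from hab, sub_self, map_zero,
      LinearMap.zero_apply]
  let L : UR F m ≃ₗ[F] (Fin m ⊕ Fin m → F) := LinearEquiv.ofBijective (y ∘ₗ L₀.toLinearMap) ⟨hinj,
    (LinearMap.injective_iff_surjective_of_finrank_eq_finrank L₀.finrank_eq).1 hinj⟩
  have hLT : ∀ a b, sympB m F (L a) (L b) = φ (a * adjo F m b) := fun a b => (hyT a b).trans (hT a b)
  let M : Module.End F (Fin m ⊕ Fin m → F) :=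
    L.toLinearMap ∘ₗ (LinearMap.mulLeft F (rt F m)) ∘ₗ L.symm.toLinearMap
  have hM : ∀ a, M (L a) = L (rt F m * a) := fun a => by simp [M]
  have hu : LinearMap.toMatrix' M ∈ Matrix.symplecticGroup (Fin m) F := by
    rw [mem_symplectic_iff]
    intro x z
    rw [LinearMap.toMatrix'_mulVec, LinearMap.toMatrix'_mulVec]
    obtain ⟨a, rfl⟩ := L.surjective x
    obtain ⟨b, rfl⟩ := L.surjective z
    rw [hM, hM, hLT, hLT, map_mul (adjo F m), adjo_rt]
    congr 1
    linear_combination (a * adjo F m b) * rt_mul_rti F m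
  refine ⟨⟨_, hu⟩, ⟨hφ, L, fun a => ?_, hLT⟩, ?_⟩
  · rw [LinearMap.toMatrix'_mulVec, hM]
  · have hN : Matrix.toLin' (LinearMap.toMatrix' M - 1) =
        L.toLinearMap ∘ₗ (LinearMap.mulLeft F (rt F m - 1)) ∘ₗ L.symm.toLinearMap := by
      refine LinearMap.ext fun x => ?_
      obtain ⟨a, rfl⟩ := L.surjective x
      simp [M, Matrix.toLin'_apply, Matrix.sub_mulVec, LinearMap.toMatrix'_mulVec, sub_mul]
    refine ⟨Matrix.toLin'.injective ?_, ?_⟩
    · rw [Matrix.toLin'_pow, hN, map_zero]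
      have hpow : ∀ k a, ((L.toLinearMap ∘ₗ (LinearMap.mulLeft F (rt F m - 1)) ∘ₗ L.symm.toLinearMap :
          Module.End F (Fin m ⊕ Fin m → F)) ^ k) (L a) = L ((rt F m - 1) ^ k * a) := by
        intro k
        induction k with
        | zero => intro a; simp
        | succ k ih => intro a; rw [pow_succ', Module.End.mul_apply, ih]; simp [pow_succ', mul_assoc]
      refine LinearMap.ext fun x => ?_
      obtain ⟨a, rfl⟩ := L.surjective x
      rw [hpow, pow_eq_zero, zero_mul, map_zero, LinearMap.zero_apply]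
    · suffices key : Module.finrank F (LinearMap.range (L.toLinearMap ∘ₗ (LinearMap.mulLeft F (rt F m - 1)) ∘ₗ
          L.symm.toLinearMap)) = 2 * m - 1 by
        rw [← hN] at key
        exact key
      rw [LinearMap.range_comp, LinearEquiv.finrank_map_eq, LinearMap.range_comp, LinearEquiv.range,
        Submodule.map_top]
      have hr : LinearMap.range (LinearMap.mulLeft F (rt F m - 1)) = LinearMap.ker (res F hm).toLinearMap := by
        ext z
        constructor
        · rintro ⟨a, rfl⟩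
          simp [res_rt]
        · intro hz
          obtain ⟨w, hw⟩ := exists_eq_add F hm z
          rw [show res F hm z = 0 from hz, map_zero, zero_add] at hw
          exact ⟨w, hw.symm⟩
      rw [hr]
      have h := (res F hm).toLinearMap.finrank_range_add_finrank_ker
      rw [LinearMap.range_eq_top.2 (fun c => ⟨algebraMap F _ c, (res F hm).commutes c⟩), finrank_top,
        Module.finrank_self, finrank_ur] at h
      omega

theorem exists_datum (hm : 1 ≤ m) (u : Matrix.symplecticGroup (Fin m) F) (hu : IsRegUnip u) :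
    ∃ φ, HasDatum u φ := by
  classical
  haveI := finite_ur F m
  set T : Module.End F (Fin m ⊕ Fin m → F) := Matrix.toLin' u.1 with hTdef
  set N : Module.End F (Fin m ⊕ Fin m → F) := T - 1 with hNdef
  have hN : N = Matrix.toLin' (u.1 - 1) := by rw [hNdef, map_sub, Matrix.toLin'_one]; rfl
  have hN2 : N ^ (2 * m) = 0 := by rw [hN, ← Matrix.toLin'_pow, hu.1, map_zero]
  have hr : Module.finrank F (LinearMap.range N) = 2 * m - 1 := by rw [hN]; exact hu.2
  have hk : Module.finrank F (LinearMap.ker N) = 1 := by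
    have h := N.finrank_range_add_finrank_ker
    rw [hr, finrank_symp] at h
    omega
  have hker : ∀ k, Module.finrank F (LinearMap.ker (N ^ k)) ≤ k := by
    intro k
    induction k with
    | zero => rw [pow_zero, Module.End.one_eq_id, LinearMap.ker_id, finrank_bot]
    | succ k ih =>
      let r : LinearMap.ker (N ^ (k + 1)) →ₗ[F] LinearMap.ker (N ^ k) :=
        (N.comp (Submodule.subtype _)).codRestrict _ fun x => by
          rw [LinearMap.mem_ker, LinearMap.comp_apply, ← Module.End.mul_apply, ← pow_succ]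
          exact x.2
      have h := r.finrank_range_add_finrank_ker
      have h1 : Module.finrank F (LinearMap.ker r) ≤ 1 := by
        refine le_of_le_of_eq ?_ hk
        refine LinearMap.finrank_le_finrank_of_injective (f := ((Submodule.subtype _).comp
          (Submodule.subtype _)).codRestrict (LinearMap.ker N) (fun x => congrArg Subtype.val x.2)) ?_
        intro a b hab
        exact Subtype.ext (Subtype.ext (congrArg Subtype.val hab :))
      have h2 := Submodule.finrank_le (LinearMap.range r)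
      omega
  obtain ⟨v, hv⟩ : ∃ v, (N ^ (2 * m - 1)) v ≠ 0 := by
    by_contra hne
    push Not at hne
    have h := hker (2 * m - 1)
    rw [LinearMap.ker_eq_top.2 (LinearMap.ext hne), finrank_top, finrank_symp] at h
    omega
  have hann : aeval T (upoly F m) = 0 := by
    rw [map_pow, map_sub, aeval_X, aeval_C, map_one]
    exact hN2
  set L₁ : UR F m →ₗ[F] (Fin m ⊕ Fin m → F) :=
    (LinearMap.applyₗ v).comp ((aeval T).toLinearMap.comp (AdjoinRoot.modByMonicHom (upoly_monic F m)))
    with hL₁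
  have hmk : ∀ f, L₁ (AdjoinRoot.mk (upoly F m) f) = aeval T f v := by
    intro f
    show aeval T (AdjoinRoot.modByMonicHom (upoly_monic F m) (AdjoinRoot.mk (upoly F m) f)) v = _
    rw [AdjoinRoot.modByMonicHom_mk]
    conv_rhs => rw [← modByMonic_add_div f (upoly F m)]
    rw [map_add, map_mul, hann, zero_mul, add_zero]
  have hinj : Function.Injective L₁ := by
    rw [injective_iff_map_eq_zero]
    intro z hz
    by_contra h
    obtain ⟨b, hb⟩ := exists_mul_eq_socle F hm h
    obtain ⟨f, rfl⟩ := AdjoinRoot.mk_surjective z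
    obtain ⟨g, rfl⟩ := AdjoinRoot.mk_surjective b
    rw [hmk] at hz
    have h' := congrArg L₁ hb
    rw [← map_mul, mul_comm, hmk, map_mul, Module.End.mul_apply, hz, map_zero,
      show rt F m - 1 = AdjoinRoot.mk (upoly F m) (X - C 1) by
        rw [map_sub, AdjoinRoot.mk_X, map_one, map_one], ← map_pow, hmk, map_pow, map_sub, aeval_X,
      aeval_C, map_one] at h'
    exact hv h'.symm
  let L : UR F m ≃ₗ[F] (Fin m ⊕ Fin m → F) := LinearEquiv.ofBijective L₁ ⟨hinj,
    (LinearMap.injective_iff_surjective_of_finrank_eq_finrank (by rw [finrank_ur, finrank_symp])).1 hinj⟩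
  have hLr : ∀ a, L (rt F m * a) = Matrix.mulVec u.1 (L a) := by
    intro a
    obtain ⟨f, rfl⟩ := AdjoinRoot.mk_surjective a
    show L₁ _ = Matrix.mulVec u.1 (L₁ _)
    rw [show rt F m = AdjoinRoot.mk (upoly F m) X from AdjoinRoot.mk_X.symm, ← map_mul, hmk, hmk, map_mul, aeval_X, Module.End.mul_apply, hTdef,
      Matrix.toLin'_apply]
  have hrt : ∀ a b, sympB m F (L (rt F m * a)) (L b) = sympB m F (L a) (L (rti F m * b)) := by
    intro a b
    conv_lhs => rw [show b = rt F m * (rti F m * b) by rw [← mul_assoc, rt_mul_rti, one_mul]]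
    rw [hLr, hLr]
    exact (mem_symplectic_iff u.1).1 u.2 _ _
  have hadj : ∀ (f : F[X]) (a b : UR F m), sympB m F (L (AdjoinRoot.mk _ f * a)) (L b) =
      sympB m F (L a) (L (adjo F m (AdjoinRoot.mk _ f) * b)) := by
    intro f
    induction f using Polynomial.induction_on with
    | C c =>
      intro a b
      rw [AdjoinRoot.mk_C, ← AdjoinRoot.algebraMap_eq, adjo_comm, ← Algebra.smul_def, ← Algebra.smul_def,
        map_smul L, map_smul L, map_smul (sympB m F), LinearMap.smul_apply, map_smul (sympB m F (L a))]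
    | add f g hf hg => intro a b; simp [add_mul, map_add, hf, hg]
    | monomial k c ih =>
      intro a b
      rw [show C c * X ^ (k + 1) = C c * X ^ k * X by ring, map_mul (AdjoinRoot.mk (upoly F m)) (C c * X ^ k) X,
        AdjoinRoot.mk_X, mul_assoc, ih, hrt, map_mul (adjo F m), adjo_rt, mul_comm _ (rti F m), mul_assoc]
  let φ : UR F m →ₗ[F] F := ((sympB m F).flip (L 1)).comp L.toLinearMap
  have hφ : ∀ z, φ z = sympB m F (L z) (L 1) := fun z => rfl
  have hform : ∀ a b, sympB m F (L a) (L b) = φ (a * adjo F m b) := by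
    intro a b
    obtain ⟨g, hg⟩ := AdjoinRoot.mk_surjective (adjo F m b)
    have h := hadj g a 1
    rw [hg, adjo_adjo, mul_one, mul_comm] at h
    rw [hφ, h]
  refine ⟨φ, ⟨fun z => ?_, fun z hz => ?_⟩, L, hLr, hform⟩
  · have h := hform 1 z
    rw [one_mul] at h
    rw [← h, hφ]
    exact Alt.neg' sympB_isAlt _ _
  · by_contra hne
    push Not at hne
    refine hz (L.map_eq_zero_iff.1 (sympB_nondeg.1 _ fun x => ?_))
    obtain ⟨b, rfl⟩ := L.surjective x
    rw [hform]
    exact hne _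

theorem isConj_iff_norm (hm : 1 ≤ m) {u u' : Matrix.symplecticGroup (Fin m) F} {φ φ' : UR F m →ₗ[F] F}
    (hu : HasDatum u φ) (hu' : HasDatum u' φ') :
    IsConj u u' ↔ ∃ y, res F hm y ≠ 0 ∧ ∀ z, φ z = φ' (y * adjo F m y * z) := by
  classical
  obtain ⟨hs, L, hL, hLB⟩ := hu
  obtain ⟨hs', L', hL', hLB'⟩ := hu'
  constructor
  · intro h
    obtain ⟨g, hg⟩ := isConj_iff.1 h
    have hg' : g.1 * u.1 = u'.1 * g.1 := by
      rw [← Submonoid.coe_mul, ← Submonoid.coe_mul, ← hg, inv_mul_cancel_right]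
    let G : UR F m →ₗ[F] UR F m := L'.symm.toLinearMap ∘ₗ Matrix.toLin' g.1 ∘ₗ L.toLinearMap
    have hG : ∀ a, L' (G a) = Matrix.mulVec g.1 (L a) := fun a => by simp [G, Matrix.toLin'_apply]
    have hGr : ∀ a, G (rt F m * a) = rt F m * G a := fun a => L'.injective (by
      rw [hG, hL, hL', hG, Matrix.mulVec_mulVec, Matrix.mulVec_mulVec, hg'])
    have hGm : ∀ a, G a = a * G 1 := by
      intro a
      obtain ⟨f, rfl⟩ := AdjoinRoot.mk_surjective a
      induction f using Polynomial.induction_on with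
      | C c => rw [AdjoinRoot.mk_C, ← AdjoinRoot.algebraMap_eq, ← Algebra.smul_def, ← map_smul, Algebra.smul_def, mul_one]
      | add f g hf hg => simp [map_add, hf, hg, add_mul]
      | monomial k c ih =>
        rw [show C c * X ^ (k + 1) = X * (C c * X ^ k) by ring, map_mul (AdjoinRoot.mk (upoly F m)) X (C c * X ^ k),
          AdjoinRoot.mk_X, hGr, ih, mul_assoc]
    have hφ : ∀ z, φ z = φ' (G 1 * adjo F m (G 1) * z) := fun z => by
      have h := hLB z 1
      rw [map_one (adjo F m), mul_one, ← (mem_symplectic_iff g.1).1 g.2, ← hG, ← hG, hLB', hGm z] at h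
      rw [← h]
      congr 1
      ring
    refine ⟨G 1, fun h0 => ?_, hφ⟩
    obtain ⟨v, hv⟩ := exists_eq_add F hm (G 1)
    rw [h0, map_zero, zero_add] at hv
    obtain ⟨b, hb⟩ := hs.2 _ (socle_ne_zero F hm)
    rw [hφ, hv] at hb
    apply hb
    rw [show (rt F m - 1) * v * adjo F m ((rt F m - 1) * v) * ((rt F m - 1) ^ (2 * m - 1) * b) =
      ((rt F m - 1) * (rt F m - 1) ^ (2 * m - 1)) * (v * adjo F m ((rt F m - 1) * v) * b) by ring,
      ← pow_succ', show 2 * m - 1 + 1 = 2 * m by omega, pow_eq_zero, zero_mul, map_zero]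
  · rintro ⟨y, hy0, hy⟩
    obtain ⟨v, hv⟩ := (isUnit_iff F hm y).2 hy0
    let G : Module.End F (Fin m ⊕ Fin m → F) :=
      L'.toLinearMap ∘ₗ LinearMap.mulLeft F y ∘ₗ L.symm.toLinearMap
    have hG : ∀ a, G (L a) = L' (y * a) := fun a => by simp [G]
    have hgm : LinearMap.toMatrix' G ∈ Matrix.symplecticGroup (Fin m) F := by
      rw [mem_symplectic_iff]
      intro x z
      rw [LinearMap.toMatrix'_mulVec, LinearMap.toMatrix'_mulVec]
      obtain ⟨a, rfl⟩ := L.surjective x
      obtain ⟨b, rfl⟩ := L.surjective z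
      rw [hG, hG, hLB', hLB, hy, map_mul (adjo F m)]
      congr 1
      ring
    refine isConj_iff.2 ⟨⟨_, hgm⟩, mul_inv_eq_iff_eq_mul.2 (Subtype.ext (Matrix.toLin'.injective
      (LinearMap.ext fun x => ?_)))⟩
    obtain ⟨a, rfl⟩ := L.surjective x
    rw [Matrix.toLin'_apply, Matrix.toLin'_apply, Submonoid.coe_mul, Submonoid.coe_mul,
      ← Matrix.mulVec_mulVec, ← Matrix.mulVec_mulVec, LinearMap.toMatrix'_mulVec, LinearMap.toMatrix'_mulVec,
      ← hL, hG, hG, ← hL', mul_left_comm]

theorem card_centralizer (hm : 1 ≤ m) {u : Matrix.symplecticGroup (Fin m) F} {φ : UR F m →ₗ[F] F}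
    (hu : HasDatum u φ) :
    Nat.card (Subgroup.centralizer ({u} : Set (Matrix.symplecticGroup (Fin m) F))) =
      Nat.card {y : UR F m // y * adjo F m y = 1} := by
  classical
  obtain ⟨hs, L, hL, hLB⟩ := hu
  obtain ⟨mk, hmk⟩ : ∃ mk : UR F m → Matrix (Fin m ⊕ Fin m) (Fin m ⊕ Fin m) F,
      ∀ y a, Matrix.mulVec (mk y) (L a) = L (y * a) := by
    refine ⟨fun y => LinearMap.toMatrix' (L.toLinearMap ∘ₗ LinearMap.mulLeft F y ∘ₗ L.symm.toLinearMap),
      fun y a => ?_⟩
    rw [LinearMap.toMatrix'_mulVec]; simp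
  have hmem : ∀ y : {y : UR F m // y * adjo F m y = 1}, mk y.1 ∈ Matrix.symplecticGroup (Fin m) F := by
    intro y
    rw [mem_symplectic_iff]
    intro x z
    obtain ⟨a, rfl⟩ := L.surjective x
    obtain ⟨b, rfl⟩ := L.surjective z
    rw [hmk, hmk, hLB, hLB, map_mul (adjo F m)]
    congr 1
    linear_combination (a * adjo F m b) * y.2
  have hcomm : ∀ y, (⟨mk y.1, hmem y⟩ : Matrix.symplecticGroup (Fin m) F) ∈
      Subgroup.centralizer ({u} : Set (Matrix.symplecticGroup (Fin m) F)) := by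
    intro y
    rw [Subgroup.mem_centralizer_singleton_iff]
    refine Subtype.ext (Matrix.toLin'.injective (LinearMap.ext fun x => ?_))
    obtain ⟨a, rfl⟩ := L.surjective x
    rw [Matrix.toLin'_apply, Matrix.toLin'_apply, Submonoid.coe_mul, Submonoid.coe_mul,
      ← Matrix.mulVec_mulVec, ← Matrix.mulVec_mulVec, ← hL, hmk, hmk, ← hL, mul_left_comm]
  symm
  refine Nat.card_eq_of_bijective (fun y => ⟨⟨_, hmem y⟩, hcomm y⟩) ⟨?_, ?_⟩
  · intro y y' h
    have h' := congrArg (fun z => Matrix.mulVec z.1.1 (L 1)) h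
    simp only [hmk, mul_one] at h'
    exact Subtype.ext (L.injective h')
  · rintro ⟨g, hg⟩
    have hg' : g.1 * u.1 = u.1 * g.1 := congrArg Subtype.val (Subgroup.mem_centralizer_singleton_iff.1 hg)
    let G : UR F m →ₗ[F] UR F m := L.symm.toLinearMap ∘ₗ Matrix.toLin' g.1 ∘ₗ L.toLinearMap
    have hG : ∀ a, L (G a) = Matrix.mulVec g.1 (L a) := fun a => by simp [G, Matrix.toLin'_apply]
    have hGr : ∀ a, G (rt F m * a) = rt F m * G a := fun a => L.injective (by
      rw [hG, hL, hL, hG, Matrix.mulVec_mulVec, Matrix.mulVec_mulVec, hg'])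
    have hGm : ∀ a, G a = a * G 1 := by
      intro a
      obtain ⟨f, rfl⟩ := AdjoinRoot.mk_surjective a
      induction f using Polynomial.induction_on with
      | C c => rw [AdjoinRoot.mk_C, ← AdjoinRoot.algebraMap_eq, ← Algebra.smul_def, ← map_smul, Algebra.smul_def, mul_one]
      | add f g hf hg => simp [map_add, hf, hg, add_mul]
      | monomial k c ih =>
        rw [show C c * X ^ (k + 1) = X * (C c * X ^ k) by ring, map_mul (AdjoinRoot.mk (upoly F m)) X (C c * X ^ k),
          AdjoinRoot.mk_X, hGr, ih, mul_assoc]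
    have hy : G 1 * adjo F m (G 1) = 1 := by
      refine sub_eq_zero.1 ?_
      by_contra hne
      obtain ⟨b, hb⟩ := hs.2 _ hne
      have h := hLB b 1
      rw [map_one (adjo F m), mul_one, ← (mem_symplectic_iff g.1).1 g.2, ← hG, ← hG, hLB, hGm b] at h
      apply hb
      rw [sub_mul, one_mul, map_sub, sub_eq_zero, ← h]
      congr 1
      ring
    refine ⟨⟨G 1, hy⟩, Subtype.ext (Subtype.ext (Matrix.toLin'.injective (LinearMap.ext fun x => ?_)))⟩
    obtain ⟨a, rfl⟩ := L.surjective x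
    rw [Matrix.toLin'_apply, Matrix.toLin'_apply]
    show Matrix.mulVec (mk (G 1)) (L a) = Matrix.mulVec g.1 (L a)
    rw [hmk, ← hG, hGm a, mul_comm]

end Cfsg.Agent.RegUnip
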