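import Cfsg.Agent.MatModule.ClassNumberGL

/-!
# Counting polynomial sequences with prescribed determinant

Sequences of monic polynomials parametrise the classes of `GL_n(q)`.  We bound the number of those of
determinant one, weighted by the gcd of the occurring exponents, and the number of those fixed by a scalar.
-/

set_option autoImplicit false

namespace Cfsg.Agent.SeqCount

open Polynomial Cfsg.Agent.ClassNumberGL

variable {F : Type*} [Field F] [Fintype F]

theorem exists_bezout {ι : Type*} [DecidableEq ι] (s : Finset ι) (f : ι → ℕ) :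
    ∃ w : ι → ℤ, ((s.gcd f : ℕ) : ℤ) = ∑ i ∈ s, (f i : ℤ) * w i := by
  induction s using Finset.induction_on with
  | empty => exact ⟨0, by simp⟩
  | @insert a s ha ih =>
    obtain ⟨w, hw⟩ := ih
    refine ⟨Function.update (fun i => Nat.gcdB (f a) (s.gcd f) * w i) a (Nat.gcdA (f a) (s.gcd f)), ?_⟩
    rw [Finset.gcd_insert, Finset.sum_insert ha, Function.update_self]
    show ((Nat.gcd (f a) (s.gcd f) : ℕ) : ℤ) = _
    rw [Nat.gcd_eq_gcd_ab, hw, Finset.sum_mul]
    congr 1
    refine Finset.sum_congr rfl fun i hi => ?_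
    rw [Function.update_of_ne (fun h : i = a => ha (h ▸ hi))]
    ring

/-- The gcd of `q - 1` and the exponents in a set. -/
def GS (F : Type*) [Field F] [Fintype F] {n : ℕ} (S : Finset (Fin n)) : ℕ :=
  Nat.gcd (Fintype.card F - 1) (S.gcd fun j => j.val + 1)

/-- The exponents occurring in a sequence. -/
noncomputable def Sg {n : ℕ} (g : Fin n → F[X]) : Finset (Fin n) := by
  classical exact Finset.univ.filter fun j => (g j).natDegree ≠ 0

omit [Fintype F] in
theorem mem_Sg {n : ℕ} {g : Fin n → F[X]} {j : Fin n} : j ∈ Sg g ↔ (g j).natDegree ≠ 0 := by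
  simp [Sg]

theorem GS_pos {n : ℕ} (S : Finset (Fin n)) : 0 < GS F S :=
  Nat.gcd_pos_of_pos_left _ (Nat.sub_pos_of_lt Fintype.one_lt_card)

theorem exists_exponents {n : ℕ} (S : Finset (Fin n)) :
    ∃ w : Fin n → ℤ, ∀ u : Fˣ, u ^ GS F S = ∏ j ∈ S, (u ^ (j.val + 1)) ^ w j := by
  classical
  obtain ⟨w, hw⟩ := exists_bezout S (fun j => j.val + 1)
  refine ⟨fun j => Nat.gcdB (Fintype.card F - 1) (S.gcd fun j => j.val + 1) * w j, fun u => ?_⟩
  have h1 : u ^ (Fintype.card F - 1) = 1 := by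
    rw [← Fintype.card_units]; exact pow_card_eq_one
  rw [← zpow_natCast u (GS F S), GS, Nat.gcd_eq_gcd_ab, zpow_add, zpow_mul, zpow_natCast, h1, one_zpow, one_mul,
    hw, Finset.sum_mul]
  have hsum : ∀ (T : Finset (Fin n)) (a : Fin n → ℤ), u ^ (∑ j ∈ T, a j) = ∏ j ∈ T, u ^ a j := by
    intro T a
    induction T using Finset.induction_on with
    | empty => simp
    | @insert x s hx ih => rw [Finset.sum_insert hx, Finset.prod_insert hx, zpow_add, ih]
  rw [hsum]
  refine Finset.prod_congr rfl fun j _ => ?_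
  rw [← zpow_natCast u (j.val + 1), ← zpow_mul]
  congr 1
  ring

theorem pow_GS_mem {n : ℕ} (S : Finset (Fin n)) (D : Subgroup Fˣ) (h : ∀ j ∈ S, ∀ u : Fˣ, u ^ (j.val + 1) ∈ D)
    (u : Fˣ) : u ^ GS F S ∈ D := by
  obtain ⟨w, hw⟩ := exists_exponents (F := F) S
  rw [hw]
  exact D.prod_mem fun j hj => D.zpow_mem (h j hj u) _

/-- The determinant attached to a sequence. -/
noncomputable def sdet {n : ℕ} (g : Fin n → F[X]) : F :=
  ∏ j, ((-1) ^ (g j).natDegree * (g j).coeff 0) ^ (j.val + 1)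

theorem GS_Sg_dvd {m N k : ℕ} (hm : m = 1) (g : Seqs F m N k) : GS F (Sg g.1) ∣ N := by
  subst hm
  refine (Nat.gcd_dvd_right _ _).trans ?_
  conv_rhs => rw [← g.2.2]
  refine Finset.dvd_sum fun j _ => ?_
  by_cases h : (g.1 j).natDegree = 0
  · rw [h, mul_zero]; exact dvd_zero _
  · rw [add_comm 1]
    exact (Finset.gcd_dvd (f := fun j : Fin k => j.val + 1) (mem_Sg.2 h)).trans (dvd_mul_right _ _)

omit [Fintype F] in
theorem eq_one_of_not_mem {n : ℕ} {g : Fin n → F[X]} {j : Fin n} (hm : (g j).Monic) (h : j ∉ Sg g) : g j = 1 :=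
  hm.natDegree_eq_zero.1 (Classical.not_not.1 fun h' => h (mem_Sg.2 h'))

/-! ## Twisting the constant terms -/

variable (F) in
/-- Exponents for twisting. -/
noncomputable def W {n : ℕ} (S : Finset (Fin n)) : Fin n → ℤ := (exists_exponents (F := F) S).choose

theorem W_spec {n : ℕ} (S : Finset (Fin n)) (u : Fˣ) :
    u ^ GS F S = ∏ j ∈ S, (u ^ (j.val + 1)) ^ W F S j :=
  (exists_exponents (F := F) S).choose_spec u

/-- Multiply the constant term of the `j`-th member by a power of `u`. -/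
noncomputable def tw {n : ℕ} (g : Fin n → F[X]) (u : Fˣ) (j : Fin n) : F[X] :=
  if j ∈ Sg g then g j + C ((((u ^ W F (Sg g) j : Fˣ) : F) - 1) * (g j).coeff 0) else g j

theorem natDegree_tw {n : ℕ} (g : Fin n → F[X]) (u : Fˣ) (j : Fin n) : (tw g u j).natDegree = (g j).natDegree := by
  unfold tw
  split_ifs
  · exact natDegree_add_C
  · rfl

theorem Sg_tw {n : ℕ} (g : Fin n → F[X]) (u : Fˣ) : Sg (tw g u) = Sg g := by
  ext j
  rw [mem_Sg, mem_Sg, natDegree_tw]

theorem monic_tw {n : ℕ} (g : Fin n → F[X]) (u : Fˣ) (j : Fin n) (hm : (g j).Monic) : (tw g u j).Monic := by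
  unfold tw
  split_ifs with h
  · refine hm.add_of_left (lt_of_le_of_lt degree_C_le ?_)
    exact natDegree_pos_iff_degree_pos.1 (Nat.pos_of_ne_zero (mem_Sg.1 h))
  · exact hm

theorem coeff_zero_tw {n : ℕ} (g : Fin n → F[X]) (u : Fˣ) (j : Fin n) :
    (tw g u j).coeff 0 = (g j).coeff 0 * (if j ∈ Sg g then ((u ^ W F (Sg g) j : Fˣ) : F) else 1) := by
  unfold tw
  split_ifs
  · rw [coeff_add, coeff_C_zero]
    ring
  · rw [mul_one]

theorem sdet_tw {n : ℕ} (g : Fin n → F[X]) (u : Fˣ) :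
    sdet (tw g u) = sdet g * ((u ^ GS F (Sg g) : Fˣ) : F) := by
  classical
  unfold sdet
  have h : ∀ j : Fin n, ((-1) ^ (tw g u j).natDegree * (tw g u j).coeff 0) ^ (j.val + 1) =
      ((-1) ^ (g j).natDegree * (g j).coeff 0) ^ (j.val + 1) *
        (if j ∈ Sg g then (((u ^ (j.val + 1)) ^ W F (Sg g) j : Fˣ) : F) else 1) := fun j => by
    rw [natDegree_tw, coeff_zero_tw, ← mul_assoc, mul_pow]
    congr 1
    split_ifs
    · rw [← Units.val_pow_eq_pow_val, ← zpow_natCast, ← zpow_mul, ← zpow_natCast u (j.val + 1), ← zpow_mul,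
        mul_comm]
    · rw [one_pow]
  rw [Finset.prod_congr rfl fun j _ => h j, Finset.prod_mul_distrib, Finset.prod_ite_mem, Finset.univ_inter,
    ← Units.coe_prod, ← W_spec]

theorem tw_injective {n : ℕ} (u : Fˣ) {g g' : Fin n → F[X]} (h : tw g u = tw g' u) : g = g' := by
  have hS : Sg g = Sg g' := by rw [← Sg_tw g u, h, Sg_tw]
  funext j
  have hj := congrFun h j
  have hc := congrArg (fun f : F[X] => f.coeff 0) hj
  simp only [coeff_zero_tw, ← hS] at hc
  unfold tw at hj
  rw [← hS] at hj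
  split_ifs at hj hc with hm
  · rw [mul_left_inj' (Units.ne_zero _)] at hc
    rw [hc] at hj
    exact add_right_cancel hj
  · exact hj

variable {n : ℕ}

/-- Twisting as a map of sequences. -/
noncomputable def twS (g : Seqs F 1 n n) (u : Fˣ) : Seqs F 1 n n :=
  ⟨tw g.1 u, fun j => ⟨monic_tw _ _ _ (g.2.1 j).1, by
    rw [coeff_zero_tw]
    refine mul_ne_zero (g.2.1 j).2 ?_
    split_ifs
    · exact Units.ne_zero _
    · exact one_ne_zero⟩, by simp only [natDegree_tw]; exact g.2.2⟩

theorem finite_seqs (m n k : ℕ) (hm : 1 ≤ m) : Finite (Seqs F m n k) := (seqs_le (F := F) k m n hm).1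

open Classical in
/-- Sequences of determinant one, weighted by their gcd, against all sequences weighted by the square. -/
theorem sum_det_one_le [Fintype (Seqs F 1 n n)] :
    (Fintype.card F - 1) * ∑ g ∈ Finset.univ.filter (fun g : Seqs F 1 n n => sdet g.1 = 1), GS F (Sg g.1) ≤
      ∑ h : Seqs F 1 n n, GS F (Sg h.1) * GS F (Sg h.1) := by
  set A := Finset.univ.filter (fun g : Seqs F 1 n n => sdet g.1 = 1) with hA
  have h1 : (Fintype.card F - 1) * ∑ g ∈ A, GS F (Sg g.1) =
      ∑ x ∈ A ×ˢ (Finset.univ : Finset Fˣ), GS F (Sg (twS x.1 x.2).1) := by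
    rw [Finset.sum_product, Finset.mul_sum]
    refine Finset.sum_congr rfl fun g _ => ?_
    simp only [twS, Sg_tw, Finset.sum_const, Finset.card_univ, Fintype.card_units, smul_eq_mul]
  rw [h1, ← Finset.sum_fiberwise_of_maps_to (g := fun x => twS x.1 x.2) (t := Finset.univ)
    (fun x _ => Finset.mem_univ _)]
  refine Finset.sum_le_sum fun h _ => ?_
  rw [Finset.sum_congr rfl (g := fun _ => GS F (Sg h.1)) (fun x hx => by rw [(Finset.mem_filter.1 hx).2]),
    Finset.sum_const, smul_eq_mul]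
  refine Nat.mul_le_mul_right _ ?_
  have hsub : ((A ×ˢ (Finset.univ : Finset Fˣ)).filter fun x => twS x.1 x.2 = h).image (fun x => (x.2 : F)) ⊆
      (nthRoots (GS F (Sg h.1)) (sdet h.1)).toFinset := by
    intro a ha
    simp only [Finset.mem_image, Finset.mem_filter, Finset.mem_product] at ha
    obtain ⟨⟨g, u⟩, ⟨⟨hg, -⟩, rfl⟩, rfl⟩ := ha
    rw [Multiset.mem_toFinset, mem_nthRoots (GS_pos _)]
    simp only [twS, Sg_tw, sdet_tw, (Finset.mem_filter.1 hg).2, one_mul, Units.val_pow_eq_pow_val]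
  refine le_trans (le_of_eq (Finset.card_image_of_injOn ?_).symm) ((Finset.card_le_card hsub).trans
    ((Multiset.toFinset_card_le _).trans (card_nthRoots _ _)))
  intro x hx y hy hxy
  have hx' := (Finset.mem_filter.1 hx).2
  have hy' := (Finset.mem_filter.1 hy).2
  have e : x.2 = y.2 := Units.ext hxy
  refine Prod.ext (Subtype.ext (tw_injective x.2 ?_)) e
  have h2 := congrArg Subtype.val (hx'.trans hy'.symm)
  simp only [twS, ← e] at h2
  exact h2

/-! ## Sequences whose exponents are multiples of `d` -/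

theorem card_dvd_le (d : ℕ) (hd : 0 < d) :
    Nat.card {g : Seqs F 1 n n // d ∣ GS F (Sg g.1)} ≤ AA (Fintype.card F) 1 (n / d) := by
  classical
  haveI := finite_seqs (F := F) 1 (n / d) n le_rfl
  let Φ : Seqs F 1 n n → Fin n → F[X] := fun g k =>
    if h : d * (k.val + 1) ≤ n then g.1 ⟨d * (k.val + 1) - 1, by
      have : 0 < d * (k.val + 1) := Nat.mul_pos hd (Nat.succ_pos _)
      omega⟩ else 1
  have hmon : ∀ g k, (Φ g k).Monic ∧ (Φ g k).coeff 0 ≠ 0 := by
    intro g k
    simp only [Φ]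
    split_ifs
    · exact g.2.1 _
    · exact ⟨monic_one, by simp⟩
  have hout : ∀ g : {g : Seqs F 1 n n // d ∣ GS F (Sg g.1)}, ∀ j : Fin n, ¬ d ∣ j.val + 1 → g.1.1 j = 1 := by
    intro g j hj
    refine eq_one_of_not_mem (g.1.2.1 j).1 fun hm => hj ?_
    exact g.2.trans ((Nat.gcd_dvd_right _ _).trans (Finset.gcd_dvd (f := fun j : Fin n => j.val + 1) hm))
  have hsum : ∀ g : {g : Seqs F 1 n n // d ∣ GS F (Sg g.1)},
      d * ∑ k : Fin n, (1 + k.val) * (Φ g.1 k).natDegree = n := by
    intro g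
    conv_rhs => rw [← g.1.2.2]
    rw [Finset.mul_sum]
    let e : {k : Fin n // d * (k.val + 1) ≤ n} → Fin n := fun k => ⟨d * (k.1.val + 1) - 1, by
      have : 0 < d * (k.1.val + 1) := Nat.mul_pos hd (Nat.succ_pos _)
      have := k.2
      omega⟩
    have he : Function.Injective e := by
      intro a b hab
      have h1 : d * (a.1.val + 1) - 1 = d * (b.1.val + 1) - 1 := congrArg Fin.val hab
      have ha : 0 < d * (a.1.val + 1) := Nat.mul_pos hd (Nat.succ_pos _)
      have hb : 0 < d * (b.1.val + 1) := Nat.mul_pos hd (Nat.succ_pos _)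
      have h2 : a.1.val + 1 = b.1.val + 1 := Nat.eq_of_mul_eq_mul_left hd (by omega)
      exact Subtype.ext (Fin.ext (by omega))
    rw [← Fintype.sum_of_injective (Subtype.val : {k : Fin n // d * (k.val + 1) ≤ n} → Fin n)
      Subtype.val_injective (fun k => d * ((1 + k.1.val) * (Φ g.1 k.1).natDegree)) _ ?_ (fun _ => rfl)]
    swap
    · intro k hk
      have : ¬ d * (k.val + 1) ≤ n := fun h => hk ⟨⟨k, h⟩, rfl⟩
      simp [Φ, this]
    refine Fintype.sum_of_injective e he _ _ ?_ ?_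
    · intro j hj
      rw [hout g j, natDegree_one, mul_zero]
      rintro ⟨c, hc⟩
      have hc0 : 0 < c := Nat.pos_of_ne_zero (by rintro rfl; simp at hc)
      have hcj : c ≤ d * c := Nat.le_mul_of_pos_left _ hd
      have hjn := j.2
      refine hj ⟨⟨⟨c - 1, by omega⟩, ?_⟩, Fin.ext ?_⟩
      · show d * (c - 1 + 1) ≤ n
        rw [Nat.sub_add_cancel hc0]; omega
      · show d * (c - 1 + 1) - 1 = j.val
        rw [Nat.sub_add_cancel hc0]; omega
    · intro k
      have h1 : 0 < d * (k.1.val + 1) := Nat.mul_pos hd (Nat.succ_pos _)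
      simp only [Φ, dif_pos k.2, e]
      rw [← mul_assoc]
      congr 1
      rw [add_comm 1 k.1.val]
      omega
  let Ψ : {g : Seqs F 1 n n // d ∣ GS F (Sg g.1)} → Seqs F 1 (n / d) n := fun g =>
    ⟨Φ g.1, hmon g.1, by
      conv_rhs => rw [← hsum g]
      rw [Nat.mul_div_cancel_left _ hd]⟩
  refine (Nat.card_le_card_of_injective Ψ ?_).trans (seqs_le (F := F) n 1 (n / d) le_rfl).2
  intro a b hab
  refine Subtype.ext (Subtype.ext (funext fun j => ?_))
  by_cases hj : d ∣ j.val + 1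
  · obtain ⟨c, hc⟩ := hj
    have hc0 : 0 < c := Nat.pos_of_ne_zero (by rintro rfl; simp at hc)
    have hcj : c ≤ d * c := Nat.le_mul_of_pos_left _ hd
    have hjn := j.2
    have h := congrFun (congrArg Subtype.val hab) ⟨c - 1, by omega⟩
    simp only [Ψ, Φ] at h
    have hk : d * (c - 1 + 1) ≤ n := by rw [Nat.sub_add_cancel hc0]; omega
    rw [dif_pos hk, dif_pos hk] at h
    have e : (⟨d * (c - 1 + 1) - 1, by omega⟩ : Fin n) = j := by
      refine Fin.ext ?_
      show d * (c - 1 + 1) - 1 = j.val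
      rw [Nat.sub_add_cancel hc0]; omega
    rwa [e] at h
  · rw [hout a j hj, hout b j hj]

open Classical in
/-- The total of the squared gcds. -/
theorem sum_sq_le [Fintype (Seqs F 1 n n)] {D : ℕ} (hD : D = Nat.gcd n (Fintype.card F - 1)) :
    ∑ h : Seqs F 1 n n, GS F (Sg h.1) * GS F (Sg h.1) ≤ AA (Fintype.card F) 1 n +
      ∑ d ∈ D.divisors.filter (fun d => 2 ≤ d), (d * d - 1) * AA (Fintype.card F) 1 (n / d) := by
  have hD0 : D ≠ 0 := by
    rw [hD]
    exact (Nat.gcd_pos_of_pos_right _ (Nat.sub_pos_of_lt Fintype.one_lt_card)).ne'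
  have h1 : ∀ h : Seqs F 1 n n, GS F (Sg h.1) * GS F (Sg h.1) ≤ 1 +
      ∑ d ∈ D.divisors.filter (fun d => 2 ≤ d), (d * d - 1) * (if d ∣ GS F (Sg h.1) then 1 else 0) := by
    intro h
    have hG : GS F (Sg h.1) ∣ D := by
      rw [hD]; exact Nat.dvd_gcd (GS_Sg_dvd rfl h) (Nat.gcd_dvd_left _ _)
    have hpos : 0 < GS F (Sg h.1) := GS_pos _
    by_cases h2 : 2 ≤ GS F (Sg h.1)
    · have hmem : GS F (Sg h.1) ∈ D.divisors.filter (fun d => 2 ≤ d) :=
        Finset.mem_filter.2 ⟨Nat.mem_divisors.2 ⟨hG, hD0⟩, h2⟩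
      refine le_trans ?_ (Nat.add_le_add_left (Finset.single_le_sum (f := fun d => (d * d - 1) *
        (if d ∣ GS F (Sg h.1) then 1 else 0)) (fun _ _ => Nat.zero_le _) hmem) 1)
      rw [if_pos dvd_rfl, mul_one]
      omega
    · have : GS F (Sg h.1) = 1 := by omega
      rw [this]
      exact Nat.le_add_right 1 _
  refine (Finset.sum_le_sum fun h _ => h1 h).trans ?_
  rw [Finset.sum_add_distrib, Finset.sum_comm]
  refine Nat.add_le_add ?_ (Finset.sum_le_sum fun d hd => ?_)
  · rw [Finset.sum_const, smul_eq_mul, mul_one, Finset.card_univ, ← Nat.card_eq_fintype_card]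
    exact (seqs_le (F := F) n 1 n le_rfl).2
  · rw [← Finset.mul_sum, Finset.sum_boole, Nat.cast_id]
    refine Nat.mul_le_mul_left _ ?_
    rw [← Fintype.card_subtype, ← Nat.card_eq_fintype_card]
    exact card_dvd_le d (by have := (Finset.mem_filter.1 hd).2; omega)

/-! ## Sequences fixed by a scalar -/

/-- Invariance under multiplying all roots by `c`. -/
def Inv (c : Fˣ) (g : Fin n → F[X]) : Prop := ∀ j, (g j).scaleRoots (c : F) = g j

omit [Fintype F] in
theorem dvd_of_coeff_ne {c : Fˣ} {f : F[X]} (hf : f.scaleRoots (c : F) = f) (h0 : f.coeff 0 ≠ 0) {i : ℕ}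
    (hi : f.coeff i ≠ 0) : orderOf c ∣ i := by
  have key : ∀ i, f.coeff i ≠ 0 → orderOf c ∣ f.natDegree - i := by
    intro i hi
    have h := congrArg (fun p : F[X] => p.coeff i) hf
    simp only [coeff_scaleRoots] at h
    have h' : (c : F) ^ (f.natDegree - i) = 1 := mul_left_cancel₀ hi (h.trans (mul_one _).symm)
    exact orderOf_dvd_of_pow_eq_one (Units.ext (by rw [Units.val_pow_eq_pow_val, h', Units.val_one]))
  have h1 := key 0 h0
  rw [Nat.sub_zero] at h1
  have h2 := key i hi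
  exact (Nat.dvd_add_iff_right h2).2 (by rwa [Nat.sub_add_cancel (le_natDegree_of_ne_zero hi)])

omit [Fintype F] in
theorem expand_contract_of_inv {c : Fˣ} {f : F[X]} (hf : f.scaleRoots (c : F) = f) (h0 : f.coeff 0 ≠ 0)
    (hr : 0 < orderOf c) : expand F (orderOf c) (contract (orderOf c) f) = f := by
  ext i
  rw [coeff_expand hr]
  split_ifs with h
  · rw [coeff_contract hr.ne', Nat.div_mul_cancel h]
  · exact (Classical.not_not.1 fun hi => h (dvd_of_coeff_ne hf h0 hi)).symm

theorem card_inv_le (c : Fˣ) :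
    Nat.card {g : Seqs F 1 n n // Inv c g.1} ≤ AA (Fintype.card F) 1 (n / orderOf c) ∧
      ∀ g : {g : Seqs F 1 n n // Inv c g.1}, GS F (Sg g.1.1) ∣ Nat.gcd (Fintype.card F - 1) (n / orderOf c) := by
  classical
  have hr : 0 < orderOf c := orderOf_pos c
  set r := orderOf c with hr'
  haveI := finite_seqs (F := F) 1 (n / r) n le_rfl
  have hex : ∀ g : {g : Seqs F 1 n n // Inv c g.1}, ∀ j, expand F r (contract r (g.1.1 j)) = g.1.1 j := fun g j =>
    expand_contract_of_inv (g.2 j) (g.1.2.1 j).2 hr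
  have hdeg : ∀ g : {g : Seqs F 1 n n // Inv c g.1}, ∀ j, (contract r (g.1.1 j)).natDegree * r = (g.1.1 j).natDegree :=
    fun g j => by conv_rhs => rw [← hex g j, natDegree_expand]
  let Ψ : {g : Seqs F 1 n n // Inv c g.1} → Seqs F 1 (n / r) n := fun g =>
    ⟨fun j => contract r (g.1.1 j), fun j => ⟨by
      rw [Monic, leadingCoeff, coeff_contract hr.ne', hdeg g j]
      exact (g.1.2.1 j).1, by
      rw [coeff_contract hr.ne', zero_mul]
      exact (g.1.2.1 j).2⟩, by
      conv_rhs => rw [← g.1.2.2]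
      have : ∑ j : Fin n, (1 + j.val) * (g.1.1 j).natDegree =
          r * ∑ j : Fin n, (1 + j.val) * (contract r (g.1.1 j)).natDegree := by
        rw [Finset.mul_sum]
        exact Finset.sum_congr rfl fun j _ => by rw [← hdeg g j]; ring
      rw [this, Nat.mul_div_cancel_left _ hr]⟩
  have hinj : Function.Injective Ψ := by
    intro a b hab
    refine Subtype.ext (Subtype.ext (funext fun j => ?_))
    rw [← hex a j, ← hex b j]
    exact congrArg (expand F r) (congrFun (congrArg Subtype.val hab) j)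
  refine ⟨(Nat.card_le_card_of_injective Ψ hinj).trans (seqs_le (F := F) n 1 (n / r) le_rfl).2, fun g => ?_⟩
  have hS : Sg g.1.1 = Sg (Ψ g).1 := by
    ext j
    rw [mem_Sg, mem_Sg]
    simp only [Ψ, ← hdeg g j, ne_eq, mul_eq_zero, hr.ne', or_false]
  rw [hS]
  exact Nat.dvd_gcd (Nat.gcd_dvd_left _ _) (GS_Sg_dvd rfl (Ψ g))

open Classical in
theorem sum_inv_le [Fintype (Seqs F 1 n n)] (c : Fˣ) :
    ∑ g ∈ Finset.univ.filter (fun g : Seqs F 1 n n => sdet g.1 = 1 ∧ Inv c g.1), GS F (Sg g.1) ≤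
      Nat.gcd (Fintype.card F - 1) (n / orderOf c) * AA (Fintype.card F) 1 (n / orderOf c) := by
  obtain ⟨h1, h2⟩ := card_inv_le (n := n) c
  refine (Finset.sum_le_card_nsmul _ _ (Nat.gcd (Fintype.card F - 1) (n / orderOf c)) fun g hg => ?_).trans ?_
  · exact Nat.le_of_dvd (Nat.gcd_pos_of_pos_left _ (Nat.sub_pos_of_lt Fintype.one_lt_card))
      (h2 ⟨g, (Finset.mem_filter.1 hg).2.2⟩)
  · rw [smul_eq_mul, mul_comm]
    refine Nat.mul_le_mul_left _ (le_trans ?_ h1)
    rw [← Fintype.card_subtype, ← Nat.card_eq_fintype_card]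
    exact Nat.card_le_card_of_injective (fun g => ⟨g.1, g.2.2⟩) fun a b h => Subtype.ext (congrArg (fun x => x.1) h)

open Classical in
/-- In degree two a scalar other than one fixes at most one sequence of determinant one. -/
theorem sum_inv_two_le [Fintype (Seqs F 1 2 2)] {c : Fˣ} (hc : c ≠ 1) :
    ∑ g ∈ Finset.univ.filter (fun g : Seqs F 1 2 2 => sdet g.1 = 1 ∧ Inv c g.1), GS F (Sg g.1) ≤ 1 := by
  have hr : 1 < orderOf c := by
    have := orderOf_pos c
    have : orderOf c ≠ 1 := fun h => hc (orderOf_eq_one_iff.1 h)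
    omega
  have key : ∀ g : Seqs F 1 2 2, sdet g.1 = 1 → Inv c g.1 → g.1 0 = X ^ 2 + C 1 ∧ g.1 1 = 1 ∧ GS F (Sg g.1) = 1 := by
    intro g hg hi
    have hsum := g.2.2
    rw [Fin.sum_univ_two] at hsum
    simp only [Fin.val_zero, Fin.val_one, add_zero, one_mul] at hsum
    have hd : ∀ j, orderOf c ∣ (g.1 j).natDegree := fun j =>
      dvd_of_coeff_ne (hi j) (g.2.1 j).2 (by rw [(g.2.1 j).1.coeff_natDegree]; exact one_ne_zero)
    have h1 : (g.1 1).natDegree = 0 := by
      rcases Nat.eq_zero_or_pos (g.1 1).natDegree with h | h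
      · exact h
      · have := Nat.le_of_dvd h (hd 1)
        omega
    have e1 : g.1 1 = 1 := (g.2.1 1).1.natDegree_eq_zero.1 h1
    have h0 : (g.1 0).natDegree = 2 := by omega
    have hr2 : orderOf c = 2 := by
      have := hd 0
      rw [h0] at this
      have := Nat.le_of_dvd (by norm_num) this
      omega
    have hc1 : (g.1 0).coeff 1 = 0 := by
      by_contra h
      have := dvd_of_coeff_ne (hi 0) (g.2.1 0).2 h
      rw [hr2] at this
      omega
    have hc0 : (g.1 0).coeff 0 = 1 := by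
      have h := hg
      simp only [sdet, Fin.prod_univ_two, e1, h0, natDegree_one, coeff_one_zero, Fin.val_zero, zero_add, pow_one,
        pow_zero, neg_one_sq, one_mul, one_pow, mul_one] at h
      exact h
    refine ⟨?_, e1, ?_⟩
    · ext i
      rw [coeff_add, coeff_X_pow, coeff_C]
      rcases Nat.lt_or_ge i 3 with hi3 | hi3
      · interval_cases i
        · simp [hc0]
        · simp [hc1]
        · have := (g.2.1 0).1.coeff_natDegree
          rw [h0] at this
          simp [this]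
      · rw [coeff_eq_zero_of_natDegree_lt (by omega), if_neg (by omega), if_neg (by omega), add_zero]
    · have hm : (0 : Fin 2) ∈ Sg g.1 := mem_Sg.2 (by omega)
      exact Nat.eq_one_of_dvd_one ((Nat.gcd_dvd_right _ _).trans
        (Finset.gcd_dvd (f := fun j : Fin 2 => j.val + 1) hm))
  refine (Finset.sum_le_card_nsmul _ _ 1 fun g hg => ?_).trans ?_
  · obtain ⟨h1, h2⟩ := (Finset.mem_filter.1 hg).2
    exact (key g h1 h2).2.2.le
  · rw [smul_eq_mul, mul_one, Finset.card_le_one]
    intro a ha b hb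
    obtain ⟨a1, a2⟩ := (Finset.mem_filter.1 ha).2
    obtain ⟨b1, b2⟩ := (Finset.mem_filter.1 hb).2
    refine Subtype.ext (funext fun j => ?_)
    obtain ⟨ka, ka', -⟩ := key a a1 a2
    obtain ⟨kb, kb', -⟩ := key b b1 b2
    fin_cases j
    · exact ka.trans kb.symm
    · exact ka'.trans kb'.symm

end Cfsg.Agent.SeqCount
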