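import Cfsg.Agent.Classical.HermGroup
import Cfsg.Agent.MatModule.NormLift

/-!
Conjugacy in the general unitary group is conjugacy in the general linear group.
-/

set_option autoImplicit false

namespace Cfsg.Agent.UnitaryConj

open Matrix Cfsg.Agent.Classical Cfsg.Agent.Classical.Herm Polynomial

variable {F : Type*} [Field F] {n : ℕ}

/-- Transpose conjugate. -/
def adj (σ : F →+* F) (M : Matrix (Fin n) (Fin n) F) : Matrix (Fin n) (Fin n) F := (M.map σ)ᵀ

variable {σ : F →+* F}

theorem adj_mul (M N : Matrix (Fin n) (Fin n) F) : adj σ (M * N) = adj σ N * adj σ M := by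
  simp [adj, Matrix.map_mul, Matrix.transpose_mul]

theorem adj_add (M N : Matrix (Fin n) (Fin n) F) : adj σ (M + N) = adj σ M + adj σ N := by
  simp [adj, Matrix.map_add]

theorem adj_one : adj σ (1 : Matrix (Fin n) (Fin n) F) = 1 := by simp [adj]

theorem adj_zero : adj σ (0 : Matrix (Fin n) (Fin n) F) = 0 := by simp [adj]

theorem adj_scalar (c : F) :
    adj σ (algebraMap F (Matrix (Fin n) (Fin n) F) c) = algebraMap F _ (σ c) := by
  ext i j
  by_cases h : i = j
  · subst h; simp [adj, Matrix.algebraMap_matrix_apply]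
  · simp [adj, Matrix.algebraMap_matrix_apply, h, Ne.symm h]

theorem adj_adj (hσ : ∀ x, σ (σ x) = x) (M : Matrix (Fin n) (Fin n) F) : adj σ (adj σ M) = M := by
  ext i j; simp [adj, hσ]

theorem commute_aeval {A h : Matrix (Fin n) (Fin n) F} (hc : Commute A h) (f : F[X]) :
    Commute A (aeval h f) := by
  induction f using Polynomial.induction_on' with
  | add p q hp hq => simpa using hp.add_right hq
  | monomial k a =>
      rw [aeval_monomial]
      exact (Algebra.commute_algebraMap_right a A).mul_right (hc.pow_right k)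

theorem adj_aeval {h : Matrix (Fin n) (Fin n) F} (hh : adj σ h = h) (f : F[X]) :
    adj σ (aeval h f) = aeval h (f.map σ) := by
  induction f using Polynomial.induction_on with
  | C a => simp [adj_scalar]
  | add f g hf hg => simp [adj_add, hf, hg]
  | monomial k a hk =>
      have hxk : (C a * X ^ (k + 1) : F[X]) = C a * X ^ k * X := by rw [pow_succ, mul_assoc]
      rw [hxk, Polynomial.map_mul (p := C a * X ^ k), Polynomial.map_X]
      generalize C a * X ^ k = g at hk ⊢
      rw [map_mul, map_mul, aeval_X, adj_mul, hh, hk]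
      exact (commute_aeval (Commute.refl h) _).eq

theorem mem_GU_iff_adj {q : ℕ} (hσq : ∀ x, σ x = x ^ q) (g : GL (Fin n) F) :
    g ∈ Cfsg.GU n F q ↔ adj σ g.1 * g.1 = 1 := by
  rw [mem_GU_iff hσq, preserves_iff_cols]
  constructor
  · intro h
    ext i j
    have := h i j
    rw [hermB_apply] at this
    simpa [adj, Matrix.mul_apply, Matrix.one_apply, Matrix.mulVec_single] using this
  · intro h i j
    have := congrFun (congrFun h i) j
    rw [hermB_apply]
    simpa [adj, Matrix.mul_apply, Matrix.one_apply, Matrix.mulVec_single] using this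

/-- A self-adjoint invertible matrix is `y * adj y` with `y` a polynomial in it. -/
theorem exists_polynomial_norm [Finite F] (hσ : IsInvol σ) {h : Matrix (Fin n) (Fin n) F}
    (hh : adj σ h = h) (hu : IsUnit h) :
    ∃ f : F[X], aeval h f * adj σ (aeval h f) = h ∧ adj σ (aeval h f) * aeval h f = h := by
  classical
  let T : Subalgebra F (Matrix (Fin n) (Fin n) F) := (aeval h).range
  have hcomm : ∀ x y : T, x * y = y * x := by
    rintro ⟨x, f, rfl⟩ ⟨y, g, rfl⟩
    exact Subtype.ext (by rw [MulMemClass.coe_mul, MulMemClass.coe_mul, ← map_mul, mul_comm, map_mul])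
  letI : CommRing T := { (inferInstance : Ring T) with mul_comm := hcomm }
  have hstab : ∀ x : T, adj σ x.1 ∈ T := by
    rintro ⟨x, f, rfl⟩
    exact ⟨f.map σ, (adj_aeval hh f).symm⟩
  let τ : T →+* T :=
    { toFun := fun x => ⟨adj σ x.1, hstab x⟩
      map_one' := Subtype.ext adj_one
      map_mul' := fun x y => by
        rw [hcomm x y]
        exact Subtype.ext (adj_mul _ _)
      map_zero' := Subtype.ext adj_zero
      map_add' := fun x y => Subtype.ext (adj_add _ _) }
  have hτ : ∀ x, τ (τ x) = x := fun x => Subtype.ext (adj_adj hσ.2 _)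
  obtain ⟨c, hc⟩ := exists_trace hσ (a := 1) (map_one σ)
  obtain ⟨k, hk0, hk⟩ := exists_skew hσ
  have hτs : ∀ a : F, τ (algebraMap F T a) = algebraMap F T (σ a) :=
    fun a => Subtype.ext (adj_scalar a)
  let h' : T := ⟨h, X, by simp⟩
  have hh'u : IsUnit h' := by
    have hinj : Function.Injective fun x : T => h' * x := fun x y e =>
      Subtype.ext (hu.mul_left_cancel (congrArg Subtype.val e))
    obtain ⟨v, hv⟩ := Finite.surjective_of_injective hinj 1
    exact IsUnit.of_mul_eq_one v hv
  obtain ⟨⟨y, f, rfl⟩, hy⟩ := NormLift.exists_norm_eq τ hτ (z := algebraMap F T c)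
    (by rw [hτs, ← map_add, hc, map_one])
    (by
      by_cases h2 : (2 : F) = 0
      · exact Or.inl (by rw [← map_ofNat (algebraMap F T), h2, map_zero])
      · refine Or.inr ⟨?_, algebraMap F T k, (Ne.isUnit hk0).map _, ?_⟩
        · rw [← map_ofNat (algebraMap F T)]; exact (Ne.isUnit h2).map _
        · rw [hτs, hk, map_neg])
    (t := h') (Subtype.ext hh) hh'u
  refine ⟨f, congrArg Subtype.val hy, ?_⟩
  rw [hcomm] at hy
  exact congrArg Subtype.val hy

/-- Elements of the unitary group conjugate in the general linear group are unitarily conjugate. -/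
theorem exists_unitary_conj [Fintype F] {q : ℕ} (hσ : IsInvol σ) (hσq : ∀ x, σ x = x ^ q)
    {A B P : GL (Fin n) F} (hA : A ∈ Cfsg.GU n F q) (hB : B ∈ Cfsg.GU n F q)
    (hP : P * A * P⁻¹ = B) : ∃ U ∈ Cfsg.GU n F q, U * A * U⁻¹ = B := by
  rw [mem_GU_iff_adj hσq] at hA hB
  have hPA : P.1 * A.1 = B.1 * P.1 := by
    rw [← Units.val_mul, ← Units.val_mul, ← hP, inv_mul_cancel_right]
  set h := adj σ P.1 * P.1 with hh
  have hadjh : adj σ h = h := by rw [hh, adj_mul, adj_adj hσ.2]
  have hadjinv : IsUnit (adj σ P.1) := by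
    refine ⟨⟨adj σ P.1, adj σ (P⁻¹ : GL (Fin n) F).1, ?_, ?_⟩, rfl⟩
    · rw [← adj_mul, Units.inv_mul, adj_one]
    · rw [← adj_mul, Units.mul_inv, adj_one]
  have hu : IsUnit h := hadjinv.mul P.isUnit
  have hB' : B.1 * adj σ B.1 = 1 := mul_eq_one_comm.1 hB
  have hA' : A.1 * adj σ A.1 = 1 := mul_eq_one_comm.1 hA
  have key : adj σ P.1 * B.1 = A.1 * adj σ P.1 := by
    have e : adj σ A.1 * adj σ P.1 = adj σ P.1 * adj σ B.1 := by rw [← adj_mul, ← adj_mul, hPA]
    calc adj σ P.1 * B.1 = A.1 * (adj σ A.1 * adj σ P.1) * B.1 := by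
          rw [← mul_assoc A.1, hA', one_mul]
      _ = A.1 * adj σ P.1 := by rw [e, ← mul_assoc, mul_assoc _ _ B.1, hB, mul_one]
  have hcA : Commute A.1 h := by
    change A.1 * h = h * A.1
    rw [hh, ← mul_assoc, ← key, mul_assoc, mul_assoc, hPA]
  obtain ⟨f, hf, hf'⟩ := exists_polynomial_norm hσ hadjh hu
  set y := aeval h f with hy
  have hcy : Commute A.1 y := hy ▸ commute_aeval hcA f
  have hyu : IsUnit y := by
    obtain ⟨u, hu⟩ := hu
    exact IsUnit.of_mul_eq_one (adj σ y * (↑u⁻¹ : Matrix (Fin n) (Fin n) F))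
      (by rw [← mul_assoc, hf, ← hu, Units.mul_inv])
  obtain ⟨Y, hY⟩ := hyu
  refine ⟨P * Y⁻¹, ?_, ?_⟩
  · rw [mem_GU_iff_adj hσq, Units.val_mul, adj_mul]
    rw [mul_assoc, ← mul_assoc (adj σ P.1), ← hh, ← hf', ← hY, mul_assoc, Units.mul_inv,
      mul_one, ← adj_mul, Units.mul_inv, adj_one]
  · have hc : Commute (Y⁻¹ : GL (Fin n) F) A := by
      apply Commute.units_val_iff.1
      exact (Commute.units_inv_right (u := Y) (hY ▸ hcy)).symm
    rw [_root_.mul_inv_rev, mul_assoc, inv_inv]
    calc P * Y⁻¹ * (A * (Y * P⁻¹)) = P * (Y⁻¹ * A) * Y * P⁻¹ := by group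
      _ = B := by rw [hc.eq, ← hP]; group

end Cfsg.Agent.UnitaryConj
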