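import Cfsg.Agent.MatModule.Semisimple
import Cfsg.Agent.MatModule.SympGroupConj
import Cfsg.Agent.MatModule.UnitaryConj
import Mathlib.FieldTheory.Finite.Extension

/-!
# The centraliser of a fixed-point-free element of order three in the symplectic group
-/

set_option autoImplicit false

namespace Cfsg.Agent.SympFPFThree

open Matrix Polynomial

variable {F : Type*} [Field F] [Fintype F] {m : ℕ}

/-- The model element. -/
def model (m : ℕ) (F : Type*) [Field F] : Matrix (Fin m ⊕ Fin m) (Fin m ⊕ Fin m) F :=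
  Matrix.fromBlocks 0 (-1) 1 (-1)

omit [Fintype F] in
theorem model_mem : model m F ∈ Matrix.symplecticGroup (Fin m) F := by
  rw [SymplecticGroup.mem_iff, model, Matrix.J, Matrix.fromBlocks_transpose, Matrix.fromBlocks_multiply,
    Matrix.fromBlocks_multiply]
  simp

omit [Fintype F] in
theorem model_rel : model m F * model m F + model m F + 1 = 0 := by
  rw [model, Matrix.fromBlocks_multiply, ← Matrix.fromBlocks_one, Matrix.fromBlocks_add, Matrix.fromBlocks_add,
    ← Matrix.fromBlocks_zero]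
  congr 1 <;> simp

/-- The commutant of the model, as pairs of matrices. -/
def pairMat (A B : Matrix (Fin m) (Fin m) F) : Matrix (Fin m ⊕ Fin m) (Fin m ⊕ Fin m) F :=
  Matrix.fromBlocks A (-B) B (A - B)

omit [Fintype F] in
theorem commute_iff (Y : Matrix (Fin m ⊕ Fin m) (Fin m ⊕ Fin m) F) :
    Y * model m F = model m F * Y ↔ ∃ A B, Y = pairMat A B := by
  constructor
  · intro h
    rw [← Matrix.fromBlocks_toBlocks Y, model, Matrix.fromBlocks_multiply, Matrix.fromBlocks_multiply,
      Matrix.fromBlocks_inj] at h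
    simp at h
    obtain ⟨h1, -, h3, -⟩ := h
    refine ⟨Y.toBlocks₁₁, Y.toBlocks₂₁, ?_⟩
    conv_lhs => rw [← Matrix.fromBlocks_toBlocks Y]
    rw [pairMat, h1, h3]
    congr 1
    abel
  · rintro ⟨A, B, rfl⟩
    rw [pairMat, model, Matrix.fromBlocks_multiply, Matrix.fromBlocks_multiply]
    congr 1 <;> simp [sub_eq_add_neg] <;> abel

omit [Fintype F] in
theorem pairMat_mem_iff (A B : Matrix (Fin m) (Fin m) F) :
    pairMat A B ∈ Matrix.symplecticGroup (Fin m) F ↔
      Aᵀ * A + Bᵀ * B - Bᵀ * A = 1 ∧ Aᵀ * B = Bᵀ * A := by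
  rw [SymplecticGroup.mem_iff', pairMat, Matrix.J, Matrix.fromBlocks_transpose, Matrix.fromBlocks_multiply,
    Matrix.fromBlocks_multiply, Matrix.fromBlocks_inj]
  simp only [Matrix.transpose_neg, Matrix.transpose_sub, Matrix.mul_zero, Matrix.zero_mul, add_zero, zero_add,
    Matrix.mul_neg, Matrix.neg_mul, Matrix.mul_one, Matrix.mul_sub, Matrix.sub_mul, neg_neg]
  constructor
  · rintro ⟨h1, -, h3, -⟩
    have e : Aᵀ * B = Bᵀ * A := by linear_combination (norm := abel) (-1 : ℤ) • h1
    refine ⟨?_, e⟩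
    linear_combination (norm := abel) h3
  · rintro ⟨h1, h2⟩
    refine ⟨?_, ?_, ?_, ?_⟩
    · linear_combination (norm := abel) (-1 : ℤ) • h2
    · linear_combination (norm := abel) (-1 : ℤ) • h1 + h2
    · linear_combination (norm := abel) h1
    · linear_combination (norm := abel) (-1 : ℤ) • h2

/-- An element killed by `X² + X + 1`, irreducible, has characteristic polynomial a power of it. -/
theorem charpoly_eq {V : Type*} [AddCommGroup V] [Module F V] [FiniteDimensional F V]
    (hirr : Irreducible (X ^ 2 + X + 1 : F[X])) (φ : Module.End F V) (h : φ * φ + φ + 1 = 0) :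
    φ.charpoly = (X ^ 2 + X + 1 : F[X]) ^ (Module.finrank F V / 2) := by
  classical
  set q₀ : F[X] := X ^ 2 + X + 1 with hq₀
  have hmon : q₀.Monic := by rw [hq₀]; monicity!
  have hdeg : q₀.natDegree = 2 := by rw [hq₀]; compute_degree!
  obtain ⟨ι, _, s, hs, hsi, Φ, hΦ⟩ := MatModule.exists_rootMul φ hirr.squarefree (by
    rw [hq₀, map_add, map_add, map_pow, aeval_X, map_one, pow_two]; exact h)
  haveI : ∀ i, Module.Finite F (AdjoinRoot (s i)) := fun i => MatModule.finite_adjoinRoot (s i) (hs i)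
  haveI : Module.Finite F (∀ i, AdjoinRoot (s i)) := Module.Finite.pi
  have hsq : ∀ i, s i = q₀ := fun i => by
    have h0 : ∀ v i, Φ ((φ * φ + φ + 1 : Module.End F V) v) i =
        (AdjoinRoot.root (s i) * AdjoinRoot.root (s i) + AdjoinRoot.root (s i) + 1) * Φ v i := fun v i => by
      simp [hΦ, MatModule.rootMul_apply, add_mul, mul_assoc]
    have h1 := h0 (Φ.symm 1) i
    rw [h, LinearMap.zero_apply, map_zero, Pi.zero_apply, LinearEquiv.apply_symm_apply, Pi.one_apply,
      mul_one] at h1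
    have h2 : s i ∣ q₀ := AdjoinRoot.mk_eq_zero.1 (by
      rw [hq₀, map_add, map_add, map_pow, AdjoinRoot.mk_X, map_one, pow_two]; exact h1.symm)
    exact eq_of_monic_of_associated (hs i) hmon ((hsi i).associated_of_dvd hirr h2)
  have hc : φ.charpoly = q₀ ^ Fintype.card ι := by
    rw [← Finset.card_univ, ← Finset.prod_const, Finset.prod_congr rfl fun i (_ : i ∈ Finset.univ) => (hsq i).symm,
      ← MatModule.charpoly_rootMul s hs, ← Φ.charpoly_conj φ]
    congr 1
    refine LinearMap.ext fun v => ?_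
    show Φ (φ (Φ.symm v)) = _
    rw [hΦ, LinearEquiv.apply_symm_apply]
  have h2 := congrArg Polynomial.natDegree hc
  rw [φ.charpoly_natDegree, natDegree_pow, hdeg] at h2
  rw [hc, h2, Nat.mul_div_cancel _ two_pos]

omit [Fintype F] in
theorem toLin_rel (A : Matrix (Fin m ⊕ Fin m) (Fin m ⊕ Fin m) F) (h : A * A + A + 1 = 0) :
    Matrix.toLin' A * Matrix.toLin' A + Matrix.toLin' A + 1 = 0 := by
  have := congrArg (Matrix.toLinAlgEquiv' : Matrix (Fin m ⊕ Fin m) (Fin m ⊕ Fin m) F ≃ₐ[F] _) h
  simp only [map_add, map_mul, map_one, map_zero] at this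
  exact this

theorem isConj_model (hirr : Irreducible (X ^ 2 + X + 1 : F[X])) (x : Matrix.symplecticGroup (Fin m) F)
    (h : x.1 * x.1 + x.1 + 1 = 0) : IsConj x ⟨model m F, model_mem⟩ := by
  have hx := toLin_rel x.1 h
  have hy := toLin_rel (model m F) model_rel
  have key : ∀ φ : Module.End F (Fin m ⊕ Fin m → F), φ * φ + φ + 1 = 0 →
      aeval φ (X ^ 2 + X + 1 : F[X]) = 0 := fun φ hφ => by
    rw [map_add, map_add, map_pow, aeval_X, map_one, pow_two]; exact hφ
  obtain ⟨Θ, hΘ⟩ := MatModule.exists_conj_of_charpoly_eq (Matrix.toLin' x.1) (Matrix.toLin' (model m F))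
    hirr.squarefree (key _ hx) hirr.squarefree (key _ hy) (by rw [charpoly_eq hirr _ hx, charpoly_eq hirr _ hy])
  exact SympConj.isConj_of_linear x _ hirr.squarefree (key _ hx) Θ fun v => by
    simpa [Matrix.toLin'_apply] using hΘ v

theorem card_centralizer_model {K : Type*} [Field K] [Fintype K] [Algebra F K] {q : ℕ}
    (hF : Fintype.card F = q) (hK : Fintype.card K = q ^ 2) (ω : K) (hω : ω ^ 2 + ω + 1 = 0)
    (hq : q % 3 = 2) (hirr : Irreducible (X ^ 2 + X + 1 : F[X])) :
    Nat.card (Subgroup.centralizer ({⟨model m F, model_mem⟩} : Set (Matrix.symplecticGroup (Fin m) F))) =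
      Nat.card (Cfsg.GU m K q) := by
  classical
  obtain ⟨σ, hσq, hσ, -, -⟩ := Classical.exists_powHom hK
  set ι := algebraMap F K with hι
  have hσF : ∀ a : F, σ (ι a) = ι a := fun a => by rw [hσq, ← map_pow, ← hF, FiniteField.pow_card]
  have hω3 : ω ^ 3 = 1 := by linear_combination (ω - 1) * hω
  have hσω : σ ω = -1 - ω := by
    rw [hσq, ← Nat.div_add_mod q 3, hq, pow_add, pow_mul, hω3, one_pow, one_mul]
    linear_combination hω
  have hnF : ∀ a : F, ι a ≠ ω := by
    intro a ha
    have h1 : (X ^ 2 + X + 1 : F[X]).IsRoot a := by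
      apply ι.injective
      simp only [eval_add, eval_pow, eval_X, eval_one, map_add, map_pow, map_one, map_zero]
      rw [ha, hω]
    have h2 := degree_eq_one_of_irreducible_of_root hirr h1
    have h3 : (X ^ 2 + X + 1 : F[X]).degree = 2 := by compute_degree!
    rw [h3] at h2
    exact absurd h2 (by decide)
  set e : F × F → K := fun p => ι p.1 + ω * ι p.2 with he
  have heinj : Function.Injective e := by
    rintro ⟨a, b⟩ ⟨a', b'⟩ h
    simp only [he] at h
    by_cases hb : b = b'
    · subst hb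
      rw [ι.injective (add_right_cancel h)]
    · exfalso
      apply hnF ((a - a') / (b' - b))
      have h0 : ι b' - ι b ≠ 0 := sub_ne_zero.2 fun hh => hb (ι.injective hh.symm)
      rw [map_div₀, map_sub, map_sub, div_eq_iff h0]
      linear_combination h
  have hebij : Function.Bijective e := (Nat.bijective_iff_injective_and_card e).2 ⟨heinj, by
    rw [Nat.card_prod, Nat.card_eq_fintype_card, Nat.card_eq_fintype_card, hF, hK, sq]⟩
  set E : Matrix (Fin m) (Fin m) F × Matrix (Fin m) (Fin m) F → Matrix (Fin m) (Fin m) K :=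
    fun p => p.1.map ι + ω • p.2.map ι with hE
  have hEbij : Function.Bijective E := by
    constructor
    · intro p p' h
      have h' : ∀ i j, e (p.1 i j, p.2 i j) = e (p'.1 i j, p'.2 i j) := fun i j => congrFun (congrFun h i) j
      exact Prod.ext (Matrix.ext fun i j => (Prod.ext_iff.1 (heinj (h' i j))).1)
        (Matrix.ext fun i j => (Prod.ext_iff.1 (heinj (h' i j))).2)
    · intro M
      refine ⟨(Matrix.of fun i j => ((Equiv.ofBijective e hebij).symm (M i j)).1,
        Matrix.of fun i j => ((Equiv.ofBijective e hebij).symm (M i j)).2), Matrix.ext fun i j => ?_⟩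
      exact (Equiv.ofBijective e hebij).apply_symm_apply (M i j)
  have hmap : ∀ A B : Matrix (Fin m) (Fin m) F, (A * B).map ι = A.map ι * B.map ι := fun A B => Matrix.map_mul
  have hiff : ∀ A B : Matrix (Fin m) (Fin m) F, pairMat A B ∈ Matrix.symplecticGroup (Fin m) F ↔
      UnitaryConj.adj σ (E (A, B)) * E (A, B) = 1 := by
    intro A B
    have hadj : UnitaryConj.adj σ (E (A, B)) = (A.map ι)ᵀ + (-1 - ω) • (B.map ι)ᵀ := by
      ext i j
      simp [UnitaryConj.adj, hE, hσF, hσω]
    have hprod : UnitaryConj.adj σ (E (A, B)) * E (A, B) =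
        E (Aᵀ * A + Bᵀ * B - Bᵀ * A, Aᵀ * B - Bᵀ * A) := by
      rw [hadj]
      simp only [hE, Matrix.map_sub _ (map_sub ι), Matrix.map_add _ (map_add ι), hmap, Matrix.transpose_map,
        Matrix.add_mul, Matrix.mul_add, Matrix.smul_mul, Matrix.mul_smul, smul_smul, smul_sub]
      match_scalars <;> first | linear_combination hω | linear_combination -hω | ring
    have hE1 : E (1, 0) = 1 := by simp [hE]
    rw [pairMat_mem_iff, hprod, ← hE1, hEbij.1.eq_iff, Prod.ext_iff, sub_eq_zero]
  symm
  have hmem : ∀ g : Cfsg.GU m K q, pairMat ((Function.surjInv hEbij.2 g.1.1).1) ((Function.surjInv hEbij.2 g.1.1).2) ∈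
      Matrix.symplecticGroup (Fin m) F := fun g => by
    rw [hiff, Function.surjInv_eq hEbij.2]
    exact (UnitaryConj.mem_GU_iff_adj hσq g.1).1 g.2
  refine Nat.card_eq_of_bijective (fun g => ⟨⟨_, hmem g⟩, Subgroup.mem_centralizer_singleton_iff.2
    (Subtype.ext ((commute_iff _).2 ⟨_, _, rfl⟩))⟩) ⟨?_, ?_⟩
  · intro g g' h
    have h' := Matrix.fromBlocks_inj.1 (congrArg (fun z => z.1.1) h)
    refine Subtype.ext (Units.ext ?_)
    rw [← Function.surjInv_eq hEbij.2 g.1.1, ← Function.surjInv_eq hEbij.2 g'.1.1]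
    exact congrArg E (Prod.ext h'.1 h'.2.2.1)
  · rintro ⟨Y, hY⟩
    have h1 := congrArg Subtype.val (Subgroup.mem_centralizer_singleton_iff.1 hY)
    obtain ⟨A, B, hAB⟩ := (commute_iff Y.1).1 h1
    have hM := (hiff A B).1 (hAB ▸ Y.2)
    refine ⟨⟨⟨E (A, B), _, mul_eq_one_comm.1 hM, hM⟩, (UnitaryConj.mem_GU_iff_adj hσq _).2 hM⟩,
      Subtype.ext (Subtype.ext ?_)⟩
    show pairMat (Function.surjInv hEbij.2 (E (A, B))).1 (Function.surjInv hEbij.2 (E (A, B))).2 = Y.1
    rw [Function.leftInverse_surjInv hEbij (A, B), hAB]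

theorem card_centralizer_eq_of_isConj {G : Type*} [Group G] {x y : G} (h : IsConj x y) :
    Nat.card (Subgroup.centralizer ({x} : Set G)) = Nat.card (Subgroup.centralizer ({y} : Set G)) := by
  obtain ⟨c, rfl⟩ := isConj_iff.1 h
  refine Nat.card_congr ((MulAut.conj c).toEquiv.subtypeEquiv fun g => ?_)
  simp only [Subgroup.mem_centralizer_singleton_iff, MulEquiv.toEquiv_eq_coe, EquivLike.coe_coe,
    MulAut.conj_apply]
  constructor
  · intro hg
    calc c * g * c⁻¹ * (c * x * c⁻¹) = c * (g * x) * c⁻¹ := by group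
      _ = c * (x * g) * c⁻¹ := by rw [hg]
      _ = c * x * c⁻¹ * (c * g * c⁻¹) := by group
  · intro hg
    have h2 : c * (g * x) * c⁻¹ = c * (x * g) * c⁻¹ := by
      calc c * (g * x) * c⁻¹ = c * g * c⁻¹ * (c * x * c⁻¹) := by group
        _ = c * x * c⁻¹ * (c * g * c⁻¹) := hg
        _ = c * (x * g) * c⁻¹ := by group
    exact mul_left_cancel (mul_right_cancel h2)

end Cfsg.Agent.SympFPFThree
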