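import Mathlib

/-!
# An upper bound for the weighted numbers of self-reciprocal sequences
-/

set_option autoImplicit false

namespace Cfsg.Agent.FormClass

/-- `q ^ (d / 2)` at even `d`, zero at odd `d`. -/
def hh (q d : ℕ) : ℕ := if Even d then q ^ (d / 2) else 0

/-- Coefficients of `(1 + t) ^ k / (1 - q t²)`. -/
def bin (q k j : ℕ) : ℕ := ∑ a ∈ Finset.range (k + 1), if a ≤ j then k.choose a * hh q (j - a) else 0

/-- Bound for the polynomials of degree `j` allowed at weight `m`. -/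
def cw (q m j : ℕ) : ℕ := if Odd m then hh q j else bin q 4 j

/-- Weighted sequences, weights starting at `m`, of total weight `2 n`. -/
def SP (q m n : ℕ) : ℕ :=
  if n = 0 then 1 else if h : m = 0 ∨ 2 * n < m then 0
  else ∑ j ∈ Finset.range (2 * n / m + 1), cw q m j * SP q (m + 1) (n - m * j / 2)
termination_by 2 * n + 1 - m
decreasing_by
  have := Nat.sub_le n (m * j / 2)
  omega

theorem SP_zero (q m : ℕ) : SP q m 0 = 1 := by rw [SP, if_pos rfl]

theorem SP_lt (q : ℕ) {m n : ℕ} (hn : n ≠ 0) (h : 2 * n < m) : SP q m n = 0 := by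
  rw [SP, if_neg hn, dif_pos (Or.inr h)]

theorem cw_zero (q m : ℕ) : cw q m 0 = 1 := by
  unfold cw
  split_ifs
  · simp [hh]
  · simp [bin, hh]

theorem SP_sum (q : ℕ) {m : ℕ} (hm : 1 ≤ m) (n : ℕ) :
    SP q m n = ∑ j ∈ Finset.range (2 * n / m + 1), cw q m j * SP q (m + 1) (n - m * j / 2) := by
  rcases Nat.eq_zero_or_pos n with rfl | hn
  · simp [SP_zero, cw_zero]
  by_cases h : 2 * n < m
  · rw [SP_lt q hn.ne' h, Nat.div_eq_of_lt h]
    simp [cw_zero, SP_lt q hn.ne' (show 2 * n < m + 1 by omega)]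
  · rw [SP, if_neg hn.ne', dif_neg (by omega)]

/-- Scaled partial sums. -/
def TS (q m N : ℕ) : ℚ := ∑ n ∈ Finset.range N, (SP q m n : ℚ) / (q : ℚ) ^ n

theorem TS_nonneg (q m N : ℕ) : 0 ≤ TS q m N :=
  Finset.sum_nonneg fun n _ => by positivity

theorem TS_of_le (q : ℕ) {m N : ℕ} (h : 2 * N ≤ m + 1) : TS q m N ≤ 1 := by
  rcases N with _ | N
  · simp [TS]
  rw [TS, Finset.sum_range_succ', Finset.sum_eq_zero]
  · simp [SP_zero]
  · intro n hn
    rw [Finset.mem_range] at hn
    rw [SP_lt q (Nat.succ_ne_zero n) (show 2 * (n + 1) < m by omega)]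
    simp

theorem TS_step (q : ℕ) {m : ℕ} (hm : 1 ≤ m) (N : ℕ) {G : ℚ}
    (hG : ∀ M, ∑ j ∈ Finset.range M, (cw q m j : ℚ) / (q : ℚ) ^ (m * j / 2) ≤ G) :
    TS q m N ≤ G * TS q (m + 1) N := by
  calc TS q m N
      ≤ ∑ n ∈ Finset.range N, ∑ j ∈ Finset.range (2 * N + 1), (if m * j / 2 ≤ n then
          ((cw q m j : ℚ) / (q : ℚ) ^ (m * j / 2)) *
            ((SP q (m + 1) (n - m * j / 2) : ℚ) / (q : ℚ) ^ (n - m * j / 2)) else 0) := by
        refine Finset.sum_le_sum fun n hn => ?_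
        rw [Finset.mem_range] at hn
        rw [SP_sum q hm, Nat.cast_sum, Finset.sum_div, ← Finset.sum_filter]
        refine le_trans (le_of_eq (Finset.sum_congr rfl fun j hj => ?_))
          (Finset.sum_le_sum_of_subset_of_nonneg ?_ fun j _ _ => by positivity)
        · have hle : m * j / 2 ≤ n := by
            rw [Finset.mem_range, Nat.lt_succ_iff, Nat.le_div_iff_mul_le (by omega), mul_comm] at hj
            omega
          rw [Nat.cast_mul, div_mul_div_comm, ← pow_add, Nat.add_sub_cancel' hle]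
        · intro j hj
          rw [Finset.mem_range, Nat.lt_succ_iff, Nat.le_div_iff_mul_le (by omega), mul_comm] at hj
          have := Nat.le_mul_of_pos_left j (show 0 < m by omega)
          simp only [Finset.mem_filter, Finset.mem_range]
          exact ⟨by omega, by omega⟩
    _ = ∑ j ∈ Finset.range (2 * N + 1), ((cw q m j : ℚ) / (q : ℚ) ^ (m * j / 2)) *
          ∑ n ∈ Finset.range N, (if m * j / 2 ≤ n then
            (SP q (m + 1) (n - m * j / 2) : ℚ) / (q : ℚ) ^ (n - m * j / 2) else 0) := by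
        rw [Finset.sum_comm]
        refine Finset.sum_congr rfl fun j _ => ?_
        rw [Finset.mul_sum]
        exact Finset.sum_congr rfl fun n _ => by split_ifs <;> simp
    _ ≤ ∑ j ∈ Finset.range (2 * N + 1), ((cw q m j : ℚ) / (q : ℚ) ^ (m * j / 2)) * TS q (m + 1) N := by
        refine Finset.sum_le_sum fun j _ => mul_le_mul_of_nonneg_left ?_ (by positivity)
        rw [← Finset.sum_filter]
        have himg : ((Finset.range N).filter fun n => m * j / 2 ≤ n).image (fun n => n - m * j / 2) ⊆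
            Finset.range N := by
          intro x hx
          simp only [Finset.mem_image, Finset.mem_filter, Finset.mem_range] at hx ⊢
          obtain ⟨n, ⟨hn, -⟩, rfl⟩ := hx
          omega
        refine le_trans ?_ (Finset.sum_le_sum_of_subset_of_nonneg himg fun n _ _ => by positivity)
        rw [Finset.sum_image (f := fun n => (SP q (m + 1) n : ℚ) / (q : ℚ) ^ n)]
        intro a ha b hb h
        have ha' := (Finset.mem_filter.1 ha).2
        have hb' := (Finset.mem_filter.1 hb).2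
        simp only at h
        omega
    _ ≤ _ := by
        rw [← Finset.sum_mul]
        exact mul_le_mul_of_nonneg_right (hG _) (TS_nonneg _ _ _)

theorem sum_geom_le {y y0 : ℚ} (hy : 0 ≤ y) (hle : y ≤ y0) (h1 : y0 < 1) (M : ℕ) :
    ∑ i ∈ Finset.range M, y ^ i ≤ 1 / (1 - y0) := by
  refine (Finset.sum_le_sum fun i _ => pow_le_pow_left₀ hy hle i).trans ?_
  rw [geom_sum_eq h1.ne, le_div_iff₀ (by linarith), div_mul_eq_mul_div, div_le_iff_of_neg (by linarith)]
  have : 0 ≤ y0 ^ M := pow_nonneg (hy.trans hle) _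
  nlinarith

theorem sum_hh_le (q a M : ℕ) (f : ℕ → ℚ) (hf : ∀ j, 0 ≤ f j) :
    ∑ j ∈ Finset.range M, (if a ≤ j then (hh q (j - a) : ℚ) * f j else 0) ≤
      ∑ i ∈ Finset.range M, (q : ℚ) ^ i * f (a + 2 * i) := by
  calc ∑ j ∈ Finset.range M, (if a ≤ j then (hh q (j - a) : ℚ) * f j else 0)
      = ∑ j ∈ (Finset.range M).filter (fun j => a ≤ j ∧ Even (j - a)), (q : ℚ) ^ ((j - a) / 2) * f j := by
        rw [Finset.sum_filter]
        refine Finset.sum_congr rfl fun j _ => ?_
        by_cases h : a ≤ j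
        · by_cases h' : Even (j - a) <;> simp [hh, h, h']
        · simp [h]
    _ ≤ ∑ j ∈ (Finset.range M).image (fun i => a + 2 * i), (q : ℚ) ^ ((j - a) / 2) * f j := by
        refine Finset.sum_le_sum_of_subset_of_nonneg ?_ fun j _ _ => mul_nonneg (by positivity) (hf j)
        intro j hj
        simp only [Finset.mem_filter, Finset.mem_range] at hj
        obtain ⟨hj, ha, r, hr⟩ := hj
        exact Finset.mem_image.2 ⟨r, Finset.mem_range.2 (by omega), by omega⟩
    _ = ∑ i ∈ Finset.range M, (q : ℚ) ^ i * f (a + 2 * i) := by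
        rw [Finset.sum_image (fun x _ y _ h => by omega)]
        exact Finset.sum_congr rfl fun i _ => by rw [Nat.add_sub_cancel_left, Nat.mul_div_cancel_left _ two_pos]

theorem inv_pow_le {q : ℕ} (hq : 3 ≤ q) (k : ℕ) : 1 / (q : ℚ) ^ k ≤ 1 / (3 : ℚ) ^ k := by
  gcongr
  exact_mod_cast hq

theorem weight_odd {q : ℕ} (hq : 3 ≤ q) (l : ℕ) (hl : 1 ≤ l) (M : ℕ) :
    ∑ j ∈ Finset.range M, (cw q (2 * l + 1) j : ℚ) / (q : ℚ) ^ ((2 * l + 1) * j / 2) ≤ 1 / (1 - 1 / 3 ^ (2 * l)) := by
  have hq0 : (0 : ℚ) < q := by exact_mod_cast (show 0 < q by omega)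
  have h := sum_hh_le q 0 M (fun j => 1 / (q : ℚ) ^ ((2 * l + 1) * j / 2)) (fun j => by positivity)
  refine le_trans (le_of_eq (Finset.sum_congr rfl fun j _ => ?_)) (h.trans (le_trans (le_of_eq
    (Finset.sum_congr rfl (g := fun i => (1 / (q : ℚ) ^ (2 * l)) ^ i) fun i _ => ?_)) (sum_geom_le (by positivity)
      (inv_pow_le hq _) ?_ M)))
  · rw [if_pos (Nat.zero_le _), Nat.sub_zero, cw, if_pos (odd_two_mul_add_one l), mul_one_div]
  · rw [zero_add, one_div_pow, ← pow_mul, show (2 * l + 1) * (2 * i) / 2 = 2 * l * i + i by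
      rw [show (2 * l + 1) * (2 * i) = (2 * l * i + i) * 2 by ring, Nat.mul_div_cancel _ two_pos], pow_add]
    field_simp
  · rw [div_lt_one (by positivity)]
    exact one_lt_pow₀ (by norm_num) (by omega)

theorem weight_even {q : ℕ} (hq : 3 ≤ q) (l : ℕ) (hl : 1 ≤ l) (M : ℕ) :
    ∑ j ∈ Finset.range M, (cw q (2 * l) j : ℚ) / (q : ℚ) ^ (2 * l * j / 2) ≤
      (1 + 1 / 3 ^ l) ^ 4 / (1 - 1 / 3 ^ (2 * l - 1)) := by
  have hq0 : (0 : ℚ) < q := by exact_mod_cast (show 0 < q by omega)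
  set x : ℚ := 1 / (q : ℚ) ^ l
  set y : ℚ := 1 / (q : ℚ) ^ (2 * l - 1)
  set y0 : ℚ := 1 / (3 : ℚ) ^ (2 * l - 1)
  have hy1 : y0 < 1 := (div_lt_one (by positivity)).2 (one_lt_pow₀ (by norm_num) (by omega))
  have key : ∀ a, ∑ j ∈ Finset.range M, (if a ≤ j then (hh q (j - a) : ℚ) * (1 / (q : ℚ) ^ (l * j)) else 0) ≤
      x ^ a * (1 / (1 - y0)) := by
    intro a
    refine (sum_hh_le q a M (fun j => 1 / (q : ℚ) ^ (l * j)) (fun j => by positivity)).trans ?_
    refine le_trans (le_of_eq (Finset.sum_congr rfl (g := fun i => x ^ a * y ^ i) fun i _ => ?_)) ?_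
    · simp only [x, y, one_div_pow, ← pow_mul]
      rw [show l * (a + 2 * i) = l * a + ((2 * l - 1) * i + i) by
        rw [← Nat.succ_mul, Nat.succ_eq_add_one, Nat.sub_add_cancel (by omega)]; ring, pow_add, pow_add]
      field_simp
    · rw [← Finset.mul_sum]
      exact mul_le_mul_of_nonneg_left (sum_geom_le (by positivity) (inv_pow_le hq _) hy1 M) (by positivity)
  calc ∑ j ∈ Finset.range M, (cw q (2 * l) j : ℚ) / (q : ℚ) ^ (2 * l * j / 2)
      = ∑ a ∈ Finset.range 5, ((Nat.choose 4 a : ℕ) : ℚ) * ∑ j ∈ Finset.range M,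
          (if a ≤ j then (hh q (j - a) : ℚ) * (1 / (q : ℚ) ^ (l * j)) else 0) := by
        simp only [Finset.mul_sum]
        rw [Finset.sum_comm]
        refine Finset.sum_congr rfl fun j _ => ?_
        rw [cw, if_neg (Nat.not_odd_iff_even.2 (even_two_mul l)), bin, Nat.cast_sum, Finset.sum_div, mul_assoc,
          Nat.mul_div_cancel_left _ two_pos]
        refine Finset.sum_congr rfl fun a _ => ?_
        split_ifs
        · push_cast; ring
        · simp
    _ ≤ ∑ a ∈ Finset.range 5, ((Nat.choose 4 a : ℕ) : ℚ) * ((1 / (3 : ℚ) ^ l) ^ a * (1 / (1 - y0))) :=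
        Finset.sum_le_sum fun a _ => mul_le_mul_of_nonneg_left ((key a).trans (mul_le_mul_of_nonneg_right
          (pow_le_pow_left₀ (by positivity) (inv_pow_le hq l) a) (div_nonneg zero_le_one (by linarith))))
          (Nat.cast_nonneg _)
    _ = (1 + 1 / 3 ^ l) ^ 4 / (1 - y0) := by
        rw [add_comm (1 : ℚ), add_pow, Finset.sum_div]
        exact Finset.sum_congr rfl fun a _ => by ring

theorem TS_tail {q : ℕ} (hq : 3 ≤ q) (N : ℕ) :
    ∀ k l, 7 ≤ l → 2 * N ≤ 2 * l + k → TS q (2 * l) N ≤ 1 + 14 / (3 : ℚ) ^ l := by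
  intro k
  induction k with
  | zero =>
    intro l _ h
    have := TS_of_le q (show 2 * N ≤ 2 * l + 1 by omega)
    have : (0 : ℚ) ≤ 14 / (3 : ℚ) ^ l := by positivity
    linarith
  | succ k ih =>
    intro l hl h
    have h1 := TS_step q (show 1 ≤ 2 * l by omega) N (weight_even hq l (by omega))
    have h2 := TS_step q (show 1 ≤ 2 * l + 1 by omega) N (weight_odd hq l (by omega))
    have h3 := ih (l + 1) (by omega) (by omega)
    have hX : (2187 : ℚ) ≤ 3 ^ l := by
      calc (2187 : ℚ) = 3 ^ 7 := by norm_num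
        _ ≤ 3 ^ l := pow_le_pow_right₀ (by norm_num) hl
    have e1 : (3 : ℚ) ^ (2 * l) = (3 ^ l) ^ 2 := by rw [← pow_mul, mul_comm]
    have e2 : (3 : ℚ) ^ (2 * l - 1) = (3 ^ l) ^ 2 / 3 := by
      rw [eq_div_iff (by norm_num), ← pow_succ, ← e1, Nat.sub_add_cancel (by omega)]
    have e3 : 2 * (l + 1) = 2 * l + 1 + 1 := by ring
    rw [e3, pow_succ] at h3
    rw [e2] at h1
    rw [e1] at h2
    set r : ℚ := 1 / (3 : ℚ) ^ l with hr
    have hr0 : 0 ≤ r := by positivity
    have hr1 : r ≤ 1 / 2187 := by rw [hr]; gcongr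
    have er : (1 : ℚ) / ((3 ^ l) ^ 2 / 3) = 3 * r ^ 2 := by rw [hr]; field_simp
    have er2 : (1 : ℚ) / (3 ^ l) ^ 2 = r ^ 2 := by rw [hr]; field_simp
    rw [er] at h1
    rw [er2] at h2
    have er3 : 14 / ((3 : ℚ) ^ l * 3) = 14 / 3 * r := by rw [hr]; field_simp
    rw [er3] at h3
    rw [show 14 / (3 : ℚ) ^ l = 14 * r by rw [hr]; field_simp]
    have hr2 : r ^ 2 ≤ r * (1 / 2187) := by rw [sq]; exact mul_le_mul_of_nonneg_left hr1 hr0
    have ha : (1 + r) ^ 4 / (1 - 3 * r ^ 2) ≤ 1 + 5 * r := by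
      rw [div_le_iff₀ (by nlinarith)]
      nlinarith [mul_le_mul hr2 hr1 hr0 (by positivity), pow_nonneg hr0 4, pow_nonneg hr0 3]
    have hb : 1 / (1 - r ^ 2) ≤ 1 + r := by
      rw [div_le_iff₀ (by nlinarith)]
      nlinarith [mul_le_mul hr2 hr1 hr0 (by positivity)]
    have hA := TS_nonneg q (2 * l + 1) N
    have hB := TS_nonneg q (2 * l + 1 + 1) N
    calc TS q (2 * l) N ≤ (1 + 5 * r) * TS q (2 * l + 1) N := h1.trans (mul_le_mul_of_nonneg_right ha hA)
      _ ≤ (1 + 5 * r) * ((1 + r) * (1 + 14 / 3 * r)) :=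
          mul_le_mul_of_nonneg_left ((h2.trans (mul_le_mul_of_nonneg_right hb hB)).trans
            (mul_le_mul_of_nonneg_left h3 (by linarith))) (by linarith)
      _ ≤ 1 + 14 * r := by
          nlinarith [mul_le_mul hr2 hr1 hr0 (by positivity)]

theorem TS_two {q : ℕ} (hq : 3 ≤ q) (N : ℕ) : TS q 2 N ≤ 54 / 5 := by
  have ev := fun l (hl : 1 ≤ l) => TS_step q (show 1 ≤ 2 * l by omega) N (weight_even hq l hl)
  have od := fun l (hl : 1 ≤ l) => TS_step q (show 1 ≤ 2 * l + 1 by omega) N (weight_odd hq l hl)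
  have h14 := TS_tail hq N (2 * N) 7 le_rfl (by omega)
  have a1 := ev 1 le_rfl
  have a2 := ev 2 (by omega)
  have a3 := ev 3 (by omega)
  have a4 := ev 4 (by omega)
  have a5 := ev 5 (by omega)
  have a6 := ev 6 (by omega)
  have b1 := od 1 le_rfl
  have b2 := od 2 (by omega)
  have b3 := od 3 (by omega)
  have b4 := od 4 (by omega)
  have b5 := od 5 (by omega)
  have b6 := od 6 (by omega)
  norm_num at a1 a2 a3 a4 a5 a6 b1 b2 b3 b4 b5 b6 h14
  linarith

theorem SP_one_le {q : ℕ} (hq : 3 ≤ q) (n : ℕ) : 5 * SP q 1 n ≤ 54 * q ^ n := by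
  have hT := TS_two hq (n + 1)
  have h : (SP q 1 n : ℚ) ≤ (q : ℚ) ^ n * TS q 2 (n + 1) := by
    rw [SP_sum q le_rfl, Nat.div_one, Nat.cast_sum]
    refine le_trans (le_of_eq (Finset.sum_congr rfl (g := fun j => if 0 ≤ j then
      (hh q (j - 0) : ℚ) * (SP q 2 (n - j / 2) : ℚ) else 0) fun j _ => ?_)) ?_
    · rw [if_pos (Nat.zero_le _), Nat.sub_zero, cw, if_pos odd_one, one_mul, Nat.cast_mul]
    · calc ∑ j ∈ Finset.range (2 * n + 1), (if 0 ≤ j then (hh q (j - 0) : ℚ) * (SP q 2 (n - j / 2) : ℚ) else 0)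
          = ∑ i ∈ Finset.range (n + 1), (q : ℚ) ^ i * (SP q 2 (n - i) : ℚ) := by
            symm
            refine Finset.sum_of_injOn (fun i => 2 * i) (fun x _ y _ h => by simp only at h; omega)
              (fun i hi => by
                simp only [Finset.coe_range, Set.mem_Iio] at hi ⊢
                omega) (fun j hj hj' => ?_) (fun i _ => ?_)
            · rw [if_pos (Nat.zero_le _), Nat.sub_zero, hh, if_neg, Nat.cast_zero, zero_mul]
              rintro ⟨r, rfl⟩
              rw [Finset.mem_range] at hj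
              exact hj' ⟨r, by simp only [Finset.coe_range, Set.mem_Iio]; omega, by ring⟩
            · simp [hh]
        _ = (q : ℚ) ^ n * TS q 2 (n + 1) := by
            rw [TS, Finset.mul_sum, ← Finset.sum_range_reflect]
            refine Finset.sum_congr rfl fun i hi => ?_
            rw [Finset.mem_range] at hi
            rw [Nat.add_sub_cancel, Nat.sub_sub_self (by omega : i ≤ n)]
            have e : (q : ℚ) ^ n = (q : ℚ) ^ (n - i) * (q : ℚ) ^ i := by rw [← pow_add]; congr 1; omega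
            have : (q : ℚ) ^ i ≠ 0 := pow_ne_zero _ (by exact_mod_cast (show q ≠ 0 by omega))
            rw [e]
            field_simp
        _ ≤ _ := le_rfl
  have : (5 * SP q 1 n : ℚ) ≤ 54 * (q : ℚ) ^ n := by
    have hpos : (0 : ℚ) ≤ (q : ℚ) ^ n := by positivity
    nlinarith [mul_le_mul_of_nonneg_left hT hpos]
  exact_mod_cast this

end Cfsg.Agent.FormClass
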