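import Cfsg.Agent.MatModule.UnipotentFormModel
import Cfsg.Agent.MatModule.UnipotentFormCount

/-!
# Similarity to the matrix of a Jordan type
-/

set_option autoImplicit false

namespace Cfsg.Agent.UniForm

open Module Cfsg.Agent.MatModule

variable {F : Type*} [Field F] {n : Type*} [Fintype n] [DecidableEq n] {t : ℕ} {d : Fin t → ℕ}

theorem hasType_of_isConj (e : ((k : Fin t) × Fin (d k)) ≃ n) {A : Matrix n n F}
    (h : IsConj (Matrix.reindex e e (Cfsg.jordanTypeMatrix d F)) A) :
    HasType (Matrix.toLin' A) (Finset.univ.val.map d) := by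
  obtain ⟨c, hc⟩ := h
  have h1 := hasType_equiv (LinearEquiv.funCongrLeft F F e.symm)
    (φ := Matrix.toLin' (Cfsg.jordanTypeMatrix d F))
    (ψ := Matrix.toLin' (Matrix.reindex e e (Cfsg.jordanTypeMatrix d F))) (fun x => by
      funext i
      simp only [Matrix.toLin'_apply, Matrix.reindex_apply, LinearEquiv.funCongrLeft_apply,
        LinearMap.funLeft_apply, Matrix.submatrix_mulVec_equiv]
      simp [Function.comp_def, LinearMap.funLeft]) (hasType_jordan d)
  refine hasType_equiv (LinearEquiv.ofLinearMap (Matrix.toLin' c.1) (Matrix.toLin' (c⁻¹ : (Matrix n n F)ˣ).1)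
    (by rw [← Matrix.toLin'_mul, Units.mul_inv, Matrix.toLin'_one])
    (by rw [← Matrix.toLin'_mul, Units.inv_mul, Matrix.toLin'_one])) (fun x => ?_) h1
  show Matrix.toLin' c.1 (Matrix.toLin' _ x) = Matrix.toLin' A (Matrix.toLin' c.1 x)
  rw [← LinearMap.comp_apply, ← LinearMap.comp_apply, ← Matrix.toLin'_mul, ← Matrix.toLin'_mul, hc.eq]

theorem exists_isConj_of_hasType (hd : ∑ k, d k = Fintype.card n) {A : Matrix n n F}
    (h : HasType (Matrix.toLin' A) (Finset.univ.val.map d)) :
    ∃ e : ((k : Fin t) × Fin (d k)) ≃ n, IsConj (Matrix.reindex e e (Cfsg.jordanTypeMatrix d F)) A := by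
  let e : ((k : Fin t) × Fin (d k)) ≃ n := Fintype.equivOfCardEq (by simp [hd])
  refine ⟨e, ?_⟩
  obtain ⟨Θ, hΘ⟩ := exists_conj_of_hasType (hasType_of_isConj e (IsConj.refl _)) h
  let T : (Matrix n n F)ˣ := Units.map (Matrix.toLinAlgEquiv'.symm : Module.End F (n → F) ≃ₐ[F] _).toAlgHom.toRingHom.toMonoidHom
    (LinearMap.GeneralLinearGroup.ofLinearEquiv Θ)
  refine ⟨T, Matrix.toLin'.injective ?_⟩
  have hT : Matrix.toLin' T.1 = (Θ : (n → F) →ₗ[F] n → F) := Matrix.toLin'_toMatrix' _
  rw [Matrix.toLin'_mul, Matrix.toLin'_mul, hT]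
  exact LinearMap.ext hΘ

theorem count_types (j : ℕ) :
    (Finset.univ.val.map d).count j = (Finset.univ.filter (fun k : Fin t => d k = j)).card := by
  rw [Multiset.count_map]
  simp [Finset.card_def, Finset.filter_val, eq_comm]

theorem pow_eq_zero_of_hasType {V : Type*} [AddCommGroup V] [Module F V] {φ : Module.End F V}
    {m : Multiset ℕ} (h : HasType φ m) : (φ - 1) ^ m.sum = 0 :=
  (sub_one_pow_eq_zero_iff h _).2 fun _ he => Multiset.le_sum_of_mem he

end Cfsg.Agent.UniForm
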