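import Cfsg.Agent.MatModule.FormRealise
import Cfsg.Agent.MatModule.FormSplit
import Cfsg.Agent.MatModule.SympGroupConj
import Cfsg.Agent.MatModule.UnipotentFormBridge

/-!
# Unipotent classes of the symplectic group in odd characteristic

They correspond to the partitions in which odd parts have even multiplicity, with a set of even parts.
-/

set_option autoImplicit false

namespace Cfsg.Agent.FormClass

open Module Matrix Cfsg.Agent.MatModule Cfsg.Agent.SympConj Cfsg.Agent.Classical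

variable {F : Type*} [Field F] {n : ℕ}

/-- The type and the layers with square discriminant. -/
def HasInv (A : Matrix.symplecticGroup (Fin n) F) (m : Multiset ℕ) (s : Finset ℕ) : Prop :=
  (0 : ℕ) ∉ m ∧ HasType (Matrix.toLin' A.1) m ∧
    ∀ e, e ∈ s ↔ Even e ∧ e ∈ m ∧ DiscSq (sympB n F) (Matrix.toLin' A.1) e

theorem signed_symp (A : Matrix.symplecticGroup (Fin n) F) : Signed (-1) (sympB n F) (Matrix.toLin' A.1) :=
  Good.signed ⟨sympB_isAlt, fun x hx => sympB_nondeg.1 x hx, fun x y => by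
    rw [Matrix.toLin'_apply, Matrix.toLin'_apply]; exact (mem_symplectic_iff A.1).1 A.2 x y⟩

theorem pow_eq_zero_of_type {V : Type*} [AddCommGroup V] [Module F V] {φ : Module.End F V} {m : Multiset ℕ}
    (h : HasType φ m) : (φ - 1) ^ m.sum = 0 :=
  (sub_one_pow_eq_zero_iff h _).2 fun _ he => Multiset.le_sum_of_mem he

theorem hasInv_unique {A : Matrix.symplecticGroup (Fin n) F} {m m' : Multiset ℕ} {s s' : Finset ℕ}
    (h : HasInv A m s) (h' : HasInv A m' s') : m = m' ∧ s = s' := by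
  obtain rfl := hasType_unique h.2.1 h'.2.1 h.1 h'.1
  exact ⟨rfl, Finset.ext fun e => (h.2.2 e).trans (h'.2.2 e).symm⟩

/-- The invariant is constant on classes. -/
theorem hasInv_of_isConj {A A' : Matrix.symplecticGroup (Fin n) F} (h : IsConj A A') {m : Multiset ℕ}
    {s : Finset ℕ} (hA : HasInv A m s) : HasInv A' m s := by
  obtain ⟨U, rfl⟩ := isConj_iff.1 h
  have hint : ∀ v, spLin U (Matrix.toLin' A.1 v) = Matrix.toLin' (U * A * U⁻¹).1 (spLin U v) := fun v => by
    rw [spLin_apply, spLin_apply, Matrix.toLin'_apply, Matrix.toLin'_apply, Matrix.mulVec_mulVec, Matrix.mulVec_mulVec,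
      ← Submonoid.coe_mul, ← Submonoid.coe_mul, inv_mul_cancel_right]
  refine ⟨hA.1, UniForm.hasType_equiv (spLin U) hint hA.2.1, fun e => (hA.2.2 e).trans ?_⟩
  refine and_congr_right fun _ => and_congr_right fun _ => ?_
  exact discSq_map (spLin U).toLinearMap (spLin U).injective (sympB n F)
    (fun x y => ((mem_symplectic_iff U.1).1 U.2 x y).symm) hint fun x _ => (spLin U).surjective x

theorem isConj_of_equiv (A A' : Matrix.symplecticGroup (Fin n) F)
    (P : (Fin n ⊕ Fin n → F) ≃ₗ[F] (Fin n ⊕ Fin n → F))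
    (hP : ∀ x, P (Matrix.toLin' A.1 x) = Matrix.toLin' A'.1 (P x))
    {y : Module.End F (Fin n ⊕ Fin n → F)} (hyA : Commute y (Matrix.toLin' A.1))
    (hy : ∀ x z, sympB n F (y x) (y z) = sympB n F (P x) (P z)) : IsConj A A' := by
  set S := sympB n F
  have hinj : Function.Injective y := (injective_iff_map_eq_zero _).2 fun x hx =>
    P.map_eq_zero_iff.1 (sympB_nondeg.1 _ fun v => by
      obtain ⟨v, rfl⟩ := P.surjective v
      rw [← hy, hx, map_zero, LinearMap.zero_apply])
  let Y := LinearEquiv.ofBijective y ⟨hinj, LinearMap.injective_iff_surjective.1 hinj⟩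
  let U : Alt.isoGroup S := ⟨Y.symm.trans P, fun u v => by
    change S (P (Y.symm u)) (P (Y.symm v)) = S u v
    obtain ⟨u, rfl⟩ := Y.surjective u
    obtain ⟨v, rfl⟩ := Y.surjective v
    rw [LinearEquiv.symm_apply_apply, LinearEquiv.symm_apply_apply]
    exact (hy u v).symm⟩
  refine isConj_iff.2 ⟨(spEquiv n F).symm U, ?_⟩
  rw [mul_inv_eq_iff_eq_mul]
  refine Subtype.ext (Matrix.ext_of_mulVec_single fun i => ?_)
  rw [Submonoid.coe_mul, Submonoid.coe_mul, ← Matrix.mulVec_mulVec, ← Matrix.mulVec_mulVec,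
    spEquiv_symm_mulVec, spEquiv_symm_mulVec]
  change P (Y.symm (A.1 *ᵥ _)) = A'.1 *ᵥ P (Y.symm _)
  rw [← Matrix.toLin'_apply A'.1, ← hP]
  congr 1
  apply Y.injective
  rw [LinearEquiv.apply_symm_apply]
  change _ = y (Matrix.toLin' A.1 (Y.symm _))
  rw [← Module.End.mul_apply, hyA.eq, Module.End.mul_apply, Matrix.toLin'_apply]
  change _ = A.1 *ᵥ Y (Y.symm _)
  rw [LinearEquiv.apply_symm_apply]

variable [Finite F]

theorem isConj_of_hasInv (h2 : (2 : F) ≠ 0) {A A' : Matrix.symplecticGroup (Fin n) F} {m : Multiset ℕ}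
    {s : Finset ℕ} (hA : HasInv A m s) (hA' : HasInv A' m s) : IsConj A A' := by
  classical
  have hc : (-1 : F) * (-1) = 1 := by ring
  obtain ⟨P, hP⟩ := exists_conj_of_hasType hA.2.1 hA'.2.1
  set S := sympB n F
  set S' := S.comp P.toLinearMap P.toLinearMap
  have g2 : Signed (-1) S' (Matrix.toLin' A.1) :=
    ⟨fun x y => (signed_symp A').flip _ _, fun x hx => P.map_eq_zero_iff.1 ((signed_symp A').sep _ fun y => by
      obtain ⟨y, rfl⟩ := P.surjective y; exact hx y), fun x y => by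
      change S (P (Matrix.toLin' A.1 x)) (P (Matrix.toLin' A.1 y)) = S (P x) (P y)
      rw [hP, hP]
      exact (signed_symp A').pres _ _⟩
  have hd := pow_eq_zero_of_type hA.2.1
  obtain ⟨y, hyA, hy⟩ := exists_equiv_unipotent h2 hc (signed_symp A) g2 hd (fun e he hpar => by
    have hev : Even e := by
      rcases Nat.even_or_odd e with h | ⟨r, hr⟩
      · exact h
      · rw [hr, Nat.add_sub_cancel, pow_mul, neg_one_sq, one_pow, one_mul] at hpar
        exact absurd (by linear_combination -hpar : (2 : F) = 0) h2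
    by_cases hm : e ∈ m
    · rw [discSq_map (B := S) P.toLinearMap P.injective S' (fun _ _ => rfl) (φ := Matrix.toLin' A'.1) hP
        fun x _ => P.surjective x]
      have i1 := hA.2.2 e
      have i2 := hA'.2.2 e
      simp only [hev, hm, true_and] at i1 i2
      exact i1.symm.trans i2
    · obtain ⟨ι, hι, ht, x, hx, hmap⟩ := exists_gens hA.2.1
      haveI : IsEmpty {i // ht i = e} :=
        ⟨fun i => hm (hmap ▸ Multiset.mem_map.2 ⟨i.1, Finset.mem_univ_val _, i.2⟩)⟩
      rw [discSq_iff hc (signed_symp A) hd hx he, discSq_iff hc g2 hd hx he, Matrix.det_isEmpty, Matrix.det_isEmpty])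
  exact isConj_of_equiv A A' P hP hyA hy

theorem exists_hasInv (h2 : (2 : F) ≠ 0) {m : Multiset ℕ} (h0 : (0 : ℕ) ∉ m) (hsum : m.sum = 2 * n)
    (hm : ∀ j, Odd j → Even (m.count j)) {s : Finset ℕ} (hs : ∀ e ∈ s, Even e ∧ e ∈ m) :
    ∃ A : Matrix.symplecticGroup (Fin n) F, HasInv A m s := by
  classical
  have : Fintype F := Fintype.ofFinite F
  have hc : (-1 : F) * (-1) = 1 := by ring
  obtain ⟨B0, φ, hk, hsep, hpres, hT⟩ := UniForm.realizes_of_even (F := F) true (fun h => by simp at h) m h0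
    (fun j hj _ => hm j (hj.2 rfl))
  have hB0 : Signed (-1) B0 φ := Good.signed ⟨hk, hsep, hpres⟩
  have hd := pow_eq_zero_of_type hT
  obtain ⟨ι, hι, h, x, hx, hmap⟩ := exists_gens hT
  obtain ⟨α, hα⟩ := FiniteField.exists_nonsquare (F := F) fun hch => h2 (by
    haveI := ringChar.eq_iff.1 hch; exact CharTwo.two_eq_zero)
  have hα0 : α ≠ 0 := fun e => hα (e ▸ IsSquare.zero)
  let δ : ∀ e, {i // h i = e} → F := fun e i =>
    if e ∉ s ∧ (Fintype.equivFin {i // h i = e} i).val = 0 then α else 1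
  let M : ∀ e, Matrix {i // h i = e} {i // h i = e} F := fun e =>
    if Even e then Matrix.diagonal (δ e) else pgram B0 φ e fun i : {i // h i = e} => x i.1
  have hδ : ∀ e i, δ e i ≠ 0 := fun e i => by
    simp only [δ]; split_ifs
    · exact hα0
    · exact one_ne_zero
  have hxK : ∀ e, ∀ i : {i // h i = e}, ((φ - 1) ^ e) (x i.1) = 0 := fun e i => by
    have := hx.height i.1; rwa [i.2] at this
  have hM0 : ∀ e, 1 ≤ e → (M e).det ≠ 0 := fun e he => by
    simp only [M]
    split_ifs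
    · rw [Matrix.det_diagonal]; exact Finset.prod_ne_zero_iff.2 fun i _ => hδ e i
    · exact det_gens_ne_zero hc hB0 hd hx he
  obtain ⟨B', hB', hgram⟩ := exists_form_with_layers h2 hc hB0 hd hx M (fun e he => by
      simp only [M]
      split_ifs with hev
      · obtain ⟨r, rfl⟩ : ∃ r, e = 2 * r + 2 := ⟨e / 2 - 1, by obtain ⟨r, hr⟩ := hev; omega⟩
        rw [Matrix.diagonal_transpose, show 2 * r + 2 - 1 = 2 * r + 1 by omega, pow_succ, pow_mul, neg_one_sq,
          one_pow, one_mul, hc, one_smul]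
      · exact Matrix.ext fun i j => by
          rw [Matrix.transpose_apply, Matrix.smul_apply, smul_eq_mul, pgram_apply, pgram_apply,
            pform_flip hc hB0 hd (hxK e i)])
    (fun e he a ha => by
      by_contra hne
      exact hM0 e he (Matrix.exists_vecMul_eq_zero_iff.1 ⟨a, hne, ha⟩))
  -- move to the standard space
  obtain ⟨L⟩ : Nonempty ((Fin m.sum → F) ≃ₗ[F] (Fin n ⊕ Fin n → F)) :=
    ⟨LinearEquiv.ofFinrankEq _ _ (by rw [finrank_fin_fun, finrank_symp, hsum])⟩
  have halt' : B'.IsAlt := fun a => by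
    have h := hB'.flip a a
    exact (mul_eq_zero.1 (show (2 : F) * B' a a = 0 by linear_combination h)).resolve_left h2
  set B'' := B'.comp L.symm.toLinearMap L.symm.toLinearMap
  have hB''0 : ∀ a, (∀ b, B'' a b = 0) → a = 0 := fun a ha => L.symm.map_eq_zero_iff.1 (hB'.sep _ fun b => by
    have := ha (L b)
    simpa [B''] using this)
  obtain ⟨y, hy⟩ := exists_isometry (B' := B'') sympB_isAlt (fun a ha => sympB_nondeg.1 a ha)
    (fun a => halt' _) hB''0
  have hyi : Function.Injective y := (injective_iff_map_eq_zero _).2 fun a ha => hB''0 a fun b => by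
    rw [← hy, ha, map_zero, LinearMap.zero_apply]
  let Θ : (Fin m.sum → F) ≃ₗ[F] (Fin n ⊕ Fin n → F) :=
    L.trans (LinearEquiv.ofBijective y ⟨hyi, LinearMap.injective_iff_surjective.1 hyi⟩)
  have hΘ : ∀ a b, sympB n F (Θ a) (Θ b) = B' a b := fun a b => by
    show sympB n F (y (L a)) (y (L b)) = _
    rw [hy]
    simp [B'']
  set T : Matrix (Fin n ⊕ Fin n) (Fin n ⊕ Fin n) F := LinearMap.toMatrix' (Θ.conj φ) with hTdef
  have hTmem : T ∈ Matrix.symplecticGroup (Fin n) F := (mem_symplectic_iff T).2 fun u v => by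
    obtain ⟨u, rfl⟩ := Θ.surjective u
    obtain ⟨v, rfl⟩ := Θ.surjective v
    rw [hTdef, LinearMap.toMatrix'_mulVec, LinearMap.toMatrix'_mulVec, LinearEquiv.conj_apply_apply,
      LinearEquiv.conj_apply_apply, LinearEquiv.symm_apply_apply, LinearEquiv.symm_apply_apply, hΘ, hΘ, hB'.pres]
  have hint : ∀ v, Θ (φ v) = Matrix.toLin' T (Θ v) := fun v => by
    rw [hTdef, Matrix.toLin'_toMatrix', LinearEquiv.conj_apply_apply, LinearEquiv.symm_apply_apply]
  refine ⟨⟨T, hTmem⟩, h0, UniForm.hasType_equiv Θ hint hT, fun e => ?_⟩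
  show e ∈ s ↔ Even e ∧ e ∈ m ∧ DiscSq (sympB n F) (Matrix.toLin' T) e
  have hdisc : Even e → e ∈ m → (DiscSq (sympB n F) (Matrix.toLin' T) e ↔ e ∈ s) := by
    intro hev hem
    have he : 1 ≤ e := Nat.one_le_iff_ne_zero.2 fun h' => h0 (h' ▸ hem)
    rw [← discSq_map Θ.toLinearMap Θ.injective B' (fun a b => (hΘ a b).symm) hint (fun a _ => Θ.surjective a),
      discSq_iff hc hB' hd hx he, hgram e he]
    simp only [M, if_pos hev, Matrix.det_diagonal]
    obtain ⟨i, hi⟩ : ∃ i, h i = e := by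
      rw [← hmap] at hem
      obtain ⟨i, -, hi⟩ := Multiset.mem_map.1 hem
      exact ⟨i, hi⟩
    set i0 := (Fintype.equivFin {i // h i = e}).symm ⟨0, Fintype.card_pos_iff.2 ⟨⟨i, hi⟩⟩⟩
    have hprod : ∏ j, δ e j = δ e i0 := Fintype.prod_eq_single i0 fun j hj => by
      simp only [δ]
      rw [if_neg]
      rintro ⟨-, h'⟩
      exact hj ((Fintype.equivFin _).injective (Fin.ext (by simp [i0, h'])))
    rw [hprod]
    simp only [δ, i0, Equiv.apply_symm_apply, and_true]
    by_cases hes : e ∈ s <;> simp [hes, hα]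
  exact ⟨fun he => ⟨(hs e he).1, (hs e he).2, (hdisc (hs e he).1 (hs e he).2).2 he⟩,
    fun ⟨h1, h3, h4⟩ => (hdisc h1 h3).1 h4⟩

end Cfsg.Agent.FormClass
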