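import Cfsg.Agent.MatModule.UnitaryConj
import Cfsg.Agent.MatModule.PolyModule

/-!
The centraliser in the general unitary group of a semisimple element takes every determinant of norm one.
-/

set_option autoImplicit false

namespace Cfsg.Agent.UnitaryConj

open Matrix Cfsg.Agent.Classical Cfsg.Agent.Classical.Herm Polynomial Module

variable {F : Type*} [Field F] {n : ℕ} {σ : F →+* F}

theorem hermB_mulVec_left (hσ : ∀ x, σ (σ x) = x) (M : Matrix (Fin n) (Fin n) F) (x y : Fin n → F) :
    hermB n σ (M *ᵥ x) y = hermB n σ x (adj σ M *ᵥ y) := by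
  simp only [hermB_apply, Matrix.mulVec, dotProduct, adj, Matrix.transpose_apply, Matrix.map_apply,
    map_sum, map_mul, Finset.sum_mul, Finset.mul_sum]
  rw [Finset.sum_comm]
  exact Finset.sum_congr rfl fun i _ => Finset.sum_congr rfl fun j _ => by ring

theorem hermB_separating {y : Fin n → F} (h : ∀ x, hermB n σ x y = 0) : y = 0 := by
  funext i
  have := h (Pi.single i 1)
  rw [hermB_apply, Finset.sum_eq_single i] at this
  · simpa using this
  · intro j _ hj; simp [Pi.single_eq_of_ne hj]
  · simp

theorem hermB_symm (hσ : ∀ x, σ (σ x) = x) (x y : Fin n → F) :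
    σ (hermB n σ x y) = hermB n σ y x := by
  simp [hermB_apply, hσ, mul_comm]

theorem det_adj (M : Matrix (Fin n) (Fin n) F) : (adj σ M).det = σ M.det := by
  rw [adj, Matrix.det_transpose, RingHom.map_det, RingHom.mapMatrix_apply]

/-- The orthogonal of a subspace for the standard Hermitian form. -/
def orth (σ : F →+* F) (U : Submodule F (Fin n → F)) : Submodule F (Fin n → F) where
  carrier := {y | ∀ x ∈ U, hermB n σ x y = 0}
  add_mem' ha hb x hx := by rw [map_add, ha x hx, hb x hx, add_zero]
  zero_mem' x _ := map_zero _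
  smul_mem' c _ ha x hx := by rw [map_smul, ha x hx, smul_zero]

theorem finrank_le_add_orth (U : Submodule F (Fin n → F)) :
    n ≤ finrank F U + finrank F (orth σ U) := by
  let b := Module.finBasis F U
  let L : (Fin n → F) →ₗ[F] Fin (finrank F U) → F :=
    LinearMap.pi fun i => hermB n σ (b i : Fin n → F)
  have hker : LinearMap.ker L ≤ orth σ U := by
    intro y hy x hx
    have hb : ∀ i, hermB n σ (b i : Fin n → F) y = 0 := fun i => congrFun hy i
    have := b.sum_repr ⟨x, hx⟩
    have hx' : x = ∑ i, b.repr ⟨x, hx⟩ i • (b i : Fin n → F) := by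
      have h1 := congrArg (Subtype.val) this
      rw [Submodule.coe_sum] at h1
      exact h1.symm
    rw [hx']
    simp [hb]
  have h1 := LinearMap.finrank_range_add_finrank_ker L
  have h2 := (LinearMap.range L).finrank_le
  have h3 := Submodule.finrank_mono hker
  rw [finrank_fin_fun] at h1 h2
  omega

theorem isCompl_orth {U U' : Submodule F (Fin n → F)} (h : U ⊓ orth σ U' = ⊥)
    (h' : U' ⊓ orth σ U = ⊥) : IsCompl U (orth σ U') := by
  have e1 := Submodule.finrank_sup_add_finrank_inf_eq U (orth σ U')
  have e2 := Submodule.finrank_sup_add_finrank_inf_eq U' (orth σ U)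
  rw [h, finrank_bot, add_zero] at e1
  rw [h', finrank_bot, add_zero] at e2
  have b1 := (U ⊔ orth σ U').finrank_le
  have b2 := (U' ⊔ orth σ U).finrank_le
  have c1 := finrank_le_add_orth (σ := σ) U
  have c2 := finrank_le_add_orth (σ := σ) U'
  rw [finrank_fin_fun] at b1 b2
  refine ⟨disjoint_iff.2 h, codisjoint_iff.2 (Submodule.eq_top_of_finrank_eq ?_)⟩
  rw [finrank_fin_fun]
  omega

/-- Two endomorphisms commuting with one that has no invariant subspace commute. -/
theorem commute_of_simple {W : Type*} [AddCommGroup W] [Module F W] (φ : Module.End F W)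
    (hφ : ∀ P : Submodule F W, (∀ x ∈ P, φ x ∈ P) → P = ⊥ ∨ P = ⊤)
    {c d : Module.End F W} (hc : c * φ = φ * c) (hd : d * φ = φ * d) : c * d = d * c := by
  rcases subsingleton_or_nontrivial W with hW | hW
  · exact Subsingleton.elim _ _
  obtain ⟨v, hv⟩ := exists_ne (0 : W)
  let L : F[X] →ₗ[F] W := (LinearMap.applyₗ v).comp (aeval φ).toLinearMap
  have hL : ∀ f, L f = aeval φ f v := fun f => rfl
  have htop : LinearMap.range L = ⊤ := by
    refine (hφ _ ?_).resolve_left fun h => hv ?_
    · rintro x ⟨f, rfl⟩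
      exact ⟨X * f, by rw [hL, hL, map_mul, aeval_X]; rfl⟩
    · have : v ∈ LinearMap.range L := ⟨1, by rw [hL, map_one]; rfl⟩
      rw [h] at this
      simpa using this
  have key : ∀ e : Module.End F W, Commute e φ → ∀ f : F[X], Commute e (aeval φ f) := by
    intro e he f
    induction f using Polynomial.induction_on' with
    | add p q hp hq => simpa using hp.add_right hq
    | monomial k a =>
        rw [aeval_monomial]
        exact (Algebra.commute_algebraMap_right (A := Module.End F W) a e).mul_right (he.pow_right k)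
  obtain ⟨f, hf⟩ : c v ∈ LinearMap.range L := htop ▸ Submodule.mem_top
  have hcf : c = aeval φ f := by
    refine LinearMap.ext fun x => ?_
    obtain ⟨g, rfl⟩ : x ∈ LinearMap.range L := htop ▸ Submodule.mem_top
    rw [hL, ← Module.End.mul_apply, (key c hc g).eq, Module.End.mul_apply, ← hf, hL,
      ← Module.End.mul_apply, ← Module.End.mul_apply, ← map_mul, ← map_mul, mul_comm]
  rw [hcf]
  exact (key d hd f).eq.symm

theorem exists_simple_le {a : Module.End F (Fin n → F)} {P : Submodule F (Fin n → F)} (hP : P ≠ ⊥)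
    (hPa : ∀ x ∈ P, a x ∈ P) :
    ∃ U, U ≠ ⊥ ∧ U ≤ P ∧ (∀ x ∈ U, a x ∈ U) ∧
      ∀ U', U' ≤ U → (∀ x ∈ U', a x ∈ U') → U' = ⊥ ∨ U' = U := by
  obtain ⟨U, ⟨h0, hle, hUa⟩, hmin⟩ := WellFounded.has_min wellFounded_lt
    {U : Submodule F (Fin n → F) | U ≠ ⊥ ∧ U ≤ P ∧ ∀ x ∈ U, a x ∈ U} ⟨P, hP, le_rfl, hPa⟩
  refine ⟨U, h0, hle, hUa, fun U' h hU' => or_iff_not_imp_left.2 fun h' => ?_⟩
  exact (lt_or_eq_of_le h).resolve_left fun hlt => hmin U' ⟨h', h.trans hle, hU'⟩ hlt

/-- The matrix of an endomorphism of the standard space. -/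
noncomputable abbrev endMatrix :
    Module.End F (Fin n → F) ≃ₐ[F] Matrix (Fin n) (Fin n) F :=
  (Matrix.toLinAlgEquiv' (R := F) (n := Fin n)).symm

/-- A semisimple unitary matrix commutes with a normal matrix of any nonzero determinant. -/
theorem exists_normal_commute_det [Finite F] (hσ : ∀ x, σ (σ x) = x) (hn : 0 < n)
    {A : Matrix (Fin n) (Fin n) F} (hA : adj σ A * A = 1) {q : F[X]} (hq : Squarefree q)
    (hqA : aeval (Matrix.toLin' A) q = 0) {z : F} (hz : z ≠ 0) :
    ∃ w : Matrix (Fin n) (Fin n) F, Commute w A ∧ Commute w (adj σ w) ∧ w.det = z := by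
  classical
  have : Nonempty (Fin n) := ⟨⟨0, hn⟩⟩
  set a : Module.End F (Fin n → F) := Matrix.toLinAlgEquiv' A with ha
  have haq : aeval a q = 0 := hqA
  have happ : ∀ x, a x = A *ᵥ x := fun x => rfl
  have hpres : ∀ x y, hermB n σ (a x) (a y) = hermB n σ x y := by
    intro x y
    rw [happ, happ, hermB_mulVec_left hσ, Matrix.mulVec_mulVec, hA, Matrix.one_mulVec]
  have hinj : Function.Injective a := by
    intro x y h
    have := congrArg (adj σ A *ᵥ ·) h
    simpa [happ, Matrix.mulVec_mulVec, hA] using this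
  have hss := Module.End.isSemisimple_of_squarefree_aeval_eq_zero hq haq
  have horth : ∀ U : Submodule F (Fin n → F), (∀ x ∈ U, a x ∈ U) →
      ∀ y ∈ orth σ U, a y ∈ orth σ U := by
    intro U hU y hy x hx
    have hs : Function.Surjective (a.restrict hU) := LinearMap.injective_iff_surjective.1
      fun u v h => Subtype.ext (hinj (congrArg Subtype.val h))
    obtain ⟨x', hx'⟩ := hs ⟨x, hx⟩
    have : a x' = x := congrArg Subtype.val hx'
    rw [← this, hpres]
    exact hy x' x'.2
  suffices key : ∃ (U K : Submodule F (Fin n → F)) (hUK : IsCompl U K), U ≠ ⊥ ∧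
      (∀ x ∈ U, a x ∈ U) ∧ (∀ x ∈ K, a x ∈ K) ∧
      (∀ U', U' ≤ U → (∀ x ∈ U', a x ∈ U') → U' = ⊥ ∨ U' = U) ∧
      (adj σ (endMatrix (U.projection K hUK)) = endMatrix (U.projection K hUK) ∨
        adj σ (endMatrix (U.projection K hUK)) * endMatrix (U.projection K hUK) = 0 ∧
        endMatrix (U.projection K hUK) * adj σ (endMatrix (U.projection K hUK)) = 0) by
    obtain ⟨U, K, hUK, hU0, hUa, hKa, hmin, hcase⟩ := key
    have : Nontrivial U := Submodule.nontrivial_iff_ne_bot.2 hU0
    set b : Module.End F U := a.restrict hUa with hb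
    have hbq : aeval b q = 0 := by
      have hbk : ∀ (k : ℕ) (x : U), ((b ^ k) x : Fin n → F) = (a ^ k) x := by
        intro k
        induction k with
        | zero => intro x; rfl
        | succ k ih =>
            intro x
            rw [pow_succ', pow_succ', Module.End.mul_apply, Module.End.mul_apply, ← ih]
            rfl
      refine LinearMap.ext fun x => Subtype.ext ?_
      rw [LinearMap.zero_apply, Submodule.coe_zero, ← LinearMap.zero_apply (σ₁₂ := RingHom.id F)
        (M₂ := Fin n → F) (x : Fin n → F), ← haq, aeval_eq_sum_range, aeval_eq_sum_range,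
        LinearMap.sum_apply, LinearMap.sum_apply, Submodule.coe_sum]
      exact Finset.sum_congr rfl fun k _ => by
        rw [LinearMap.smul_apply, LinearMap.smul_apply, Submodule.coe_smul, hbk]
    obtain ⟨c, hc, hdet⟩ := Cfsg.Agent.MatModule.exists_commute_det b hq hbq hz
    set π := U.projectionOnto K hUK with hπ
    have hπs : ∀ w : U, π (U.subtype w) = w := fun w => Submodule.projectionOnto_apply_left hUK w
    have hπa : ∀ x, π (a x) = b (π x) := by
      intro x
      obtain ⟨u, k, rfl⟩ : ∃ (u : U) (k : K), (u : Fin n → F) + (k : Fin n → F) = x := by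
        have : x ∈ U ⊔ K := hUK.sup_eq_top ▸ Submodule.mem_top
        obtain ⟨u, hu, k, hk, rfl⟩ := Submodule.mem_sup.1 this
        exact ⟨⟨u, hu⟩, ⟨k, hk⟩, rfl⟩
      have h0 : ∀ k : K, π (k : Fin n → F) = 0 := fun k =>
        Submodule.projectionOnto_apply_right hUK k
      rw [map_add, map_add, map_add, h0, h0 ⟨a k, hKa _ k.2⟩, add_zero, add_zero]
      rw [show (a u : Fin n → F) = U.subtype (b u) from rfl, hπs,
        show (u : Fin n → F) = U.subtype u from rfl, hπs]
    set X : Module.End F (Fin n → F) := U.subtype.comp ((c - 1).comp π) with hX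
    have hXa : Commute X a := by
      refine LinearMap.ext fun x => ?_
      change ((c - 1) (π (a x)) : Fin n → F) = a ((c - 1) (π x) : U)
      rw [hπa]
      have h1 : c (b (π x)) = b (c (π x)) := LinearMap.congr_fun hc (π x)
      simp only [LinearMap.sub_apply, Module.End.one_apply, h1, ← map_sub]
      rfl
    set e := endMatrix (U.projection K hUK) with he
    set M := endMatrix X with hM
    have heM : e * M = M := by
      rw [he, hM, ← map_mul]
      refine congrArg _ (LinearMap.ext fun x => ?_)
      exact Submodule.projection_apply_left hUK ((c - 1 : Module.End F U) (π x))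
    have hMe : M * e = M := by
      rw [he, hM, ← map_mul]
      refine congrArg _ (LinearMap.ext fun x => ?_)
      change U.subtype ((c - 1) (π (U.projection K hUK x))) =
        U.subtype ((c - 1) (π x))
      rw [Submodule.projection_apply, show ((U.projectionOnto K hUK x : U) : Fin n → F) =
        U.subtype (π x) from rfl, hπs]
    have hMA : Commute M A := by
      have : A = endMatrix a := by rw [ha, AlgEquiv.symm_apply_apply]
      rw [this, hM]
      exact hXa.map endMatrix
    have hNA : Commute (adj σ M) A := by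
      have hA' : A * adj σ A = 1 := mul_eq_one_comm.1 hA
      have h1 : adj σ A * adj σ M = adj σ M * adj σ A := by rw [← adj_mul, ← adj_mul, hMA.eq]
      calc adj σ M * A = A * (adj σ A * adj σ M) * A := by rw [← mul_assoc A, hA', one_mul]
        _ = A * adj σ M := by rw [h1, ← mul_assoc, mul_assoc _ _ A, hA, mul_one]
    have hMN : Commute M (adj σ M) := by
      rcases hcase with hsa | ⟨h1, h2⟩
      · have heN : e * adj σ M = adj σ M := by
          rw [← hsa, ← adj_mul, hMe]
        have hNe : adj σ M * e = adj σ M := by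
          rw [← hsa, ← adj_mul, heM]
        set Y := Matrix.toLinAlgEquiv' (adj σ M) with hY
        have hYe : ∀ x, Y x = U.subtype (π (Y (U.subtype (π x)))) := by
          intro x
          have := congrArg (fun N => Matrix.toLinAlgEquiv' N x)
            (show adj σ M = e * (adj σ M * e) by rw [hNe, heN])
          simp only [map_mul, Module.End.mul_apply, he, AlgEquiv.apply_symm_apply] at this
          exact this
        set y : Module.End F U := (π.comp Y).comp U.subtype with hy
        have hyb : y * b = b * y := by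
          refine LinearMap.ext fun u => ?_
          have hYa : Commute Y a := hNA.map Matrix.toLinAlgEquiv'
          change π (Y (a (u : Fin n → F))) = b (π (Y u))
          rw [← hπa]
          exact congrArg π (LinearMap.congr_fun hYa.eq _)
        have hmin' : ∀ P : Submodule F U, (∀ x ∈ P, b x ∈ P) → P = ⊥ ∨ P = ⊤ := by
          intro P hP
          rcases hmin (P.map U.subtype) (Submodule.map_subtype_le U P) (by
            rintro _ ⟨x, hx, rfl⟩
            exact ⟨b x, hP x hx, rfl⟩) with h | h
          · exact Or.inl (Submodule.map_injective_of_injective U.injective_subtype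
              (h.trans (Submodule.map_bot _).symm))
          · exact Or.inr (Submodule.map_injective_of_injective U.injective_subtype
              (h.trans (Submodule.map_subtype_top U).symm))
        have hcomm : (c - 1) * y = y * (c - 1) :=
          commute_of_simple b hmin' (Commute.sub_left (R := Module.End F U) (show Commute c b from hc) (Commute.one_left b)).eq hyb
        apply Matrix.toLinAlgEquiv'.injective
        rw [map_mul, map_mul, ← hY, hM, AlgEquiv.apply_symm_apply]
        refine LinearMap.ext fun x => ?_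
        change U.subtype ((c - 1) (π (Y x))) = Y (U.subtype ((c - 1) (π x)))
        have hYx : ∀ v, Y v = U.subtype (y (π v)) := fun v => hYe v
        rw [hYx x, hπs, hYx (U.subtype _), hπs]
        exact congrArg U.subtype (LinearMap.congr_fun hcomm (π x))
      · have e1 : M * adj σ M = 0 := by
          have := calc M * adj σ M = M * e * (adj σ (M * e)) := by rw [hMe]
            _ = M * (e * adj σ e) * adj σ M := by rw [adj_mul]; simp [mul_assoc]
          rw [this, h2, mul_zero, zero_mul]
        have e2 : adj σ M * M = 0 := by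
          have := calc adj σ M * M = adj σ (e * M) * (e * M) := by rw [heM]
            _ = adj σ M * (adj σ e * e) * M := by rw [adj_mul]; simp [mul_assoc]
          rw [this, h1, mul_zero, zero_mul]
        exact e1.trans e2.symm
    refine ⟨1 + M, (Commute.one_left _).add_left hMA, ?_, ?_⟩
    · rw [adj_add, adj_one]
      exact (((Commute.one_right _).add_right ((Commute.one_left _).add_left hMN)))
    · rw [← LinearMap.det_toLin', ← hdet, ← Cfsg.Agent.MatModule.det_of_retract π U.subtype hπs c]
      congr 1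
      change Matrix.toLinAlgEquiv' (1 + M) = _
      rw [map_add, map_one, hM, AlgEquiv.apply_symm_apply]
      rfl
  have mkey : ∀ (f : Module.End F (Fin n → F)) x, endMatrix f *ᵥ x = f x := fun f x => by
    change Matrix.toLinAlgEquiv' (endMatrix f) x = f x
    rw [AlgEquiv.apply_symm_apply]
  by_cases h1 : ∃ U : Submodule F (Fin n → F), U ≠ ⊥ ∧ (∀ x ∈ U, a x ∈ U) ∧
      (∀ U', U' ≤ U → (∀ x ∈ U', a x ∈ U') → U' = ⊥ ∨ U' = U) ∧ U ⊓ orth σ U = ⊥
  · obtain ⟨U, h0, hUa, hmin, hint⟩ := h1
    have hc := isCompl_orth hint hint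
    refine ⟨U, orth σ U, hc, h0, hUa, horth U hUa, hmin, Or.inl ?_⟩
    refine Matrix.mulVec_injective (funext fun y => sub_eq_zero.1 (hermB_separating (σ := σ) fun x => ?_))
    have hp : ∀ v, v - U.projection _ hc v ∈ orth σ U := fun v => Submodule.sub_projection_mem hc v
    have hl : ∀ v w, hermB n σ (U.projection _ hc v) w =
        hermB n σ (U.projection _ hc v) (U.projection _ hc w) := by
      intro v w
      have := hp w _ (Submodule.projection_apply_mem hc v)
      rwa [map_sub, sub_eq_zero] at this
    rw [map_sub, sub_eq_zero, ← hermB_mulVec_left hσ, mkey, mkey, hl, ← hermB_symm hσ _ x,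
      hl y x, hermB_symm hσ]
  · push Not at h1
    have hiso : ∀ U : Submodule F (Fin n → F), U ≠ ⊥ → (∀ x ∈ U, a x ∈ U) →
        (∀ U', U' ≤ U → (∀ x ∈ U', a x ∈ U') → U' = ⊥ ∨ U' = U) → U ≤ orth σ U := by
      intro U h0 hUa hmin
      have hne := h1 U h0 hUa hmin
      rcases hmin (U ⊓ orth σ U) inf_le_left
        (fun x hx => ⟨hUa x hx.1, horth U hUa x hx.2⟩) with h | h
      · exact absurd h hne
      · exact inf_eq_left.1 h
    obtain ⟨U, h0, -, hUa, hmin⟩ := exists_simple_le (a := a) (P := ⊤) top_ne_bot (by simp)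
    obtain ⟨P, hP, hcompl⟩ := Module.End.isSemisimple_iff.1 hss (orth σ U) (horth U hUa)
    have hP0 : P ≠ ⊥ := by
      intro hP0
      rw [hP0] at hcompl
      have htop := eq_top_of_isCompl_bot hcompl
      obtain ⟨u, hu, hu0⟩ := Submodule.exists_mem_ne_zero_of_ne_bot h0
      refine hu0 (hermB_separating (σ := σ) fun x => ?_)
      have hx : x ∈ orth σ U := htop ▸ Submodule.mem_top
      rw [← hermB_symm hσ, hx u hu, map_zero]
    obtain ⟨U', h0', hle, hUa', hmin'⟩ := exists_simple_le hP0 (fun x hx => hP hx)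
    have hint' : U' ⊓ orth σ U = ⊥ :=
      le_bot_iff.1 ((inf_le_inf_right _ hle).trans_eq hcompl.symm.inf_eq_bot)
    have hint : U ⊓ orth σ U' = ⊥ := by
      rcases hmin (U ⊓ orth σ U') inf_le_left
        (fun x hx => ⟨hUa x hx.1, horth U' hUa' x hx.2⟩) with h | h
      · exact h
      · exfalso
        obtain ⟨y, hy, hy0⟩ := Submodule.exists_mem_ne_zero_of_ne_bot h0'
        refine hy0 ((Submodule.mem_bot F).1 (hint' ▸ ⟨hy, fun x hx => ?_⟩))
        rw [← hermB_symm hσ, (inf_eq_left.1 h) hx y hy, map_zero]
    have hc := isCompl_orth hint hint'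
    refine ⟨U, orth σ U', hc, h0, hUa, horth U' hUa', hmin, Or.inr ⟨?_, ?_⟩⟩
    · refine Matrix.mulVec_injective (funext fun y => ?_)
      rw [Matrix.zero_mulVec, ← Matrix.mulVec_mulVec]
      refine hermB_separating (σ := σ) fun x => ?_
      rw [← hermB_mulVec_left hσ, mkey, mkey]
      exact hiso U h0 hUa hmin (Submodule.projection_apply_mem hc y) _
        (Submodule.projection_apply_mem hc x)
    · refine Matrix.mulVec_injective (funext fun y => ?_)
      rw [Matrix.zero_mulVec, ← Matrix.mulVec_mulVec, mkey, Submodule.projection_apply_eq_zero_iff]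
      intro x hx
      rw [← hermB_mulVec_left hσ, mkey, Submodule.projection_apply_eq_zero_iff hc |>.2
        (hiso U' h0' hUa' hmin' hx), map_zero, LinearMap.zero_apply]

/-- A semisimple element of the unitary group commutes with unitary elements of every determinant of
norm one. -/
theorem exists_unitary_commute_det [Fintype F] {q : ℕ} (hσ : IsInvol σ) (hσq : ∀ x, σ x = x ^ q)
    {A : GL (Fin n) F} (hA : A ∈ Cfsg.GU n F q) {f : F[X]} (hf : Squarefree f)
    (hfA : aeval (Matrix.toLin' A.1) f = 0) {ε : F} (hε : ε * σ ε = 1) (hn : 0 < n) :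
    ∃ u ∈ Cfsg.GU n F q, Commute u A ∧ u.1.det = ε := by
  obtain ⟨z, hz, rfl⟩ := exists_conj_quot hσ hε
  obtain ⟨w, hwA, hww, hdet⟩ :=
    exists_normal_commute_det hσ.2 hn ((mem_GU_iff_adj hσq A).1 hA) hf hfA hz
  obtain ⟨W, rfl⟩ : IsUnit w := (Matrix.isUnit_iff_isUnit_det _).2 (hdet ▸ Ne.isUnit hz)
  let W' : GL (Fin n) F := ⟨adj σ W.1, adj σ (W⁻¹ : GL (Fin n) F).1,
    by rw [← adj_mul, Units.inv_mul, adj_one], by rw [← adj_mul, Units.mul_inv, adj_one]⟩
  have hWA : Commute W A := Commute.units_val_iff.1 hwA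
  have hW'A : Commute W' A := by
    apply Commute.units_val_iff.1
    change adj σ W.1 * A.1 = A.1 * adj σ W.1
    have hA' := (mem_GU_iff_adj hσq A).1 hA
    have hA'' : A.1 * adj σ A.1 = 1 := mul_eq_one_comm.1 hA'
    have h1 : adj σ A.1 * adj σ W.1 = adj σ W.1 * adj σ A.1 := by rw [← adj_mul, ← adj_mul, hwA.eq]
    calc adj σ W.1 * A.1 = A.1 * (adj σ A.1 * adj σ W.1) * A.1 := by
          rw [← mul_assoc A.1, hA'', one_mul]
      _ = A.1 * adj σ W.1 := by rw [h1, ← mul_assoc, mul_assoc _ _ A.1, hA', mul_one]
  have hWW : Commute W W' := Commute.units_val_iff.1 hww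
  refine ⟨W * W'⁻¹, ?_, hWA.mul_left hW'A.inv_left, ?_⟩
  · rw [mem_GU_iff_adj hσq]
    have e1 : adj σ (W'⁻¹ : GL (Fin n) F).1 = (W⁻¹ : GL (Fin n) F).1 := adj_adj hσ.2 _
    have e2 : W⁻¹ * W' * (W * W'⁻¹) = 1 := by
      rw [mul_assoc, ← mul_assoc W', ← hWW.eq]; group
    rw [Units.val_mul, adj_mul, e1]
    exact congrArg Units.val e2
  · rw [Units.val_mul, Matrix.det_mul, hdet]
    have h1 : (W'⁻¹ : GL (Fin n) F).1.det * σ z = 1 := by
      rw [← hdet, ← det_adj, ← Matrix.det_mul]
      have : (W'⁻¹ : GL (Fin n) F).1 * W'.1 = 1 := Units.inv_mul _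
      rw [show adj σ W.1 = W'.1 from rfl, this, Matrix.det_one]
    have hsz : σ z ≠ 0 := by simpa using hz
    field_simp
    linear_combination h1

end Cfsg.Agent.UnitaryConj
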